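import Mathlib

/-!
# Truncated-monomial presentations (helper81)

Let `B` be an `R`-algebra and `x : ι → B` a family with `x i ^ n = algebraMap R B (a i)`.
If the reduced monomials `∏ x_i ^ e_i` (`e_i < n`) are `R`-linearly independent, then the kernel of
`aeval x : R[X_i] → B` is generated by the `X_i ^ n - a_i`.  If they moreover span `B`, then
`R`-algebra maps out of `B` are freely determined by images `z_i` with `z_i ^ n = a_i`.

This is the algebra behind `p`-bases (EGA 0_IV §21).
-/

set_option autoImplicit false

namespace Groth.Agent.Lib.Helper81.PBasis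

open MvPolynomial

section Presentation

variable {R : Type*} [CommRing R] {ι : Type*} (n : ℕ) (a : ι → R)

/-- the reduced exponent vectors -/
abbrev Red (ι : Type*) (n : ℕ) : Type _ := {e : ι →₀ ℕ // ∀ i, e i < n}

/-- the ideal generated by the `X_i ^ n - a_i` -/
noncomputable def relIdeal : Ideal (MvPolynomial ι R) := Ideal.span (Set.range fun i => X i ^ n - C (a i))

/-- the reduced polynomial with given coefficients -/
noncomputable def redPoly : (Red ι n →₀ R) →ₗ[R] MvPolynomial ι R :=
  Finsupp.linearCombination R (fun e : Red ι n => monomial e.1 (1 : R))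

theorem monomial_sub_mem (e : ι →₀ ℕ) (c : R) (i : ι) :
    monomial (e + Finsupp.single i n) c - monomial e (c * a i) ∈ relIdeal n a := by
  have h : monomial (e + Finsupp.single i n) c - monomial e (c * a i) =
      monomial e c * (X i ^ n - C (a i)) := by
    rw [mul_sub, X_pow_eq_monomial, monomial_mul, mul_one, C_apply, monomial_mul, add_zero]
  rw [h]
  exact Ideal.mul_mem_left _ _ (Ideal.subset_span ⟨i, rfl⟩)

theorem exists_redPoly_monomial (hn : 0 < n) : ∀ (d : ℕ) (e : ι →₀ ℕ) (c : R), e.degree = d →
    ∃ l : Red ι n →₀ R, monomial e c - redPoly n l ∈ relIdeal n a := by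
  intro d
  induction d using Nat.strong_induction_on with
  | _ d ih =>
    intro e c hd
    by_cases hred : ∀ i, e i < n
    · refine ⟨Finsupp.single ⟨e, hred⟩ c, ?_⟩
      have : redPoly n (Finsupp.single (⟨e, hred⟩ : Red ι n) c) = monomial e c := by
        rw [redPoly, Finsupp.linearCombination_single, smul_monomial, smul_eq_mul, mul_one]
      rw [this, sub_self]
      exact zero_mem _
    · push Not at hred
      obtain ⟨i, hi⟩ := hred
      have hle : Finsupp.single i n ≤ e := Finsupp.single_le_iff.2 hi
      set e' := e - Finsupp.single i n with he'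
      have hee' : e' + Finsupp.single i n = e := tsub_add_cancel_of_le hle
      have hdeg : e'.degree + n = d := by
        rw [← hd, ← hee', map_add, Finsupp.degree_single]
      obtain ⟨l, hl⟩ := ih e'.degree (by omega) e' (c * a i) rfl
      refine ⟨l, ?_⟩
      have h1 := monomial_sub_mem n a e' c i
      rw [hee'] at h1
      have := (relIdeal n a).add_mem h1 hl
      rwa [sub_add_sub_cancel] at this

theorem exists_redPoly (hn : 0 < n) (f : MvPolynomial ι R) :
    ∃ l : Red ι n →₀ R, f - redPoly n l ∈ relIdeal n a := by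
  induction f using MvPolynomial.induction_on' with
  | monomial e c => exact exists_redPoly_monomial n a hn _ e c rfl
  | add f g hf hg =>
    obtain ⟨l₁, h₁⟩ := hf
    obtain ⟨l₂, h₂⟩ := hg
    refine ⟨l₁ + l₂, ?_⟩
    have := (relIdeal n a).add_mem h₁ h₂
    rw [map_add]
    convert this using 1
    ring

variable {B : Type*} [CommRing B] [Algebra R B] (x : ι → B)

/-- the reduced monomial `∏ x_i ^ e_i` -/
noncomputable def redMon (e : Red ι n) : B := e.1.prod fun i k => x i ^ k

theorem aeval_redPoly (l : Red ι n →₀ R) :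
    aeval x (redPoly n l) = Finsupp.linearCombination R (redMon n x) l := by
  have h := Finsupp.apply_linearCombination (R := R) (aeval x : MvPolynomial ι R →ₐ[R] B).toLinearMap
    (fun e : Red ι n => monomial e.1 (1 : R)) l
  rw [redPoly]
  refine h.trans ?_
  congr 2
  funext e
  simp only [Function.comp_apply, redMon, AlgHom.toLinearMap_apply]
  rw [aeval_monomial, map_one, one_mul]

variable {n a x}

theorem relIdeal_le_ker (hxa : ∀ i, x i ^ n = algebraMap R B (a i)) :
    relIdeal n a ≤ RingHom.ker (aeval x : MvPolynomial ι R →ₐ[R] B) := by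
  rw [relIdeal, Ideal.span_le]
  rintro _ ⟨i, rfl⟩
  rw [SetLike.mem_coe, RingHom.mem_ker, map_sub, map_pow, aeval_X, aeval_C, hxa, sub_self]

/-- **Presentation.** -/
theorem ker_aeval_eq (hn : 0 < n) (hxa : ∀ i, x i ^ n = algebraMap R B (a i))
    (hli : LinearIndependent R (redMon n x)) :
    RingHom.ker (aeval x : MvPolynomial ι R →ₐ[R] B) = relIdeal n a := by
  apply le_antisymm _ (relIdeal_le_ker hxa)
  intro f hf
  obtain ⟨l, hl⟩ := exists_redPoly n a hn f
  have h1 : redPoly n l ∈ RingHom.ker (aeval x : MvPolynomial ι R →ₐ[R] B) := by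
    have := (RingHom.ker (aeval x : MvPolynomial ι R →ₐ[R] B)).sub_mem hf (relIdeal_le_ker hxa hl)
    rwa [sub_sub_cancel] at this
  rw [RingHom.mem_ker, aeval_redPoly] at h1
  have h2 : l = 0 := (linearIndependent_iff.1 hli) l h1
  rw [h2, map_zero, sub_zero] at hl
  exact hl

theorem aeval_surjective (hspan : Submodule.span R (Set.range (redMon n x)) = ⊤) :
    Function.Surjective (aeval x : MvPolynomial ι R →ₐ[R] B) := by
  rw [← AlgHom.range_eq_top, ← Algebra.toSubmodule_eq_top, eq_top_iff, ← hspan, Submodule.span_le]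
  rintro _ ⟨e, rfl⟩
  refine ⟨monomial e.1 1, ?_⟩
  simp only [redMon]
  rw [AlgHom.toRingHom_eq_coe, RingHom.coe_coe, aeval_monomial, map_one, one_mul]

/-- **Lifting.** -/
theorem existsUnique_algHom (hn : 0 < n) (hxa : ∀ i, x i ^ n = algebraMap R B (a i))
    (hli : LinearIndependent R (redMon n x))
    (hspan : Submodule.span R (Set.range (redMon n x)) = ⊤)
    {E : Type*} [CommRing E] [Algebra R E] (z : ι → E) (hz : ∀ i, z i ^ n = algebraMap R E (a i)) :
    ∃! v : B →ₐ[R] E, ∀ i, v (x i) = z i := by
  have hsurj := aeval_surjective (R := R) hspan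
  have hker : RingHom.ker (aeval x : MvPolynomial ι R →ₐ[R] B) ≤
      RingHom.ker (aeval z : MvPolynomial ι R →ₐ[R] E) := by
    rw [ker_aeval_eq hn hxa hli]
    exact relIdeal_le_ker hz
  refine ⟨AlgHom.liftOfSurjective (aeval x) hsurj (aeval z) hker, ?_, ?_⟩
  · intro i
    have := AlgHom.liftOfSurjective_apply (aeval x) hsurj (aeval z) hker (X i)
    rwa [aeval_X, aeval_X] at this
  · intro v hv
    apply AlgHom.ext
    intro b
    obtain ⟨f, rfl⟩ := hsurj b
    rw [AlgHom.liftOfSurjective_apply]
    have : v.comp (aeval x) = aeval z := by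
      apply MvPolynomial.algHom_ext
      intro i
      rw [AlgHom.comp_apply, aeval_X, aeval_X, hv]
    rw [← this, AlgHom.comp_apply]

end Presentation

end Groth.Agent.Lib.Helper81.PBasis
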