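import Mathlib
import Groth.Prelude.Def_EGA41
import Groth.Agent.Lib.Helper81.PBasis

/-!
# Bridging `EGA41.IsPBasis` with the truncated-monomial presentation (helper81)
-/

set_option autoImplicit false
universe u

namespace Groth.Agent.Lib.Helper81.PBasisEGA

open Groth.Agent.Lib.Helper81.PBasis

variable (p : ℕ) {A B : Type u} [CommRing A] [CommRing B] [Algebra A B]

theorem redMon_eq {ι : Type u} (x : ι → B) :
    redMon p x = fun e : {e : ι →₀ ℕ // ∀ i, e i < p} => EGA41.pMonomial x e.1 := rfl

theorem pow_mem_pPowerSubalgebra (b : B) : b ^ p ∈ EGA41.pPowerSubalgebra p A B :=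
  Algebra.subset_adjoin ⟨b, rfl⟩

theorem isPIndependent_iff {ι : Type u} (x : ι → B) :
    EGA41.IsPIndependent p A x ↔
      LinearIndependent (EGA41.pPowerSubalgebra p A B) (redMon p x) := Iff.rfl

theorem isPGenerating_iff {ι : Type u} (x : ι → B) :
    EGA41.IsPGenerating p A x ↔
      Submodule.span (EGA41.pPowerSubalgebra p A B) (Set.range (redMon p x)) = ⊤ := Iff.rfl

variable {p}

theorem pPowerSubalgebra_le_range (hpow : ∀ b : B, b ^ p ∈ Set.range (algebraMap A B)) :
    EGA41.pPowerSubalgebra p A B ≤ (Algebra.ofId A B).range := by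
  apply Algebra.adjoin_le
  rintro _ ⟨b, rfl⟩
  obtain ⟨a, ha⟩ := hpow b
  exact ⟨a, ha⟩

theorem algebraMap_pPower_surjective (hpow : ∀ b : B, b ^ p ∈ Set.range (algebraMap A B)) :
    Function.Surjective (algebraMap A (EGA41.pPowerSubalgebra p A B)) := by
  intro c
  obtain ⟨a, ha⟩ := pPowerSubalgebra_le_range hpow c.2
  exact ⟨a, Subtype.ext ha⟩

/-- When `A ⊆ B` contains the `p`-th powers, `p`-independence is linear independence over `A`. -/
theorem linearIndependent_of_isPIndependent (hinj : Function.Injective (algebraMap A B))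
    {ι : Type u} (x : ι → B) (h : EGA41.IsPIndependent p A x) :
    LinearIndependent A (redMon p x) := by
  have h' : LinearIndependent (EGA41.pPowerSubalgebra p A B) (redMon p x) := h
  refine h'.restrict_scalars ?_
  intro a b hab
  apply hinj
  have := congrArg (Subtype.val) hab
  simpa [Algebra.smul_def] using this

theorem span_eq_top_of_isPGenerating (hpow : ∀ b : B, b ^ p ∈ Set.range (algebraMap A B))
    {ι : Type u} (x : ι → B) (h : EGA41.IsPGenerating p A x) :
    Submodule.span A (Set.range (redMon p x)) = ⊤ := by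
  have h' : Submodule.span (EGA41.pPowerSubalgebra p A B) (Set.range (redMon p x)) = ⊤ := h
  rw [← Submodule.restrictScalars_span A (EGA41.pPowerSubalgebra p A B)
    (algebraMap_pPower_surjective hpow), h', Submodule.restrictScalars_top]

end Groth.Agent.Lib.Helper81.PBasisEGA
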