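import Mathlib
import Groth.Agent.Lib.Helper81.PBasis

/-!
# Extending derivations along a truncated-monomial presentation (helper81)
-/

set_option autoImplicit false

namespace Groth.Agent.Lib.Helper81.PBasis

open TrivSqZeroExt

section Der

variable {R B : Type*} [CommRing R] [CommRing B] [Algebra R B]
  {L : Type*} [AddCommGroup L] [Module B L] [Module R L] [IsScalarTower R B L]

section tsze

variable [Module Bᵐᵒᵖ L] [IsCentralScalar B L]

/-- the ring map `r ↦ (r, D r)` into the trivial square-zero extension -/
def derivHom (D : Derivation ℤ R L) : R →+* TrivSqZeroExt B L where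
  toFun r := inl (algebraMap R B r) + inr (D r)
  map_one' := by
    ext
    · simp
    · simp
  map_mul' r s := by
    ext
    · simp
    · simp only [snd_add, snd_inl, snd_inr, zero_add, snd_mul, fst_add, fst_inl, fst_inr, add_zero,
        Derivation.leibniz, op_smul_eq_smul, algebraMap_smul]
  map_zero' := by
    ext
    · simp
    · simp
  map_add' r s := by
    ext
    · simp
    · simp

@[simp] theorem fst_derivHom (D : Derivation ℤ R L) (r : R) :
    (derivHom (B := B) D r).fst = algebraMap R B r := by
  simp [derivHom]

@[simp] theorem snd_derivHom (D : Derivation ℤ R L) (r : R) :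
    (derivHom (B := B) D r).snd = D r := by
  simp [derivHom]

/-- a ring map `B → B ⊕ L` that is a section of `fst` gives a derivation -/
def derivOfSection (v : B →+* TrivSqZeroExt B L) (hv : ∀ b, (v b).fst = b) : Derivation ℤ B L :=
  Derivation.mk'
    ((AddMonoidHom.mk' (fun b => (v b).snd) (fun b c => by rw [map_add, snd_add])).toIntLinearMap)
    (fun b c => by
      show (v (b * c)).snd = b • (v c).snd + c • (v b).snd
      rw [map_mul, snd_mul, hv, hv, op_smul_eq_smul])

@[simp] theorem derivOfSection_apply (v : B →+* TrivSqZeroExt B L) (hv : ∀ b, (v b).fst = b) (b : B) :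
    derivOfSection v hv b = (v b).snd := rfl

end tsze

variable {ι : Type*} {p : ℕ} {a : ι → R} {x : ι → B}

/-- **Extension of derivations.**  If the reduced monomials in the `x i` form an `R`-basis of the
characteristic-`p` ring `B`, with `x i ^ p = a i ∈ R`, then an additive derivation `D : R → L`
killing the `a i` extends uniquely to a derivation `B → L` with prescribed values on the `x i`. -/
theorem existsUnique_derivation (hp : p.Prime) [CharP B p]
    (hxa : ∀ i, x i ^ p = algebraMap R B (a i))
    (hli : LinearIndependent R (redMon p x))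
    (hspan : Submodule.span R (Set.range (redMon p x)) = ⊤)
    (D : Derivation ℤ R L) (hD : ∀ i, D (a i) = 0) (y : ι → L) :
    ∃! D' : Derivation ℤ B L, (∀ r : R, D' (algebraMap R B r) = D r) ∧ ∀ i, D' (x i) = y i := by
  letI : Module Bᵐᵒᵖ L := Module.compHom _ ((RingHom.id B).fromOpposite mul_comm)
  haveI : IsCentralScalar B L := ⟨fun r m => rfl⟩
  have hpL : ∀ l : L, p • l = 0 := fun l => by
    rw [← Nat.cast_smul_eq_nsmul B, CharP.cast_eq_zero B p, zero_smul]
  letI algE : Algebra R (TrivSqZeroExt B L) := (derivHom (B := B) D).toAlgebra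
  have halg : ∀ r : R, algebraMap R (TrivSqZeroExt B L) r = derivHom (B := B) D r := fun _ => rfl
  set z : ι → TrivSqZeroExt B L := fun i => inl (x i) + inr (y i) with hz
  have hzp : ∀ i, z i ^ p = algebraMap R (TrivSqZeroExt B L) (a i) := by
    intro i
    rw [halg]
    ext
    · simp [hz, hxa]
    · rw [snd_pow, hpL, snd_derivHom, hD]
  obtain ⟨v, hv, hvuniq⟩ := existsUnique_algHom hp.pos hxa hli hspan z hzp
  -- `fst ∘ v = id`
  let q : TrivSqZeroExt B L →ₐ[R] B :=
    { (TrivSqZeroExt.fstHom B B L).toRingHom with
      commutes' := fun r => by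
        show (algebraMap R (TrivSqZeroExt B L) r).fst = _
        rw [halg, fst_derivHom] }
  have hq : ∀ e, q e = e.fst := fun _ => rfl
  have hqv : q.comp v = AlgHom.id R B := by
    refine (existsUnique_algHom hp.pos hxa hli hspan x hxa).unique ?_ (fun i => rfl)
    intro i
    rw [AlgHom.comp_apply, hv i, hq]
    simp [hz]
  have hfst : ∀ b, (v b).fst = b := fun b => by
    have := congrArg (fun f : B →ₐ[R] B => f b) hqv
    simpa [hq] using this
  refine ⟨derivOfSection v.toRingHom hfst, ⟨?_, ?_⟩, ?_⟩
  · intro r
    rw [derivOfSection_apply]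
    show (v (algebraMap R B r)).snd = D r
    rw [v.commutes, halg, snd_derivHom]
  · intro i
    rw [derivOfSection_apply]
    show (v (x i)).snd = y i
    rw [hv i]
    simp [hz]
  · rintro D'' ⟨h1, h2⟩
    -- the algebra map attached to `D''`
    let v'' : B →ₐ[R] TrivSqZeroExt B L :=
      { derivHom (B := B) (R := B) D'' with
        commutes' := fun r => by
          show derivHom (B := B) (R := B) D'' (algebraMap R B r) = _
          rw [halg]
          ext
          · simp
          · rw [snd_derivHom, snd_derivHom, h1] }
    have hv'' : ∀ b, v'' b = derivHom (B := B) (R := B) D'' b := fun _ => rfl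
    have : v'' = v := by
      apply hvuniq
      intro i
      rw [hv'']
      ext
      · simp [hz]
      · rw [snd_derivHom, h2]; simp [hz]
    ext b
    rw [derivOfSection_apply]
    show D'' b = (v b).snd
    rw [← this, hv'', snd_derivHom]

end Der

end Groth.Agent.Lib.Helper81.PBasis
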