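import Mathlib

/-!
# Unramified algebras whose `p`-th powers come from the base (helper81)

If `B` is a finite-type `A`-algebra of characteristic `p` with `Ω[B⁄A] = 0` and some
`p ^ s`-th power of every element of `B` lies in the image of `A`, then `A → B` is surjective
(EGA 0_IV 21.1.7).
-/

set_option autoImplicit false

namespace Groth.Agent.Lib.Helper81.PthPowerUnram

open Polynomial TensorProduct

variable (p : ℕ) [hp : Fact p.Prime] {A B : Type*} [CommRing A] [CommRing B] [Algebra A B]
  [CharP B p]

include hp in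
theorem surjective_of_pow_mem_range [Algebra.FiniteType A B]
    (hpow : ∀ b : B, b ^ p ∈ Set.range (algebraMap A B))
    [Algebra.FormallyUnramified A B] : Function.Surjective (algebraMap A B) := by
  haveI : Algebra.IsIntegral A B := ⟨fun b => by
    obtain ⟨a, ha⟩ := hpow b
    exact ⟨X ^ p - C a, monic_X_pow_sub_C a hp.out.ne_zero, by simp [ha]⟩⟩
  haveI : Module.Finite A B := Algebra.IsIntegral.finite
  rw [← Algebra.isEpi_iff_surjective_algebraMap_of_finite, Algebra.isEpi_iff_forall_one_tmul_eq]
  intro b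
  obtain ⟨t, ht1, ht2⟩ :=
    (Algebra.FormallyUnramified.iff_exists_tensorProduct (R := A) (S := B)).1 inferInstance
  have hnil : ∀ s : B, (1 ⊗ₜ[A] s - s ⊗ₜ[A] 1 : B ⊗[A] B) ^ p = 0 := by
    intro s
    rcases subsingleton_or_nontrivial (B ⊗[A] B) with h | h
    · exact Subsingleton.elim _ _
    · have hpT : (p : B ⊗[A] B) = 0 := by
        rw [← map_natCast (algebraMap B (B ⊗[A] B)), CharP.cast_eq_zero B p, map_zero]
      haveI : CharP (B ⊗[A] B) p := ringChar.of_eq (CharP.ringChar_of_prime_eq_zero hp.out hpT)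
      rw [sub_pow_char, Algebra.TensorProduct.tmul_pow, Algebra.TensorProduct.tmul_pow, one_pow]
      obtain ⟨a, ha⟩ := hpow s
      rw [← ha, Algebra.algebraMap_eq_smul_one, TensorProduct.tmul_smul, TensorProduct.smul_tmul',
        sub_self]
  have hle : Ideal.span (Set.range fun s : B => (1 : B) ⊗ₜ[A] s - s ⊗ₜ[A] (1 : B)) ≤
      nilradical (B ⊗[A] B) := by
    rw [Ideal.span_le]
    rintro _ ⟨s, rfl⟩
    exact ⟨p, hnil s⟩
  have h1t : IsNilpotent (1 - t) := by
    apply hle
    rw [KaehlerDifferential.span_range_eq_ideal, KaehlerDifferential.ideal, RingHom.mem_ker,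
      map_sub, map_one, ht2, sub_self]
  have htunit : IsUnit t := by
    have := h1t.isUnit_one_sub
    rwa [sub_sub_cancel] at this
  have := ht1 b
  rwa [htunit.mul_left_eq_zero, sub_eq_zero] at this

include hp in
/-- EGA 0_IV 21.1.7 -/
theorem surjective_of_pow_pow_mem_range [Algebra.FiniteType A B] (s : ℕ)
    (hpow : ∀ b : B, b ^ p ^ s ∈ Set.range (algebraMap A B))
    [Algebra.FormallyUnramified A B] : Function.Surjective (algebraMap A B) := by
  set C : ℕ → Subalgebra A B := fun k => Algebra.adjoin A (Set.range fun b : B => b ^ p ^ k) with hC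
  -- `C 1 = ⊤`
  have hC1 : C 1 = ⊤ := by
    haveI : Algebra.FiniteType (C 1) B := Algebra.FiniteType.of_restrictScalars_finiteType A (C 1) B
    haveI : Algebra.FormallyUnramified (C 1) B := Algebra.FormallyUnramified.of_restrictScalars A (C 1) B
    have hsurj : Function.Surjective (algebraMap (C 1) B) := by
      apply surjective_of_pow_mem_range p
      intro b
      exact ⟨⟨b ^ p, Algebra.subset_adjoin ⟨b, by rw [pow_one]⟩⟩, rfl⟩
    rw [eq_top_iff]
    intro b _
    obtain ⟨c, rfl⟩ := hsurj b
    exact c.2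
  have hstep : ∀ k, C k = ⊤ → C (k + 1) = ⊤ := by
    intro k hk
    let S : Subalgebra A B :=
      { carrier := {b | b ^ p ∈ C (k + 1)}
        mul_mem' := fun {b c} hb hc => by
          show (b * c) ^ p ∈ C (k + 1)
          rw [mul_pow]; exact (C (k + 1)).mul_mem hb hc
        add_mem' := fun {b c} hb hc => by
          show (b + c) ^ p ∈ C (k + 1)
          rw [add_pow_char]; exact (C (k + 1)).add_mem hb hc
        algebraMap_mem' := fun r => by
          show (algebraMap A B r) ^ p ∈ C (k + 1)
          rw [← map_pow]; exact (C (k + 1)).algebraMap_mem _ }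
    have hS : ∀ b, b ∈ S ↔ b ^ p ∈ C (k + 1) := fun _ => Iff.rfl
    have hCS : C k ≤ S := by
      apply Algebra.adjoin_le
      rintro _ ⟨b, rfl⟩
      show (b ^ p ^ k) ^ p ∈ C (k + 1)
      rw [← pow_mul, ← pow_succ]
      exact Algebra.subset_adjoin ⟨b, rfl⟩
    rw [hk, top_le_iff] at hCS
    rw [eq_top_iff, ← hC1]
    apply Algebra.adjoin_le
    rintro _ ⟨b, rfl⟩
    rw [pow_one]
    have : b ∈ S := by rw [hCS]; trivial
    exact this
  have hall : ∀ k, C k = ⊤ := by
    intro k
    induction k with
    | zero =>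
      rw [eq_top_iff]
      intro b _
      exact Algebra.subset_adjoin ⟨b, by simp⟩
    | succ k ih => exact hstep k ih
  have hle : C s ≤ (Algebra.ofId A B).range := by
    apply Algebra.adjoin_le
    rintro _ ⟨b, rfl⟩
    obtain ⟨a, ha⟩ := hpow b
    exact ⟨a, ha⟩
  rw [hall s, top_le_iff] at hle
  intro b
  have : b ∈ (Algebra.ofId A B).range := by rw [hle]; trivial
  obtain ⟨a, ha⟩ := this
  exact ⟨a, ha⟩

end Groth.Agent.Lib.Helper81.PthPowerUnram
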