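import Mathlib
import Groth.Prelude.Def_EGA41
import Groth.Agent.Lib.Helper81.PBasis
import Groth.Agent.Lib.Helper81.PBasisEGA
import Groth.Agent.Lib.Helper81.PthPowerUnram

/-!
# `p`-generating families and differentials (helper81)
-/

set_option autoImplicit false
universe u

namespace Groth.Agent.Lib.Helper81.PBasis

open MvPolynomial

section

variable {R : Type*} [CommRing R] {ι : Type*} {n : ℕ} {a : ι → R}
  {B : Type*} [CommRing B] [Algebra R B] {x : ι → B}

theorem span_redMon_eq_top_iff (hn : 0 < n) (hxa : ∀ i, x i ^ n = algebraMap R B (a i)) :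
    Submodule.span R (Set.range (redMon n x)) = ⊤ ↔ Algebra.adjoin R (Set.range x) = ⊤ := by
  rw [Algebra.adjoin_range_eq_range_aeval]
  constructor
  · intro h
    exact (AlgHom.range_eq_top _).2 (aeval_surjective h)
  · intro h
    rw [eq_top_iff]
    intro b _
    have hb : b ∈ (aeval x : MvPolynomial ι R →ₐ[R] B).range := by rw [h]; trivial
    obtain ⟨f, rfl⟩ := hb
    obtain ⟨l, hl⟩ := exists_redPoly n a hn f
    have h1 := relIdeal_le_ker hxa hl
    rw [RingHom.mem_ker, map_sub, sub_eq_zero] at h1
    have h2 := aeval_redPoly n x l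
    have : (aeval x) f = Finsupp.linearCombination R (redMon n x) l := h1.trans h2
    show (aeval x) f ∈ _
    rw [this, ← Finsupp.range_linearCombination]
    exact ⟨l, rfl⟩

end

end Groth.Agent.Lib.Helper81.PBasis

namespace Groth.Agent.Lib.Helper81.PBasisEGA

open Groth.Agent.Lib.Helper81.PBasis

variable {p : ℕ} [hp : Fact p.Prime] {A B : Type u} [CommRing A] [CommRing B] [Algebra A B]
  [CharP B p] {ι : Type u} (x : ι → B)

include hp in
omit [CharP B p] in
/-- `p`-generating iff generating as an algebra over `A[B^p]`. -/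
theorem isPGenerating_iff_adjoin :
    EGA41.IsPGenerating p A x ↔
      Algebra.adjoin (EGA41.pPowerSubalgebra p A B) (Set.range x) = ⊤ := by
  rw [isPGenerating_iff]
  let a : ι → EGA41.pPowerSubalgebra p A B := fun i => ⟨x i ^ p, pow_mem_pPowerSubalgebra p (x i)⟩
  exact span_redMon_eq_top_iff (a := a) hp.out.pos (fun i => rfl)

omit hp in
/-- derivations over `A` kill `A[B^p]`; the elements whose differential lies in a given submodule
form a subalgebra containing `A[B^p]` -/
theorem D_mem_of_mem_adjoin (N : Submodule B (Ω[B⁄A]))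
    (hx : ∀ i, KaehlerDifferential.D A B (x i) ∈ N) (b : B)
    (hb : b ∈ Algebra.adjoin (EGA41.pPowerSubalgebra p A B) (Set.range x)) :
    KaehlerDifferential.D A B b ∈ N := by
  have hpΩ : ∀ w : Ω[B⁄A], p • w = 0 := fun w => by
    rw [← Nat.cast_smul_eq_nsmul B, CharP.cast_eq_zero B p, zero_smul]
  let T : Subalgebra A B :=
    { carrier := {b | KaehlerDifferential.D A B b ∈ N}
      mul_mem' := fun {b c} hb hc => by
        show KaehlerDifferential.D A B (b * c) ∈ N
        rw [Derivation.leibniz]
        exact N.add_mem (N.smul_mem _ hc) (N.smul_mem _ hb)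
      add_mem' := fun {b c} hb hc => by
        show KaehlerDifferential.D A B (b + c) ∈ N
        rw [map_add]
        exact N.add_mem hb hc
      algebraMap_mem' := fun r => by
        show KaehlerDifferential.D A B (algebraMap A B r) ∈ N
        rw [Derivation.map_algebraMap]
        exact N.zero_mem }
  have hA'T : EGA41.pPowerSubalgebra p A B ≤ T := by
    apply Algebra.adjoin_le
    rintro _ ⟨b, rfl⟩
    show KaehlerDifferential.D A B (b ^ p) ∈ N
    rw [Derivation.leibniz_pow, hpΩ]
    exact N.zero_mem
  show b ∈ T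
  induction hb using Algebra.adjoin_induction with
  | mem b hb =>
    obtain ⟨i, rfl⟩ := hb
    exact hx i
  | algebraMap c => exact hA'T c.2
  | add b c _ _ hb hc => exact T.add_mem hb hc
  | mul b c _ _ hb hc => exact T.mul_mem hb hc

include hp in
theorem span_D_eq_top_of_isPGenerating (h : EGA41.IsPGenerating p A x) :
    Submodule.span B (Set.range fun i => KaehlerDifferential.D A B (x i)) = ⊤ := by
  rw [isPGenerating_iff_adjoin] at h
  rw [eq_top_iff, ← KaehlerDifferential.span_range_derivation A B, Submodule.span_le]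
  rintro _ ⟨b, rfl⟩
  exact D_mem_of_mem_adjoin (p := p) x
    (Submodule.span B (Set.range fun i => KaehlerDifferential.D A B (x i)))
    (fun i => Submodule.subset_span ⟨i, rfl⟩) b (by rw [h]; trivial)

include hp in
theorem isPGenerating_of_span_D_eq_top
    [Algebra.FiniteType (EGA41.pPowerSubalgebra p A B) B]
    (h : Submodule.span B (Set.range fun i => KaehlerDifferential.D A B (x i)) = ⊤) :
    EGA41.IsPGenerating p A x := by
  rw [isPGenerating_iff_adjoin]
  set A' := EGA41.pPowerSubalgebra p A B with hA'
  set C := Algebra.adjoin A' (Set.range x) with hC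
  haveI : Algebra.FiniteType C B := Algebra.FiniteType.of_restrictScalars_finiteType A' C B
  haveI : Algebra.FormallyUnramified C B := by
    refine ⟨⟨fun w₁ w₂ => ?_⟩⟩
    suffices h0 : ∀ w : Ω[B⁄C], w = 0 by rw [h0 w₁, h0 w₂]
    intro w
    obtain ⟨w', rfl⟩ := KaehlerDifferential.map_surjective A C B w
    have hw' : w' ∈ Submodule.span B (Set.range fun i => KaehlerDifferential.D A B (x i)) := by
      rw [h]; trivial
    induction hw' using Submodule.span_induction with
    | mem w hw =>
      obtain ⟨i, rfl⟩ := hw
      rw [KaehlerDifferential.map_D]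
      have : (algebraMap B B) (x i) = algebraMap C B ⟨x i, Algebra.subset_adjoin ⟨i, rfl⟩⟩ := rfl
      rw [this, Derivation.map_algebraMap]
    | zero => rw [map_zero]
    | add u v _ _ hu hv => rw [map_add, hu, hv, add_zero]
    | smul c u _ hu => rw [map_smul, hu, smul_zero]
  have hsurj : Function.Surjective (algebraMap C B) := by
    apply PthPowerUnram.surjective_of_pow_mem_range p
    intro b
    exact ⟨⟨b ^ p, Subalgebra.algebraMap_mem C (⟨b ^ p, pow_mem_pPowerSubalgebra p b⟩ : A')⟩, rfl⟩
  rw [eq_top_iff]
  intro b _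
  obtain ⟨c, rfl⟩ := hsurj b
  exact c.2

end Groth.Agent.Lib.Helper81.PBasisEGA
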