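import Mathlib
import Groth.Agent.Lib.Helper81.PBasis

/-!
# Independence of truncated monomials from dual derivations (helper81)
-/

set_option autoImplicit false

namespace Groth.Agent.Lib.Helper81.PBasis

open MvPolynomial

section

variable {R : Type*} [CommRing R] {ι : Type*} {n : ℕ}
  {B : Type*} [CommRing B] [Algebra R B] {x : ι → B}

/-- a polynomial all of whose exponents are `< n` -/
def IsRed (n : ℕ) (f : MvPolynomial ι R) : Prop := ∀ e ∈ f.support, ∀ i, e i < n

theorem coeff_redPoly (l : Red ι n →₀ R) (e : Red ι n) : coeff e.1 (redPoly n l) = l e := by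
  classical
  rw [redPoly, Finsupp.linearCombination_apply, Finsupp.sum, coeff_sum]
  simp only [coeff_smul, coeff_monomial, smul_eq_mul, mul_ite, mul_one, mul_zero]
  rw [Finset.sum_eq_single e]
  · simp
  · intro e' _ hne
    rw [if_neg]
    intro h
    exact hne (Subtype.ext h)
  · intro he
    rw [if_pos rfl]
    exact Finsupp.notMem_support_iff.1 he

theorem coeff_redPoly_of_not (l : Red ι n →₀ R) (e : ι →₀ ℕ) (he : ¬ ∀ i, e i < n) :
    coeff e (redPoly n l) = 0 := by
  classical
  rw [redPoly, Finsupp.linearCombination_apply, Finsupp.sum, coeff_sum]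
  apply Finset.sum_eq_zero
  intro e' _
  rw [coeff_smul, coeff_monomial, if_neg, smul_zero]
  intro h
  exact he (h ▸ e'.2)

theorem isRed_redPoly (l : Red ι n →₀ R) : IsRed n (redPoly n l) := by
  intro e he
  by_contra h
  exact (mem_support_iff.1 he) (coeff_redPoly_of_not l e h)

theorem redPoly_injective : Function.Injective (redPoly (R := R) (ι := ι) n) := by
  intro l l' h
  ext e
  rw [← coeff_redPoly l e, ← coeff_redPoly l' e, h]

/-- every reduced polynomial is a `redPoly` -/
theorem exists_eq_redPoly {f : MvPolynomial ι R} (hf : IsRed n f) : ∃ l, f = redPoly n l := by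
  classical
  refine ⟨Finsupp.onFinset (f.support.subtype fun e => ∀ i, e i < n) (fun e => coeff e.1 f)
    (fun e he => by
      rw [Finset.mem_subtype, mem_support_iff]; exact he), ?_⟩
  ext e
  by_cases he : ∀ i, e i < n
  · have := coeff_redPoly (Finsupp.onFinset (f.support.subtype fun e => ∀ i, e i < n)
      (fun e => coeff e.1 f) (fun e he => by rw [Finset.mem_subtype, mem_support_iff]; exact he))
      ⟨e, he⟩
    rw [this, Finsupp.onFinset_apply]
  · rw [coeff_redPoly_of_not _ e he]
    by_contra h
    exact he (hf e (mem_support_iff.2 h))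

/-- linear independence of reduced monomials = no reduced relations -/
theorem linearIndependent_redMon_iff :
    LinearIndependent R (redMon n x) ↔
      ∀ f : MvPolynomial ι R, IsRed n f → aeval x f = 0 → f = 0 := by
  rw [linearIndependent_iff]
  constructor
  · intro h f hf hf0
    obtain ⟨l, rfl⟩ := exists_eq_redPoly hf
    rw [aeval_redPoly] at hf0
    rw [h l hf0, map_zero]
  · intro h l hl
    rw [← aeval_redPoly] at hl
    have := h _ (isRed_redPoly l) hl
    exact redPoly_injective (this.trans (map_zero _).symm)

end

section Deriv

variable {R : Type*} [CommRing R] {ι : Type*} {p : ℕ}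
  {B : Type*} [CommRing B] [Algebra R B] {x : ι → B}

/-- chain rule for a derivation killing the coefficients, dual to the variable `a` -/
theorem deriv_aeval (D : Derivation ℤ B B) (hD : ∀ r : R, D (algebraMap R B r) = 0) (a : ι)
    (hDa : D (x a) = 1) (hDb : ∀ b, b ≠ a → D (x b) = 0) (f : MvPolynomial ι R) :
    D (aeval x f) = aeval x (pderiv a f) := by
  induction f using MvPolynomial.induction_on with
  | C r => rw [aeval_C, hD, pderiv_C, map_zero]
  | add f g hf hg => rw [map_add, map_add, hf, hg, map_add, map_add]
  | mul_X f i hf =>
    rw [map_mul, aeval_X, Derivation.leibniz, hf, pderiv_mul, map_add, map_mul, map_mul, aeval_X,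
      smul_eq_mul, smul_eq_mul]
    by_cases hi : i = a
    · subst hi
      rw [hDa, pderiv_X_self, map_one]
      ring
    · rw [hDb i hi, pderiv_X_of_ne hi, map_zero]
      ring

variable [IsDomain B] [CharP B p]

/-- **Independence from dual derivations.** -/
theorem linearIndependent_redMon_of_derivations (hp : p.Prime)
    (hinj : Function.Injective (algebraMap R B))
    (hD : ∀ a : ι, ∃ D : Derivation ℤ B B, (∀ r : R, D (algebraMap R B r) = 0) ∧ D (x a) = 1 ∧
      ∀ b, b ≠ a → D (x b) = 0) :
    LinearIndependent R (redMon p x) := by
  classical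
  rw [linearIndependent_redMon_iff]
  -- cancellation of small integers in `R`
  have hcancel : ∀ (j : ℕ) (r : R), 0 < j → j < p → r * (j : R) = 0 → r = 0 := by
    intro j r hj hjp h
    apply hinj
    have h' := congrArg (algebraMap R B) h
    rw [map_mul, map_natCast, map_zero] at h'
    rcases mul_eq_zero.1 h' with h1 | h1
    · rw [h1, map_zero]
    · exfalso
      rw [CharP.cast_eq_zero_iff B p] at h1
      exact absurd (Nat.le_of_dvd hj h1) (not_le.2 hjp)
  have key : ∀ N : ℕ, ∀ f : MvPolynomial ι R, IsRed p f → (∀ e ∈ f.support, e.degree ≤ N) →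
      aeval x f = 0 → f = 0 := by
    intro N
    induction N with
    | zero =>
      intro f _ hdeg hf0
      have hsupp : ∀ e ∈ f.support, e = 0 := fun e he =>
        (Finsupp.degree_eq_zero_iff e).1 (Nat.le_zero.1 (hdeg e he))
      have hfC : f = C (coeff 0 f) := by
        ext e
        rw [coeff_C]
        split_ifs with h
        · rw [h]
        · by_contra hne
          exact h (hsupp e (mem_support_iff.2 hne)).symm
      rw [hfC, aeval_C] at hf0
      rw [hfC, hinj (hf0.trans (map_zero _).symm), map_zero]
    | succ N ih =>
      intro f hred hdeg hf0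
      -- all partial derivatives vanish
      have hpd : ∀ a, pderiv a f = 0 := by
        intro a
        obtain ⟨D, hD1, hD2, hD3⟩ := hD a
        apply ih
        · intro m hm i
          rw [mem_support_iff, coeff_pderiv] at hm
          have hm' : m + Finsupp.single a 1 ∈ f.support :=
            mem_support_iff.2 (left_ne_zero_of_mul hm)
          have := hred _ hm' i
          rw [Finsupp.add_apply] at this
          omega
        · intro m hm
          rw [mem_support_iff, coeff_pderiv] at hm
          have hm' : m + Finsupp.single a 1 ∈ f.support :=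
            mem_support_iff.2 (left_ne_zero_of_mul hm)
          have := hdeg _ hm'
          rw [map_add, Finsupp.degree_single] at this
          omega
        · rw [← deriv_aeval D hD1 a hD2 hD3, hf0, map_zero]
      apply ih f hred _ hf0
      intro e he
      by_contra hne
      have he0 : e ≠ 0 := by
        rintro rfl
        simp at hne
      obtain ⟨a, ha⟩ : ∃ a, e a ≠ 0 := by
        by_contra h
        push Not at h
        exact he0 (Finsupp.ext h)
      have h1 := congrArg (coeff (e - Finsupp.single a 1)) (hpd a)
      rw [coeff_pderiv, coeff_zero] at h1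
      have hle : Finsupp.single a 1 ≤ e := Finsupp.single_le_iff.2 (Nat.one_le_iff_ne_zero.2 ha)
      rw [tsub_add_cancel_of_le hle] at h1
      have h2 : (((e - Finsupp.single a 1 : ι →₀ ℕ) a : ℕ) : R) + 1 = ((e a : ℕ) : R) := by
        rw [Finsupp.tsub_apply, Finsupp.single_eq_same, ← Nat.cast_one (R := R), ← Nat.cast_add,
          Nat.sub_add_cancel (Nat.one_le_iff_ne_zero.2 ha)]
      rw [h2] at h1
      exact (mem_support_iff.1 he) (hcancel (e a) _ (Nat.pos_of_ne_zero ha) (hred e he a) h1)
  intro f hred hf0
  exact key (f.support.sup fun e => e.degree) f hred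
    (fun e he => Finset.le_sup (f := fun e : ι →₀ ℕ => e.degree) he) hf0

end Deriv

end Groth.Agent.Lib.Helper81.PBasis
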