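import Mathlib
import Groth.Prelude.Def_EGA41
import Groth.Agent.Lib.Helper81.PBasis
import Groth.Agent.Lib.Helper81.PBasisDer
import Groth.Agent.Lib.Helper81.PBasisEGA
import Groth.Agent.Lib.Helper81.PBasisGen
import Groth.Agent.Lib.Helper81.PBasisIndep

/-!
# `p`-bases of field extensions (helper81)
-/

set_option autoImplicit false
universe u

namespace Groth.Agent.Lib.Helper81.PBasisField

open Groth.Agent.Lib.Helper81.PBasis Groth.Agent.Lib.Helper81.PBasisEGA Polynomial
open scoped IntermediateField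

variable {p : ℕ} [hp : Fact p.Prime] {k K : Type u} [Field k] [Field K] [Algebra k K] [CharP K p]

section Degree

variable (N : IntermediateField k K) (hN : ∀ y : K, y ^ p ∈ N)

include hp hN in
theorem minpoly_eq_of_notMem {y : K} (hy : y ∉ N) :
    minpoly N y = X ^ p - C (⟨y ^ p, hN y⟩ : N) := by
  have hirr : Irreducible (X ^ p - C (⟨y ^ p, hN y⟩ : N) : N[X]) := by
    apply X_pow_sub_C_irreducible_of_prime hp.out
    intro b hb
    have h1 : (b : K) ^ p = y ^ p := congrArg Subtype.val hb
    have h2 : (b : K) = y := by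
      have : ((b : K) - y) ^ p = 0 := by rw [sub_pow_char, h1, sub_self]
      exact sub_eq_zero.1 (pow_eq_zero_iff hp.out.ne_zero |>.1 this)
    exact hy (h2 ▸ b.2)
  refine (minpoly.eq_of_irreducible_of_monic hirr ?_ (monic_X_pow_sub_C _ hp.out.ne_zero)).symm
  rw [map_sub, map_pow, aeval_X, aeval_C]
  exact sub_self _

include hp hN in
theorem isIntegral_of_pow_mem (y : K) : IsIntegral N y :=
  ⟨X ^ p - C (⟨y ^ p, hN y⟩ : N), monic_X_pow_sub_C _ hp.out.ne_zero, by
    rw [eval₂_sub, eval₂_pow, eval₂_X, eval₂_C]; exact sub_self _⟩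

include hp hN in
theorem finrank_adjoin_of_notMem {y : K} (hy : y ∉ N) :
    Module.finrank N N⟮y⟯ = p := by
  rw [IntermediateField.adjoin.finrank (isIntegral_of_pow_mem N hN y),
    minpoly_eq_of_notMem N hN hy, natDegree_X_pow_sub_C]

include hp hN in
/-- exchange: if `z ∈ N(y) \ N` then `y ∈ N(z)` -/
theorem mem_adjoin_of_mem_adjoin {y z : K} (hz : z ∉ N) (hzy : z ∈ N⟮y⟯) : y ∈ N⟮z⟯ := by
  have hy : y ∉ N := by
    intro hy
    apply hz
    have : N⟮y⟯ = ⊥ := IntermediateField.adjoin_simple_eq_bot_iff.2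
      (by rw [IntermediateField.mem_bot]; exact ⟨⟨y, hy⟩, rfl⟩)
    rw [this, IntermediateField.mem_bot] at hzy
    obtain ⟨c, rfl⟩ := hzy
    exact c.2
  have hle : N⟮z⟯ ≤ N⟮y⟯ := IntermediateField.adjoin_simple_le_iff.2 hzy
  haveI : FiniteDimensional N N⟮y⟯ :=
    IntermediateField.adjoin.finiteDimensional (isIntegral_of_pow_mem N hN y)
  have heq : N⟮z⟯ = N⟮y⟯ := IntermediateField.eq_of_le_of_finrank_eq hle
    (by rw [finrank_adjoin_of_notMem N hN hz, finrank_adjoin_of_notMem N hN hy])
  rw [heq]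
  exact IntermediateField.mem_adjoin_simple_self N y

end Degree


section Simple

variable (N : IntermediateField k K) (hN : ∀ y : K, y ^ p ∈ N)

omit hp [CharP K p] in
theorem redMon_unit (z : K) (e : Red Unit p) :
    redMon p (fun _ : Unit => z) e = z ^ (e.1 ()) := by
  rw [redMon, Finsupp.prod_fintype _ _ (fun _ => pow_zero _)]
  simp

include hp hN in
/-- If `K = N(z)` is a simple extension with `K^p ⊆ N`, `z ∉ N`, there is a derivation of `K`
vanishing on `N` with value `1` at `z`. -/
theorem exists_derivation_of_adjoin_eq_top {z : K} (hz : z ∉ N) (htop : N⟮z⟯ = ⊤) :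
    ∃ D : Derivation ℤ K K, (∀ m ∈ N, D m = 0) ∧ D z = 1 := by
  have hint := isIntegral_of_pow_mem N hN z
  have hdeg : (minpoly N z).natDegree = p := by
    rw [minpoly_eq_of_notMem N hN hz, natDegree_X_pow_sub_C]
  let a : Unit → N := fun _ => ⟨z ^ p, hN z⟩
  have hxa : ∀ i : Unit, (fun _ : Unit => z) i ^ p = algebraMap N K (a i) := fun _ => rfl
  have hli : LinearIndependent N (redMon p (fun _ : Unit => z)) := by
    have h := linearIndependent_pow (K := N) z
    let g : Red Unit p → Fin (minpoly N z).natDegree := fun e => ⟨e.1 (), by rw [hdeg]; exact e.2 ()⟩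
    have hg : Function.Injective g := by
      intro e e' hee'
      apply Subtype.ext
      ext
      exact congrArg Fin.val hee'
    have heq : redMon p (fun _ : Unit => z) =
        (fun i : Fin (minpoly N z).natDegree => z ^ (i : ℕ)) ∘ g := by
      funext e
      rw [redMon_unit]
      rfl
    rw [heq]
    exact h.comp g hg
  have hspan : Submodule.span N (Set.range (redMon p (fun _ : Unit => z))) = ⊤ := by
    rw [span_redMon_eq_top_iff hp.out.pos hxa, Set.range_const,
      ← IntermediateField.adjoin_simple_toSubalgebra_of_isAlgebraic hint.isAlgebraic, htop,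
      IntermediateField.top_toSubalgebra]
  obtain ⟨D, ⟨hD1, hD2⟩, -⟩ := existsUnique_derivation (L := K) hp.out hxa hli hspan
    (0 : Derivation ℤ N K) (fun _ => rfl) (fun _ => (1 : K))
  refine ⟨D, fun m hm => ?_, hD2 ()⟩
  have := hD1 ⟨m, hm⟩
  rwa [Derivation.coe_zero, Pi.zero_apply] at this

end Simple

section Zorn

variable (M : IntermediateField k K) (hM : ∀ y : K, y ^ p ∈ M)

include hp hM in
/-- **Separating derivations.** If `K^p ⊆ M` and `z ∉ M`, some derivation of `K` vanishes on `M`
and takes the value `1` at `z`. -/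
theorem exists_derivation_of_notMem {z : K} (hz : z ∉ M) :
    ∃ D : Derivation ℤ K K, (∀ m ∈ M, D m = 0) ∧ D z = 1 := by
  classical
  obtain ⟨N, hMN, hNmax⟩ := zorn_le_nonempty₀ {N : IntermediateField k K | z ∉ N}
    (by
      intro c hc hchain y hy
      haveI : Nonempty c := ⟨⟨y, hy⟩⟩
      have hdir : Directed (· ≤ ·) (fun N : c => (N : IntermediateField k K)) :=
        hchain.directedOn.directed_val
      refine ⟨⨆ N : c, (N : IntermediateField k K), ?_, fun N hN => le_iSup
        (fun N : c => (N : IntermediateField k K)) ⟨N, hN⟩⟩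
      intro hzmem
      have : z ∈ ((⨆ N : c, (N : IntermediateField k K) : IntermediateField k K) : Set K) := hzmem
      rw [IntermediateField.coe_iSup_of_directed hdir, Set.mem_iUnion] at this
      obtain ⟨N, hN⟩ := this
      exact hc N.2 hN)
    M hz
  have hN : ∀ y : K, y ^ p ∈ N := fun y => hMN (hM y)
  have hzN : z ∉ N := hNmax.prop
  have htop : N⟮z⟯ = ⊤ := by
    rw [eq_top_iff]
    intro y _
    by_cases hy : y ∈ N
    · exact (N⟮z⟯).algebraMap_mem (⟨y, hy⟩ : N)
    · let N' : IntermediateField k K := IntermediateField.restrictScalars k N⟮y⟯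
      have hNN' : N ≤ N' := fun m hm => (N⟮y⟯).algebraMap_mem (⟨m, hm⟩ : N)
      have hyN' : y ∈ N' := IntermediateField.mem_adjoin_simple_self N y
      have hzN' : z ∈ N' := by
        by_contra hcon
        exact hy (hNmax.2 hcon hNN' hyN')
      exact mem_adjoin_of_mem_adjoin N hN hzN hzN'
  obtain ⟨D, hD1, hD2⟩ := exists_derivation_of_adjoin_eq_top N hN hzN htop
  exact ⟨D, fun m hm => hD1 m (hMN hm), hD2⟩

end Zorn


section Adjoin

omit hp [CharP K p] in
theorem pPowerSubalgebra_le_adjoin (S : Set K) :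
    EGA41.pPowerSubalgebra p k K ≤
      (IntermediateField.adjoin k (Set.range (fun y : K => y ^ p) ∪ S)).toSubalgebra := by
  apply Algebra.adjoin_le
  rintro _ ⟨y, rfl⟩
  exact IntermediateField.subset_adjoin k _ (Or.inl ⟨y, rfl⟩)

include hp in
omit [CharP K p] in
/-- the field generated by `k`, `K^p` and `S` is the `k[K^p]`-algebra generated by `S` -/
theorem mem_algebraAdjoin_of_mem_adjoin (S : Set K) {y : K}
    (hy : y ∈ IntermediateField.adjoin k (Set.range (fun y : K => y ^ p) ∪ S)) :
    y ∈ Algebra.adjoin (EGA41.pPowerSubalgebra p k K) S := by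
  let T : Subalgebra k K := (Algebra.adjoin (EGA41.pPowerSubalgebra p k K) S).restrictScalars k
  have hT : ∀ w, w ∈ T ↔ w ∈ Algebra.adjoin (EGA41.pPowerSubalgebra p k K) S := fun _ => Iff.rfl
  have hpow : ∀ v : K, v ^ p ∈ T := fun v =>
    (Algebra.adjoin (EGA41.pPowerSubalgebra p k K) S).algebraMap_mem
      (⟨v ^ p, pow_mem_pPowerSubalgebra p v⟩ : EGA41.pPowerSubalgebra p k K)
  have hinv : ∀ w ∈ T, w⁻¹ ∈ T := by
    intro w hw
    by_cases h0 : w = 0
    · rw [h0, inv_zero]; exact T.zero_mem
    · obtain ⟨m, hm⟩ : ∃ m, p = m + 1 := ⟨p - 1, (Nat.sub_add_cancel hp.out.one_le).symm⟩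
      have : w⁻¹ = w ^ m * (w⁻¹) ^ p := by
        rw [hm, pow_succ, ← mul_assoc, ← mul_pow, mul_inv_cancel₀ h0, one_pow, one_mul]
      rw [this]
      exact T.mul_mem (T.pow_mem hw _) (hpow _)
  have hle : IntermediateField.adjoin k (Set.range (fun y : K => y ^ p) ∪ S) ≤
      T.toIntermediateField hinv := by
    rw [IntermediateField.adjoin_le_iff]
    rintro w (⟨v, rfl⟩ | hw)
    · exact hpow v
    · exact Algebra.subset_adjoin hw
  exact hle hy

end Adjoin


end Groth.Agent.Lib.Helper81.PBasisField
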