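import Mathlib
import Groth.Prelude.Def_EGA41
import Groth.Agent.Lib.Helper81.PBasisField

/-!
# `p`-independence criterion for fields (helper81)
-/

set_option autoImplicit false
universe u

namespace Groth.Agent.Lib.Helper81.PBasisField

open Groth.Agent.Lib.Helper81.PBasis Groth.Agent.Lib.Helper81.PBasisEGA
open scoped IntermediateField

variable {p : ℕ} [hp : Fact p.Prime] {k K : Type u} [Field k] [Field K] [Algebra k K] [CharP K p]

section Criterion

open MvPolynomial

omit hp in
/-- partial derivatives preserve the relation ideal in characteristic `p` -/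
theorem pderiv_mem_relIdeal {R : Type*} [CommRing R] {ι : Type*} (n : ℕ) (hn : (n : R) = 0)
    (a : ι → R) (i : ι) (f : MvPolynomial ι R) (hf : f ∈ relIdeal n a) :
    pderiv i f ∈ relIdeal n a := by
  rw [relIdeal] at hf
  induction hf using Submodule.span_induction with
  | mem f hf =>
    obtain ⟨j, rfl⟩ := hf
    have : pderiv i (X j ^ n - C (a j) : MvPolynomial ι R) = 0 := by
      rw [map_sub, pderiv_C, sub_zero, pderiv_pow]
      have : ((n : ℕ) : MvPolynomial ι R) = 0 := by
        rw [← map_natCast (C : R →+* MvPolynomial ι R), hn, map_zero]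
      rw [this, zero_mul, zero_mul]
    rw [this]
    exact zero_mem _
  | zero => rw [map_zero]; exact zero_mem _
  | add f g _ _ hf hg => rw [map_add]; exact add_mem hf hg
  | smul q f hf' hf =>
    rw [smul_eq_mul, pderiv_mul]
    refine add_mem (Ideal.mul_mem_left _ _ ?_) (Ideal.mul_mem_left _ _ hf)
    exact hf'

variable {ι : Type u} (x : ι → K)

include hp in
/-- `p`-independent ⇒ no member lies in the field generated by `k`, `K^p` and the others -/
theorem notMem_adjoin_of_isPIndependent (h : EGA41.IsPIndependent p k x) (a : ι) :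
    x a ∉ IntermediateField.adjoin k
      ((Set.range fun y : K => y ^ p) ∪ x '' {b | b ≠ a}) := by
  classical
  intro hmem
  have hmem' := mem_algebraAdjoin_of_mem_adjoin (x '' {b | b ≠ a}) hmem
  set A' := EGA41.pPowerSubalgebra p k K with hA'
  let c : ι → A' := fun i => ⟨x i ^ p, pow_mem_pPowerSubalgebra p (x i)⟩
  have hxa : ∀ i, x i ^ p = algebraMap A' K (c i) := fun i => rfl
  have hli : LinearIndependent A' (redMon p x) := h
  have hker := ker_aeval_eq hp.out.pos hxa hli
  -- a polynomial not involving `X a` with value `x a`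
  have hmap : Algebra.adjoin A' (x '' {b | b ≠ a}) =
      (MvPolynomial.supported A' {b | b ≠ a}).map (aeval x) := by
    rw [MvPolynomial.supported, AlgHom.map_adjoin, Set.image_image]
    congr 1
    ext y
    simp only [Set.mem_image, aeval_X]
  rw [hmap] at hmem'
  obtain ⟨g, hg, hgx⟩ := hmem'
  have hga : pderiv a g = 0 := by
    apply pderiv_eq_zero_of_notMem_vars
    intro ha
    have := (MvPolynomial.mem_supported.1 hg) ha
    exact this rfl
  have h1 : (X a - g : MvPolynomial ι A') ∈ relIdeal p c := by
    rw [← hker, RingHom.mem_ker, map_sub, aeval_X]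
    exact sub_eq_zero.2 hgx.symm
  have hpA' : ((p : ℕ) : A') = 0 := by
    apply Subtype.ext
    show (((p : ℕ) : A') : K) = 0
    have : (((p : ℕ) : A') : K) = ((p : ℕ) : K) := map_natCast (algebraMap A' K) p
    rw [this]
    exact CharP.cast_eq_zero K p
  have h2 := pderiv_mem_relIdeal p hpA' c a _ h1
  rw [map_sub, pderiv_X_self, hga, sub_zero, ← hker, RingHom.mem_ker, map_one] at h2
  exact one_ne_zero h2

include hp in
/-- converse -/
theorem isPIndependent_of_forall_notMem
    (h : ∀ a, x a ∉ IntermediateField.adjoin k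
      ((Set.range fun y : K => y ^ p) ∪ x '' {b | b ≠ a})) :
    EGA41.IsPIndependent p k x := by
  classical
  rw [isPIndependent_iff]
  apply linearIndependent_redMon_of_derivations hp.out
  · exact Subtype.val_injective
  · intro a
    set F := IntermediateField.adjoin k ((Set.range fun y : K => y ^ p) ∪ x '' {b | b ≠ a}) with hF
    have hFp : ∀ y : K, y ^ p ∈ F := fun y =>
      IntermediateField.subset_adjoin k _ (Or.inl ⟨y, rfl⟩)
    obtain ⟨D, hD1, hD2⟩ := exists_derivation_of_notMem F hFp (h a)
    refine ⟨D, fun r => hD1 _ (pPowerSubalgebra_le_adjoin _ r.2), hD2, fun b hb => hD1 _ ?_⟩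
    exact IntermediateField.subset_adjoin k _ (Or.inr ⟨b, hb, rfl⟩)

end Criterion

end Groth.Agent.Lib.Helper81.PBasisField
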