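import Mathlib

/-!
# Additive derivations killing the base and Kähler differentials (helper81)
-/

set_option autoImplicit false

namespace Groth.Agent.Lib.Helper81.PBasis

variable {A B : Type*} [CommRing A] [CommRing B] [Algebra A B]

/-- an additive derivation of `B` killing the image of `A` factors through `Ω[B⁄A]` -/
theorem exists_liftKaehler (D : Derivation ℤ B B) (hD : ∀ r : A, D (algebraMap A B r) = 0) :
    ∃ φ : Ω[B⁄A] →ₗ[B] B, ∀ b, φ (KaehlerDifferential.D A B b) = D b := by
  have hdA : ∀ (r : A) (b : B), D (r • b) = r • D b := by
    intro r b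
    rw [Algebra.smul_def r b, Derivation.leibniz, hD, smul_zero, add_zero, smul_eq_mul,
      ← Algebra.smul_def]
  let dA : Derivation A B B := Derivation.mk'
    { toFun := D, map_add' := map_add D, map_smul' := hdA }
    (fun b c => Derivation.leibniz D b c)
  refine ⟨dA.liftKaehlerDifferential, fun b => ?_⟩
  rw [Derivation.liftKaehlerDifferential_comp_D]
  rfl

/-- differentials with a dual family of derivations are linearly independent -/
theorem linearIndependent_D_of_derivations {ι : Type*} (x : ι → B)
    (hD : ∀ a : ι, ∃ D : Derivation ℤ B B, (∀ r : A, D (algebraMap A B r) = 0) ∧ D (x a) = 1 ∧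
      ∀ b, b ≠ a → D (x b) = 0) :
    LinearIndependent B (fun i => KaehlerDifferential.D A B (x i)) := by
  classical
  choose D hD1 hD2 hD3 using hD
  choose φ hφ using fun a => exists_liftKaehler (A := A) (D a) (hD1 a)
  rw [linearIndependent_iff']
  intro s g hg i hi
  have := congrArg (φ i) hg
  rw [map_sum, map_zero] at this
  simp only [map_smul, hφ, smul_eq_mul] at this
  rw [Finset.sum_eq_single i] at this
  · rwa [hD2, mul_one] at this
  · intro b _ hb
    rw [hD3 i b hb, mul_zero]
  · intro h
    exact absurd hi h

end Groth.Agent.Lib.Helper81.PBasis
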