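import Mathlib
import Groth.Prelude.Def_EGA41
import Groth.Agent.Lib.Helper81.PBasis
import Groth.Agent.Lib.Helper81.PBasisEGA

/-!
# `p`-bases over a perfect ring: unique lifting along nilpotent ideals (helper81)
-/

set_option autoImplicit false
universe u

namespace Groth.Agent.Lib.Helper81.PBasis

/-- `B` viewed as a ring acting on `B` through Frobenius -/
def FrobTwist (B : Type*) (_p : ℕ) := B

instance (B : Type*) (p : ℕ) [CommRing B] : CommRing (FrobTwist B p) := inferInstanceAs (CommRing B)

section Twist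

variable {B : Type*} [CommRing B] (p : ℕ) [hp : Fact p.Prime] [CharP B p]

/-- Frobenius as a map out of the twist -/
def frobTwistHom : FrobTwist B p →+* B := frobenius B p

instance : Algebra (FrobTwist B p) B := (frobTwistHom (B := B) p).toAlgebra

theorem algebraMap_frobTwist (c : FrobTwist B p) :
    algebraMap (FrobTwist B p) B c = (show B from c) ^ p := rfl

variable {p} {ι : Type*} {x : ι → B}

/-- one Frobenius step -/
theorem existsUnique_ringHom_frob
    (hli : LinearIndependent (FrobTwist B p) (redMon p x))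
    (hspan : Submodule.span (FrobTwist B p) (Set.range (redMon p x)) = ⊤)
    {E : Type*} [CommRing E] (θ : B →+* E) (ζ : ι → E) (hζ : ∀ i, θ (x i) = ζ i ^ p) :
    ∃! w : B →+* E, (∀ b, w (b ^ p) = θ b) ∧ ∀ i, w (x i) = ζ i := by
  letI algE : Algebra (FrobTwist B p) E := RingHom.toAlgebra (show FrobTwist B p →+* E from θ)
  have halgE : ∀ c : FrobTwist B p, algebraMap (FrobTwist B p) E c = θ (show B from c) := fun _ => rfl
  let a : ι → FrobTwist B p := x
  have hxa : ∀ i, x i ^ p = algebraMap (FrobTwist B p) B (a i) := fun i => rfl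
  have hz : ∀ i, ζ i ^ p = algebraMap (FrobTwist B p) E (a i) := fun i => (hζ i).symm
  obtain ⟨v, hv, hvuniq⟩ := existsUnique_algHom hp.out.pos hxa hli hspan ζ hz
  refine ⟨v.toRingHom, ⟨fun b => ?_, hv⟩, ?_⟩
  · exact v.commutes (show FrobTwist B p from b)
  · rintro w ⟨hw1, hw2⟩
    let v' : B →ₐ[FrobTwist B p] E := { w with commutes' := fun c => hw1 c }
    have : v' = v := hvuniq v' hw2
    rw [← this]

/-- iterated Frobenius steps -/
theorem existsUnique_ringHom_frob_pow
    (hli : LinearIndependent (FrobTwist B p) (redMon p x))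
    (hspan : Submodule.span (FrobTwist B p) (Set.range (redMon p x)) = ⊤)
    {E : Type*} [CommRing E] (m : ℕ) :
    ∀ (θ : B →+* E) (ζ : ι → E), (∀ i, θ (x i) = ζ i ^ p ^ m) →
      ∃! w : B →+* E, (∀ b, w (b ^ p ^ m) = θ b) ∧ ∀ i, w (x i) = ζ i := by
  induction m with
  | zero =>
    intro θ ζ hζ
    refine ⟨θ, ⟨fun b => by rw [pow_zero, pow_one], fun i => by rw [hζ i, pow_zero, pow_one]⟩, ?_⟩
    rintro w ⟨hw1, -⟩
    ext b
    have := hw1 b
    rwa [pow_zero, pow_one] at this
  | succ m ih =>
    intro θ ζ hζ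
    have hζ' : ∀ i, θ (x i) = (ζ i ^ p) ^ p ^ m := fun i => by
      rw [hζ i, ← pow_mul, pow_succ, mul_comm]
    obtain ⟨w₁, ⟨h11, h12⟩, h1uniq⟩ := ih θ (fun i => ζ i ^ p) hζ'
    obtain ⟨w, ⟨h21, h22⟩, h2uniq⟩ := existsUnique_ringHom_frob hli hspan w₁ ζ h12
    refine ⟨w, ⟨fun b => ?_, h22⟩, ?_⟩
    · rw [pow_succ, pow_mul, h21, h11]
    · rintro w' ⟨hw1, hw2⟩
      apply h2uniq
      refine ⟨fun b => ?_, hw2⟩
      have hw₁ : w'.comp (frobenius B p) = w₁ := by
        apply h1uniq
        refine ⟨fun b => ?_, fun i => ?_⟩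
        · rw [RingHom.comp_apply, frobenius_def, ← pow_mul, ← pow_succ]
          exact hw1 b
        · rw [RingHom.comp_apply, frobenius_def, map_pow, hw2]
      rw [← hw₁]
      rfl

end Twist

end Groth.Agent.Lib.Helper81.PBasis

namespace Groth.Agent.Lib.Helper81.PBasisEGA

open Groth.Agent.Lib.Helper81.PBasis

section Bridge

variable {p : ℕ} [hp : Fact p.Prime] {A B : Type u} [CommRing A] [CharP A p] [PerfectRing A p]
  [CommRing B] [Algebra A B] [CharP B p]

include hp in
/-- every element of `A[B^p]` is a `p`-th power when `A` is perfect -/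
theorem exists_pow_eq_of_mem_pPowerSubalgebra (c : B) (hc : c ∈ EGA41.pPowerSubalgebra p A B) :
    ∃ d : B, d ^ p = c := by
  induction hc using Algebra.adjoin_induction with
  | mem c hc =>
    obtain ⟨b, rfl⟩ := hc
    exact ⟨b, rfl⟩
  | algebraMap a =>
    obtain ⟨a', ha'⟩ := (bijective_frobenius A p).2 a
    exact ⟨algebraMap A B a', by rw [← map_pow, ← ha', frobenius_def]⟩
  | add u v _ _ hu hv =>
    obtain ⟨du, rfl⟩ := hu
    obtain ⟨dv, rfl⟩ := hv
    exact ⟨du + dv, add_pow_char du dv p⟩
  | mul u v _ _ hu hv =>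
    obtain ⟨du, rfl⟩ := hu
    obtain ⟨dv, rfl⟩ := hv
    exact ⟨du * dv, mul_pow du dv p⟩

variable (p A B) in
/-- Frobenius lands in `A[B^p]` -/
def frobTwistToPPower : FrobTwist B p →+* EGA41.pPowerSubalgebra p A B :=
  (frobTwistHom (B := B) p).codRestrict (EGA41.pPowerSubalgebra p A B)
    (fun c => pow_mem_pPowerSubalgebra p (show B from c))

include hp in
theorem frobTwist_basis [IsReduced B] {ι : Type u} (x : ι → B) (hx : EGA41.IsPBasis p A x) :
    LinearIndependent (FrobTwist B p) (redMon p x) ∧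
      Submodule.span (FrobTwist B p) (Set.range (redMon p x)) = ⊤ := by
  letI : Algebra (FrobTwist B p) (EGA41.pPowerSubalgebra p A B) :=
    (frobTwistToPPower p A B).toAlgebra
  haveI : IsScalarTower (FrobTwist B p) (EGA41.pPowerSubalgebra p A B) B :=
    IsScalarTower.of_algebraMap_eq (fun c => rfl)
  have hmap : ∀ c : FrobTwist B p,
      ((algebraMap (FrobTwist B p) (EGA41.pPowerSubalgebra p A B) c :
        EGA41.pPowerSubalgebra p A B) : B) = (show B from c) ^ p := fun c => rfl
  constructor
  · have h1 : LinearIndependent (EGA41.pPowerSubalgebra p A B) (redMon p x) := hx.1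
    refine h1.restrict_scalars ?_
    intro c c' hcc'
    have h2 : (show B from c) ^ p = (show B from c') ^ p := by
      have := congrArg (fun w : EGA41.pPowerSubalgebra p A B => (w : B)) hcc'
      simpa [Algebra.smul_def, hmap] using this
    have h3 : ((show B from c) - (show B from c')) ^ p = 0 := by
      rw [sub_pow_char, h2, sub_self]
    have h4 : (show B from c) - (show B from c') = 0 :=
      IsReduced.eq_zero (R := B) _ ⟨p, h3⟩
    exact sub_eq_zero.1 h4
  · have h1 : Submodule.span (EGA41.pPowerSubalgebra p A B) (Set.range (redMon p x)) = ⊤ := hx.2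
    have hsurj : Function.Surjective
        (algebraMap (FrobTwist B p) (EGA41.pPowerSubalgebra p A B)) := by
      intro c
      obtain ⟨d, hd⟩ := exists_pow_eq_of_mem_pPowerSubalgebra (A := A) (c : B) c.2
      exact ⟨d, Subtype.ext hd⟩
    rw [← Submodule.restrictScalars_span (FrobTwist B p) (EGA41.pPowerSubalgebra p A B) hsurj, h1,
      Submodule.restrictScalars_top]

end Bridge

end Groth.Agent.Lib.Helper81.PBasisEGA
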