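import Mathlib
import Groth.Agent.S2467
import Groth.Agent.S4541
import Groth.Agent.Lib.Helper81.PBasisEGA

/-!
# Field extensions of perfect fields are formally smooth (helper81)

Every field `K` of characteristic `p` has a `p`-basis over any perfect subfield `k`, hence (EGA
0_IV 21.2.7, `S4541`) `K` is formally smooth over `k`, without any finiteness assumption.  Also the
characteristic-zero analogue.
-/

set_option autoImplicit false
universe u

namespace Groth.Agent.Lib.Helper81.FieldSmooth

open Groth.Agent.Lib.Helper81.PBasis Groth.Agent.Lib.Helper81.PBasisEGA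

/-- every field extension has a `p`-basis -/
theorem exists_pBasis (p : ℕ) [Fact p.Prime] {k K : Type u} [Field k] [Field K] [Algebra k K]
    [CharP K p] : ∃ B : Set K, EGA41.IsPBasis p k (Subtype.val : B → K) := by
  have hp : p.Prime := Fact.out
  have hS : EGA41.IsPGenerating p k (Subtype.val : ↥(Set.univ : Set K) → K) := by
    rw [isPGenerating_iff, eq_top_iff]
    intro y _
    apply Submodule.subset_span
    refine ⟨⟨Finsupp.single ⟨y, Set.mem_univ y⟩ 1, ?_⟩, ?_⟩
    · intro i
      classical
      rw [Finsupp.single_apply]
      split_ifs
      · exact hp.one_lt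
      · exact hp.pos
    · simp [redMon]
  have hL : EGA41.IsPIndependent p k (Subtype.val : ↥(∅ : Set K) → K) := by
    rw [isPIndependent_iff]
    haveI : IsEmpty (↥(∅ : Set K)) := Set.isEmpty_coe_sort.2 rfl
    haveI : Subsingleton (Red (↥(∅ : Set K)) p) := ⟨fun a b => Subtype.ext (Subsingleton.elim _ _)⟩
    rw [linearIndependent_iff']
    intro s g hg e he
    have hse : s = {e} := by
      ext e'
      simp [Subsingleton.elim e' e, he]
    rw [hse, Finset.sum_singleton] at hg
    have h1 : redMon p (Subtype.val : ↥(∅ : Set K) → K) e = 1 := by
      have : e.1 = 0 := Subsingleton.elim _ _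
      simp [redMon, this]
    rw [h1, Algebra.smul_def, mul_one] at hg
    exact Subtype.ext hg
  obtain ⟨B, -, -, hB⟩ := Groth.Agent.S2467.result p (k := k) (K := K) Set.univ ∅
    (Set.empty_subset _) hS hL
  exact ⟨B, hB⟩

/-- A field of characteristic `p` is formally smooth over any perfect subfield. -/
theorem formallySmooth_of_perfectRing (p : ℕ) [Fact p.Prime] {k K : Type u} [Field k] [Field K]
    [Algebra k K] [CharP k p] [PerfectRing k p] : Algebra.FormallySmooth k K := by
  haveI : CharP K p := charP_of_injective_algebraMap (algebraMap k K).injective p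
  obtain ⟨B, hB⟩ := exists_pBasis p (k := k) (K := K)
  exact (Groth.Agent.S4541.result p (A := k) (B := K) (Subtype.val : B → K) hB).1

/-- In characteristic zero every field extension is formally smooth. -/
theorem formallySmooth_of_charZero {k K : Type u} [Field k] [Field K] [Algebra k K] [CharZero k] :
    Algebra.FormallySmooth k K := by
  obtain ⟨s, hs⟩ := exists_isTranscendenceBasis k K
  haveI : Algebra.IsAlgebraic (IntermediateField.adjoin k (Set.range ((↑) : s → K))) K :=
    hs.isAlgebraic_field
  haveI : Algebra.IsSeparable (IntermediateField.adjoin k (Set.range ((↑) : s → K))) K :=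
    Algebra.IsAlgebraic.isSeparable_of_perfectField
  exact Algebra.FormallySmooth.of_algebraicIndependent_of_isSeparable hs.1

end Groth.Agent.Lib.Helper81.FieldSmooth
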