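import Mathlib

/-!
# A zero-dimensional Noetherian local ring formally smooth over a field is a field (helper81)

Let `P` be a field and `A` a Noetherian local `P`-algebra whose maximal ideal consists of nilpotent
elements.  If both `A` and its residue field are formally smooth over `P` (automatic for the
residue field when `P` is perfect) then `A` is a field.  This is the Artinian case of EGA 0_IV
19.6.4 ("formally smooth over a field implies regular"), proved by lifting a tangent vector to a
truncated polynomial ring.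
-/

set_option autoImplicit false

namespace Groth.Agent.Lib.Helper81.SmoothArtin

open IsLocalRing TrivSqZeroExt Polynomial
open scoped TensorProduct

section Trunc

variable (P L : Type*) [Field P] [Field L] [Algebra P L] (m : ℕ)

theorem eval₂_inl_inr (f : L[X]) :
    eval₂ (inlAlgHom P L L : L →+* TrivSqZeroExt L L) (inr 1) f =
      inl (f.coeff 0) + inr (f.coeff 1) := by
  induction f using Polynomial.induction_on' with
  | add f g hf hg =>
    rw [eval₂_add, hf, hg]
    ext <;> simp [add_comm]
  | monomial n a =>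
    rw [eval₂_monomial]
    rcases n with _ | _ | n
    · ext <;> simp [coeff_monomial]
    · ext <;> simp [coeff_monomial]
    · have h2 : (inr (1 : L) : TrivSqZeroExt L L) ^ (n + 1 + 1) = 0 := by
        rw [pow_succ, pow_succ, mul_assoc, inr_mul_inr, mul_zero]
      rw [h2, mul_zero]
      ext <;> simp [coeff_monomial]

/-- the truncation map `L[X]/(X^(m+2)) → L[ε]` -/
noncomputable def truncHom : AdjoinRoot (X ^ (m + 2) : L[X]) →ₐ[P] TrivSqZeroExt L L :=
  AdjoinRoot.liftAlgHom _ (inlAlgHom P L L) (inr 1) (by
    rw [eval₂_inl_inr]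
    ext <;> simp [coeff_X_pow])

theorem truncHom_mk (f : L[X]) :
    truncHom P L m (AdjoinRoot.mk _ f) = inl (f.coeff 0) + inr (f.coeff 1) := by
  rw [truncHom, AdjoinRoot.liftAlgHom_mk]
  exact eval₂_inl_inr P L f

theorem truncHom_surjective : Function.Surjective (truncHom P L m) := by
  intro t
  refine ⟨AdjoinRoot.mk _ (C t.fst + C t.snd * X), ?_⟩
  rw [truncHom_mk]
  ext <;> simp

theorem isNilpotent_ker_truncHom :
    IsNilpotent (RingHom.ker ((truncHom P L m : AdjoinRoot (X ^ (m + 2) : L[X]) →ₐ[P]
      TrivSqZeroExt L L) : AdjoinRoot (X ^ (m + 2) : L[X]) →+* TrivSqZeroExt L L)) := by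
  refine ⟨m + 2, ?_⟩
  have hle : RingHom.ker ((truncHom P L m : AdjoinRoot (X ^ (m + 2) : L[X]) →ₐ[P]
      TrivSqZeroExt L L) : AdjoinRoot (X ^ (m + 2) : L[X]) →+* TrivSqZeroExt L L) ≤
      Ideal.span {AdjoinRoot.root (X ^ (m + 2) : L[X])} := by
    intro z hz
    obtain ⟨f, rfl⟩ := AdjoinRoot.mk_surjective z
    rw [RingHom.mem_ker] at hz
    have hz' : truncHom P L m (AdjoinRoot.mk _ f) = 0 := hz
    rw [truncHom_mk] at hz'
    have h0 : f.coeff 0 = 0 := by
      have := congrArg fst hz'
      simpa using this
    obtain ⟨g, rfl⟩ := X_dvd_iff.2 h0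
    rw [map_mul, AdjoinRoot.mk_X]
    exact Ideal.mul_mem_right _ _ (Ideal.mem_span_singleton_self _)
  have h2 : Ideal.span {AdjoinRoot.root (X ^ (m + 2) : L[X])} ^ (m + 2) = ⊥ := by
    rw [Ideal.span_singleton_pow, ← AdjoinRoot.mk_X, ← map_pow, AdjoinRoot.mk_self,
      Ideal.span_singleton_eq_bot]
  exact le_bot_iff.1 (h2 ▸ Ideal.pow_right_mono hle (m + 2))

end Trunc

section Local

variable {P A : Type*} [Field P] [CommRing A] [IsLocalRing A] [Algebra P A]

/-- A tangent vector: for `x ∈ 𝔪 ∖ 𝔪²` there is a `P`-derivation `A → κ` with value `1` at `x`. -/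
theorem exists_derivation_eq_one [Algebra.FormallySmooth P A]
    [Algebra.FormallySmooth P (ResidueField A)] {x : A} (hx : x ∈ maximalIdeal A)
    (hx2 : x ∉ maximalIdeal A ^ 2) : ∃ δ : Derivation P A (ResidueField A), δ x = 1 := by
  have hsurj : Function.Surjective (algebraMap A (ResidueField A)) := residue_surjective
  obtain ⟨l, hl⟩ := (Algebra.FormallySmooth.iff_split_injection (R := P) (P := A)
    (A := ResidueField A) hsurj).1 inferInstance
  have hker : RingHom.ker (algebraMap A (ResidueField A)) = maximalIdeal A := ker_residue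
  let x' : RingHom.ker (algebraMap A (ResidueField A)) := ⟨x, hker ▸ hx⟩
  have h1 : (RingHom.ker (algebraMap A (ResidueField A))).toCotangent x' ≠ 0 := by
    intro h
    apply hx2
    rw [← hker]
    exact (Ideal.toCotangent_eq_zero _ _).1 h
  have h2 : (1 : ResidueField A) ⊗ₜ[A] KaehlerDifferential.D P A x ≠ 0 := by
    intro h0
    apply h1
    have h3 : l (KaehlerDifferential.kerCotangentToTensor P A (ResidueField A)
        ((RingHom.ker (algebraMap A (ResidueField A))).toCotangent x')) =
        (RingHom.ker (algebraMap A (ResidueField A))).toCotangent x' := LinearMap.congr_fun hl _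
    rw [KaehlerDifferential.kerCotangentToTensor_toCotangent] at h3
    rw [← h3]
    show l ((1 : ResidueField A) ⊗ₜ[A] KaehlerDifferential.D P A x) = 0
    rw [h0, map_zero]
  obtain ⟨θ, hθ⟩ := Module.Projective.exists_dual_eq_one (ResidueField A) h2
  let D' : Derivation P A (ResidueField A ⊗[A] Ω[A⁄P]) :=
    (TensorProduct.mk A (ResidueField A) Ω[A⁄P] 1).compDer (KaehlerDifferential.D P A)
  refine ⟨(θ.restrictScalars A).compDer D', ?_⟩
  exact hθ

/-- the algebra map `a ↦ (ā, δ a)` into the dual numbers over the residue field -/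
noncomputable def toTsze (δ : Derivation P A (ResidueField A)) :
    A →ₐ[P] TrivSqZeroExt (ResidueField A) (ResidueField A) where
  toFun a := inl (residue A a) + inr (δ a)
  map_one' := by ext <;> simp
  map_mul' a b := by
    ext
    · simp
    · simp only [snd_add, snd_inl, snd_inr, zero_add, snd_mul, fst_add, fst_inl, fst_inr, add_zero,
        Derivation.leibniz, op_smul_eq_smul, smul_eq_mul, Algebra.smul_def,
        ResidueField.algebraMap_eq]
  map_zero' := by ext <;> simp
  map_add' a b := by
    ext
    · simp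
    · simp [add_comm]
  commutes' r := by
    ext
    · simp only [fst_add, fst_inl, fst_inr, add_zero, algebraMap_eq_inl']
      rfl
    · simp [algebraMap_eq_inl']

@[simp] theorem toTsze_apply (δ : Derivation P A (ResidueField A)) (a : A) :
    toTsze δ a = inl (residue A a) + inr (δ a) := rfl

/-- **Main lemma.** A Noetherian local ring with nil maximal ideal, formally smooth over a field
`P` together with its residue field, is a field. -/
theorem maximalIdeal_eq_bot [IsNoetherianRing A] [Algebra.FormallySmooth P A]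
    [Algebra.FormallySmooth P (ResidueField A)]
    (hnil : ∀ x ∈ maximalIdeal A, IsNilpotent x) : maximalIdeal A = ⊥ := by
  by_contra hne
  have hnle : ¬ maximalIdeal A ≤ maximalIdeal A ^ 2 := by
    intro hle
    apply hne
    refine Submodule.eq_bot_of_le_smul_of_le_jacobson_bot (maximalIdeal A) (maximalIdeal A)
      (IsNoetherian.noetherian _) ?_ ?_
    · rwa [smul_eq_mul, ← pow_two]
    · rw [jacobson_eq_maximalIdeal ⊥ bot_ne_top]
  obtain ⟨x, hx, hx2⟩ := SetLike.not_le_iff_exists.1 hnle
  obtain ⟨δ, hδ⟩ := exists_derivation_eq_one (P := P) hx hx2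
  obtain ⟨m, hm⟩ := hnil x hx
  have hm' : x ^ (m + 1) = 0 := by rw [pow_succ, hm, zero_mul]
  set L := ResidueField A
  let φ := Algebra.FormallySmooth.liftOfSurjective (toTsze δ) (truncHom P L m)
    (truncHom_surjective P L m) (isNilpotent_ker_truncHom P L m)
  have hφ : truncHom P L m (φ x) = toTsze δ x :=
    Algebra.FormallySmooth.liftOfSurjective_apply _ _ _ _ x
  obtain ⟨f, hf⟩ := AdjoinRoot.mk_surjective (φ x)
  rw [← hf, truncHom_mk, toTsze_apply, hδ, (residue_eq_zero_iff x).2 hx] at hφ
  have h0 : f.coeff 0 = 0 := by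
    have := congrArg fst hφ
    simpa using this
  have h1 : f.coeff 1 = 1 := by
    have := congrArg snd hφ
    simpa using this
  have h3 : (AdjoinRoot.mk (X ^ (m + 2) : L[X]) f) ^ (m + 1) = 0 := by
    rw [hf, ← map_pow, hm', map_zero]
  rw [← map_pow, AdjoinRoot.mk_eq_zero] at h3
  obtain ⟨h, rfl⟩ := X_dvd_iff.2 h0
  have hh : h.coeff 0 = 1 := by simpa [coeff_X_mul] using h1
  rw [mul_pow, pow_succ X (m + 1)] at h3
  have h4 := (mul_dvd_mul_iff_left (pow_ne_zero (m + 1) (X_ne_zero (R := L)))).1 h3
  rw [X_dvd_iff, coeff_zero_eq_eval_zero, eval_pow, ← coeff_zero_eq_eval_zero, hh, one_pow] at h4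
  exact one_ne_zero (α := ResidueField A) h4

end Local

end Groth.Agent.Lib.Helper81.SmoothArtin
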