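import Mathlib
import Groth.Agent.Lib.Helper81.FieldSmooth
import Groth.Agent.Lib.Helper81.SmoothArtin

/-!
# Flat formally smooth maps of Artinian local rings preserve length (helper81)

* `formallySmooth_zmod`, `formallySmooth_rat`: every field is formally smooth over its prime field
  (`ZMod p` resp. `ℚ`), in any universe.
* `isMaximal_map_maximalIdeal`: for a formally smooth map `A → B` of Artinian local rings,
  `𝔪_A B` is the maximal ideal of `B`.
-/

set_option autoImplicit false
universe u v w

namespace Groth.Agent.Lib.Helper81.FieldSmooth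

open Groth.Agent.Lib.Helper81.SmoothArtin IsLocalRing
open scoped TensorProduct

/-- every field of characteristic `p` is formally smooth over `ZMod p` -/
theorem formallySmooth_zmod (p : ℕ) [Fact p.Prime] (K : Type w) [Field K] [Algebra (ZMod p) K] :
    Algebra.FormallySmooth (ZMod p) K := by
  let P' : IntermediateField (ZMod p) K := ⊥
  haveI : Finite P' := Finite.of_equiv _ (IntermediateField.botEquiv (ZMod p) K).symm.toEquiv
  haveI : CharP P' p := charP_of_injective_algebraMap (algebraMap (ZMod p) P').injective p
  haveI : PerfectRing P' p := PerfectRing.ofFiniteOfIsReduced p _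
  haveI : Algebra.FormallySmooth P' K := formallySmooth_of_perfectRing p
  haveI : Algebra.FormallySmooth (ZMod p) P' :=
    Algebra.FormallySmooth.of_equiv (IntermediateField.botEquiv (ZMod p) K).symm
  exact Algebra.FormallySmooth.comp (ZMod p) P' K

/-- In characteristic zero every field extension is formally smooth (universe polymorphic). -/
theorem formallySmooth_of_charZero' {k : Type u} {K : Type v} [Field k] [Field K] [Algebra k K]
    [CharZero k] : Algebra.FormallySmooth k K := by
  obtain ⟨s, hs⟩ := exists_isTranscendenceBasis k K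
  haveI : Algebra.IsAlgebraic (IntermediateField.adjoin k (Set.range ((↑) : s → K))) K :=
    hs.isAlgebraic_field
  haveI : Algebra.IsSeparable (IntermediateField.adjoin k (Set.range ((↑) : s → K))) K :=
    Algebra.IsAlgebraic.isSeparable_of_perfectField
  exact Algebra.FormallySmooth.of_algebraicIndependent_of_isSeparable hs.1

section Artin

variable {A : Type u} {B : Type v} [CommRing A] [CommRing B] [IsLocalRing A] [IsLocalRing B]
  [IsArtinianRing A] [IsArtinianRing B] [Algebra A B]

theorem isNilpotent_of_mem_maximalIdeal {R : Type*} [CommRing R] [IsLocalRing R] [IsArtinianRing R]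
    {x : R} (hx : x ∈ maximalIdeal R) : IsNilpotent x := by
  obtain ⟨n, hn⟩ := IsArtinianRing.isNilpotent_jacobson_bot (R := R)
  rw [IsLocalRing.jacobson_eq_maximalIdeal ⊥ bot_ne_top] at hn
  refine ⟨n, ?_⟩
  have := Ideal.pow_mem_pow hx n
  rw [hn] at this
  exact this

/-- a ring map between Artinian local rings is local -/
theorem map_maximalIdeal_le : (maximalIdeal A).map (algebraMap A B) ≤ maximalIdeal B := by
  rw [Ideal.map_le_iff_le_comap]
  intro a ha
  rw [Ideal.mem_comap, mem_maximalIdeal, mem_nonunits_iff]
  intro hu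
  obtain ⟨n, hn⟩ := isNilpotent_of_mem_maximalIdeal ha
  have h0 : (algebraMap A B a) ^ n = 0 := by rw [← map_pow, hn, map_zero]
  exact not_isUnit_zero (h0 ▸ hu.pow n)

/-- the core argument, relative to a field `P` over which all residue fields are formally
smooth -/
theorem isField_quotient_aux (P : Type w) [Field P] [Algebra.FormallySmooth A B]
    [Algebra P (A ⧸ maximalIdeal A)] [Algebra.FormallySmooth P (A ⧸ maximalIdeal A)]
    (h : ∀ [Algebra P (B ⧸ (maximalIdeal A).map (algebraMap A B))]
      [IsLocalRing (B ⧸ (maximalIdeal A).map (algebraMap A B))],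
      Algebra.FormallySmooth P (ResidueField (B ⧸ (maximalIdeal A).map (algebraMap A B)))) :
    IsField (B ⧸ (maximalIdeal A).map (algebraMap A B)) := by
  have hIle : (maximalIdeal A).map (algebraMap A B) ≤ maximalIdeal B := map_maximalIdeal_le
  have hIne : (maximalIdeal A).map (algebraMap A B) ≠ ⊤ :=
    fun h => (maximalIdeal.isMaximal B).ne_top (top_le_iff.1 (h ▸ hIle))
  haveI : Nontrivial (B ⧸ (maximalIdeal A).map (algebraMap A B)) :=
    Ideal.Quotient.nontrivial_iff.2 hIne
  haveI : IsLocalRing (B ⧸ (maximalIdeal A).map (algebraMap A B)) :=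
    IsLocalRing.of_surjective' (Ideal.Quotient.mk _) Ideal.Quotient.mk_surjective
  haveI : Algebra.FormallySmooth (A ⧸ maximalIdeal A)
      (B ⧸ (maximalIdeal A).map (algebraMap A B)) :=
    Algebra.FormallySmooth.of_equiv
      (Algebra.TensorProduct.quotIdealMapEquivQuotTensor B (maximalIdeal A)).symm
  letI : Algebra P (B ⧸ (maximalIdeal A).map (algebraMap A B)) :=
    ((algebraMap (A ⧸ maximalIdeal A) (B ⧸ (maximalIdeal A).map (algebraMap A B))).comp
      (algebraMap P (A ⧸ maximalIdeal A))).toAlgebra
  haveI : IsScalarTower P (A ⧸ maximalIdeal A) (B ⧸ (maximalIdeal A).map (algebraMap A B)) :=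
    IsScalarTower.of_algebraMap_eq (fun _ => rfl)
  haveI : Algebra.FormallySmooth P (B ⧸ (maximalIdeal A).map (algebraMap A B)) :=
    Algebra.FormallySmooth.comp P (A ⧸ maximalIdeal A) _
  haveI : Algebra.FormallySmooth P
      (ResidueField (B ⧸ (maximalIdeal A).map (algebraMap A B))) := h
  have hbot := maximalIdeal_eq_bot (P := P) (A := B ⧸ (maximalIdeal A).map (algebraMap A B))
    (fun x hx => isNilpotent_of_mem_maximalIdeal hx)
  exact IsLocalRing.isField_iff_maximalIdeal_eq.2 hbot

/-- **Formally smooth maps of Artinian local rings have trivial closed fibre**: `𝔪_A B` is the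
maximal ideal of `B`. -/
theorem isField_quotient_map_maximalIdeal [Algebra.FormallySmooth A B] :
    IsField (B ⧸ (maximalIdeal A).map (algebraMap A B)) := by
  letI : Field (A ⧸ maximalIdeal A) := Ideal.Quotient.field (maximalIdeal A)
  rcases CharP.exists' (A ⧸ maximalIdeal A) with h0 | ⟨p, hp, hpk⟩
  · haveI := h0
    haveI : Algebra.FormallySmooth ℚ (A ⧸ maximalIdeal A) := formallySmooth_of_charZero'
    exact isField_quotient_aux ℚ (fun {_ _} => formallySmooth_of_charZero')
  · haveI := hp
    haveI := hpk
    letI : Algebra (ZMod p) (A ⧸ maximalIdeal A) := ZMod.algebra _ p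
    haveI : Algebra.FormallySmooth (ZMod p) (A ⧸ maximalIdeal A) := formallySmooth_zmod p _
    exact isField_quotient_aux (ZMod p) (fun {_ _} => formallySmooth_zmod p _)

theorem map_maximalIdeal_eq [Algebra.FormallySmooth A B] :
    (maximalIdeal A).map (algebraMap A B) = maximalIdeal B :=
  IsLocalRing.eq_maximalIdeal (Ideal.Quotient.maximal_of_isField _ isField_quotient_map_maximalIdeal)

end Artin

end Groth.Agent.Lib.Helper81.FieldSmooth
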