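import Mathlib
import Groth.Agent.S9455

/-!
# Lifting maps out of a Cohen ring (helper81)

`Λ` a Cohen ring: complete DVR with maximal ideal `(p)`.

* `exists_lift_nilpotent`: ring maps `Λ → T/N` lift to `Λ → T` if `N` is nilpotent and `p` is
  nilpotent in `T`.
* `exists_lift_complete`: ring maps `Λ → C/I` lift to `Λ → C` if `C` is `I`-adically complete
  and `p ∈ I`.
-/

set_option autoImplicit false
universe u v

namespace Groth.Agent.Lib.Helper81.CohenLift

open IsLocalRing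

variable {Λ : Type u} [CommRing Λ] [IsDomain Λ] [IsDiscreteValuationRing Λ]
  [IsAdicComplete (maximalIdeal Λ) Λ] {p : ℕ}

include Λ in
theorem exists_lift_nilpotent (hp : p.Prime) (hm : maximalIdeal Λ = Ideal.span {(p : Λ)})
    {T : Type v} [CommRing T] (N : Ideal T) (hN : IsNilpotent N) (k : ℕ)
    (hk : (p : T) ^ k = 0) (g : Λ →+* T ⧸ N) :
    ∃ g' : Λ →+* T, (Ideal.Quotient.mk N).comp g' = g := by
  classical
  -- WLOG `k ≥ 1`
  obtain ⟨n, hn1, hn⟩ : ∃ n : ℕ, 1 ≤ n ∧ (p : T) ^ n = 0 :=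
    ⟨k + 1, Nat.le_add_left 1 k, by rw [pow_succ, hk, zero_mul]⟩
  -- `T` is a `ZMod (p ^ n)`-algebra
  have hdvdT : ringChar T ∣ p ^ n := by
    apply ringChar.dvd
    rw [Nat.cast_pow]
    exact hn
  haveI := ringChar.charP T
  letI : Algebra (ZMod (p ^ n)) T := (ZMod.castHom hdvdT T).toAlgebra
  -- `Λ / p ^ n` is a `ZMod (p ^ n)`-algebra
  set Λn := Λ ⧸ Ideal.span {((p : Λ) ^ n)} with hΛn
  have hdvdΛ : ringChar Λn ∣ p ^ n := by
    apply ringChar.dvd
    rw [Nat.cast_pow, ← map_natCast (Ideal.Quotient.mk (Ideal.span {((p : Λ) ^ n)})), ← map_pow,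
      Ideal.Quotient.eq_zero_iff_mem]
    exact Ideal.mem_span_singleton_self _
  haveI := ringChar.charP Λn
  letI : Algebra (ZMod (p ^ n)) Λn := (ZMod.castHom hdvdΛ Λn).toAlgebra
  haveI : Algebra.FormallySmooth (ZMod (p ^ n)) Λn := Groth.Agent.S9455.result Λ p hp hm n hn1
  -- factor `g` through `Λn`
  let gb : Λn →+* T ⧸ N := Ideal.Quotient.lift _ g (by
    intro a ha
    obtain ⟨b, rfl⟩ := Ideal.mem_span_singleton'.1 ha
    rw [map_mul, map_pow, map_natCast, ← map_natCast (Ideal.Quotient.mk N), ← map_pow, hn, map_zero,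
      mul_zero])
  let ga : Λn →ₐ[ZMod (p ^ n)] T ⧸ N :=
    { gb with
      commutes' := fun r => by
        have : gb.comp (algebraMap (ZMod (p ^ n)) Λn) = algebraMap (ZMod (p ^ n)) (T ⧸ N) :=
          RingHom.ext_zmod _ _
        exact congrArg (fun φ => φ r) this }
  let l := Algebra.FormallySmooth.lift N hN ga
  refine ⟨(l : Λn →+* T).comp (Ideal.Quotient.mk _), ?_⟩
  ext a
  have := Algebra.FormallySmooth.mk_lift N hN ga (Ideal.Quotient.mk _ a)
  simp only [RingHom.comp_apply]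
  exact this

/-- one step of the lifting: from `C / I^(n+1)` to `C / I^(n+2)`. -/
theorem exists_lift_step (hp : p.Prime) (hm : maximalIdeal Λ = Ideal.span {(p : Λ)})
    {C : Type v} [CommRing C] (I : Ideal C) (hpI : (p : C) ∈ I) (n : ℕ)
    (f : Λ →+* C ⧸ I ^ (n + 1)) :
    ∃ f' : Λ →+* C ⧸ I ^ (n + 1 + 1),
      (Ideal.Quotient.factorPow I (Nat.le_succ (n + 1))).comp f' = f := by
  classical
  set T := C ⧸ I ^ (n + 1 + 1) with hT
  let π : T →+* C ⧸ I ^ (n + 1) := Ideal.Quotient.factorPow I (Nat.le_succ (n + 1))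
  have hπ : Function.Surjective π := Ideal.Quotient.factor_surjective _
  set N : Ideal T := RingHom.ker π with hN
  have hNnil : IsNilpotent N := by
    refine ⟨n + 1 + 1, ?_⟩
    have h1 : N ≤ I.map (Ideal.Quotient.mk (I ^ (n + 1 + 1))) := by
      rw [hN, Ideal.Quotient.factor_ker]
      exact Ideal.map_mono (Ideal.pow_le_self (Nat.succ_ne_zero n))
    rw [Ideal.zero_eq_bot, eq_bot_iff]
    refine (Ideal.pow_right_mono h1 _).trans ?_
    rw [← Ideal.map_pow, Ideal.map_quotient_self]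
  have hpT : (p : T) ^ (n + 1 + 1) = 0 := by
    rw [← map_natCast (Ideal.Quotient.mk (I ^ (n + 1 + 1))), ← map_pow,
      Ideal.Quotient.eq_zero_iff_mem]
    exact Ideal.pow_mem_pow hpI _
  let e : (T ⧸ N) ≃+* (C ⧸ I ^ (n + 1)) := RingHom.quotientKerEquivOfSurjective hπ
  obtain ⟨g', hg'⟩ := exists_lift_nilpotent hp hm N hNnil (n + 1 + 1) hpT
    ((e.symm : (C ⧸ I ^ (n + 1)) →+* (T ⧸ N)).comp f)
  refine ⟨g', ?_⟩
  ext a
  have h1 := congrArg (fun φ : Λ →+* T ⧸ N => e (φ a)) hg'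
  simp only [RingHom.comp_apply, RingHom.coe_coe, RingEquiv.apply_symm_apply] at h1
  rw [← h1]
  rfl

/-- the compatible sequence of lifts. -/
noncomputable def liftSeq (hp : p.Prime) (hm : maximalIdeal Λ = Ideal.span {(p : Λ)})
    {C : Type v} [CommRing C] (I : Ideal C) (hpI : (p : C) ∈ I) (u : Λ →+* C ⧸ I) :
    (n : ℕ) → Λ →+* C ⧸ I ^ (n + 1)
  | 0 => ((Ideal.quotEquivOfEq (by rw [zero_add, pow_one] : I = I ^ (0 + 1))) :
      (C ⧸ I) →+* (C ⧸ I ^ (0 + 1))).comp u
  | n + 1 => Classical.choose (exists_lift_step hp hm I hpI n (liftSeq hp hm I hpI u n))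

theorem liftSeq_succ (hp : p.Prime) (hm : maximalIdeal Λ = Ideal.span {(p : Λ)})
    {C : Type v} [CommRing C] (I : Ideal C) (hpI : (p : C) ∈ I) (u : Λ →+* C ⧸ I) (n : ℕ) :
    (Ideal.Quotient.factorPow I (Nat.le_succ (n + 1))).comp (liftSeq hp hm I hpI u (n + 1)) =
      liftSeq hp hm I hpI u n :=
  Classical.choose_spec (exists_lift_step hp hm I hpI n (liftSeq hp hm I hpI u n))

/-- **Lifting from a Cohen ring to a complete ring.** -/
theorem exists_lift_complete (hp : p.Prime) (hm : maximalIdeal Λ = Ideal.span {(p : Λ)})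
    {C : Type v} [CommRing C] (I : Ideal C) [IsAdicComplete I C] (hpI : (p : C) ∈ I)
    (u : Λ →+* C ⧸ I) : ∃ v : Λ →+* C, (Ideal.Quotient.mk I).comp v = u := by
  have ha : StrictMono (fun n : ℕ => n + 1) := fun a b h => Nat.succ_lt_succ h
  let v := IsAdicComplete.StrictMono.liftRingHom I ha (liftSeq hp hm I hpI u)
    (fun {m} => liftSeq_succ hp hm I hpI u m)
  refine ⟨v, ?_⟩
  ext a
  have h1 : Ideal.Quotient.mk (I ^ (0 + 1)) (v a) = liftSeq hp hm I hpI u 0 a :=
    IsAdicComplete.StrictMono.mk_liftRingHom I ha (liftSeq hp hm I hpI u)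
      (fun {m} => liftSeq_succ hp hm I hpI u m) (n := 0) a
  obtain ⟨c, hc⟩ := Ideal.Quotient.mk_surjective (u a)
  have h2 : liftSeq hp hm I hpI u 0 a = Ideal.Quotient.mk (I ^ (0 + 1)) c := by
    change (Ideal.quotEquivOfEq (by rw [zero_add, pow_one] : I = I ^ (0 + 1))) (u a) = _
    rw [← hc]
    rfl
  rw [h2, Ideal.Quotient.eq] at h1
  rw [RingHom.comp_apply, ← hc, Ideal.Quotient.eq]
  rwa [zero_add, pow_one] at h1

end Groth.Agent.Lib.Helper81.CohenLift
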