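import Mathlib

/-!
# Flat local extensions with prescribed residue field: the simple algebraic step (helper81)

Setting: `R` a local ring, `K` a field which is an `R`-algebra with `ker (R → K) = 𝔪_R`.
A *good* `R`-algebra is an `R`-algebra `B` which is flat and integral over `R`, together with
an `R`-algebra map `ψ : B → K` whose kernel is `𝔪_R B`.

* `succ_step`: if `(B, ψ)` is good and `a : K` is integral over `R`, there is a monic `F : B[X]`
  and `ψ' : AdjoinRoot F → K` extending `ψ` with `ψ' (root F) = a` and `ker ψ' = 𝔪_R (AdjoinRoot F)`.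
-/

set_option autoImplicit false
universe u v w

namespace Groth.Agent.Lib.Helper81.ResidueExt

open IsLocalRing Polynomial

variable {R : Type v} {B : Type w} {K : Type u} [CommRing R] [IsLocalRing R] [CommRing B]
  [Algebra R B] [Field K] [Algebra R K]

/-- the kernel of `ψ` is a maximal ideal when `B` is integral over `R`. -/
theorem ker_isMaximal (hker : RingHom.ker (algebraMap R K) = maximalIdeal R)
    [Algebra.IsIntegral R B] (ψ : B →ₐ[R] K) : (RingHom.ker (ψ : B →+* K)).IsMaximal := by
  haveI : (RingHom.ker (ψ : B →+* K)).IsPrime := RingHom.ker_isPrime _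
  apply Ideal.isMaximal_of_isIntegral_of_isMaximal_comap (R := R)
  have : (RingHom.ker (ψ : B →+* K)).comap (algebraMap R B) = RingHom.ker (algebraMap R K) := by
    ext r
    simp only [Ideal.mem_comap, RingHom.mem_ker, RingHom.coe_coe, AlgHom.commutes]
  rw [this, hker]
  exact maximalIdeal.isMaximal R

theorem succ_step (hker : RingHom.ker (algebraMap R K) = maximalIdeal R)
    [Algebra.IsIntegral R B] (ψ : B →ₐ[R] K)
    (hψ : RingHom.ker (ψ : B →+* K) = (maximalIdeal R).map (algebraMap R B)) (a : K)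
    (ha : IsIntegral R a) :
    ∃ (F : B[X]) (ψ' : AdjoinRoot F →ₐ[R] K), F.Monic ∧ ψ' (AdjoinRoot.root F) = a ∧
      (∀ b, ψ' (AdjoinRoot.of F b) = ψ b) ∧
      RingHom.ker (ψ' : AdjoinRoot F →+* K) =
        (maximalIdeal R).map (algebraMap R (AdjoinRoot F)) := by
  classical
  set P : Ideal B := RingHom.ker (ψ : B →+* K) with hP
  haveI hPmax : P.IsMaximal := ker_isMaximal hker ψ
  letI : Field (B ⧸ P) := Ideal.Quotient.field P
  let ψb : (B ⧸ P) →+* K := Ideal.Quotient.lift P (ψ : B →+* K) (fun x hx => hx)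
  have hψb : ψb.comp (Ideal.Quotient.mk P) = (ψ : B →+* K) := by
    ext x; simp [ψb]
  letI : Algebra (B ⧸ P) K := ψb.toAlgebra
  haveI : IsScalarTower R (B ⧸ P) K := IsScalarTower.of_algebraMap_eq (fun r => by
    change algebraMap R K r = ψb (Ideal.Quotient.mk P (algebraMap R B r))
    rw [← RingHom.comp_apply, hψb]
    exact (ψ.commutes r).symm)
  have ha' : IsIntegral (B ⧸ P) a := ha.tower_top
  set f := minpoly (B ⧸ P) a with hf
  have hfmonic : f.Monic := minpoly.monic ha'
  obtain ⟨F, hFmap, -, hFmonic⟩ := Polynomial.lifts_and_degree_eq_and_monic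
    ((Polynomial.mem_lifts _).2 (Polynomial.map_surjective _ Ideal.Quotient.mk_surjective f)) hfmonic
  have hFa : F.eval₂ (ψ : B →+* K) a = 0 := by
    rw [← hψb, ← Polynomial.eval₂_map, hFmap]
    exact minpoly.aeval (B ⧸ P) a
  have hFa' : F.eval₂ (ψ : B →ₐ[R] K) a = 0 := hFa
  refine ⟨F, AdjoinRoot.liftAlgHom F ψ a hFa', hFmonic, AdjoinRoot.liftAlgHom_root _ _ _ _,
    fun b => AdjoinRoot.liftAlgHom_of _ _ _ _ _, ?_⟩
  apply le_antisymm
  · intro x hx
    induction x using AdjoinRoot.induction_on with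
    | ih G =>
    rw [RingHom.mem_ker] at hx
    have hx' : G.eval₂ (ψ : B →+* K) a = 0 := by
      have := AdjoinRoot.liftAlgHom_mk F ψ a hFa' G
      rw [← hx]
      exact this.symm
    have h1 : Polynomial.aeval a (G.map (Ideal.Quotient.mk P)) = 0 := by
      rw [Polynomial.aeval_def, Polynomial.eval₂_map]
      change G.eval₂ (ψb.comp (Ideal.Quotient.mk P)) a = 0
      rw [hψb]
      exact hx'
    obtain ⟨h, hh⟩ := minpoly.dvd (B ⧸ P) a h1
    obtain ⟨H, rfl⟩ := Polynomial.map_surjective _ Ideal.Quotient.mk_surjective h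
    set N := G - F * H with hN
    have hNmap : N.map (Ideal.Quotient.mk P) = 0 := by
      rw [hN, Polynomial.map_sub, Polynomial.map_mul, hFmap, hh, sub_self]
    have hNcoeff : ∀ i, N.coeff i ∈ P := by
      intro i
      have := congrArg (fun q => Polynomial.coeff q i) hNmap
      simpa [Polynomial.coeff_map, Ideal.Quotient.eq_zero_iff_mem] using this
    have hmk : AdjoinRoot.mk F G = AdjoinRoot.mk F N := by
      rw [AdjoinRoot.mk_eq_mk, hN]
      exact ⟨H, by ring⟩
    rw [hmk]
    have hNsum : AdjoinRoot.mk F N =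
        ∑ i ∈ N.support, AdjoinRoot.of F (N.coeff i) * AdjoinRoot.root F ^ i := by
      conv_lhs => rw [N.as_sum_support_C_mul_X_pow]
      rw [map_sum]
      refine Finset.sum_congr rfl fun i _ => ?_
      rw [map_mul, map_pow, AdjoinRoot.mk_C, AdjoinRoot.mk_X]
    rw [hNsum]
    refine Ideal.sum_mem _ fun i _ => Ideal.mul_mem_right _ _ ?_
    have h2 : N.coeff i ∈ (maximalIdeal R).map (algebraMap R B) := hψ ▸ hNcoeff i
    have h3 := Ideal.mem_map_of_mem (AdjoinRoot.of F) h2
    rwa [Ideal.map_map, ← AdjoinRoot.algebraMap_eq, ← IsScalarTower.algebraMap_eq] at h3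
  · rw [Ideal.map_le_iff_le_comap]
    intro r hr
    rw [Ideal.mem_comap, RingHom.mem_ker]
    change (AdjoinRoot.liftAlgHom F ψ a hFa') (algebraMap R (AdjoinRoot F) r) = 0
    rw [AlgHom.commutes]
    rw [← hker] at hr
    exact hr

end Groth.Agent.Lib.Helper81.ResidueExt
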