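import Mathlib
import Groth.Agent.Lib.Helper81.ResidueExtStep

/-!
# Flat local extensions with prescribed residue field: the integral case (helper81)

`R` a local ring, `K` a field which is an `R`-algebra with `ker (R → K) = 𝔪_R`, integral over `R`.
We construct, via Zorn's lemma on quotients of polynomial rings `R[Y_i : i ∈ I]`, `I ⊆ K`,
an `R`-algebra `B`, flat and integral over `R`, with a surjection `ψ : B → K` with kernel `𝔪_R B`.
-/

set_option autoImplicit false
universe u v w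

namespace Groth.Agent.Lib.Helper81.ResidueExt

open IsLocalRing MvPolynomial

variable (R : Type v) (K : Type u) [CommRing R] [IsLocalRing R] [Field K] [Algebra R K]

/-- evaluation `Y_i ↦ i`. -/
noncomputable def ev (I : Set K) : MvPolynomial I R →ₐ[R] K :=
  MvPolynomial.aeval (fun i : I => (i : K))

variable {K} in
/-- renaming along an inclusion of subsets. -/
noncomputable def ren {I I' : Set K} (h : I ⊆ I') : MvPolynomial I R →ₐ[R] MvPolynomial I' R :=
  MvPolynomial.rename (Set.inclusion h)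

variable {R K}

theorem ren_ren {I I' I'' : Set K} (h : I ⊆ I') (h' : I' ⊆ I'') (p : MvPolynomial I R) :
    ren R h' (ren R h p) = ren R (h.trans h') p := by
  unfold ren
  rw [MvPolynomial.rename_rename]
  rfl

theorem ren_self {I : Set K} (h : I ⊆ I) (p : MvPolynomial I R) : ren R h p = p := by
  unfold ren
  have : Set.inclusion h = id := by
    funext x
    rfl
  rw [this, MvPolynomial.rename_id_apply]

theorem ren_injective {I I' : Set K} (h : I ⊆ I') : Function.Injective (ren R h) :=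
  MvPolynomial.rename_injective _ (Set.inclusion_injective h)

theorem ev_ren {I I' : Set K} (h : I ⊆ I') (p : MvPolynomial I R) :
    ev R K I' (ren R h p) = ev R K I p := by
  unfold ev ren
  rw [MvPolynomial.aeval_rename]
  rfl

theorem ren_mem_map_maximalIdeal {I I' : Set K} (h : I ⊆ I') {p : MvPolynomial I R}
    (hp : p ∈ (maximalIdeal R).map (algebraMap R (MvPolynomial I R))) :
    ren R h p ∈ (maximalIdeal R).map (algebraMap R (MvPolynomial I' R)) := by
  have h1 := Ideal.mem_map_of_mem (ren R h : MvPolynomial I R →+* MvPolynomial I' R) hp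
  rw [Ideal.map_map, (ren R h).comp_algebraMap] at h1
  exact h1

variable (R K)

/-- the objects for Zorn's lemma. -/
structure Obj where
  I : Set K
  J : Ideal (MvPolynomial I R)
  le_ker : J ≤ RingHom.ker (ev R K I : MvPolynomial I R →+* K)
  ker_le : RingHom.ker (ev R K I : MvPolynomial I R →+* K) ≤
    J ⊔ (maximalIdeal R).map (algebraMap R (MvPolynomial I R))
  flat : Module.Flat R (MvPolynomial I R ⧸ J)
  integral : Algebra.IsIntegral R (MvPolynomial I R ⧸ J)

variable {R K}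

instance : Preorder (Obj R K) where
  le x y := ∃ h : x.I ⊆ y.I, ∀ p ∈ x.J, ren R h p ∈ y.J
  le_refl x := ⟨subset_rfl, fun p hp => by rwa [ren_self]⟩
  le_trans x y z := by
    rintro ⟨h, hJ⟩ ⟨h', hJ'⟩
    exact ⟨h.trans h', fun p hp => by rw [← ren_ren h h']; exact hJ' _ (hJ _ hp)⟩

theorem Obj.le_def {x y : Obj R K} : x ≤ y ↔ ∃ h : x.I ⊆ y.I, ∀ p ∈ x.J, ren R h p ∈ y.J :=
  Iff.rfl

/-- the map on quotients induced by `x ≤ y`. -/
noncomputable def Obj.quotMap {x y : Obj R K} (h : x.I ⊆ y.I) (hJ : ∀ p ∈ x.J, ren R h p ∈ y.J) :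
    (MvPolynomial x.I R ⧸ x.J) →ₐ[R] (MvPolynomial y.I R ⧸ y.J) :=
  Ideal.quotientMapₐ y.J (ren R h) (fun p hp => hJ p hp)

theorem Obj.quotMap_mk {x y : Obj R K} (h : x.I ⊆ y.I) (hJ : ∀ p ∈ x.J, ren R h p ∈ y.J)
    (p : MvPolynomial x.I R) :
    Obj.quotMap h hJ (Ideal.Quotient.mk x.J p) = Ideal.Quotient.mk y.J (ren R h p) := rfl

section Chain

variable (c : Set (Obj R K)) (hc : IsChain (· ≤ ·) c) (hne : c.Nonempty)

/-- the union of the index sets. -/
def unionI : Set K := ⋃ x ∈ c, x.I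

theorem sub_unionI {x : Obj R K} (hx : x ∈ c) : x.I ⊆ unionI c :=
  Set.subset_biUnion_of_mem hx

include hc in
theorem directed {x y : Obj R K} (hx : x ∈ c) (hy : y ∈ c) : ∃ z ∈ c, x ≤ z ∧ y ≤ z := by
  rcases hc.total hx hy with h | h
  · exact ⟨y, hy, h, le_rfl⟩
  · exact ⟨x, hx, le_rfl, h⟩

include hc hne in
theorem exists_stage_finset (s : Finset (unionI c)) :
    ∃ z ∈ c, ∀ i ∈ s, (i : K) ∈ z.I := by
  classical
  induction s using Finset.induction_on with
  | empty =>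
    obtain ⟨z, hz⟩ := hne
    exact ⟨z, hz, by simp⟩
  | insert i s _ ih =>
    obtain ⟨z, hz, hzs⟩ := ih
    obtain ⟨x, hx, hix⟩ : ∃ x ∈ c, (i : K) ∈ x.I := by
      have := i.2
      simp only [unionI, Set.mem_iUnion, exists_prop] at this
      exact this
    obtain ⟨w, hw, hxw, hzw⟩ := directed c hc hx hz
    refine ⟨w, hw, fun j hj => ?_⟩
    rcases Finset.mem_insert.1 hj with rfl | hj
    · exact hxw.1 hix
    · exact hzw.1 (hzs j hj)

include hc hne in
theorem exists_stage_fin {l : ℕ} (P : Fin l → MvPolynomial (unionI c) R) :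
    ∃ z, ∃ hz : z ∈ c, ∃ Q : Fin l → MvPolynomial z.I R, ∀ i, ren R (sub_unionI c hz) (Q i) = P i := by
  classical
  obtain ⟨z, hz, hzs⟩ := exists_stage_finset c hc hne (Finset.univ.biUnion fun i => (P i).vars)
  refine ⟨z, hz, ?_⟩
  have : ∀ i, ∃ q : MvPolynomial z.I R, ren R (sub_unionI c hz) q = P i := by
    intro i
    apply MvPolynomial.exists_rename_eq_of_vars_subset_range (P i) _
      (Set.inclusion_injective (sub_unionI c hz))
    intro j hj
    have hj' : j ∈ Finset.univ.biUnion fun i => (P i).vars :=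
      Finset.mem_biUnion.2 ⟨i, Finset.mem_univ _, hj⟩
    exact ⟨⟨j, hzs j hj'⟩, rfl⟩
  choose Q hQ using this
  exact ⟨Q, hQ⟩

include hc hne in
theorem exists_stage (P : MvPolynomial (unionI c) R) :
    ∃ z, ∃ hz : z ∈ c, ∃ Q : MvPolynomial z.I R, ren R (sub_unionI c hz) Q = P := by
  obtain ⟨z, hz, Q, hQ⟩ := exists_stage_fin c hc hne (fun _ : Fin 1 => P)
  exact ⟨z, hz, Q 0, hQ 0⟩

/-- the union of the ideals. -/
def unionJ : Ideal (MvPolynomial (unionI c) R) where
  carrier := {P | ∃ x, ∃ hx : x ∈ c, ∃ Q ∈ x.J, ren R (sub_unionI c hx) Q = P}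
  zero_mem' := by
    obtain ⟨x, hx⟩ := hne
    exact ⟨x, hx, 0, x.J.zero_mem, map_zero _⟩
  add_mem' := by
    rintro _ _ ⟨x, hx, Q, hQ, rfl⟩ ⟨y, hy, Q', hQ', rfl⟩
    obtain ⟨z, hz, ⟨hxz, hJxz⟩, ⟨hyz, hJyz⟩⟩ := directed c hc hx hy
    refine ⟨z, hz, ren R hxz Q + ren R hyz Q', z.J.add_mem (hJxz _ hQ) (hJyz _ hQ'), ?_⟩
    rw [map_add, ren_ren, ren_ren]
  smul_mem' := by
    rintro a _ ⟨x, hx, Q, hQ, rfl⟩
    obtain ⟨y, hy, A, rfl⟩ := exists_stage c hc hne a
    obtain ⟨z, hz, ⟨hxz, hJxz⟩, ⟨hyz, hJyz⟩⟩ := directed c hc hx hy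
    refine ⟨z, hz, ren R hyz A * ren R hxz Q, z.J.mul_mem_left _ (hJxz _ hQ), ?_⟩
    rw [map_mul, ren_ren, ren_ren, smul_eq_mul]

theorem mem_unionJ {P : MvPolynomial (unionI c) R} :
    P ∈ unionJ c hc hne ↔ ∃ x, ∃ hx : x ∈ c, ∃ Q ∈ x.J, ren R (sub_unionI c hx) Q = P := Iff.rfl

/-- the structure map from a stage to the union. -/
noncomputable def toUnion {x : Obj R K} (hx : x ∈ c) :
    (MvPolynomial x.I R ⧸ x.J) →ₐ[R] (MvPolynomial (unionI c) R ⧸ unionJ c hc hne) :=
  Ideal.quotientMapₐ (unionJ c hc hne) (ren R (sub_unionI c hx))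
    (fun p hp => ⟨x, hx, p, hp, rfl⟩)

theorem toUnion_mk {x : Obj R K} (hx : x ∈ c) (p : MvPolynomial x.I R) :
    toUnion c hc hne hx (Ideal.Quotient.mk x.J p) =
      Ideal.Quotient.mk (unionJ c hc hne) (ren R (sub_unionI c hx) p) := rfl

theorem union_flat : Module.Flat R (MvPolynomial (unionI c) R ⧸ unionJ c hc hne) := by
  classical
  rw [Module.Flat.iff_forall_isTrivialRelation]
  intro l f x hfx
  choose P hP using fun i => Ideal.Quotient.mk_surjective (x i)
  obtain ⟨s, hs, Q, hQ⟩ := exists_stage_fin c hc hne P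
  have hmem : ∑ i, f i • P i ∈ unionJ c hc hne := by
    rw [← Ideal.Quotient.eq_zero_iff_mem, map_sum, ← hfx]
    refine Finset.sum_congr rfl fun i _ => ?_
    rw [← hP i]
    rfl
  obtain ⟨t, ht, Q', hQ', hQ'eq⟩ := hmem
  obtain ⟨z, hz, ⟨hsz, hJsz⟩, ⟨htz, hJtz⟩⟩ := directed c hc hs ht
  have hrel : ∑ i, f i • ren R hsz (Q i) = ren R htz Q' := by
    apply ren_injective (sub_unionI c hz)
    rw [ren_ren, hQ'eq, map_sum]
    refine Finset.sum_congr rfl fun i _ => ?_
    rw [map_smul, ren_ren, hQ i]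
  have hrel' : ∑ i, f i • (Ideal.Quotient.mk z.J (ren R hsz (Q i))) = 0 := by
    have : Ideal.Quotient.mk z.J (∑ i, f i • ren R hsz (Q i)) = 0 := by
      rw [hrel, Ideal.Quotient.eq_zero_iff_mem]
      exact hJtz _ hQ'
    rw [map_sum] at this
    rw [← this]
    rfl
  haveI := z.flat
  obtain ⟨k, a, y, hxy, hfa⟩ := Module.Flat.isTrivialRelation_of_sum_smul_eq_zero hrel'
  refine ⟨k, a, fun j => toUnion c hc hne hz (y j), fun i => ?_, hfa⟩
  have h1 : x i = toUnion c hc hne hz (Ideal.Quotient.mk z.J (ren R hsz (Q i))) := by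
    rw [toUnion_mk, ren_ren, hQ i, hP i]
  have h2 := hxy i
  beta_reduce at h2
  rw [h1, h2, map_sum]
  refine Finset.sum_congr rfl fun j _ => ?_
  rw [map_smul]

theorem union_integral :
    Algebra.IsIntegral R (MvPolynomial (unionI c) R ⧸ unionJ c hc hne) := by
  refine ⟨fun b => ?_⟩
  obtain ⟨P, rfl⟩ := Ideal.Quotient.mk_surjective b
  obtain ⟨z, hz, Q, rfl⟩ := exists_stage c hc hne P
  rw [← toUnion_mk]
  haveI := z.integral
  exact (Algebra.IsIntegral.isIntegral (R := R) (Ideal.Quotient.mk z.J Q)).map (toUnion c hc hne hz)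

/-- the upper bound of a nonempty chain. -/
noncomputable def unionObj : Obj R K where
  I := unionI c
  J := unionJ c hc hne
  le_ker := by
    rintro _ ⟨x, hx, Q, hQ, rfl⟩
    rw [RingHom.mem_ker]
    change ev R K _ (ren R _ Q) = 0
    rw [ev_ren]
    exact x.le_ker hQ
  ker_le := by
    intro P hP
    obtain ⟨z, hz, Q, rfl⟩ := exists_stage c hc hne P
    have hQ : Q ∈ RingHom.ker (ev R K z.I : MvPolynomial z.I R →+* K) := by
      rw [RingHom.mem_ker] at hP ⊢
      change ev R K _ (ren R _ Q) = 0 at hP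
      rwa [ev_ren] at hP
    obtain ⟨Q₁, hQ₁, Q₂, hQ₂, rfl⟩ := Submodule.mem_sup.1 (z.ker_le hQ)
    rw [map_add]
    refine Submodule.add_mem_sup ⟨z, hz, Q₁, hQ₁, rfl⟩ ?_
    exact ren_mem_map_maximalIdeal (sub_unionI c hz) hQ₂
  flat := union_flat c hc hne
  integral := union_integral c hc hne

theorem le_unionObj {x : Obj R K} (hx : x ∈ c) : x ≤ unionObj c hc hne :=
  ⟨sub_unionI c hx, fun p hp => ⟨x, hx, p, hp, rfl⟩⟩

end Chain

end Groth.Agent.Lib.Helper81.ResidueExt
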