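import Mathlib
import Groth.Agent.Lib.Helper81.ResidueExtZorn

/-!
# Flat local extensions with prescribed residue field: the integral case, main theorem (helper81)
-/

set_option autoImplicit false
universe u v w

namespace Groth.Agent.Lib.Helper81.ResidueExt

open IsLocalRing MvPolynomial

variable {R : Type v} {K : Type u} [CommRing R] [IsLocalRing R] [Field K] [Algebra R K]

/-- the base object: `I = ∅`, `J = ⊥`. -/
noncomputable def baseObj (hker : RingHom.ker (algebraMap R K) = maximalIdeal R) : Obj R K where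
  I := ∅
  J := ⊥
  le_ker := bot_le
  ker_le := by
    intro P hP
    obtain ⟨r, rfl⟩ := MvPolynomial.C_surjective (↥(∅ : Set K)) P
    rw [RingHom.mem_ker] at hP
    have hr : r ∈ maximalIdeal R := by
      rw [← hker, RingHom.mem_ker]
      have : ev R K ∅ (C r) = algebraMap R K r := by
        unfold ev
        rw [MvPolynomial.aeval_C]
      rw [← this]
      exact hP
    exact Ideal.mem_sup_right (Ideal.mem_map_of_mem _ hr)
  flat := Module.Flat.of_linearEquiv
    (AlgEquiv.quotientBot R (MvPolynomial (↥(∅ : Set K)) R)).toLinearEquiv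
  integral := by
    refine ⟨fun b => ?_⟩
    obtain ⟨P, rfl⟩ := Ideal.Quotient.mk_surjective b
    obtain ⟨r, rfl⟩ := MvPolynomial.C_surjective (↥(∅ : Set K)) P
    exact isIntegral_algebraMap (x := r)

/-- the map to `K` attached to an object. -/
noncomputable def Obj.ψ (x : Obj R K) : (MvPolynomial x.I R ⧸ x.J) →ₐ[R] K :=
  Ideal.Quotient.liftₐ x.J (ev R K x.I) (fun a ha => x.le_ker ha)

theorem Obj.ψ_mk (x : Obj R K) (p : MvPolynomial x.I R) :
    x.ψ (Ideal.Quotient.mk x.J p) = ev R K x.I p := rfl

theorem Obj.ker_ψ (hker : RingHom.ker (algebraMap R K) = maximalIdeal R) (x : Obj R K) :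
    RingHom.ker (x.ψ : (MvPolynomial x.I R ⧸ x.J) →+* K) =
      (maximalIdeal R).map (algebraMap R (MvPolynomial x.I R ⧸ x.J)) := by
  apply le_antisymm
  · intro b hb
    obtain ⟨P, rfl⟩ := Ideal.Quotient.mk_surjective b
    rw [RingHom.mem_ker] at hb
    have hP : P ∈ RingHom.ker (ev R K x.I : MvPolynomial x.I R →+* K) := hb
    obtain ⟨P₁, hP₁, P₂, hP₂, rfl⟩ := Submodule.mem_sup.1 (x.ker_le hP)
    rw [map_add, Ideal.Quotient.eq_zero_iff_mem.2 hP₁, zero_add]
    have h1 := Ideal.mem_map_of_mem (Ideal.Quotient.mk x.J) hP₂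
    rw [Ideal.map_map] at h1
    exact h1
  · rw [Ideal.map_le_iff_le_comap]
    intro r hr
    rw [Ideal.mem_comap, RingHom.mem_ker]
    change x.ψ (algebraMap R _ r) = 0
    rw [AlgHom.commutes]
    rw [← hker] at hr
    exact hr

section Succ

variable (hker : RingHom.ker (algebraMap R K) = maximalIdeal R) (x : Obj R K) (a : K)
  (F : Polynomial (MvPolynomial x.I R ⧸ x.J)) (ψ' : AdjoinRoot F →ₐ[R] K)

open Classical in
/-- the generators of `AdjoinRoot F`. -/
noncomputable def gens : ↥(insert a x.I) → AdjoinRoot F := fun j =>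
  if h : (j : K) ∈ x.I then AdjoinRoot.of F (Ideal.Quotient.mk x.J (X ⟨j, h⟩)) else AdjoinRoot.root F

/-- the presentation of `AdjoinRoot F`. -/
noncomputable def pres : MvPolynomial (↥(insert a x.I)) R →ₐ[R] AdjoinRoot F :=
  MvPolynomial.aeval (gens x a F)

theorem pres_ren (p : MvPolynomial x.I R) :
    pres x a F (ren R (Set.subset_insert a x.I) p) = AdjoinRoot.of F (Ideal.Quotient.mk x.J p) := by
  have h : (pres x a F).comp (ren R (Set.subset_insert a x.I)) =
      (IsScalarTower.toAlgHom R (MvPolynomial x.I R ⧸ x.J) (AdjoinRoot F)).comp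
        (Ideal.Quotient.mkₐ R x.J) := by
    apply MvPolynomial.algHom_ext
    intro i
    simp only [AlgHom.comp_apply]
    unfold ren pres
    rw [MvPolynomial.rename_X, MvPolynomial.aeval_X]
    unfold gens
    rw [dif_pos (by exact i.2)]
    rfl
  exact congrArg (fun φ => φ p) h

theorem pres_surjective (ha : a ∉ x.I) : Function.Surjective (pres x a F) := by
  classical
  intro z
  change z ∈ (pres x a F).range
  have hof : ∀ b, AdjoinRoot.of F b ∈ (pres x a F).range := by
    intro b
    obtain ⟨p, rfl⟩ := Ideal.Quotient.mk_surjective b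
    exact ⟨_, pres_ren x a F p⟩
  have hroot : AdjoinRoot.root F ∈ (pres x a F).range := by
    refine ⟨X ⟨a, Set.mem_insert a x.I⟩, ?_⟩
    change pres x a F (X ⟨a, Set.mem_insert a x.I⟩) = AdjoinRoot.root F
    unfold pres
    rw [MvPolynomial.aeval_X]
    unfold gens
    rw [dif_neg (by exact ha)]
  induction z using AdjoinRoot.induction_on with
  | ih G =>
  induction G using Polynomial.induction_on with
  | C b => rw [AdjoinRoot.mk_C]; exact hof b
  | add p q hp hq => rw [map_add]; exact Subalgebra.add_mem _ hp hq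
  | monomial n b h =>
    rw [pow_succ, ← mul_assoc, map_mul, AdjoinRoot.mk_X]
    exact Subalgebra.mul_mem _ h hroot

end Succ

section SuccObj

variable (hker : RingHom.ker (algebraMap R K) = maximalIdeal R) (x : Obj R K) (a : K)
  (ha : a ∉ x.I)
  (F : Polynomial (MvPolynomial x.I R ⧸ x.J)) (hF : F.Monic) (ψ' : AdjoinRoot F →ₐ[R] K)
  (hroot : ψ' (AdjoinRoot.root F) = a) (hof : ∀ b, ψ' (AdjoinRoot.of F b) = x.ψ b)
  (hker' : RingHom.ker (ψ' : AdjoinRoot F →+* K) =
    (maximalIdeal R).map (algebraMap R (AdjoinRoot F)))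

include hroot hof in
theorem ψ'_pres (p : MvPolynomial (↥(insert a x.I)) R) :
    ψ' (pres x a F p) = ev R K (insert a x.I) p := by
  classical
  have h : ψ'.comp (pres x a F) = ev R K (insert a x.I) := by
    apply MvPolynomial.algHom_ext
    intro j
    simp only [AlgHom.comp_apply]
    unfold pres ev
    rw [MvPolynomial.aeval_X, MvPolynomial.aeval_X]
    unfold gens
    by_cases hj : (j : K) ∈ x.I
    · rw [dif_pos hj, hof, Obj.ψ_mk]
      unfold ev
      rw [MvPolynomial.aeval_X]
    · rw [dif_neg hj, hroot]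
      rcases Set.mem_insert_iff.1 j.2 with h | h
      · exact h.symm
      · exact absurd h hj
  exact congrArg (fun φ => φ p) h

include ha hF hroot hof hker' in
/-- the successor object. -/
noncomputable def succObj : Obj R K where
  I := insert a x.I
  J := RingHom.ker (pres x a F : MvPolynomial (↥(insert a x.I)) R →+* AdjoinRoot F)
  le_ker := by
    intro p hp
    rw [RingHom.mem_ker] at hp ⊢
    change ev R K (insert a x.I) p = 0
    rw [← ψ'_pres x a F ψ' hroot hof p]
    have : pres x a F p = 0 := hp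
    rw [this, map_zero]
  ker_le := by
    intro p hp
    rw [RingHom.mem_ker] at hp
    have hp' : ev R K (insert a x.I) p = 0 := hp
    rw [← ψ'_pres x a F ψ' hroot hof p] at hp'
    have h1 : pres x a F p ∈ RingHom.ker (ψ' : AdjoinRoot F →+* K) := hp'
    rw [hker'] at h1
    have h2 : (maximalIdeal R).map (algebraMap R (AdjoinRoot F)) =
        ((maximalIdeal R).map (algebraMap R (MvPolynomial (↥(insert a x.I)) R))).map
          (pres x a F : MvPolynomial (↥(insert a x.I)) R →+* AdjoinRoot F) := by
      rw [Ideal.map_map, (pres x a F).comp_algebraMap]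
    rw [h2] at h1
    have h3 : p ∈ Ideal.comap (pres x a F : MvPolynomial (↥(insert a x.I)) R →+* AdjoinRoot F)
        (Ideal.map (pres x a F : MvPolynomial (↥(insert a x.I)) R →+* AdjoinRoot F)
          ((maximalIdeal R).map (algebraMap R (MvPolynomial (↥(insert a x.I)) R)))) := h1
    rw [Ideal.comap_map_of_surjective
      (pres x a F : MvPolynomial (↥(insert a x.I)) R →+* AdjoinRoot F)
      (pres_surjective x a F ha)] at h3
    rw [sup_comm]
    exact h3
  flat := by
    haveI := x.flat
    haveI : Module.Free (MvPolynomial x.I R ⧸ x.J) (AdjoinRoot F) := hF.free_adjoinRoot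
    haveI : Module.Flat R (AdjoinRoot F) := Module.Flat.trans R (MvPolynomial x.I R ⧸ x.J) _
    exact Module.Flat.of_linearEquiv
      (Ideal.quotientKerAlgEquivOfSurjective (pres_surjective x a F ha)).toLinearEquiv
  integral := by
    haveI := x.integral
    haveI : Module.Finite (MvPolynomial x.I R ⧸ x.J) (AdjoinRoot F) := hF.finite_adjoinRoot
    haveI : Algebra.IsIntegral R (AdjoinRoot F) :=
      Algebra.IsIntegral.trans (MvPolynomial x.I R ⧸ x.J)
    exact Algebra.IsIntegral.of_surjective
      (Ideal.quotientKerAlgEquivOfSurjective (pres_surjective x a F ha)).symm.toAlgHom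
      (Ideal.quotientKerAlgEquivOfSurjective (pres_surjective x a F ha)).symm.surjective

include ha hF hroot hof hker' in
theorem le_succObj : x ≤ succObj x a ha F hF ψ' hroot hof hker' := by
  refine ⟨Set.subset_insert a x.I, fun p hp => ?_⟩
  change ren R _ p ∈ RingHom.ker (pres x a F : MvPolynomial (↥(insert a x.I)) R →+* AdjoinRoot F)
  rw [RingHom.mem_ker]
  change pres x a F (ren R _ p) = 0
  rw [pres_ren, Ideal.Quotient.eq_zero_iff_mem.2 hp, map_zero]

end SuccObj

/-- **Main theorem, integral case.** -/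
theorem exists_flat_integral (hker : RingHom.ker (algebraMap R K) = maximalIdeal R)
    [Algebra.IsIntegral R K] :
    ∃ (B : Type (max u v)) (_ : CommRing B) (_ : Algebra R B) (ψ : B →ₐ[R] K),
      Module.Flat R B ∧ Algebra.IsIntegral R B ∧ Function.Surjective ψ ∧
      RingHom.ker (ψ : B →+* K) = (maximalIdeal R).map (algebraMap R B) := by
  classical
  haveI : Nonempty (Obj R K) := ⟨baseObj hker⟩
  obtain ⟨x, hx⟩ := zorn_le_nonempty (α := Obj R K) (fun c hc hne =>
    ⟨unionObj c hc hne, fun y hy => le_unionObj c hc hne hy⟩)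
  refine ⟨MvPolynomial x.I R ⧸ x.J, inferInstance, inferInstance, x.ψ, x.flat, x.integral, ?_,
    x.ker_ψ hker⟩
  by_contra hsurj
  obtain ⟨a, ha⟩ : ∃ a : K, a ∉ Set.range x.ψ := by
    by_contra h
    exact hsurj (fun a => by
      by_contra ha
      exact h ⟨a, ha⟩)
  have haI : a ∉ x.I := by
    intro h
    apply ha
    refine ⟨Ideal.Quotient.mk x.J (X ⟨a, h⟩), ?_⟩
    rw [Obj.ψ_mk]
    unfold ev
    rw [MvPolynomial.aeval_X]
  haveI := x.integral
  obtain ⟨F, ψ', hF, hroot, hof, hker'⟩ :=
    succ_step hker x.ψ (x.ker_ψ hker) a (Algebra.IsIntegral.isIntegral a)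
  have h1 := hx (le_succObj x a haI F hF ψ' hroot hof hker')
  obtain ⟨hsub, -⟩ := h1
  exact haI (hsub (Set.mem_insert a x.I))

end Groth.Agent.Lib.Helper81.ResidueExt
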