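import Mathlib
import Groth.Agent.Lib.Helper81.ResidueExtIntegral

/-!
# Flat local extensions with prescribed residue field (helper81)

EGA 0_III 10.3.1 / Stacks 0G1S without Noetherian hypotheses:
for a local ring `R` and a field `K` over its residue field, there is a flat local `R`-algebra `B`
with `𝔪_R B = 𝔪_B` and residue field `K`.

* `isLocalRing_of_ker_eq`, `maximalIdeal_eq_ker`: a good integral algebra is local.
* `exists_flat_local`: the general statement, in the form
  `∃ B ψ, Flat R B ∧ IsLocalRing B ∧ Surjective ψ ∧ ker ψ = 𝔪_R B`.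
-/

set_option autoImplicit false
universe u v w

namespace Groth.Agent.Lib.Helper81.ResidueExt

open IsLocalRing MvPolynomial

section Local

variable {R : Type v} {B : Type w} {K : Type u} [CommRing R] [IsLocalRing R] [CommRing B]
  [Algebra R B] [Field K] [Algebra R K]

theorem isLocalRing_of_ker_eq [Algebra.IsIntegral R B] (ψ : B →ₐ[R] K)
    (hsurj : Function.Surjective ψ)
    (hψ : RingHom.ker (ψ : B →+* K) = (maximalIdeal R).map (algebraMap R B)) : IsLocalRing B := by
  have hmax : (RingHom.ker (ψ : B →+* K)).IsMaximal :=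
    RingHom.ker_isMaximal_of_surjective (ψ : B →+* K) hsurj
  haveI : Nontrivial B := by
    refine ⟨⟨0, 1, fun h => ?_⟩⟩
    have := congrArg ψ h
    rw [map_zero, map_one] at this
    exact zero_ne_one this
  refine IsLocalRing.of_unique_max_ideal ⟨_, hmax, fun M hM => ?_⟩
  haveI := hM
  have h1 : (M.comap (algebraMap R B)).IsMaximal :=
    Ideal.isMaximal_comap_of_isIntegral_of_isMaximal (R := R) M
  have h2 : M.comap (algebraMap R B) = maximalIdeal R := IsLocalRing.eq_maximalIdeal h1
  have h3 : RingHom.ker (ψ : B →+* K) ≤ M := by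
    rw [hψ, Ideal.map_le_iff_le_comap, h2]
  exact (hmax.eq_of_le hM.ne_top h3).symm

theorem maximalIdeal_eq_ker [IsLocalRing B] (ψ : B →ₐ[R] K) (hsurj : Function.Surjective ψ) :
    maximalIdeal B = RingHom.ker (ψ : B →+* K) :=
  (IsLocalRing.eq_maximalIdeal (RingHom.ker_isMaximal_of_surjective (ψ : B →+* K) hsurj)).symm

end Local

section Transcendental

variable (R : Type v) [CommRing R] [IsLocalRing R] (K : Type u) [Field K] [Algebra R K]
  [Algebra (ResidueField R) K] [IsScalarTower R (ResidueField R) K]

include R in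
theorem ker_algebraMap_eq : RingHom.ker (algebraMap R K) = maximalIdeal R := by
  ext r
  rw [RingHom.mem_ker, IsScalarTower.algebraMap_apply R (ResidueField R) K,
    map_eq_zero_iff _ (algebraMap (ResidueField R) K).injective]
  exact IsLocalRing.residue_eq_zero_iff r

variable {K} in
/-- evaluation at a family of elements of `K`. -/
noncomputable def evT (T : Set K) : MvPolynomial T R →ₐ[R] K :=
  MvPolynomial.aeval (fun t : T => (t : K))

variable {K} in
theorem evT_eq (T : Set K) (p : MvPolynomial T R) :
    evT R T p = MvPolynomial.aeval (R := ResidueField R) (fun t : T => (t : K))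
      (MvPolynomial.map (algebraMap R (ResidueField R)) p) := by
  unfold evT
  rw [MvPolynomial.aeval_def, MvPolynomial.aeval_def, MvPolynomial.eval₂_map,
    ← IsScalarTower.algebraMap_eq]

variable {K} in
theorem ker_evT (T : Set K) (hT : AlgebraicIndependent (ResidueField R) ((↑) : T → K)) :
    RingHom.ker (evT R T : MvPolynomial T R →+* K) =
      (maximalIdeal R).map (algebraMap R (MvPolynomial T R)) := by
  apply le_antisymm
  · intro p hp
    rw [RingHom.mem_ker] at hp
    have hp' : evT R T p = 0 := hp
    rw [evT_eq] at hp'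
    have h0 : MvPolynomial.map (algebraMap R (ResidueField R)) p = 0 :=
      hT (by rw [hp', map_zero])
    rw [MvPolynomial.algebraMap_eq, MvPolynomial.mem_map_C_iff]
    intro m
    have := congrArg (MvPolynomial.coeff m) h0
    rw [MvPolynomial.coeff_map, MvPolynomial.coeff_zero] at this
    exact (IsLocalRing.residue_eq_zero_iff _).1 this
  · rw [Ideal.map_le_iff_le_comap]
    intro r hr
    rw [Ideal.mem_comap, RingHom.mem_ker]
    change evT R T (algebraMap R _ r) = 0
    rw [AlgHom.commutes]
    have := ker_algebraMap_eq R K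
    rw [← this] at hr
    exact hr

end Transcendental

section Main

variable (R : Type v) [CommRing R] [IsLocalRing R] (K : Type u) [Field K] [Algebra R K]
  [Algebra (ResidueField R) K] [IsScalarTower R (ResidueField R) K]

/-- **EGA 0_III 10.3.1 without Noetherian hypotheses.** -/
theorem exists_flat_local :
    ∃ (B : Type (max u v)) (_ : CommRing B) (_ : Algebra R B) (ψ : B →ₐ[R] K),
      Module.Flat R B ∧ IsLocalRing B ∧ Function.Surjective ψ ∧
      RingHom.ker (ψ : B →+* K) = (maximalIdeal R).map (algebraMap R B) := by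
  classical
  obtain ⟨T, hT⟩ := exists_isTranscendenceBasis (ResidueField R) K
  set e : MvPolynomial T R →ₐ[R] K := evT R T with he
  set 𝔭 : Ideal (MvPolynomial T R) := RingHom.ker (e : MvPolynomial T R →+* K) with h𝔭
  haveI : 𝔭.IsPrime := RingHom.ker_isPrime _
  have h𝔭eq : 𝔭 = (maximalIdeal R).map (algebraMap R (MvPolynomial T R)) := ker_evT R T hT.1
  let R₁ := Localization.AtPrime 𝔭
  have hunits : ∀ y : 𝔭.primeCompl, IsUnit ((e : MvPolynomial T R →+* K) y) := by
    intro y
    apply IsUnit.mk0
    intro h
    exact y.2 (RingHom.mem_ker.2 h)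
  let e₁ : R₁ →+* K := IsLocalization.lift (M := 𝔭.primeCompl) (S := R₁) hunits
  have he₁ : ∀ p : MvPolynomial T R, e₁ (algebraMap (MvPolynomial T R) R₁ p) = e p := fun p =>
    IsLocalization.lift_eq hunits p
  letI : Algebra R₁ K := e₁.toAlgebra
  haveI : IsScalarTower R R₁ K := IsScalarTower.of_algebraMap_eq (fun r => by
    change algebraMap R K r = e₁ (algebraMap R R₁ r)
    rw [IsScalarTower.algebraMap_apply R (MvPolynomial T R) R₁, he₁, AlgHom.commutes])
  -- the maximal ideal of `R₁`
  have hm₁ : maximalIdeal R₁ = (maximalIdeal R).map (algebraMap R R₁) := by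
    have h1 : Ideal.map (algebraMap (MvPolynomial T R) R₁) 𝔭 =
        Ideal.map (algebraMap (MvPolynomial T R) R₁)
          ((maximalIdeal R).map (algebraMap R (MvPolynomial T R))) :=
      congrArg (Ideal.map (algebraMap (MvPolynomial T R) R₁)) h𝔭eq
    rw [← Localization.AtPrime.map_eq_maximalIdeal, h1, Ideal.map_map,
      ← IsScalarTower.algebraMap_eq]
  have hker₁ : RingHom.ker (algebraMap R₁ K) = maximalIdeal R₁ := by
    apply le_antisymm
    · exact IsLocalRing.le_maximalIdeal (RingHom.ker_ne_top _)
    · rw [← Localization.AtPrime.map_eq_maximalIdeal, Ideal.map_le_iff_le_comap]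
      intro p hp
      rw [Ideal.mem_comap, RingHom.mem_ker]
      change e₁ (algebraMap (MvPolynomial T R) R₁ p) = 0
      rw [he₁]
      exact hp
  -- `K` is integral over `R₁`
  haveI : Algebra.IsIntegral R₁ K := by
    refine ⟨fun a => ?_⟩
    haveI := hT.isAlgebraic
    obtain ⟨g, hg0, hga⟩ :=
      Algebra.IsAlgebraic.isAlgebraic (R := Algebra.adjoin (ResidueField R) (Set.range ((↑) : T → K))) a
    set q : Polynomial K := g.map (algebraMap _ K) with hq
    have hq0 : q ≠ 0 := by
      rw [hq, Ne, Polynomial.map_eq_zero_iff (FaithfulSMul.algebraMap_injective _ _)]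
      exact hg0
    have hqa : Polynomial.eval a q = 0 := by
      rw [hq, Polynomial.eval_map_algebraMap]
      exact hga
    have key : ∀ z ∈ Algebra.adjoin (ResidueField R) (Set.range ((↑) : T → K)),
        z ∈ Set.range (algebraMap R₁ K) := by
      intro z hz
      rw [Algebra.adjoin_range_eq_range_aeval] at hz
      obtain ⟨pb, hpb⟩ := hz
      obtain ⟨p, rfl⟩ := MvPolynomial.map_surjective (algebraMap R (ResidueField R))
        IsLocalRing.residue_surjective pb
      refine ⟨algebraMap (MvPolynomial T R) R₁ p, ?_⟩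
      change e₁ (algebraMap (MvPolynomial T R) R₁ p) = _
      rw [he₁, he, evT_eq]
      exact hpb
    have hlifts : q ∈ Polynomial.lifts (algebraMap R₁ K) := by
      rw [Polynomial.lifts_iff_coeff_lifts]
      intro n
      rw [hq, Polynomial.coeff_map]
      exact key _ (g.coeff n).2
    obtain ⟨G, hGmap, hGdeg⟩ := Polynomial.exists_natDegree_eq_of_mem_lifts hlifts
    have hGa : Polynomial.aeval a G = 0 := by
      rw [Polynomial.aeval_def, ← Polynomial.eval_map, hGmap]
      exact hqa
    have hlead : IsUnit G.leadingCoeff := by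
      rw [← IsLocalRing.notMem_maximalIdeal, ← hker₁, RingHom.mem_ker]
      have : algebraMap R₁ K G.leadingCoeff = q.leadingCoeff := by
        rw [Polynomial.leadingCoeff, Polynomial.leadingCoeff, ← hGdeg, ← hGmap,
          Polynomial.coeff_map]
      rw [this]
      exact Polynomial.leadingCoeff_ne_zero.2 hq0
    have h2 := isIntegral_leadingCoeff_smul G a hGa
    have h3 : a = ((hlead.unit⁻¹ : R₁ˣ) : R₁) • (G.leadingCoeff • a) := by
      rw [smul_smul]
      have : ((hlead.unit⁻¹ : R₁ˣ) : R₁) * G.leadingCoeff = 1 := by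
        have := hlead.unit.inv_mul
        simpa using this
      rw [this, one_smul]
    rw [h3]
    exact h2.smul _
  obtain ⟨B, _, _, ψ, hflat, hint, hsurj, hψ⟩ := exists_flat_integral (R := R₁) (K := K) hker₁
  letI : Algebra R B := ((algebraMap R₁ B).comp (algebraMap R R₁)).toAlgebra
  haveI : IsScalarTower R R₁ B := IsScalarTower.of_algebraMap_eq (fun _ => rfl)
  haveI : Module.Flat R (MvPolynomial T R) := inferInstance
  haveI : Module.Flat (MvPolynomial T R) R₁ := IsLocalization.flat R₁ 𝔭.primeCompl
  haveI : Module.Flat R R₁ := Module.Flat.trans R (MvPolynomial T R) R₁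
  haveI : Module.Flat R B := Module.Flat.trans R R₁ B
  refine ⟨B, inferInstance, inferInstance, ψ.restrictScalars R, inferInstance,
    isLocalRing_of_ker_eq ψ hsurj hψ, hsurj, ?_⟩
  change RingHom.ker (ψ : B →+* K) = _
  rw [hψ, hm₁, Ideal.map_map, ← IsScalarTower.algebraMap_eq]

end Main

end Groth.Agent.Lib.Helper81.ResidueExt
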