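import Mathlib
import Groth.Agent.Lib.Helper81.ResidueExt

/-!
# Existence of Cohen rings (helper81)

* `isDomain_and_dvr_of_principal`: a local ring, Hausdorff for its maximal ideal, whose maximal
  ideal is generated by a regular element, is a discrete valuation ring.
* `exists_cohenRing`: for every field `k` of characteristic `p` there is a complete discrete
  valuation ring with maximal ideal `(p)` and residue field `k`.
-/

set_option autoImplicit false
universe u v w

namespace Groth.Agent.Lib.Helper81.CohenRing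

open IsLocalRing

section DVR

variable {A : Type*} [CommRing A] [IsLocalRing A]

theorem exists_eq_pow_mul_unit (π : A) (hπ : maximalIdeal A = Ideal.span {π})
    [IsHausdorff (maximalIdeal A) A] {x : A} (hx : x ≠ 0) :
    ∃ (n : ℕ) (u : Aˣ), x = π ^ n * u := by
  classical
  have hex : ∃ n : ℕ, x ∉ Ideal.span {π ^ n} := by
    by_contra h
    apply hx
    apply IsHausdorff.haus ‹IsHausdorff (maximalIdeal A) A› x
    intro n
    rw [SModEq.zero, smul_eq_mul, Ideal.mul_top, hπ, Ideal.span_singleton_pow]
    by_contra hn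
    exact h ⟨n, hn⟩
  set n := Nat.find hex with hn
  have hn0 : n ≠ 0 := by
    intro h0
    have := Nat.find_spec hex
    rw [← hn, h0, pow_zero, Ideal.span_singleton_one] at this
    exact this trivial
  obtain ⟨m, hm⟩ : ∃ m, n = m + 1 := ⟨n - 1, by omega⟩
  have hmem : x ∈ Ideal.span {π ^ m} := by
    by_contra h
    have := Nat.find_min' hex h
    omega
  obtain ⟨y, rfl⟩ := Ideal.mem_span_singleton'.1 hmem
  have hy : IsUnit y := by
    rw [← IsLocalRing.notMem_maximalIdeal, hπ]
    intro hy
    obtain ⟨z, rfl⟩ := Ideal.mem_span_singleton'.1 hy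
    have := Nat.find_spec hex
    apply this
    rw [← hn, hm, Ideal.mem_span_singleton']
    exact ⟨z, by ring⟩
  exact ⟨m, hy.unit, by rw [IsUnit.unit_spec, mul_comm]⟩

theorem isDomain_and_dvr_of_principal (π : A) (hπ : maximalIdeal A = Ideal.span {π})
    (hreg : IsSMulRegular A π) [IsHausdorff (maximalIdeal A) A] :
    ∃ (_ : IsDomain A), IsDiscreteValuationRing A := by
  have hpow : ∀ n : ℕ, π ^ n ≠ 0 := by
    intro n h
    have h1 : IsSMulRegular A (π ^ n) := hreg.pow n
    have h2 : π ^ n • (1 : A) = π ^ n • (0 : A) := by simp [h]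
    exact one_ne_zero (h1 h2)
  have hdom : IsDomain A := by
    haveI : NoZeroDivisors A := by
      refine ⟨fun {x y} hxy => ?_⟩
      by_contra h
      push Not at h
      obtain ⟨a, u, rfl⟩ := exists_eq_pow_mul_unit π hπ h.1
      obtain ⟨b, v, rfl⟩ := exists_eq_pow_mul_unit π hπ h.2
      have h1 : π ^ (a + b) * ((u * v : Aˣ) : A) = 0 := by
        rw [← hxy, pow_add, Units.val_mul]
        ring
      exact hpow (a + b) ((Units.mul_left_eq_zero _).1 h1)
    exact NoZeroDivisors.to_isDomain A
  refine ⟨hdom, ?_⟩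
  have hπ0 : π ≠ 0 := by simpa using hpow 1
  have hprime : Prime π := by
    rw [← Ideal.span_singleton_prime hπ0, ← hπ]
    infer_instance
  apply IsDiscreteValuationRing.ofHasUnitMulPowIrreducibleFactorization
  refine ⟨π, hprime.irreducible, fun {x} hx => ?_⟩
  obtain ⟨n, u, rfl⟩ := exists_eq_pow_mul_unit π hπ hx
  exact ⟨n, u, rfl⟩

end DVR

section Completion

variable {B : Type*} [CommRing B] [IsLocalRing B]

/-- if the maximal ideal of `B` is generated by a regular element `π`, then `π` is regular on the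
completion. -/
theorem isSMulRegular_adicCompletion (π : B) (hπ : maximalIdeal B = Ideal.span {π})
    (hreg : IsSMulRegular B π) :
    IsSMulRegular (AdicCompletion (maximalIdeal B) B)
      (algebraMap B (AdicCompletion (maximalIdeal B) B) π) := by
  intro x y hxy
  rw [← sub_eq_zero] at hxy ⊢
  rw [← smul_sub] at hxy
  set z := x - y with hz
  have hz0 : π • z = 0 := by
    rw [← hxy, Algebra.smul_def, smul_eq_mul]
  apply AdicCompletion.ext
  intro n
  have h1 : (π • z).val (n + 1) = 0 := by rw [hz0]; rfl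
  rw [AdicCompletion.val_smul_apply] at h1
  obtain ⟨w, hw⟩ := Submodule.Quotient.mk_surjective _ (z.val (n + 1))
  rw [← hw, ← Submodule.Quotient.mk_smul, Submodule.Quotient.mk_eq_zero, smul_eq_mul,
    Ideal.mul_top, hπ, Ideal.span_singleton_pow, smul_eq_mul, Ideal.mem_span_singleton'] at h1
  obtain ⟨c, hc⟩ := h1
  have h2 : w = π ^ n * c := by
    apply hreg
    change π • w = π • (π ^ n * c)
    rw [smul_eq_mul, smul_eq_mul, ← hc]
    ring
  have h3 : z.val n = AdicCompletion.transitionMap (maximalIdeal B) B (Nat.le_succ n)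
      (z.val (n + 1)) := (z.property (Nat.le_succ n)).symm
  rw [h3, ← hw]
  change Submodule.Quotient.mk w = 0
  rw [Submodule.Quotient.mk_eq_zero, smul_eq_mul, Ideal.mul_top, hπ, Ideal.span_singleton_pow, h2]
  exact Ideal.mul_mem_right _ _ (Ideal.mem_span_singleton_self _)

end Completion

section Exists

/-- **Existence of Cohen rings** (unfolded form of `CAlg.IsCohenRing`). -/
theorem exists_cohenRing (p : ℕ) [hp : Fact p.Prime] (k : Type u) [Field k] [CharP k p] :
    ∃ (Λ : Type u) (_ : CommRing Λ) (_ : IsLocalRing Λ) (_ : IsDomain Λ)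
      (_ : IsDiscreteValuationRing Λ),
      IsAdicComplete (maximalIdeal Λ) Λ ∧ maximalIdeal Λ = Ideal.span {(p : Λ)} ∧
      Nonempty (ResidueField Λ ≃+* k) := by
  classical
  letI : Algebra ℤ_[p] k := ((ZMod.castHom (dvd_refl p) k).comp PadicInt.toZMod).toAlgebra
  have hker : RingHom.ker (algebraMap ℤ_[p] k) = maximalIdeal ℤ_[p] := by
    rw [← PadicInt.ker_toZMod]
    ext x
    change (ZMod.castHom (dvd_refl p) k) (PadicInt.toZMod x) = 0 ↔ PadicInt.toZMod x = 0
    exact map_eq_zero_iff _ (ZMod.castHom (dvd_refl p) k).injective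
  letI : Algebra (ResidueField ℤ_[p]) k :=
    (Ideal.Quotient.lift (maximalIdeal ℤ_[p]) (algebraMap ℤ_[p] k)
      (fun a ha => by rw [← hker] at ha; exact ha)).toAlgebra
  haveI : IsScalarTower ℤ_[p] (ResidueField ℤ_[p]) k := IsScalarTower.of_algebraMap_eq (fun _ => rfl)
  obtain ⟨B, _, _, ψ, hflat, hloc, hsurj, hψ⟩ :=
    Groth.Agent.Lib.Helper81.ResidueExt.exists_flat_local ℤ_[p] k
  haveI := hloc
  have hmaxB : maximalIdeal B = RingHom.ker (ψ : B →+* k) :=
    Groth.Agent.Lib.Helper81.ResidueExt.maximalIdeal_eq_ker ψ hsurj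
  have hmB : maximalIdeal B = Ideal.span {(p : B)} := by
    rw [hmaxB, hψ, PadicInt.maximalIdeal_eq_span_p, Ideal.map_span, Set.image_singleton,
      map_natCast]
  have hregB : IsSMulRegular B (p : B) := by
    have h1 : (p : ℤ_[p]) ∈ nonZeroDivisors ℤ_[p] :=
      mem_nonZeroDivisors_of_ne_zero (by exact_mod_cast hp.out.ne_zero)
    have h2 : IsSMulRegular B (p : ℤ_[p]) := Module.Flat.isSMulRegular_of_nonZeroDivisors h1
    intro x y hxy
    have hxy' : (p : B) * x = (p : B) * y := hxy
    apply h2
    change (p : ℤ_[p]) • x = (p : ℤ_[p]) • y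
    rw [Algebra.smul_def, Algebra.smul_def, map_natCast]
    exact hxy'
  have fg : (maximalIdeal B).FG := by
    rw [hmB]
    exact ⟨{(p : B)}, by simp⟩
  let Λ := AdicCompletion (maximalIdeal B) B
  haveI : IsLocalRing Λ := AdicCompletion.isLocalRing_of_fg fg
  have hmΛ : maximalIdeal Λ = Ideal.span {(p : Λ)} := by
    have h1 : Ideal.map (algebraMap B Λ) (maximalIdeal B) =
        Ideal.map (algebraMap B Λ) (Ideal.span {(p : B)}) :=
      congrArg (Ideal.map (algebraMap B Λ)) hmB
    rw [AdicCompletion.maximalIdeal_eq_map_of_fg fg, h1, Ideal.map_span, Set.image_singleton,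
      map_natCast]
  haveI hcomplete : IsAdicComplete (maximalIdeal Λ) Λ := AdicCompletion.isAdicComplete_of_fg fg
  have hregΛ : IsSMulRegular Λ (p : Λ) := by
    have := isSMulRegular_adicCompletion (p : B) hmB hregB
    rwa [map_natCast] at this
  obtain ⟨hdom, hdvr⟩ := isDomain_and_dvr_of_principal (p : Λ) hmΛ hregΛ
  refine ⟨Λ, inferInstance, inferInstance, hdom, hdvr, hcomplete, hmΛ, ?_⟩
  haveI := AdicCompletion.algebraMap_isLocalHom_of_fg fg
  let e1 : ResidueField B ≃+* ResidueField Λ :=
    RingEquiv.ofBijective (ResidueField.map (algebraMap B Λ))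
      (AdicCompletion.residueField_map_bijective_of_fg fg)
  let e0 : (B ⧸ maximalIdeal B) ≃+* k :=
    (Ideal.quotEquivOfEq hmaxB).trans
      (Ideal.quotientKerAlgEquivOfSurjective hsurj).toRingEquiv
  exact ⟨e1.symm.trans e0⟩

end Exists

end Groth.Agent.Lib.Helper81.CohenRing
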