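import Mathlib
import Groth.Prelude.Def_Smoothing

/-!
# Local tricks for smoothing ring maps: general lemmas (helper81)
-/

set_option autoImplicit false
universe u

namespace Groth.Agent.Lib.Helper81.Pop

open Smoothing

/-- membership in the singular ideal: vanishing on the non-smooth locus. -/
theorem mem_singularIdeal_iff {R C : Type u} [CommRing R] [CommRing C] [Algebra R C] (c : C) :
    c ∈ singularIdeal R C ↔
      ∀ (Q : Ideal C) [Q.IsPrime], ¬ Algebra.IsSmoothAt R Q → c ∈ Q := by
  rw [singularIdeal, PrimeSpectrum.mem_vanishingIdeal]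
  constructor
  · intro h Q _ hQ
    exact h ⟨Q, inferInstance⟩ hQ
  · intro h x hx
    exact h x.asIdeal hx

/-- for finitely presented algebras, a prime is smooth iff it does not contain the singular
ideal. -/
theorem isSmoothAt_iff_not_singularIdeal_le {R C : Type u} [CommRing R] [CommRing C] [Algebra R C]
    [Algebra.FinitePresentation R C] (Q : Ideal C) [Q.IsPrime] :
    Algebra.IsSmoothAt R Q ↔ ¬ singularIdeal R C ≤ Q := by
  have hclosed : IsClosed (Algebra.smoothLocus R C)ᶜ :=
    (Algebra.isOpen_smoothLocus (R := R) (A := C)).isClosed_compl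
  have hz : PrimeSpectrum.zeroLocus (singularIdeal R C : Set C) = (Algebra.smoothLocus R C)ᶜ := by
    rw [singularIdeal, PrimeSpectrum.zeroLocus_vanishingIdeal_eq_closure, hclosed.closure_eq]
  constructor
  · intro h hle
    have : (⟨Q, inferInstance⟩ : PrimeSpectrum C) ∈
        PrimeSpectrum.zeroLocus (singularIdeal R C : Set C) := hle
    rw [hz] at this
    exact this h
  · intro h
    by_contra hns
    apply h
    have : (⟨Q, inferInstance⟩ : PrimeSpectrum C) ∈ (Algebra.smoothLocus R C)ᶜ := hns
    rw [← hz] at this
    exact this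

/-- if `C` is smooth at the contraction of `𝔮` then the singular ideal of `C` does not extend
into `𝔮`. -/
theorem not_map_singularIdeal_le {R C Λ : Type u} [CommRing R] [CommRing C] [Algebra R C]
    [Algebra.FinitePresentation R C] [CommRing Λ] {F : Type*} [FunLike F C Λ] [RingHomClass F C Λ]
    (γ : F) (𝔮 : Ideal Λ) [𝔮.IsPrime]
    (h : Algebra.IsSmoothAt R (𝔮.comap γ)) : ¬ (singularIdeal R C).map γ ≤ 𝔮 := by
  intro hle
  exact (isSmoothAt_iff_not_singularIdeal_le (𝔮.comap γ)).1 h (Ideal.map_le_iff_le_comap.1 hle)

/-- conversely -/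
theorem isSmoothAt_comap_of_not_map_singularIdeal_le {R C Λ : Type u} [CommRing R] [CommRing C]
    [Algebra R C] [Algebra.FinitePresentation R C] [CommRing Λ] {F : Type*} [FunLike F C Λ]
    [RingHomClass F C Λ] (γ : F) (𝔮 : Ideal Λ)
    [𝔮.IsPrime] (h : ¬ (singularIdeal R C).map γ ≤ 𝔮) : Algebra.IsSmoothAt R (𝔮.comap γ) := by
  rw [isSmoothAt_iff_not_singularIdeal_le]
  intro hle
  exact h (Ideal.map_le_iff_le_comap.2 hle)

/-- an element of the singular ideal gives a smooth localization -/
theorem smooth_away_of_mem_singularIdeal {R C : Type u} [CommRing R] [CommRing C] [Algebra R C]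
    [Algebra.FinitePresentation R C] {c : C} (hc : c ∈ singularIdeal R C) :
    Algebra.Smooth R (Localization.Away c) := by
  rw [← Algebra.basicOpen_subset_smoothLocus_iff_smooth]
  intro x hx
  by_contra hns
  exact hx ((mem_singularIdeal_iff c).1 hc x.asIdeal hns)

/-- an element with smooth localization lies in the singular ideal -/
theorem mem_singularIdeal_of_smooth_away {R C : Type u} [CommRing R] [CommRing C] [Algebra R C]
    [Algebra.FinitePresentation R C] {c : C} [Algebra.Smooth R (Localization.Away c)] :
    c ∈ singularIdeal R C := by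
  have hsub := (Algebra.basicOpen_subset_smoothLocus_iff_smooth (R := R) (A := C) (f := c)).2
    inferInstance
  rw [mem_singularIdeal_iff]
  intro Q _ hQ
  by_contra hcQ
  exact hQ (hsub (show (⟨Q, inferInstance⟩ : PrimeSpectrum C) ∈
    (PrimeSpectrum.basicOpen c : Set (PrimeSpectrum C)) from hcQ))

end Groth.Agent.Lib.Helper81.Pop
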