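import Mathlib
import Groth.Agent.Lib.Helper81.PopLocal

/-!
# Local tricks for smoothing ring maps: more general lemmas (helper81)
-/

set_option autoImplicit false
universe u

namespace Groth.Agent.Lib.Helper81.Pop

open Smoothing

/-- transitivity of smoothness at primes -/
theorem isSmoothAt_trans {R A B : Type*} [CommRing R] [CommRing A] [CommRing B] [Algebra R A]
    [Algebra A B] [Algebra R B] [IsScalarTower R A B] (Q : Ideal B) [Q.IsPrime]
    (h1 : Algebra.IsSmoothAt R (Q.comap (algebraMap A B))) (h2 : Algebra.IsSmoothAt A Q) :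
    Algebra.IsSmoothAt R Q := by
  set q : Ideal A := Q.comap (algebraMap A B) with hq
  letI : Algebra (Localization.AtPrime q) (Localization.AtPrime Q) :=
    (Localization.localRingHom q Q (algebraMap A B) rfl).toAlgebra
  haveI : IsScalarTower A (Localization.AtPrime q) (Localization.AtPrime Q) :=
    IsScalarTower.of_algebraMap_eq fun x => by
      rw [IsScalarTower.algebraMap_apply A B (Localization.AtPrime Q)]
      exact (Localization.localRingHom_to_map q Q (algebraMap A B) rfl x).symm
  haveI : IsScalarTower R (Localization.AtPrime q) (Localization.AtPrime Q) :=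
    IsScalarTower.of_algebraMap_eq fun x => by
      rw [IsScalarTower.algebraMap_apply R A (Localization.AtPrime q),
        ← IsScalarTower.algebraMap_apply A (Localization.AtPrime q) (Localization.AtPrime Q),
        ← IsScalarTower.algebraMap_apply R A (Localization.AtPrime Q)]
  haveI : Algebra.FormallySmooth A (Localization.AtPrime Q) := h2
  haveI : Algebra.FormallySmooth (Localization.AtPrime q) (Localization.AtPrime Q) :=
    Algebra.FormallySmooth.localization_base q.primeCompl
  haveI : Algebra.FormallySmooth R (Localization.AtPrime q) := h1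
  exact Algebra.FormallySmooth.comp R (Localization.AtPrime q) (Localization.AtPrime Q)

/-- smoothness at primes of a smooth algebra -/
theorem isSmoothAt_of_formallySmooth {A B : Type*} [CommRing A] [CommRing B] [Algebra A B]
    [Algebra.FormallySmooth A B] (Q : Ideal B) [Q.IsPrime] : Algebra.IsSmoothAt A Q := by
  haveI : Algebra.FormallySmooth B (Localization.AtPrime Q) :=
    Algebra.FormallySmooth.of_isLocalization Q.primeCompl
  exact Algebra.FormallySmooth.comp A B (Localization.AtPrime Q)

/-- the local generation hypothesis of the Jacobian criterion can be checked on generators -/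
theorem exists_mul_mem_of_span {P : Type*} [CommRing P] (J : Ideal P) (Q : Ideal (P ⧸ J))
    [Q.IsPrime] (L : Ideal P) (S : Set P) (hJ : J = Ideal.span S)
    (h : ∀ t ∈ S, ∃ s, Ideal.Quotient.mk J s ∉ Q ∧ s * t ∈ L) :
    ∀ t ∈ J, ∃ s, Ideal.Quotient.mk J s ∉ Q ∧ s * t ∈ L := by
  let T : Ideal P :=
    { carrier := {t | ∃ s : P, Ideal.Quotient.mk J s ∉ Q ∧ s * t ∈ L}
      add_mem' := by
        rintro t₁ t₂ ⟨s₁, hs₁, h₁⟩ ⟨s₂, hs₂, h₂⟩
        refine ⟨s₁ * s₂, ?_, ?_⟩
        · rw [map_mul]
          intro h
          rcases Ideal.IsPrime.mem_or_mem inferInstance h with h | h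
          · exact hs₁ h
          · exact hs₂ h
        · have : s₁ * s₂ * (t₁ + t₂) = s₂ * (s₁ * t₁) + s₁ * (s₂ * t₂) := by ring
          rw [this]
          exact Ideal.add_mem _ (Ideal.mul_mem_left _ _ h₁) (Ideal.mul_mem_left _ _ h₂)
      zero_mem' := by
        refine ⟨1, ?_, ?_⟩
        · rw [map_one]
          exact fun h => (Ideal.IsPrime.ne_top inferInstance) ((Ideal.eq_top_iff_one _).2 h)
        · rw [mul_zero]; exact Ideal.zero_mem _
      smul_mem' := by
        rintro r t ⟨s, hs, h⟩
        refine ⟨s, hs, ?_⟩
        rw [smul_eq_mul, mul_left_comm]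
        exact Ideal.mul_mem_left _ _ h }
  have hT : J ≤ T := by
    rw [hJ, Ideal.span_le]
    intro t ht
    exact h t ht
  intro t ht
  exact hT ht

end Groth.Agent.Lib.Helper81.Pop
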