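import Mathlib
import Groth.Agent.Lib.Helper94.SurjLoc

/-!
# The Jacobian criterion at a prime, for quotients of polynomial rings (helper81)
-/

set_option autoImplicit false
universe u

namespace Groth.Agent.Lib.Helper81.Pop

open MvPolynomial

/-- `R[X_σ]/(G_i)` localized at a multiple of the Jacobian minor of the `G_i` against the variables
`v i` is standard smooth over `R`. -/
theorem isStandardSmooth_away_of_dvd {R : Type u} [CommRing R] {σ ι : Type} [Finite σ] [Fintype ι]
    [DecidableEq ι] (G : ι → MvPolynomial σ R) (v : ι → σ) (hv : Function.Injective v)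
    (b : MvPolynomial σ R ⧸ Ideal.span (Set.range G))
    (hb : Ideal.Quotient.mk (Ideal.span (Set.range G))
      (Matrix.det (Matrix.of fun j k : ι => pderiv (v k) (G j))) ∣ b) :
    Algebra.IsStandardSmooth R (Localization.Away b) := by
  classical
  let pres : Algebra.PreSubmersivePresentation R
      (MvPolynomial σ R ⧸ Ideal.span (Set.range G)) σ ι :=
    Algebra.PreSubmersivePresentation.naive v hv
  have hjac : pres.jacobian = Ideal.Quotient.mk (Ideal.span (Set.range G))
      (Matrix.det (Matrix.of fun j k : ι => pderiv (v k) (G j))) := by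
    rw [Algebra.PreSubmersivePresentation.jacobian_eq_jacobiMatrix_det]
    have h1 : pres.jacobiMatrix = (Matrix.of fun j k : ι => pderiv (v k) (G j)).transpose := by
      ext i j
      rw [Algebra.PreSubmersivePresentation.jacobiMatrix_naive]
      rfl
    rw [h1, Matrix.det_transpose]
    rfl
  have hbunit : IsUnit (algebraMap _ (Localization.Away b) b) :=
    IsLocalization.Away.algebraMap_isUnit b
  have hδunit : IsUnit (algebraMap _ (Localization.Away b) pres.jacobian) := by
    rw [hjac]
    obtain ⟨w, hw⟩ := hb
    have h2 : algebraMap _ (Localization.Away b) b =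
        algebraMap _ (Localization.Away b) (Ideal.Quotient.mk (Ideal.span (Set.range G))
          (Matrix.det (Matrix.of fun j k : ι => pderiv (v k) (G j)))) *
        algebraMap _ (Localization.Away b) w := by
      rw [← map_mul, ← hw]
    rw [h2] at hbunit
    exact isUnit_of_mul_isUnit_left hbunit
  let P : Algebra.SubmersivePresentation R (Localization.Away b) _ _ :=
    { toPreSubmersivePresentation :=
        .comp (.localizationAway (Localization.Away b) b) pres
      jacobian_isUnit := by
        rw [Algebra.PreSubmersivePresentation.comp_jacobian_eq_jacobian_smul_jacobian,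
          Algebra.PreSubmersivePresentation.localizationAway_jacobian, Algebra.smul_def]
        exact hδunit.mul hbunit }
  exact P.isStandardSmooth

/-- Jacobian criterion at a prime: if `J` is locally (at `Q`) generated by `G_i ∈ J` whose Jacobian
minor against distinct variables `v i` is a unit at `Q`, then `R[X_σ]/J` is smooth over `R` at `Q`. -/
theorem isSmoothAt_quotient_of_jacobian {R : Type u} [CommRing R] {σ ι : Type} [Finite σ]
    [Fintype ι] [DecidableEq ι] (J : Ideal (MvPolynomial σ R)) (G : ι → MvPolynomial σ R)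
    (hG : ∀ i, G i ∈ J) (v : ι → σ) (hv : Function.Injective v)
    (Q : Ideal (MvPolynomial σ R ⧸ J)) [Q.IsPrime]
    (hdet : Ideal.Quotient.mk J (Matrix.det (Matrix.of fun j k : ι => pderiv (v k) (G j))) ∉ Q)
    (hloc : ∀ t ∈ J, ∃ s : MvPolynomial σ R, Ideal.Quotient.mk J s ∉ Q ∧
      s * t ∈ Ideal.span (Set.range G)) :
    Algebra.IsSmoothAt R Q := by
  classical
  set L : Ideal (MvPolynomial σ R) := Ideal.span (Set.range G) with hL
  have hLJ : L ≤ J := Ideal.span_le.2 (by rintro _ ⟨i, rfl⟩; exact hG i)
  let θ : (MvPolynomial σ R ⧸ L) →ₐ[R] (MvPolynomial σ R ⧸ J) := Ideal.Quotient.factorₐ R hLJ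
  have hθmk : ∀ x, θ (Ideal.Quotient.mk L x) = Ideal.Quotient.mk J x := fun x => rfl
  have hθsurj : Function.Surjective θ := Ideal.Quotient.factor_surjective hLJ
  set Δ : MvPolynomial σ R := Matrix.det (Matrix.of fun j k : ι => pderiv (v k) (G j)) with hΔ
  set b : MvPolynomial σ R ⧸ L := Ideal.Quotient.mk L Δ with hb
  have hss : Algebra.IsStandardSmooth R (Localization.Away b) :=
    isStandardSmooth_away_of_dvd G v hv b (dvd_refl _)
  haveI : Algebra.FinitePresentation R (MvPolynomial σ R ⧸ L) :=
    Algebra.FinitePresentation.quotient ⟨Finset.univ.image G, by simp [hL]⟩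
  have hsub := (Algebra.basicOpen_subset_smoothLocus_iff (R := R)
    (A := MvPolynomial σ R ⧸ L) (f := b)).2 inferInstance
  set Q' : Ideal (MvPolynomial σ R ⧸ L) := Q.comap θ.toRingHom with hQ'
  have hmem : (⟨Q', inferInstance⟩ : PrimeSpectrum (MvPolynomial σ R ⧸ L)) ∈
      (PrimeSpectrum.basicOpen b : Set (PrimeSpectrum (MvPolynomial σ R ⧸ L))) := by
    rw [SetLike.mem_coe, PrimeSpectrum.mem_basicOpen]
    exact hdet
  have hsm : Algebra.FormallySmooth R (Localization.AtPrime Q') := hsub hmem
  -- the local isomorphism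
  let ψ := Groth.Agent.Lib.Helper94.SurjLoc.locHom θ.toRingHom Q
  have hψsurj : Function.Surjective ψ :=
    Groth.Agent.Lib.Helper94.SurjLoc.locHom_surjective θ.toRingHom Q hθsurj
  have hψinj : Function.Injective ψ := by
    rw [injective_iff_map_eq_zero]
    intro z hz
    have hker := Groth.Agent.Lib.Helper94.SurjLoc.ker_locHom θ.toRingHom Q hθsurj
    have hz' : z ∈ RingHom.ker ψ := hz
    rw [hker] at hz'
    have hzero : (RingHom.ker θ.toRingHom).map
        (algebraMap (MvPolynomial σ R ⧸ L) (Localization.AtPrime Q')) = ⊥ := by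
      rw [eq_bot_iff, Ideal.map_le_iff_le_comap]
      intro y hy
      obtain ⟨t, rfl⟩ := Ideal.Quotient.mk_surjective y
      have htJ : t ∈ J := by
        have : θ (Ideal.Quotient.mk L t) = 0 := hy
        rw [hθmk] at this
        exact Ideal.Quotient.eq_zero_iff_mem.1 this
      obtain ⟨s, hsQ, hst⟩ := hloc t htJ
      rw [Ideal.mem_comap, Ideal.mem_bot]
      have hsQ' : Ideal.Quotient.mk L s ∉ Q' := hsQ
      have hunit : IsUnit (algebraMap (MvPolynomial σ R ⧸ L) (Localization.AtPrime Q')
          (Ideal.Quotient.mk L s)) :=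
        IsLocalization.map_units (Localization.AtPrime Q') (⟨_, hsQ'⟩ : Q'.primeCompl)
      have h0 : Ideal.Quotient.mk L s * Ideal.Quotient.mk L t = 0 := by
        rw [← map_mul]
        exact Ideal.Quotient.eq_zero_iff_mem.2 hst
      have h1 := congrArg (algebraMap (MvPolynomial σ R ⧸ L) (Localization.AtPrime Q')) h0
      rw [map_mul, map_zero] at h1
      exact (hunit.mul_right_eq_zero).1 h1
    rw [hzero] at hz'
    exact hz'
  have hcomm : ∀ r : R, ψ (algebraMap R (Localization.AtPrime Q') r) =
      algebraMap R (Localization.AtPrime Q) r := by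
    intro r
    rw [IsScalarTower.algebraMap_apply R (MvPolynomial σ R ⧸ L) (Localization.AtPrime Q'),
      Groth.Agent.Lib.Helper94.SurjLoc.locHom_algebraMap,
      IsScalarTower.algebraMap_apply R (MvPolynomial σ R ⧸ J) (Localization.AtPrime Q)]
    congr 1
  let f : Localization.AtPrime Q' →ₐ[R] Localization.AtPrime Q :=
    { toFun := ψ
      map_one' := map_one ψ
      map_mul' := map_mul ψ
      map_zero' := map_zero ψ
      map_add' := map_add ψ
      commutes' := hcomm }
  let e : Localization.AtPrime Q' ≃ₐ[R] Localization.AtPrime Q :=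
    AlgEquiv.ofBijective f ⟨hψinj, hψsurj⟩
  exact Algebra.FormallySmooth.of_equiv (A := Localization.AtPrime Q') e

end Groth.Agent.Lib.Helper81.Pop
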