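import Mathlib
import Groth.Agent.Lib.Helper81.PopJac

/-!
# Killing `π`-torsion in smooth algebras (helper81)
-/

set_option autoImplicit false
universe u

namespace Groth.Agent.Lib.Helper81.Pop

open MvPolynomial

/-- If `Ann_R(π²) = Ann_R(π)` and `M` is flat over `R` then the same holds on `M`. -/
theorem smul_eq_zero_of_sq_smul_eq_zero_of_flat {R M : Type*} [CommRing R] [AddCommGroup M]
    [Module R M] [Module.Flat R M] (π : R) (hR : ∀ r : R, π ^ 2 * r = 0 → π * r = 0)
    (x : M) (hx : π ^ 2 • x = 0) : π • x = 0 := by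
  have hrel : ∑ i : Unit, (fun _ : Unit => π ^ 2) i • (fun _ : Unit => x) i = 0 := by
    simpa using hx
  obtain ⟨κ, a, y, hxy, ha⟩ := Module.Flat.isTrivialRelation_of_sum_smul_eq_zero hrel
  have hx' : x = ∑ j, a () j • y j := hxy ()
  rw [hx', Finset.smul_sum]
  refine Finset.sum_eq_zero fun j _ => ?_
  have h1 : π ^ 2 * a () j = 0 := by simpa using ha j
  rw [smul_smul, hR _ h1, zero_smul]

/-- If, modulo `(G)`, `s t` is killed by `π` and lies in `(π)`, then `t` is killed by a power of
`Δ s`, where `Δ` is the Jacobian minor of `G`. -/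
theorem exists_pow_mul_mem_span_of_torsion {R : Type u} [CommRing R] (π : R)
    (hR : ∀ r : R, π ^ 2 * r = 0 → π * r = 0) {σ ι : Type} [Finite σ] [Fintype ι] [DecidableEq ι]
    (G : ι → MvPolynomial σ R) (v : ι → σ) (hv : Function.Injective v)
    (s t : MvPolynomial σ R)
    (h1 : s * (C π * t) ∈ Ideal.span (Set.range G))
    (h2 : s * t ∈ Ideal.span (Set.range G) ⊔ Ideal.span {C π}) :
    ∃ N : ℕ, (Matrix.det (Matrix.of fun j k : ι => pderiv (v k) (G j)) * s) ^ N * t ∈
      Ideal.span (Set.range G) := by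
  classical
  set L : Ideal (MvPolynomial σ R) := Ideal.span (Set.range G) with hL
  set Δ : MvPolynomial σ R := Matrix.det (Matrix.of fun j k : ι => pderiv (v k) (G j)) with hΔ
  set b : MvPolynomial σ R ⧸ L := Ideal.Quotient.mk L (Δ * s) with hb
  haveI hss : Algebra.IsStandardSmooth R (Localization.Away b) :=
    isStandardSmooth_away_of_dvd G v hv b (by rw [hb, map_mul]; exact Dvd.intro _ rfl)
  haveI : Algebra.Smooth R (Localization.Away b) := inferInstance
  haveI : Module.Flat R (Localization.Away b) := inferInstance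
  let ρ : MvPolynomial σ R →+* Localization.Away b :=
    (algebraMap (MvPolynomial σ R ⧸ L) (Localization.Away b)).comp (Ideal.Quotient.mk L)
  have hρL : ∀ x ∈ L, ρ x = 0 := fun x hx => by
    show algebraMap (MvPolynomial σ R ⧸ L) (Localization.Away b) (Ideal.Quotient.mk L x) = 0
    rw [Ideal.Quotient.eq_zero_iff_mem.2 hx, map_zero]
  have hρC : ∀ r : R, ρ (C r) = algebraMap R (Localization.Away b) r := by
    intro r
    show algebraMap (MvPolynomial σ R ⧸ L) (Localization.Away b) (Ideal.Quotient.mk L (C r)) = _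
    rw [IsScalarTower.algebraMap_apply R (MvPolynomial σ R ⧸ L) (Localization.Away b)]
    rfl
  have hsunit : IsUnit (ρ s) := by
    have hbu : IsUnit (algebraMap _ (Localization.Away b) b) :=
      IsLocalization.Away.algebraMap_isUnit b
    have : algebraMap _ (Localization.Away b) b = ρ Δ * ρ s := by
      rw [← map_mul]; rfl
    rw [this] at hbu
    exact isUnit_of_mul_isUnit_right hbu
  have hπt : π • ρ t = 0 := by
    have := hρL _ h1
    rw [map_mul, map_mul, hρC] at this
    have h3 := (hsunit.mul_right_eq_zero).1 this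
    rw [Algebra.smul_def]
    exact h3
  obtain ⟨l, hl, y, hy, hly⟩ := Submodule.mem_sup.1 h2
  obtain ⟨y', rfl⟩ := Ideal.mem_span_singleton'.1 hy
  obtain ⟨u, hu⟩ := hsunit.exists_left_inv
  have ht : ρ t = π • (u * ρ y') := by
    have h3 := congrArg ρ hly
    rw [map_add, hρL l hl, zero_add, map_mul, hρC, map_mul] at h3
    have h4 : ρ t = u * (ρ s * ρ t) := by rw [← mul_assoc, hu, one_mul]
    rw [h4, ← h3, Algebra.smul_def]
    ring
  have hzero : ρ t = 0 := by
    rw [ht]
    apply smul_eq_zero_of_sq_smul_eq_zero_of_flat π hR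
    rw [pow_two, mul_smul, ← ht, hπt]
  have hz' : algebraMap (MvPolynomial σ R ⧸ L) (Localization.Away b) (Ideal.Quotient.mk L t) = 0 :=
    hzero
  rw [IsLocalization.map_eq_zero_iff (Submonoid.powers b)] at hz'
  obtain ⟨⟨_, N, rfl⟩, hN⟩ := hz'
  refine ⟨N, ?_⟩
  rw [← Ideal.Quotient.eq_zero_iff_mem, map_mul, map_pow]
  exact hN

end Groth.Agent.Lib.Helper81.Pop
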