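import Mathlib

/-!
# The lifting lemma (Stacks 07CP): construction (helper81)

For `f_1, …, f_m ∈ R[x_1..x_n]` and `π ∈ R` we consider
`D = R[x, z]/(f_j − π z_j, Σ u_ℓ z_ℓ − π g  whenever Σ u_ℓ f_ℓ = π² g)`.
-/

set_option autoImplicit false
universe u

namespace Groth.Agent.Lib.Helper81.Pop

open MvPolynomial

section Defs

variable {R : Type u} [CommRing R] (π : R) {n m : ℕ} (f : Fin m → MvPolynomial (Fin n) R)

/-- inclusion of `R[x]` into `R[x,z]` -/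
noncomputable def inX : MvPolynomial (Fin n) R →ₐ[R] MvPolynomial (Fin n ⊕ Fin m) R :=
  rename Sum.inl

/-- the relation `f_j − π z_j` -/
noncomputable def FF (j : Fin m) : MvPolynomial (Fin n ⊕ Fin m) R :=
  inX (m := m) (f j) - C π * X (Sum.inr j)

/-- the relation `Σ u_ℓ z_ℓ − π g` -/
noncomputable def pw (u : Fin m → MvPolynomial (Fin n) R) (g : MvPolynomial (Fin n) R) :
    MvPolynomial (Fin n ⊕ Fin m) R :=
  ∑ ℓ, inX (m := m) (u ℓ) * X (Sum.inr ℓ) - C π * inX (m := m) g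

/-- the relations modulo `π²` among the `f_ℓ` -/
def Wrel : Set ((Fin m → MvPolynomial (Fin n) R) × MvPolynomial (Fin n) R) :=
  {w | ∑ ℓ, w.1 ℓ * f ℓ = C (π ^ 2) * w.2}

/-- the ideal of relations of `D` -/
noncomputable def JJ : Ideal (MvPolynomial (Fin n ⊕ Fin m) R) :=
  Ideal.span (Set.range (FF π f)) ⊔
    Ideal.span {t | ∃ w ∈ Wrel π f, t = pw (m := m) π w.1 w.2}

theorem FF_mem_JJ (j : Fin m) : FF π f j ∈ JJ π f :=
  Ideal.mem_sup_left (Ideal.subset_span ⟨j, rfl⟩)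

theorem pw_mem_JJ (u : Fin m → MvPolynomial (Fin n) R) (g : MvPolynomial (Fin n) R)
    (h : ∑ ℓ, u ℓ * f ℓ = C (π ^ 2) * g) : pw π u g ∈ JJ π f :=
  Ideal.mem_sup_right (Ideal.subset_span ⟨(u, g), h, rfl⟩)

/-- `π · p_w ∈ (F)` -/
theorem C_mul_pw_mem (u : Fin m → MvPolynomial (Fin n) R) (g : MvPolynomial (Fin n) R)
    (h : ∑ ℓ, u ℓ * f ℓ = C (π ^ 2) * g) :
    C π * pw π u g ∈ Ideal.span (Set.range (FF π f)) := by
  have h1 : C π * pw π u g = - ∑ ℓ, inX (m := m) (u ℓ) * FF π f ℓ := by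
    have h2 := congrArg (inX (m := m)) h
    rw [map_sum] at h2
    simp only [map_mul] at h2
    have h3 : inX (m := m) (C (π ^ 2) : MvPolynomial (Fin n) R) = C (π ^ 2) := by
      simp [inX]
    rw [h3] at h2
    have h4 : ∑ ℓ, inX (m := m) (u ℓ) * FF π f ℓ =
        ∑ ℓ, inX (m := m) (u ℓ) * inX (m := m) (f ℓ) -
          C π * ∑ ℓ, inX (m := m) (u ℓ) * X (Sum.inr ℓ) := by
      rw [Finset.mul_sum, ← Finset.sum_sub_distrib]
      refine Finset.sum_congr rfl fun ℓ _ => ?_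
      rw [FF]
      ring
    rw [h4, h2, pw, map_pow]
    ring
  rw [h1]
  refine Ideal.neg_mem_iff _ |>.2 (Ideal.sum_mem _ fun ℓ _ => Ideal.mul_mem_left _ _ ?_)
  exact Ideal.subset_span ⟨ℓ, rfl⟩

end Defs

section ToΛ

variable {R Λ : Type u} [CommRing R] [CommRing Λ] [Algebra R Λ] (π : R)
  (hΛ : ∀ x : Λ, π ^ 2 • x = 0 → π • x = 0)
  {n m : ℕ} (f : Fin m → MvPolynomial (Fin n) R) (lam : Fin n → Λ) (mu : Fin m → Λ)
  (hmu : ∀ j, aeval lam (f j) = algebraMap R Λ (π ^ 2) * mu j)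

/-- the evaluation map `R[x,z] → Λ`, `x ↦ λ`, `z ↦ π μ` -/
noncomputable def evΛ : MvPolynomial (Fin n ⊕ Fin m) R →ₐ[R] Λ :=
  aeval (Sum.elim lam fun j => algebraMap R Λ π * mu j)

theorem evΛ_inX (G : MvPolynomial (Fin n) R) : evΛ π lam mu (inX (m := m) G) = aeval lam G := by
  rw [evΛ, inX, aeval_rename]
  rfl

theorem evΛ_C (r : R) : evΛ π lam mu (C r : MvPolynomial (Fin n ⊕ Fin m) R) = algebraMap R Λ r := by
  rw [evΛ, aeval_C]

theorem evΛ_X_inr (j : Fin m) : evΛ π lam mu (X (Sum.inr j)) = algebraMap R Λ π * mu j := by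
  rw [evΛ, aeval_X]
  rfl

include hΛ hmu in
theorem JJ_le_ker_evΛ : JJ π f ≤ RingHom.ker (evΛ π lam mu).toRingHom := by
  rw [JJ, sup_le_iff, Ideal.span_le, Ideal.span_le]
  constructor
  · rintro _ ⟨j, rfl⟩
    rw [SetLike.mem_coe, RingHom.mem_ker]
    show evΛ π lam mu (FF π f j) = 0
    rw [FF, map_sub, map_mul, evΛ_inX, evΛ_X_inr, hmu, evΛ_C, map_pow]
    ring
  · rintro _ ⟨⟨u, g⟩, hw, rfl⟩
    rw [SetLike.mem_coe, RingHom.mem_ker]
    show evΛ π lam mu (pw π u g) = 0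
    have hw' : ∑ ℓ, u ℓ * f ℓ = C (π ^ 2) * g := hw
    rw [pw, map_sub, map_sum, map_mul, evΛ_inX]
    simp only [map_mul, evΛ_inX, evΛ_X_inr]
    rw [evΛ_C]
    set ξ : Λ := ∑ ℓ, aeval lam (u ℓ) * mu ℓ - aeval lam g with hξ
    have h1 : ∑ ℓ, aeval lam (u ℓ) * (algebraMap R Λ π * mu ℓ) - algebraMap R Λ π * aeval lam g =
        π • ξ := by
      rw [hξ, Algebra.smul_def, mul_sub, Finset.mul_sum]
      congr 1
      refine Finset.sum_congr rfl fun ℓ _ => ?_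
      ring
    have h2 : π ^ 2 • ξ = 0 := by
      have h3 := congrArg (aeval lam) hw'
      rw [map_sum, map_mul] at h3
      simp only [map_mul, hmu] at h3
      rw [aeval_C] at h3
      rw [hξ, Algebra.smul_def, mul_sub, ← h3, Finset.mul_sum, sub_eq_zero]
      refine Finset.sum_congr rfl fun ℓ _ => ?_
      ring
    rw [h1]
    exact hΛ ξ h2

end ToΛ

end Groth.Agent.Lib.Helper81.Pop
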