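import Mathlib
import Groth.Agent.Lib.Helper81.PopJac
import Groth.Agent.Lib.Helper81.PopTors
import Groth.Agent.Lib.Helper81.PopLiftDefs

/-!
# The lifting lemma (Stacks 07CP): smoothness of `D` (helper81)
-/

set_option autoImplicit false
universe u

namespace Groth.Agent.Lib.Helper81.Pop

open MvPolynomial

section PDeriv

variable {R : Type u} [CommRing R] {n m : ℕ}

theorem pderiv_inl_inX (k : Fin n) (G : MvPolynomial (Fin n) R) :
    pderiv (Sum.inl k) (inX (m := m) G) = inX (m := m) (pderiv k G) :=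
  pderiv_rename Sum.inl_injective k G

theorem pderiv_inr_inX (ℓ : Fin m) (G : MvPolynomial (Fin n) R) :
    pderiv (Sum.inr ℓ) (inX (m := m) G) = 0 := by
  classical
  apply pderiv_eq_zero_of_notMem_vars
  intro h
  have h1 := vars_rename (Sum.inl : Fin n → Fin n ⊕ Fin m) G h
  simp at h1

theorem pderiv_inl_X_inr (k : Fin n) (ℓ : Fin m) :
    pderiv (Sum.inl k) (X (Sum.inr ℓ) : MvPolynomial (Fin n ⊕ Fin m) R) = 0 := by
  classical
  rw [pderiv_X, Pi.single_apply, if_neg (by simp)]

theorem pderiv_inr_X_inr (k ℓ : Fin m) :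
    pderiv (Sum.inr k) (X (Sum.inr ℓ) : MvPolynomial (Fin n ⊕ Fin m) R) = if k = ℓ then 1 else 0 := by
  classical
  rw [pderiv_X, Pi.single_apply]
  simp only [Sum.inr.injEq, eq_comm]

end PDeriv

section PartB

variable {R : Type u} [CommRing R] (π : R) {n m : ℕ} (f : Fin m → MvPolynomial (Fin n) R)

theorem C_mul_mem_span_FF {t : MvPolynomial (Fin n ⊕ Fin m) R} (ht : t ∈ JJ π f) :
    C π * t ∈ Ideal.span (Set.range (FF π f)) := by
  obtain ⟨t₁, ht₁, t₂, ht₂, rfl⟩ := Submodule.mem_sup.1 ht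
  rw [mul_add]
  refine Ideal.add_mem _ (Ideal.mul_mem_left _ _ ht₁) ?_
  clear ht
  induction ht₂ using Submodule.span_induction with
  | mem x hx =>
    obtain ⟨w, hw, rfl⟩ := hx
    exact C_mul_pw_mem π f w.1 w.2 hw
  | zero => simp
  | add x y _ _ hx hy => rw [mul_add]; exact Ideal.add_mem _ hx hy
  | smul r x _ hx => rw [smul_eq_mul, mul_left_comm]; exact Ideal.mul_mem_left _ _ hx

/-- `D` is smooth over `R` at the primes not containing `π`. -/
theorem isSmoothAt_of_pi_notMem (Q : Ideal (MvPolynomial (Fin n ⊕ Fin m) R ⧸ JJ π f)) [Q.IsPrime]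
    (hπ : Ideal.Quotient.mk (JJ π f) (C π) ∉ Q) : Algebra.IsSmoothAt R Q := by
  classical
  refine isSmoothAt_quotient_of_jacobian (JJ π f) (FF π f) (FF_mem_JJ π f) Sum.inr
    Sum.inr_injective Q ?_ ?_
  · have hmat : (Matrix.of fun j k : Fin m => pderiv (Sum.inr k) (FF π f j)) =
        Matrix.diagonal (fun _ => - C π) := by
      ext j k
      simp only [Matrix.of_apply, FF, map_sub, pderiv_inr_inX, zero_sub, Matrix.diagonal_apply]
      rw [Derivation.leibniz, pderiv_C, pderiv_inr_X_inr]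
      by_cases hjk : j = k
      · subst hjk; simp
      · rw [if_neg hjk, if_neg (Ne.symm hjk)]; simp
    rw [hmat, Matrix.det_diagonal, Finset.prod_const, map_pow, map_neg]
    intro h
    exact hπ (neg_mem_iff.1 (Ideal.IsPrime.mem_of_pow_mem inferInstance _ h))
  · intro t ht
    exact ⟨C π, hπ, C_mul_mem_span_FF π f ht⟩

end PartB

section PartC

variable {R : Type u} [CommRing R] (π : R) {n m : ℕ} (f : Fin m → MvPolynomial (Fin n) R)
  {c : ℕ} (rows : Fin c ↪ Fin m) (cols : Fin c ↪ Fin n)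
  (a : MvPolynomial (Fin n) R) (H : Fin m → Fin c → MvPolynomial (Fin n) R)
  (g : Fin m → MvPolynomial (Fin n) R)

/-- the Jacobian minor of the chosen relations against the chosen variables -/
noncomputable def chartMinor : MvPolynomial (Fin n) R :=
  Matrix.det (Matrix.of fun i i' : Fin c => pderiv (cols i') (f (rows i)))

/-- the linear relation attached to a chart -/
noncomputable def pchart (ℓ : Fin m) : MvPolynomial (Fin n ⊕ Fin m) R :=
  inX (m := m) a * X (Sum.inr ℓ) - ∑ i, inX (m := m) (H ℓ i) * X (Sum.inr (rows i)) -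
    C π * inX (m := m) (g ℓ)

variable (eq1 : ∀ ℓ, a * f ℓ = ∑ i, H ℓ i * f (rows i) + C (π ^ 2) * g ℓ)
  (eq2 : ∀ i₀ i, H (rows i₀) i = if i = i₀ then a else 0)
  (eq3 : ∀ i₀, g (rows i₀) = 0)

include eq1 in
theorem pchart_mem_JJ (ℓ : Fin m) : pchart π rows a H g ℓ ∈ JJ π f := by
  classical
  let u : Fin m → MvPolynomial (Fin n) R := fun ℓ' =>
    (if ℓ' = ℓ then a else 0) - ∑ i, if ℓ' = rows i then H ℓ i else 0
  have hu : ∑ ℓ', u ℓ' * f ℓ' = C (π ^ 2) * g ℓ := by
    simp only [u, sub_mul, Finset.sum_sub_distrib, ite_mul, zero_mul, Finset.sum_ite_eq',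
      Finset.mem_univ, if_true, Finset.sum_mul]
    rw [Finset.sum_comm]
    simp only [Finset.sum_ite_eq', Finset.mem_univ, if_true]
    rw [eq1 ℓ]
    ring
  have hp : pchart π rows a H g ℓ = pw π u (g ℓ) := by
    simp only [pchart, pw, u, map_sub, map_sum, sub_mul, Finset.sum_sub_distrib, Finset.sum_mul]
    congr 2
    · have : ∀ ℓ' : Fin m, inX (m := m) (if ℓ' = ℓ then a else 0) * X (Sum.inr ℓ') =
          if ℓ' = ℓ then inX (m := m) a * X (Sum.inr ℓ) else 0 := by
        intro ℓ'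
        split_ifs with h
        · rw [h]
        · rw [map_zero, zero_mul]
      simp only [this, Finset.sum_ite_eq', Finset.mem_univ, if_true]
    · rw [Finset.sum_comm]
      refine Finset.sum_congr rfl fun i _ => ?_
      have : ∀ ℓ' : Fin m, inX (m := m) (if ℓ' = rows i then H ℓ i else 0) * X (Sum.inr ℓ') =
          if ℓ' = rows i then inX (m := m) (H ℓ i) * X (Sum.inr (rows i)) else 0 := by
        intro ℓ'
        split_ifs with h
        · rw [h]
        · rw [map_zero, zero_mul]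
      simp only [this, Finset.sum_ite_eq', Finset.mem_univ, if_true]
  rw [hp]
  exact pw_mem_JJ π f u (g ℓ) hu

include eq2 eq3 in
theorem pchart_rows (i₀ : Fin c) : pchart π rows a H g (rows i₀) = 0 := by
  classical
  simp only [pchart, eq2, eq3, map_zero, mul_zero, sub_zero]
  have : ∀ i : Fin c, inX (m := m) (if i = i₀ then a else 0) * X (Sum.inr (rows i)) =
      if i = i₀ then inX (m := m) a * X (Sum.inr (rows i₀)) else 0 := by
    intro i
    split_ifs with h
    · rw [h]
    · rw [map_zero, zero_mul]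
  simp only [this, Finset.sum_ite_eq', Finset.mem_univ, if_true, sub_self]

include eq1 in
theorem inX_a_mul_FF (ℓ : Fin m) :
    inX (m := m) a * FF π f ℓ =
      ∑ i, inX (m := m) (H ℓ i) * FF π f (rows i) - C π * pchart π rows a H g ℓ := by
  have h1 := congrArg (inX (m := m)) (eq1 ℓ)
  simp only [map_add, map_mul, map_sum] at h1
  have h3 : inX (m := m) (C (π ^ 2) : MvPolynomial (Fin n) R) = C (π ^ 2) := by
    simp [inX]
  rw [h3] at h1
  have h4 : ∑ i, inX (m := m) (H ℓ i) * FF π f (rows i) =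
      ∑ i, inX (m := m) (H ℓ i) * inX (m := m) (f (rows i)) -
        C π * ∑ i, inX (m := m) (H ℓ i) * X (Sum.inr (rows i)) := by
    rw [Finset.mul_sum, ← Finset.sum_sub_distrib]
    refine Finset.sum_congr rfl fun i _ => ?_
    rw [FF]
    ring
  rw [h4, FF, mul_sub, h1, pchart, map_pow]
  ring

end PartC

section PartC2

variable {R : Type u} [CommRing R] (π : R) {n m : ℕ} (f : Fin m → MvPolynomial (Fin n) R)
  {c : ℕ} (rows : Fin c ↪ Fin m) (cols : Fin c ↪ Fin n)
  (a : MvPolynomial (Fin n) R) (H : Fin m → Fin c → MvPolynomial (Fin n) R)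
  (g : Fin m → MvPolynomial (Fin n) R)

/-- the adjugate trick: if `Σ γ_i f_{rows i} ∈ (π²)` then `minor · γ_i ∈ (f) + (π)` -/
theorem chartMinor_mul_mem (γ : Fin c → MvPolynomial (Fin n) R) (g'' : MvPolynomial (Fin n) R)
    (hγ : ∑ i, γ i * f (rows i) = C (π ^ 2) * g'') (i : Fin c) :
    chartMinor f rows cols * γ i ∈ Ideal.span (Set.range f) ⊔ Ideal.span {C π} := by
  classical
  set 𝔪 : Ideal (MvPolynomial (Fin n) R) := Ideal.span (Set.range f) ⊔ Ideal.span {C π} with h𝔪
  set A₀ : Matrix (Fin c) (Fin c) (MvPolynomial (Fin n) R) :=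
    Matrix.of fun i i' : Fin c => pderiv (cols i') (f (rows i)) with hA₀
  have hρ : ∀ i', Matrix.vecMul γ A₀ i' ∈ 𝔪 := by
    intro i'
    have h1 := congrArg (pderiv (cols i')) hγ
    rw [map_sum] at h1
    simp only [Derivation.leibniz, pderiv_C, smul_eq_mul] at h1
    rw [Finset.sum_add_distrib] at h1
    have h2 : Matrix.vecMul γ A₀ i' = ∑ i, γ i * pderiv (cols i') (f (rows i)) := by
      simp [Matrix.vecMul, dotProduct, hA₀]
    rw [h2, eq_sub_of_add_eq h1]
    refine Ideal.sub_mem _ ?_ (Ideal.sum_mem _ fun i _ => ?_)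
    · apply Ideal.mem_sup_right
      rw [Ideal.mem_span_singleton]
      refine ⟨C π * pderiv (cols i') g'', ?_⟩
      rw [map_pow]
      ring
    · exact Ideal.mem_sup_left (Ideal.mul_mem_right _ _ (Ideal.subset_span ⟨rows i, rfl⟩))
  have h3 : Matrix.vecMul (Matrix.vecMul γ A₀) A₀.adjugate i = chartMinor f rows cols * γ i := by
    rw [Matrix.vecMul_vecMul, Matrix.mul_adjugate]
    simp only [Matrix.vecMul, dotProduct, Matrix.smul_apply, Matrix.one_apply, smul_eq_mul]
    rw [Finset.sum_eq_single i]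
    · rw [if_pos rfl, mul_one, mul_comm]; rfl
    · intro k _ hki
      rw [if_neg hki, mul_zero, mul_zero]
    · intro h; exact absurd (Finset.mem_univ i) h
  rw [← h3]
  simp only [Matrix.vecMul, dotProduct]
  exact Ideal.sum_mem _ fun i' _ => Ideal.mul_mem_right _ _ (hρ i')

/-- the local generators attached to a chart -/
noncomputable def Gch : (Fin c ⊕ {ℓ : Fin m // ℓ ∉ Set.range rows}) → MvPolynomial (Fin n ⊕ Fin m) R
  | Sum.inl i => FF π f (rows i)
  | Sum.inr ℓ => pchart π rows a H g ℓ.1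

/-- the variables against which the Jacobian is taken -/
def vch : (Fin c ⊕ {ℓ : Fin m // ℓ ∉ Set.range rows}) → Fin n ⊕ Fin m
  | Sum.inl i => Sum.inl (cols i)
  | Sum.inr ℓ => Sum.inr ℓ.1

theorem vch_injective : Function.Injective (vch (n := n) rows cols) := by
  rintro (i | ℓ) (i' | ℓ') h
  · simp only [vch, Sum.inl.injEq] at h
    rw [cols.injective h]
  · simp [vch] at h
  · simp [vch] at h
  · simp only [vch, Sum.inr.injEq] at h
    rw [Subtype.ext h]

theorem det_chart [DecidableEq {ℓ : Fin m // ℓ ∉ Set.range rows}] :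
    Matrix.det (Matrix.of fun j k : Fin c ⊕ {ℓ : Fin m // ℓ ∉ Set.range rows} =>
      pderiv (vch (n := n) rows cols k) (Gch π f rows a H g j)) =
    inX (m := m) (chartMinor f rows cols) *
      inX (m := m) a ^ Fintype.card {ℓ : Fin m // ℓ ∉ Set.range rows} := by
  classical
  set M := Matrix.of fun j k : Fin c ⊕ {ℓ : Fin m // ℓ ∉ Set.range rows} =>
      pderiv (vch (n := n) rows cols k) (Gch π f rows a H g j) with hM
  have h12 : M.toBlocks₁₂ = 0 := by
    ext i ℓ
    simp only [Matrix.toBlocks₁₂, hM, Matrix.of_apply, Gch, vch, FF, map_sub, pderiv_inr_inX,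
      Matrix.zero_apply, zero_sub]
    have hne : ¬ (ℓ.1 = rows i) := fun h => ℓ.2 ⟨i, h.symm⟩
    rw [Derivation.leibniz, pderiv_C, pderiv_inr_X_inr, if_neg hne, smul_zero, smul_zero, add_zero,
      neg_zero]
  have h11 : M.toBlocks₁₁ = (Matrix.of fun i i' : Fin c => pderiv (cols i') (f (rows i))).map
      (inX (m := m)) := by
    ext i i'
    simp only [Matrix.toBlocks₁₁, hM, Matrix.of_apply, Gch, vch, FF, map_sub, pderiv_inl_inX,
      Matrix.map_apply]
    rw [Derivation.leibniz, pderiv_C, pderiv_inl_X_inr, smul_zero, smul_zero, add_zero, sub_zero]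
  have h22 : M.toBlocks₂₂ = Matrix.diagonal fun _ => inX (m := m) a := by
    ext ℓ ℓ'
    simp only [Matrix.toBlocks₂₂, hM, Matrix.of_apply, Gch, vch, pchart, map_sub, map_sum,
      Matrix.diagonal_apply]
    have e1 : pderiv (Sum.inr ℓ'.1) (inX (m := m) a * X (Sum.inr ℓ.1)) =
        if ℓ = ℓ' then inX (m := m) a else 0 := by
      rw [Derivation.leibniz, pderiv_inr_inX, pderiv_inr_X_inr, smul_zero, add_zero]
      by_cases h : ℓ = ℓ'
      · rw [if_pos h, if_pos (by rw [h]), smul_eq_mul, mul_one]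
      · rw [if_neg h, if_neg (fun h' => h (Subtype.ext h'.symm)), smul_zero]
    have e2 : ∀ i : Fin c, pderiv (Sum.inr ℓ'.1)
        (inX (m := m) (H ℓ.1 i) * X (Sum.inr (rows i))) = 0 := by
      intro i
      have hne : ¬ (ℓ'.1 = rows i) := fun h => ℓ'.2 ⟨i, h.symm⟩
      rw [Derivation.leibniz, pderiv_inr_inX, pderiv_inr_X_inr, smul_zero, add_zero, if_neg hne,
        smul_zero]
    have e3 : pderiv (Sum.inr ℓ'.1) (C π * inX (m := m) (g ℓ.1)) = 0 := by
      rw [Derivation.leibniz, pderiv_C, pderiv_inr_inX, smul_zero, smul_zero, add_zero]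
    rw [e1, e3]
    simp only [e2, Finset.sum_const_zero, sub_zero]
  have hblocks := Matrix.fromBlocks_toBlocks M
  rw [h12] at hblocks
  rw [← hblocks, Matrix.det_fromBlocks_zero₁₂, h11, h22, Matrix.det_diagonal, Finset.prod_const,
    Finset.card_univ]
  congr 1
  rw [chartMinor]
  exact (AlgHom.map_det (inX (m := m)) _).symm

end PartC2

section PartC3

variable {R : Type u} [CommRing R] (π : R) (hR : ∀ r : R, π ^ 2 * r = 0 → π * r = 0)
  {n m : ℕ} (f : Fin m → MvPolynomial (Fin n) R)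
  {c : ℕ} (rows : Fin c ↪ Fin m) (cols : Fin c ↪ Fin n)
  (a : MvPolynomial (Fin n) R) (H : Fin m → Fin c → MvPolynomial (Fin n) R)
  (g : Fin m → MvPolynomial (Fin n) R)
  (eq1 : ∀ ℓ, a * f ℓ = ∑ i, H ℓ i * f (rows i) + C (π ^ 2) * g ℓ)
  (eq2 : ∀ i₀ i, H (rows i₀) i = if i = i₀ then a else 0)
  (eq3 : ∀ i₀, g (rows i₀) = 0)

include eq2 eq3 in
theorem pchart_mem_span_Gch (ℓ : Fin m) :
    pchart π rows a H g ℓ ∈ Ideal.span (Set.range (Gch π f rows a H g)) := by
  by_cases hℓ : ℓ ∈ Set.range rows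
  · obtain ⟨i₀, rfl⟩ := hℓ
    rw [pchart_rows π rows a H g eq2 eq3]
    exact Ideal.zero_mem _
  · exact Ideal.subset_span ⟨Sum.inr ⟨ℓ, hℓ⟩, rfl⟩

include eq1 eq2 eq3 in
theorem inX_a_mul_FF_mem (ℓ : Fin m) :
    inX (m := m) a * FF π f ℓ ∈ Ideal.span (Set.range (Gch π f rows a H g)) := by
  rw [inX_a_mul_FF π f rows a H g eq1]
  refine Ideal.sub_mem _ (Ideal.sum_mem _ fun i _ => Ideal.mul_mem_left _ _ ?_)
    (Ideal.mul_mem_left _ _ (pchart_mem_span_Gch π f rows a H g eq2 eq3 ℓ))
  exact Ideal.subset_span ⟨Sum.inl i, rfl⟩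

include eq1 eq2 eq3 in
theorem inX_a_mul_mem_of_mem_span_FF {x : MvPolynomial (Fin n ⊕ Fin m) R}
    (hx : x ∈ Ideal.span (Set.range (FF π f))) :
    inX (m := m) a * x ∈ Ideal.span (Set.range (Gch π f rows a H g)) := by
  induction hx using Submodule.span_induction with
  | mem x hx =>
    obtain ⟨ℓ, rfl⟩ := hx
    exact inX_a_mul_FF_mem π f rows a H g eq1 eq2 eq3 ℓ
  | zero => simp
  | add x y _ _ hx hy => rw [mul_add]; exact Ideal.add_mem _ hx hy
  | smul r x _ hx => rw [smul_eq_mul, mul_left_comm]; exact Ideal.mul_mem_left _ _ hx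

include eq1 eq2 eq3 in
/-- `inX a · inX y ∈ (G) + (π)` for `y ∈ (f) + (π)` -/
theorem inX_a_mul_inX_mem {y : MvPolynomial (Fin n) R}
    (hy : y ∈ Ideal.span (Set.range f) ⊔ Ideal.span {C π}) :
    inX (m := m) a * inX (m := m) y ∈
      Ideal.span (Set.range (Gch π f rows a H g)) ⊔ Ideal.span {C π} := by
  obtain ⟨y₁, hy₁, y₂, hy₂, rfl⟩ := Submodule.mem_sup.1 hy
  rw [map_add, mul_add]
  refine Ideal.add_mem _ ?_ ?_
  · clear hy
    induction hy₁ using Submodule.span_induction with
    | mem x hx =>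
      obtain ⟨ℓ, rfl⟩ := hx
      have : inX (m := m) a * inX (m := m) (f ℓ) =
          inX (m := m) a * FF π f ℓ + C π * (inX (m := m) a * X (Sum.inr ℓ)) := by
        rw [FF]; ring
      rw [this]
      exact Ideal.add_mem _ (Ideal.mem_sup_left (inX_a_mul_FF_mem π f rows a H g eq1 eq2 eq3 ℓ))
        (Ideal.mem_sup_right (Ideal.mul_mem_right _ _ (Ideal.subset_span rfl)))
    | zero => simp
    | add x y _ _ hx hy => rw [map_add, mul_add]; exact Ideal.add_mem _ hx hy
    | smul r x _ hx =>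
      rw [smul_eq_mul, map_mul, mul_left_comm]; exact Ideal.mul_mem_left _ _ hx
  · obtain ⟨y', rfl⟩ := Ideal.mem_span_singleton'.1 hy₂
    apply Ideal.mem_sup_right
    rw [map_mul]
    have : inX (m := m) (C π : MvPolynomial (Fin n) R) = C π := by simp [inX]
    rw [this]
    exact Ideal.mul_mem_left _ _ (Ideal.mul_mem_left _ _ (Ideal.subset_span rfl))

include eq1 eq2 eq3 in
/-- the key congruence: `(inX a)² · inX minor · p_w ∈ (G) + (π)` -/
theorem sq_mul_minor_mul_pw_mem (u : Fin m → MvPolynomial (Fin n) R) (g₀ : MvPolynomial (Fin n) R)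
    (hw : ∑ ℓ, u ℓ * f ℓ = C (π ^ 2) * g₀) :
    (inX (m := m) a ^ 2 * inX (m := m) (chartMinor f rows cols)) * pw π u g₀ ∈
      Ideal.span (Set.range (Gch π f rows a H g)) ⊔ Ideal.span {C π} := by
  classical
  set L := Ideal.span (Set.range (Gch π f rows a H g)) with hL
  set γ : Fin c → MvPolynomial (Fin n) R := fun i => ∑ ℓ, u ℓ * H ℓ i with hγ
  -- the relation satisfied by `γ`
  have hγrel : ∑ i, γ i * f (rows i) = C (π ^ 2) * (a * g₀ - ∑ ℓ, u ℓ * g ℓ) := by
    have h1 : ∑ i, γ i * f (rows i) = ∑ ℓ, u ℓ * ∑ i, H ℓ i * f (rows i) := by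
      simp only [hγ, Finset.sum_mul, Finset.mul_sum]
      rw [Finset.sum_comm]
      refine Finset.sum_congr rfl fun ℓ _ => Finset.sum_congr rfl fun i _ => ?_
      ring
    have h2 : ∀ ℓ, ∑ i, H ℓ i * f (rows i) = a * f ℓ - C (π ^ 2) * g ℓ := fun ℓ => by
      rw [eq1 ℓ]; ring
    rw [h1]
    simp only [h2, mul_sub, Finset.sum_sub_distrib]
    have h3 : ∑ ℓ, u ℓ * (a * f ℓ) = a * ∑ ℓ, u ℓ * f ℓ := by
      rw [Finset.mul_sum]
      refine Finset.sum_congr rfl fun ℓ _ => ?_
      ring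
    have h4 : ∑ ℓ, u ℓ * (C (π ^ 2) * g ℓ) = C (π ^ 2) * ∑ ℓ, u ℓ * g ℓ := by
      rw [Finset.mul_sum]
      refine Finset.sum_congr rfl fun ℓ _ => ?_
      ring
    rw [h3, h4, hw]
    ring
  have hminor : ∀ i, inX (m := m) a * inX (m := m) (chartMinor f rows cols * γ i) ∈
      L ⊔ Ideal.span {C π} := fun i =>
    inX_a_mul_inX_mem π f rows a H g eq1 eq2 eq3
      (chartMinor_mul_mem π f rows cols γ _ hγrel i)
  -- expand `inX a * pw`
  have hexp : inX (m := m) a * pw π u g₀ =
      ∑ ℓ, inX (m := m) (u ℓ) * pchart π rows a H g ℓ +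
        ∑ i, inX (m := m) (γ i) * X (Sum.inr (rows i)) +
        C π * (∑ ℓ, inX (m := m) (u ℓ) * inX (m := m) (g ℓ) - inX (m := m) a * inX (m := m) g₀) := by
    have h1 : ∑ i, inX (m := m) (γ i) * X (Sum.inr (rows i)) =
        ∑ ℓ, inX (m := m) (u ℓ) * ∑ i, inX (m := m) (H ℓ i) * X (Sum.inr (rows i)) := by
      simp only [hγ, map_sum, map_mul, Finset.sum_mul, Finset.mul_sum]
      rw [Finset.sum_comm]
      refine Finset.sum_congr rfl fun ℓ _ => Finset.sum_congr rfl fun i _ => ?_
      ring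
    have hS : ∑ ℓ, inX (m := m) (u ℓ) * pchart π rows a H g ℓ =
        inX (m := m) a * ∑ ℓ, inX (m := m) (u ℓ) * X (Sum.inr ℓ) -
          ∑ ℓ, inX (m := m) (u ℓ) * ∑ i, inX (m := m) (H ℓ i) * X (Sum.inr (rows i)) -
          C π * ∑ ℓ, inX (m := m) (u ℓ) * inX (m := m) (g ℓ) := by
      rw [Finset.mul_sum, Finset.mul_sum, ← Finset.sum_sub_distrib, ← Finset.sum_sub_distrib]
      refine Finset.sum_congr rfl fun ℓ _ => ?_
      rw [pchart]
      ring
    rw [hS, h1, pw]
    ring
  have hfinal : (inX (m := m) a ^ 2 * inX (m := m) (chartMinor f rows cols)) * pw π u g₀ =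
      (inX (m := m) a * inX (m := m) (chartMinor f rows cols)) * (inX (m := m) a * pw π u g₀) := by
    ring
  rw [hfinal, hexp, mul_add, mul_add]
  refine Ideal.add_mem _ (Ideal.add_mem _ ?_ ?_) ?_
  · apply Ideal.mem_sup_left
    apply Ideal.mul_mem_left
    exact Ideal.sum_mem _ fun ℓ _ => Ideal.mul_mem_left _ _
      (pchart_mem_span_Gch π f rows a H g eq2 eq3 ℓ)
  · rw [Finset.mul_sum]
    refine Ideal.sum_mem _ fun i _ => ?_
    have : inX (m := m) a * inX (m := m) (chartMinor f rows cols) *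
        (inX (m := m) (γ i) * X (Sum.inr (rows i))) =
        (inX (m := m) a * inX (m := m) (chartMinor f rows cols * γ i)) * X (Sum.inr (rows i)) := by
      rw [map_mul]; ring
    rw [this]
    exact Ideal.mul_mem_right _ _ (hminor i)
  · apply Ideal.mem_sup_right
    rw [mul_left_comm]
    exact Ideal.mul_mem_right _ _ (Ideal.subset_span rfl)

include hR eq1 eq2 eq3 in
/-- `D` is smooth over `R` at the primes in a chart. -/
theorem isSmoothAt_of_chart (Q : Ideal (MvPolynomial (Fin n ⊕ Fin m) R ⧸ JJ π f)) [Q.IsPrime]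
    (ha : Ideal.Quotient.mk (JJ π f) (inX (m := m) a) ∉ Q)
    (hminor : Ideal.Quotient.mk (JJ π f) (inX (m := m) (chartMinor f rows cols)) ∉ Q) :
    Algebra.IsSmoothAt R Q := by
  classical
  have hdet : Ideal.Quotient.mk (JJ π f) (Matrix.det (Matrix.of
      fun j k : Fin c ⊕ {ℓ : Fin m // ℓ ∉ Set.range rows} =>
        pderiv (vch (n := n) rows cols k) (Gch π f rows a H g j))) ∉ Q := by
    rw [det_chart, map_mul, map_pow]
    intro h
    rcases Ideal.IsPrime.mem_or_mem inferInstance h with h | h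
    · exact hminor h
    · exact ha (Ideal.IsPrime.mem_of_pow_mem inferInstance _ h)
  refine isSmoothAt_quotient_of_jacobian (JJ π f) (Gch π f rows a H g) ?_ (vch rows cols)
    (vch_injective rows cols) Q hdet ?_
  · rintro (i | ℓ)
    · exact FF_mem_JJ π f (rows i)
    · exact pchart_mem_JJ π f rows a H g eq1 ℓ.1
  · set L := Ideal.span (Set.range (Gch π f rows a H g)) with hL
    let T : Ideal (MvPolynomial (Fin n ⊕ Fin m) R) :=
      { carrier := {t | ∃ s : MvPolynomial (Fin n ⊕ Fin m) R,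
          Ideal.Quotient.mk (JJ π f) s ∉ Q ∧ s * t ∈ L}
        add_mem' := by
          rintro t₁ t₂ ⟨s₁, hs₁, h₁⟩ ⟨s₂, hs₂, h₂⟩
          refine ⟨s₁ * s₂, ?_, ?_⟩
          · rw [map_mul]
            intro h
            rcases Ideal.IsPrime.mem_or_mem inferInstance h with h | h
            · exact hs₁ h
            · exact hs₂ h
          · have : s₁ * s₂ * (t₁ + t₂) = s₂ * (s₁ * t₁) + s₁ * (s₂ * t₂) := by ring
            rw [this]
            exact Ideal.add_mem _ (Ideal.mul_mem_left _ _ h₁) (Ideal.mul_mem_left _ _ h₂)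
        zero_mem' := by
          refine ⟨1, ?_, ?_⟩
          · rw [map_one]
            exact fun h => (Ideal.IsPrime.ne_top inferInstance) ((Ideal.eq_top_iff_one _).2 h)
          · rw [mul_zero]; exact Ideal.zero_mem _
        smul_mem' := by
          rintro r t ⟨s, hs, h⟩
          refine ⟨s, hs, ?_⟩
          rw [smul_eq_mul, mul_left_comm]
          exact Ideal.mul_mem_left _ _ h }
    have hT : JJ π f ≤ T := by
      rw [JJ, sup_le_iff, Ideal.span_le, Ideal.span_le]
      constructor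
      · rintro _ ⟨ℓ, rfl⟩
        exact ⟨inX (m := m) a, ha, inX_a_mul_FF_mem π f rows a H g eq1 eq2 eq3 ℓ⟩
      · rintro _ ⟨⟨u, g₀⟩, hw, rfl⟩
        have hw' : ∑ ℓ, u ℓ * f ℓ = C (π ^ 2) * g₀ := hw
        set s := inX (m := m) a ^ 2 * inX (m := m) (chartMinor f rows cols) with hs
        have h1 : s * (C π * pw π u g₀) ∈ L := by
          have h3 := inX_a_mul_mem_of_mem_span_FF π f rows a H g eq1 eq2 eq3
            (C_mul_pw_mem π f u g₀ hw')
          have : s * (C π * pw π u g₀) = (inX (m := m) a * inX (m := m) (chartMinor f rows cols)) *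
              (inX (m := m) a * (C π * pw π u g₀)) := by
            rw [hs]; ring
          rw [this]
          exact Ideal.mul_mem_left _ _ h3
        have h2 : s * pw π u g₀ ∈ L ⊔ Ideal.span {C π} :=
          sq_mul_minor_mul_pw_mem π f rows cols a H g eq1 eq2 eq3 u g₀ hw'
        obtain ⟨N, hN⟩ := exists_pow_mul_mem_span_of_torsion π hR (Gch π f rows a H g)
          (vch rows cols) (vch_injective rows cols) s (pw π u g₀) h1 h2
        refine ⟨_, ?_, hN⟩
        rw [map_pow, map_mul]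
        intro h
        have h' := Ideal.IsPrime.mem_of_pow_mem inferInstance _ h
        rcases Ideal.IsPrime.mem_or_mem inferInstance h' with h' | h'
        · exact hdet h'
        · rw [hs, map_mul, map_pow] at h'
          rcases Ideal.IsPrime.mem_or_mem inferInstance h' with h' | h'
          · exact ha (Ideal.IsPrime.mem_of_pow_mem inferInstance _ h')
          · exact hminor h'
    intro t ht
    exact hT ht

end PartC3

end Groth.Agent.Lib.Helper81.Pop
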