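import Mathlib
import Groth.Agent.Lib.Helper81.PopLiftSmooth

/-!
# The lifting lemma (Stacks 07CP): producing charts (helper81)
-/

set_option autoImplicit false
universe u

namespace Groth.Agent.Lib.Helper81.Pop

open MvPolynomial

/-- Determinant trick: if `a₁ · I ⊆ I_E + I²` then some `a₂ ≡ a₁^d mod I` has `a₂ · I ⊆ I_E`. -/
theorem exists_mul_mem_span_of_mul_mem_sup_sq {S : Type*} [CommRing S] {m : ℕ} {ι : Type*}
    (f : Fin m → S) (rows : ι → Fin m) (a₁ : S)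
    (h : ∀ ℓ, a₁ * f ℓ ∈ Ideal.span (Set.range (f ∘ rows)) ⊔ Ideal.span (Set.range f) ^ 2) :
    ∃ a₂ : S, a₂ - a₁ ^ m ∈ Ideal.span (Set.range f) ∧
      ∀ ℓ, a₂ * f ℓ ∈ Ideal.span (Set.range (f ∘ rows)) := by
  classical
  set I := Ideal.span (Set.range f) with hI
  set IE := Ideal.span (Set.range (f ∘ rows)) with hIE
  have hdec : ∀ ℓ, ∃ e ∈ IE, ∃ b : Fin m → S, (∀ k, b k ∈ I) ∧ a₁ * f ℓ = e + ∑ k, b k * f k := by
    intro ℓ
    obtain ⟨e, he, z, hz, hez⟩ := Submodule.mem_sup.1 (h ℓ)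
    have hz' : z ∈ I • Submodule.span S (Set.range f) := by
      rw [pow_two] at hz
      exact hz
    obtain ⟨b, hb, hbz⟩ := (Submodule.mem_ideal_smul_span_iff_exists_sum I f z).1 hz'
    refine ⟨e, he, fun k => b k, hb, ?_⟩
    rw [← hez, ← hbz, Finsupp.sum_fintype b (fun i c => c • f i) (fun i => zero_smul _ _)]
    simp only [smul_eq_mul]
  choose e he B hB hBe using hdec
  set Mx : Matrix (Fin m) (Fin m) S := a₁ • (1 : Matrix (Fin m) (Fin m) S) - Matrix.of B with hMx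
  have hmul : Mx.mulVec f = e := by
    ext ℓ
    rw [hMx, Matrix.sub_mulVec, Matrix.smul_mulVec, Matrix.one_mulVec]
    simp only [Pi.sub_apply, Pi.smul_apply, smul_eq_mul, Matrix.mulVec, dotProduct, Matrix.of_apply]
    rw [hBe ℓ]
    ring
  refine ⟨Mx.det, ?_, ?_⟩
  · rw [← Ideal.Quotient.eq, RingHom.map_det]
    have : (Ideal.Quotient.mk I).mapMatrix Mx =
        (Ideal.Quotient.mk I a₁) • (1 : Matrix (Fin m) (Fin m) (S ⧸ I)) := by
      ext i j
      simp only [RingHom.mapMatrix_apply, Matrix.map_apply, hMx, Matrix.sub_apply,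
        Matrix.smul_apply, Matrix.of_apply, map_sub, smul_eq_mul, map_mul]
      rw [Ideal.Quotient.eq_zero_iff_mem.2 (hB i j), sub_zero]
      by_cases hij : i = j
      · subst hij; simp
      · simp [Matrix.one_apply_ne hij]
    rw [this, Matrix.det_smul, Matrix.det_one, mul_one, Fintype.card_fin, map_pow]
  · intro ℓ
    have h1 : Mx.det * f ℓ = (Mx.adjugate.mulVec (Mx.mulVec f)) ℓ := by
      rw [Matrix.mulVec_mulVec, Matrix.adjugate_mul, Matrix.smul_mulVec, Matrix.one_mulVec]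
      rfl
    rw [h1, hmul]
    simp only [Matrix.mulVec, dotProduct]
    exact Ideal.sum_mem _ fun k _ => Ideal.mul_mem_left _ _ (he k)

section Chart

variable {R : Type u} [CommRing R] (π : R) {n m : ℕ}

/-- reduction of polynomials modulo `π²` -/
noncomputable abbrev mapQ :
    MvPolynomial (Fin n) R →+* MvPolynomial (Fin n) (R ⧸ Ideal.span {π ^ 2}) :=
  map (Ideal.Quotient.mk (Ideal.span {π ^ 2}))

theorem mapQ_surjective : Function.Surjective (mapQ (n := n) π) :=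
  map_surjective _ Ideal.Quotient.mk_surjective

theorem ker_mapQ : RingHom.ker (mapQ (n := n) π) = Ideal.span {C (π ^ 2)} := by
  rw [mapQ, ker_map, Ideal.mk_ker, Ideal.map_span, Set.image_singleton]

theorem exists_eq_C_mul_of_mapQ_eq_zero {x : MvPolynomial (Fin n) R} (hx : mapQ π x = 0) :
    ∃ g, x = C (π ^ 2) * g := by
  have : x ∈ RingHom.ker (mapQ (n := n) π) := hx
  rw [ker_mapQ, Ideal.mem_span_singleton'] at this
  obtain ⟨g, hg⟩ := this
  exact ⟨g, by rw [← hg, mul_comm]⟩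

/-- lifting a chart modulo `π²` to a chart -/
theorem exists_chart {c : ℕ} (f : Fin m → MvPolynomial (Fin n) R) (rows : Fin c ↪ Fin m)
    (a₂ : MvPolynomial (Fin n) (R ⧸ Ideal.span {π ^ 2}))
    (h : ∀ ℓ, a₂ * mapQ π (f ℓ) ∈ Ideal.span (Set.range fun i => mapQ π (f (rows i)))) :
    ∃ (a : MvPolynomial (Fin n) R) (H : Fin m → Fin c → MvPolynomial (Fin n) R)
      (g : Fin m → MvPolynomial (Fin n) R),
      mapQ π a = a₂ ∧
      (∀ ℓ, a * f ℓ = ∑ i, H ℓ i * f (rows i) + C (π ^ 2) * g ℓ) ∧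
      (∀ i₀ i, H (rows i₀) i = if i = i₀ then a else 0) ∧
      (∀ i₀, g (rows i₀) = 0) := by
  classical
  obtain ⟨a, ha⟩ := mapQ_surjective (n := n) π a₂
  have h1 : ∀ ℓ, ∃ H₀ : Fin c → MvPolynomial (Fin n) R, ∃ g₀ : MvPolynomial (Fin n) R,
      a * f ℓ = ∑ i, H₀ i * f (rows i) + C (π ^ 2) * g₀ := by
    intro ℓ
    obtain ⟨Hb, hHb⟩ := Ideal.mem_span_range_iff_exists_fun.1 (h ℓ)
    choose H₀ hH₀ using fun i => mapQ_surjective (n := n) π (Hb i)
    have hz : mapQ π (a * f ℓ - ∑ i, H₀ i * f (rows i)) = 0 := by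
      rw [map_sub, map_mul, map_sum, ha, ← hHb, sub_eq_zero]
      refine Finset.sum_congr rfl fun i _ => ?_
      rw [map_mul, hH₀]
    obtain ⟨g₀, hg₀⟩ := exists_eq_C_mul_of_mapQ_eq_zero π hz
    exact ⟨H₀, g₀, by rw [← hg₀]; ring⟩
  choose H₀ g₀ hHg using h1
  refine ⟨a, fun ℓ i => if hℓ : ∃ i₀, rows i₀ = ℓ then (if i = hℓ.choose then a else 0) else H₀ ℓ i,
    fun ℓ => if ∃ i₀, rows i₀ = ℓ then 0 else g₀ ℓ, ha, ?_, ?_, ?_⟩
  · intro ℓ
    by_cases hℓ : ∃ i₀, rows i₀ = ℓ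
    · simp only [dif_pos hℓ, if_pos hℓ, mul_zero, add_zero, ite_mul, zero_mul,
        Finset.sum_ite_eq', Finset.mem_univ, if_true]
      rw [hℓ.choose_spec]
    · simp only [dif_neg hℓ, if_neg hℓ]
      exact hHg ℓ
  · intro i₀ i
    have hℓ : ∃ i₁, rows i₁ = rows i₀ := ⟨i₀, rfl⟩
    have hc : hℓ.choose = i₀ := rows.injective hℓ.choose_spec
    simp only [dif_pos hℓ, hc]
  · intro i₀
    have hℓ : ∃ i₁, rows i₁ = rows i₀ := ⟨i₀, rfl⟩
    simp only [if_pos hℓ]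

end Chart

end Groth.Agent.Lib.Helper81.Pop
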