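import Mathlib
import Groth.Agent.Lib.Helper81.PopLiftSmooth
import Groth.Agent.Lib.Helper81.PopLiftChart
import Groth.Agent.S2108

/-!
# The lifting lemma (Stacks 07CP): assembly (helper81)
-/

set_option autoImplicit false
universe u

namespace Groth.Agent.Lib.Helper81.Pop

open MvPolynomial

section Phi

variable {R B : Type u} [CommRing R] (π : R) [CommRing B] [Algebra R B]
  [Algebra (R ⧸ Ideal.span {π ^ 2}) B] [IsScalarTower R (R ⧸ Ideal.span {π ^ 2}) B]
  {n m : ℕ} (fb : MvPolynomial (Fin n) (R ⧸ Ideal.span {π ^ 2}) →ₐ[R ⧸ Ideal.span {π ^ 2}] B)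

/-- the presentation of `C` over `R` induced by a presentation over `R/π²` -/
noncomputable def phiR : MvPolynomial (Fin n) R →ₐ[R] B := aeval (fun i => fb (X i))

theorem phiR_apply (p : MvPolynomial (Fin n) R) : phiR π fb p = fb (mapQ π p) := by
  induction p using MvPolynomial.induction_on with
  | C r =>
    rw [phiR, aeval_C, mapQ, map_C, ← algebraMap_eq, AlgHom.commutes,
      IsScalarTower.algebraMap_apply R (R ⧸ Ideal.span {π ^ 2}) B]
    rfl
  | add p q hp hq => rw [map_add, map_add, map_add, hp, hq]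
  | mul_X p i hp => rw [map_mul, map_mul, map_mul, hp, phiR, aeval_X, mapQ, map_X]

theorem phiR_surjective (hfb : Function.Surjective fb) : Function.Surjective (phiR π fb) := by
  intro x
  obtain ⟨y, rfl⟩ := hfb x
  obtain ⟨p, rfl⟩ := mapQ_surjective π y
  exact ⟨p, phiR_apply π fb p⟩

theorem mem_sup_of_phiR_eq_zero (f : Fin m → MvPolynomial (Fin n) R)
    (hker : RingHom.ker fb.toRingHom = Ideal.span (Set.range fun j => mapQ π (f j)))
    {p : MvPolynomial (Fin n) R} (hp : phiR π fb p = 0) :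
    p ∈ Ideal.span (Set.range f) ⊔ Ideal.span {C (π ^ 2)} := by
  rw [phiR_apply] at hp
  have h1 : mapQ π p ∈ Ideal.span (Set.range fun j => mapQ π (f j)) := by
    rw [← hker]; exact hp
  have h2 : Ideal.span (Set.range fun j => mapQ π (f j)) =
      Ideal.map (mapQ (n := n) π) (Ideal.span (Set.range f)) := by
    rw [Ideal.map_span, ← Set.range_comp]
    rfl
  rw [h2, ← Ideal.mem_comap, Ideal.comap_map_of_surjective _ (mapQ_surjective π)] at h1
  have h3 : Ideal.comap (mapQ (n := n) π) ⊥ = Ideal.span {C (π ^ 2)} := by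
    rw [← ker_mapQ]; rfl
  rw [h3] at h1
  exact h1

end Phi

section Psi

variable {R : Type u} [CommRing R] (π : R) {n m : ℕ} (f : Fin m → MvPolynomial (Fin n) R)

/-- the algebra `D` -/
abbrev DD : Type u := MvPolynomial (Fin n ⊕ Fin m) R ⧸ JJ π f

/-- the map `R[x] → D/πD` -/
noncomputable def psi0 :
    MvPolynomial (Fin n) R →ₐ[R] DD π f ⧸ Ideal.span {algebraMap R (DD π f) π} :=
  (Ideal.Quotient.mkₐ R (Ideal.span {algebraMap R (DD π f) π})).comp
    ((Ideal.Quotient.mkₐ R (JJ π f)).comp (inX (m := m)))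

theorem psi0_apply (p : MvPolynomial (Fin n) R) :
    psi0 π f p = Ideal.Quotient.mk (Ideal.span {algebraMap R (DD π f) π})
      (Ideal.Quotient.mk (JJ π f) (inX (m := m) p)) := rfl

theorem algebraMap_DD (r : R) : algebraMap R (DD π f) r = Ideal.Quotient.mk (JJ π f) (C r) := rfl

theorem psi0_eq_zero {p : MvPolynomial (Fin n) R}
    (hp : p ∈ Ideal.span (Set.range f) ⊔ Ideal.span {C (π ^ 2)}) : psi0 π f p = 0 := by
  have hle : Ideal.span (Set.range f) ⊔ Ideal.span {C (π ^ 2)} ≤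
      RingHom.ker (psi0 π f).toRingHom := by
    rw [sup_le_iff, Ideal.span_le, Ideal.span_le]
    constructor
    · rintro _ ⟨j, rfl⟩
      rw [SetLike.mem_coe, RingHom.mem_ker]
      show psi0 π f (f j) = 0
      rw [psi0_apply, Ideal.Quotient.eq_zero_iff_mem, Ideal.mem_span_singleton]
      refine ⟨Ideal.Quotient.mk (JJ π f) (X (Sum.inr j)), ?_⟩
      rw [algebraMap_DD, ← map_mul, ← sub_eq_zero, ← map_sub, Ideal.Quotient.eq_zero_iff_mem]
      exact FF_mem_JJ π f j
    · intro x hx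
      rw [Set.mem_singleton_iff] at hx
      subst hx
      rw [SetLike.mem_coe, RingHom.mem_ker]
      show psi0 π f (C (π ^ 2)) = 0
      rw [psi0_apply, Ideal.Quotient.eq_zero_iff_mem, Ideal.mem_span_singleton]
      refine ⟨algebraMap R (DD π f) π, ?_⟩
      rw [← map_mul, algebraMap_DD, ← pow_two]
      congr 1
      simp [inX]
  exact hle hp

theorem psi0_congr {B : Type u} [CommRing B] [Algebra R B]
    (φ : MvPolynomial (Fin n) R →ₐ[R] B)
    (hker : ∀ p, φ p = 0 → p ∈ Ideal.span (Set.range f) ⊔ Ideal.span {C (π ^ 2)})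
    {p q : MvPolynomial (Fin n) R} (h : φ p = φ q) : psi0 π f p = psi0 π f q := by
  have h1 : psi0 π f (p - q) = 0 := psi0_eq_zero π f (hker _ (by rw [map_sub, h, sub_self]))
  rw [map_sub] at h1
  exact sub_eq_zero.1 h1

/-- the map `C → D/πD` -/
noncomputable def psiHom {B : Type u} [CommRing B] [Algebra R B]
    (φ : MvPolynomial (Fin n) R →ₐ[R] B) (hφ : Function.Surjective φ)
    (hker : ∀ p, φ p = 0 → p ∈ Ideal.span (Set.range f) ⊔ Ideal.span {C (π ^ 2)}) :
    B →ₐ[R] DD π f ⧸ Ideal.span {algebraMap R (DD π f) π} where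
  toFun b := psi0 π f (Function.surjInv hφ b)
  map_one' := by
    rw [← map_one (psi0 π f)]
    exact psi0_congr π f φ hker (by rw [Function.surjInv_eq hφ, map_one])
  map_mul' a b := by
    rw [← map_mul]
    exact psi0_congr π f φ hker (by rw [Function.surjInv_eq hφ, map_mul, Function.surjInv_eq hφ,
      Function.surjInv_eq hφ])
  map_zero' := by
    rw [← map_zero (psi0 π f)]
    exact psi0_congr π f φ hker (by rw [Function.surjInv_eq hφ, map_zero])
  map_add' a b := by
    rw [← map_add]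
    exact psi0_congr π f φ hker (by rw [Function.surjInv_eq hφ, map_add, Function.surjInv_eq hφ,
      Function.surjInv_eq hφ])
  commutes' r := by
    rw [← AlgHom.commutes (psi0 π f) r]
    exact psi0_congr π f φ hker (by rw [Function.surjInv_eq hφ, AlgHom.commutes])

theorem psiHom_apply {B : Type u} [CommRing B] [Algebra R B]
    (φ : MvPolynomial (Fin n) R →ₐ[R] B) (hφ : Function.Surjective φ)
    (hker : ∀ p, φ p = 0 → p ∈ Ideal.span (Set.range f) ⊔ Ideal.span {C (π ^ 2)})
    (p : MvPolynomial (Fin n) R) : psiHom π f φ hφ hker (φ p) = psi0 π f p :=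
  psi0_congr π f φ hker (by rw [Function.surjInv_eq hφ])

/-- the map `D → Λ` -/
noncomputable def deltaHom {Λ : Type u} [CommRing Λ] [Algebra R Λ]
    (hΛ : ∀ x : Λ, π ^ 2 • x = 0 → π • x = 0) (lam : Fin n → Λ) (mu : Fin m → Λ)
    (hmu : ∀ j, aeval lam (f j) = algebraMap R Λ (π ^ 2) * mu j) : DD π f →ₐ[R] Λ :=
  Ideal.Quotient.liftₐ (JJ π f) (evΛ π lam mu)
    (fun x hx => JJ_le_ker_evΛ π hΛ f lam mu hmu hx)

theorem deltaHom_mk {Λ : Type u} [CommRing Λ] [Algebra R Λ]
    (hΛ : ∀ x : Λ, π ^ 2 • x = 0 → π • x = 0) (lam : Fin n → Λ) (mu : Fin m → Λ)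
    (hmu : ∀ j, aeval lam (f j) = algebraMap R Λ (π ^ 2) * mu j)
    (p : MvPolynomial (Fin n ⊕ Fin m) R) :
    deltaHom π f hΛ lam mu hmu (Ideal.Quotient.mk (JJ π f) p) = evΛ π lam mu p := rfl

end Psi

section Main

/-- The lifting lemma (Stacks 07CP), parts (a), (b), (c). -/
theorem lifting_lemma {R Λ B : Type u} [CommRing R] [IsNoetherianRing R] [CommRing Λ]
    [Algebra R Λ] (π : R) (hR : ∀ r : R, π ^ 2 * r = 0 → π * r = 0)
    (hΛ : ∀ x : Λ, π ^ 2 • x = 0 → π • x = 0) [CommRing B] [Algebra R B]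
    [Algebra (R ⧸ Ideal.span {π ^ 2}) B] [IsScalarTower R (R ⧸ Ideal.span {π ^ 2}) B]
    [Algebra.FinitePresentation (R ⧸ Ideal.span {π ^ 2}) B]
    (g : B →ₐ[R] Λ ⧸ Ideal.span {algebraMap R Λ (π ^ 2)}) :
    ∃ (D : Type u) (_ : CommRing D) (_ : Algebra R D), Algebra.FinitePresentation R D ∧
      ∃ (δ : D →ₐ[R] Λ) (ψ : B →ₐ[R] D ⧸ Ideal.span {algebraMap R D π}),
        (∀ (c : B) (d : D) (l : Λ), Ideal.Quotient.mk (Ideal.span {algebraMap R D π}) d = ψ c →
          Ideal.Quotient.mk (Ideal.span {algebraMap R Λ (π ^ 2)}) l = g c →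
            δ d - l ∈ Ideal.span {algebraMap R Λ π}) ∧
        (∀ (Q : Ideal D) [Q.IsPrime], algebraMap R D π ∉ Q → Algebra.IsSmoothAt R Q) ∧
        (∀ (Q : Ideal (D ⧸ Ideal.span {algebraMap R D π})) [Q.IsPrime],
          Algebra.IsSmoothAt (R ⧸ Ideal.span {π ^ 2}) (Q.comap ψ) →
            Algebra.IsSmoothAt R
              (Q.comap (Ideal.Quotient.mk (Ideal.span {algebraMap R D π})))) := by
  classical
  obtain ⟨n, fb, hfb, s, hs⟩ :=
    Algebra.FinitePresentation.out (R := R ⧸ Ideal.span {π ^ 2}) (A := B)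
  obtain ⟨m, fbar, hfbar⟩ : ∃ (m : ℕ)
      (fbar : Fin m → MvPolynomial (Fin n) (R ⧸ Ideal.span {π ^ 2})), Set.range fbar = ↑s := by
    refine ⟨s.card, fun j => (s.equivFin.symm j).1, ?_⟩
    ext x
    constructor
    · rintro ⟨j, rfl⟩; exact (s.equivFin.symm j).2
    · intro hx; exact ⟨s.equivFin ⟨x, hx⟩, by simp⟩
  choose f hf using fun j => mapQ_surjective (n := n) π (fbar j)
  have hkerb : RingHom.ker fb.toRingHom = Ideal.span (Set.range fun j => mapQ π (f j)) := by
    rw [← hs, ← hfbar]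
    congr 2
    exact (funext hf).symm
  set φ := phiR π fb with hφ
  have hφsurj : Function.Surjective φ := phiR_surjective π fb hfb
  -- the lifts `λ_i`
  choose lam hlam using fun i =>
    Ideal.Quotient.mk_surjective (I := Ideal.span {algebraMap R Λ (π ^ 2)}) (g (φ (X i)))
  have hcomp : ∀ p, Ideal.Quotient.mk (Ideal.span {algebraMap R Λ (π ^ 2)}) (aeval lam p) =
      g (φ p) := by
    intro p
    have : (Ideal.Quotient.mkₐ R (Ideal.span {algebraMap R Λ (π ^ 2)})).comp (aeval lam) =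
        g.comp φ := by
      apply MvPolynomial.algHom_ext
      intro i
      simp [hlam]
    exact DFunLike.congr_fun this p
  have hfφ : ∀ j, φ (f j) = 0 := by
    intro j
    rw [hφ, phiR_apply]
    have : mapQ π (f j) ∈ RingHom.ker fb.toRingHom := by
      rw [hkerb]; exact Ideal.subset_span ⟨j, rfl⟩
    exact this
  have hmu : ∀ j, ∃ mu : Λ, aeval lam (f j) = algebraMap R Λ (π ^ 2) * mu := by
    intro j
    have h1 : aeval lam (f j) ∈ Ideal.span {algebraMap R Λ (π ^ 2)} := by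
      rw [← Ideal.Quotient.eq_zero_iff_mem, hcomp, hfφ, map_zero]
    obtain ⟨mu, hmu⟩ := Ideal.mem_span_singleton'.1 h1
    exact ⟨mu, by rw [← hmu, mul_comm]⟩
  choose mu hmu using hmu
  refine ⟨DD π f, inferInstance, inferInstance, ?_, ?_⟩
  · haveI : IsNoetherianRing (MvPolynomial (Fin n ⊕ Fin m) R) := inferInstance
    exact Algebra.FinitePresentation.quotient (IsNoetherian.noetherian _)
  set δ : DD π f →ₐ[R] Λ := deltaHom π f hΛ lam mu hmu with hδ
  have hker : ∀ p, φ p = 0 → p ∈ Ideal.span (Set.range f) ⊔ Ideal.span {C (π ^ 2)} :=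
    fun p hp => mem_sup_of_phiR_eq_zero π fb f hkerb hp
  set ψ := psiHom π f φ hφsurj hker with hψdef
  have hψ : ∀ p, ψ (φ p) = psi0 π f p := psiHom_apply π f φ hφsurj hker
  refine ⟨δ, ψ, ?_, ?_, ?_⟩
  · intro c d l hd hl
    obtain ⟨p, rfl⟩ := hφsurj c
    rw [hψ, psi0_apply, Ideal.Quotient.eq] at hd
    rw [← hcomp, Ideal.Quotient.eq] at hl
    have h1 : δ (d - Ideal.Quotient.mk (JJ π f) (inX (m := m) p)) ∈
        Ideal.span {algebraMap R Λ π} := by
      obtain ⟨d', hd'⟩ := Ideal.mem_span_singleton'.1 hd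
      rw [← hd', map_mul, AlgHom.commutes]
      exact Ideal.mul_mem_left _ _ (Ideal.subset_span rfl)
    have h2 : δ (Ideal.Quotient.mk (JJ π f) (inX (m := m) p)) = aeval lam p := by
      rw [hδ, deltaHom_mk]
      exact evΛ_inX π lam mu p
    have h3 : l - aeval lam p ∈ Ideal.span {algebraMap R Λ π} := by
      obtain ⟨l', hl'⟩ := Ideal.mem_span_singleton'.1 hl
      rw [← hl', map_pow, pow_two, ← mul_assoc]
      exact Ideal.mul_mem_left _ _ (Ideal.subset_span rfl)
    have : δ d - l = δ (d - Ideal.Quotient.mk (JJ π f) (inX (m := m) p)) - (l - aeval lam p) := by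
      rw [map_sub, h2]; ring
    rw [this]
    exact Ideal.sub_mem _ h1 h3
  · intro Q _ hQ
    exact isSmoothAt_of_pi_notMem π f Q hQ
  · intro Q _ hsm
    set qb : Ideal B := Q.comap ψ with hqb
    haveI : qb.IsPrime := Ideal.comap_isPrime _ _
    haveI : Algebra.IsSmoothAt (R ⧸ Ideal.span {π ^ 2}) qb := hsm
    obtain ⟨ab, hab, c, rows, cols, ab', hab', hkill⟩ :=
      Groth.Agent.S2108.result (fun j => mapQ π (f j)) fb hfb hkerb qb
    obtain ⟨a₁, ha₁⟩ := hfb ab
    obtain ⟨a₂, ha₂, ha₂mem⟩ := exists_mul_mem_span_of_mul_mem_sup_sq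
      (fun j => mapQ π (f j)) rows a₁ (hkill a₁ ha₁)
    obtain ⟨a, H, gg, haa, eq1, eq2, eq3⟩ := exists_chart π f rows a₂ (fun ℓ => ha₂mem ℓ)
    have hQmem : ∀ p, Ideal.Quotient.mk (JJ π f) (inX (m := m) p) ∈
        Q.comap (Ideal.Quotient.mk (Ideal.span {algebraMap R (DD π f) π})) ↔ φ p ∈ qb := by
      intro p
      rw [hqb, Ideal.mem_comap, Ideal.mem_comap, hψ, psi0_apply]
    refine isSmoothAt_of_chart π hR f rows cols a H gg eq1 eq2 eq3 _ ?_ ?_
    · rw [hQmem, hφ, phiR_apply, haa]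
      have h4 : fb a₂ = ab ^ m := by
        have h := ha₂
        rw [← hkerb] at h
        have h5 : fb (a₂ - a₁ ^ m) = 0 := h
        rw [map_sub, map_pow, ha₁, sub_eq_zero] at h5
        exact h5
      rw [h4]
      exact fun h => hab (Ideal.IsPrime.mem_of_pow_mem inferInstance _ h)
    · rw [hQmem, hφ, phiR_apply]
      have h6 : mapQ π (chartMinor f rows cols) =
          Smoothing.jacobianMinor (fun j => mapQ π (f j)) rows cols := by
        rw [chartMinor, Smoothing.jacobianMinor, RingHom.map_det]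
        congr 1
        ext i i'
        simp [pderiv_map]
      rw [h6]
      intro h
      apply hab
      rw [hab']
      exact Ideal.mul_mem_left _ _ h

end Main

end Groth.Agent.Lib.Helper81.Pop
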