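import Mathlib
import Groth.Prelude.Def_EGA41
import Groth.Agent.Lib.Helper81.PBasis
import Groth.Agent.Lib.Helper81.PBasisEGA

/-!
# Transfer lemmas for `p`-independence (helper81)
-/

set_option autoImplicit false
universe u

namespace Groth.Agent.Lib.Helper81.PBasis

/-- linear independence passes up along a surjective scalar extension -/
theorem linearIndependent_of_surjective {R A' M : Type*} [CommRing R] [CommRing A'] [Algebra R A']
    [AddCommGroup M] [Module R M] [Module A' M] [IsScalarTower R A' M]
    (hs : Function.Surjective (algebraMap R A')) {ι : Type*} (v : ι → M)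
    (h : LinearIndependent R v) : LinearIndependent A' v := by
  rw [linearIndependent_iff'] at h ⊢
  intro s g hg i hi
  choose r hr using fun i => hs (g i)
  have : ∑ i ∈ s, r i • v i = 0 := by
    rw [← hg]
    refine Finset.sum_congr rfl fun i _ => ?_
    rw [← hr i, algebraMap_smul]
  rw [← hr i, h s r this i hi, map_zero]

/-- a linear map sending a basis to a linearly independent family is injective -/
theorem injective_of_basis_linearIndependent {R M N : Type*} [CommRing R] [AddCommGroup M]
    [AddCommGroup N] [Module R M] [Module R N] {ι : Type*} (b : Module.Basis ι R M)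
    (f : M →ₗ[R] N) (h : LinearIndependent R (fun i => f (b i))) : Function.Injective f := by
  rw [← LinearMap.ker_eq_bot, LinearMap.ker_eq_bot']
  intro m hm
  have h1 : Finsupp.linearCombination R (fun i => f (b i)) (b.repr m) = f m := by
    have := Finsupp.apply_linearCombination R f b (b.repr m)
    rw [b.linearCombination_repr] at this
    exact this.symm
  rw [hm] at h1
  have h2 := (linearIndependent_iff.1 h) _ h1
  exact (b.repr.map_eq_zero_iff).1 h2

end Groth.Agent.Lib.Helper81.PBasis

namespace Groth.Agent.Lib.Helper81.PBasisEGA

open Groth.Agent.Lib.Helper81.PBasis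

variable {p : ℕ} {A B : Type u} [CommRing A] [CommRing B] [Algebra A B]

/-- when `A ↠ A[B^p]`, `A`-independence of the reduced monomials gives `p`-independence -/
theorem isPIndependent_of_linearIndependent (hpow : ∀ b : B, b ^ p ∈ Set.range (algebraMap A B))
    {ι : Type u} (x : ι → B) (h : LinearIndependent A (redMon p x)) :
    EGA41.IsPIndependent p A x := by
  rw [isPIndependent_iff]
  exact linearIndependent_of_surjective (algebraMap_pPower_surjective hpow) _ h

/-- reduced monomials commute with ring maps -/
theorem map_redMon {C : Type*} [CommRing C] (φ : B →+* C) {ι : Type*} (x : ι → B)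
    (e : Red ι p) : φ (redMon p x e) = redMon p (fun i => φ (x i)) e := by
  simp only [redMon, Finsupp.prod, map_prod, map_pow]

end Groth.Agent.Lib.Helper81.PBasisEGA
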