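import Mathlib
import Groth.Agent.S2466
import Groth.Agent.S2468
import Groth.Agent.Lib.Helper81.FieldSmooth
import Groth.Agent.Lib.Helper81.PBasisPerfect
import Groth.Agent.Lib.Helper81.PBasisTransfer

/-!
# Geometrically reduced field extensions are formally smooth (helper81)

EGA 0_IV 19.6.1 / 21.2.x in characteristic `p`: if `K/k` is geometrically reduced then a `p`-basis
of `k` stays `p`-independent in `K`, hence `Ω_k ⊗ K → Ω_K` is injective and (Jacobi–Zariski) `K` is
formally smooth over `k`.
-/

set_option autoImplicit false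
universe u

namespace Groth.Agent.Lib.Helper81.FieldSmooth

open Groth.Agent.Lib.Helper81.PBasis Groth.Agent.Lib.Helper81.PBasisEGA
open scoped TensorProduct

/-- If `v` is linearly independent over the field `k`, a vanishing sum `∑ v e ⊗ c e` has all
`c e = 0`. -/
theorem eq_zero_of_sum_tmul_eq_zero {k M N : Type*} [Field k] [AddCommGroup M] [Module k M]
    [AddCommGroup N] [Module k N] {ι : Type*} (v : ι → M) (hv : LinearIndependent k v)
    (s : Finset ι) (c : ι → N) (h : ∑ e ∈ s, v e ⊗ₜ[k] c e = 0) : ∀ e ∈ s, c e = 0 := by
  classical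
  have hinj := Module.Flat.rTensor_preserves_injective_linearMap (M := N)
    (Finsupp.linearCombination k v) hv
  set t : (ι →₀ k) ⊗[k] N := ∑ e ∈ s, (Finsupp.single e (1 : k)) ⊗ₜ[k] c e with ht
  have h1 : (Finsupp.linearCombination k v).rTensor N t = 0 := by
    rw [ht, map_sum, ← h]
    refine Finset.sum_congr rfl fun e _ => ?_
    rw [LinearMap.rTensor_tmul, Finsupp.linearCombination_single, one_smul]
  have h2 : t = 0 := hinj (by rw [h1, map_zero])
  intro e₀ he₀
  have h3 := congrArg (fun z => (TensorProduct.finsuppScalarLeft k N ι z) e₀) h2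
  simp only [ht, map_sum, map_zero, Finsupp.coe_finset_sum, Finset.sum_apply,
    TensorProduct.finsuppScalarLeft_apply_tmul_apply, Finsupp.single_apply, Finsupp.coe_zero,
    Pi.zero_apply, ite_smul, one_smul, zero_smul, Finset.sum_ite_eq', he₀, if_true] at h3
  exact h3


/-- `p`-th power of a reduced monomial -/
theorem redMon_pow {B : Type*} [CommRing B] {ι : Type*} (p : ℕ) (y : ι → B) (e : Red ι p) :
    redMon p y e ^ p = redMon p (fun i => y i ^ p) e := by
  simp only [redMon, Finsupp.prod, ← Finset.prod_pow]
  refine Finset.prod_congr rfl fun i _ => ?_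
  rw [← pow_mul, ← pow_mul, mul_comm]

/-- **Geometric reducedness preserves `p`-independence.**  Let `P` be a perfect field of
characteristic `p`, `k/P` a field with `p`-basis `x`, and `K/k` a field extension such that
`Ω ⊗_k K` is reduced for an algebraically closed extension `Ω` of `k`.  Then `x` is still
`p`-independent in `K`. -/
theorem isPIndependent_map_of_isReduced (p : ℕ) [Fact p.Prime] {P k K : Type u} [Field P] [Field k]
    [Field K] [Algebra P k] [Algebra k K] [Algebra P K] [IsScalarTower P k K] [CharP P p]
    [PerfectRing P p] (Ω : Type*) [Field Ω] [Algebra k Ω] [IsAlgClosed Ω]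
    (hred : IsReduced (Ω ⊗[k] K)) {ι : Type u} (x : ι → k) (hx : EGA41.IsPBasis p P x) :
    EGA41.IsPIndependent p P (fun i => algebraMap k K (x i)) := by
  classical
  have hp : p.Prime := Fact.out
  haveI : CharP k p := charP_of_injective_algebraMap (algebraMap P k).injective p
  haveI : CharP K p := charP_of_injective_algebraMap (algebraMap k K).injective p
  haveI : CharP Ω p := charP_of_injective_algebraMap (algebraMap k Ω).injective p
  haveI : Nontrivial (Ω ⊗[k] K) :=
    TensorProduct.nontrivial_of_linearMap_injective_of_flat_left k Ω K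
      (Algebra.linearMap k K) (algebraMap k K).injective
  haveI : CharP (Ω ⊗[k] K) p :=
    charP_of_injective_algebraMap (algebraMap k (Ω ⊗[k] K)).injective p
  -- the Frobenius form of `p`-independence in `k`
  obtain ⟨hli, -⟩ := frobTwist_basis (p := p) (A := P) (B := k) x hx
  have hk : ∀ (s : Finset (Red ι p)) (a : Red ι p → k),
      ∑ e ∈ s, a e ^ p * redMon p x e = 0 → ∀ e ∈ s, a e = 0 := by
    intro s a ha
    exact linearIndependent_iff'.1 hli s (fun e => (a e : FrobTwist k p)) ha
  -- `p`-th roots in `Ω`
  choose y hy using fun i => IsAlgClosed.exists_pow_nat_eq (algebraMap k Ω (x i)) hp.pos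
  have hyx : ∀ e : Red ι p, redMon p y e ^ p = algebraMap k Ω (redMon p x e) := by
    intro e
    rw [redMon_pow, map_redMon]
    simp only [hy]
  have hyli : LinearIndependent k (redMon p y) := by
    rw [linearIndependent_iff']
    intro s a ha
    apply hk s a
    apply (algebraMap k Ω).injective
    rw [map_zero, map_sum]
    have : ∀ e ∈ s, algebraMap k Ω (a e ^ p * redMon p x e) = (a e • redMon p y e) ^ p := by
      intro e _
      rw [map_mul, map_pow, Algebra.smul_def, mul_pow, hyx]
    rw [Finset.sum_congr rfl this, ← sum_pow_char, ha, zero_pow hp.ne_zero]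
  -- now the independence in `K`
  rw [isPIndependent_iff, linearIndependent_iff']
  intro s g hg
  choose d hd using fun e => exists_pow_eq_of_mem_pPowerSubalgebra (p := p) (A := P) (B := K)
    (g e : K) (g e).2
  set z : Ω ⊗[k] K := ∑ e ∈ s, redMon p y e ⊗ₜ[k] d e with hz
  have hzp : z ^ p = 0 := by
    rw [hz, sum_pow_char]
    have h1 : ∀ e ∈ s, (redMon p y e ⊗ₜ[k] d e) ^ p =
        (1 : Ω) ⊗ₜ[k] ((g e : K) * redMon p (fun i => algebraMap k K (x i)) e) := by
      intro e _
      rw [Algebra.TensorProduct.tmul_pow, hyx, hd, Algebra.algebraMap_eq_smul_one,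
        TensorProduct.smul_tmul, ← map_redMon (algebraMap k K), Algebra.smul_def, mul_comm]
    rw [Finset.sum_congr rfl h1, ← TensorProduct.tmul_sum]
    have h2 : ∑ e ∈ s, (g e : K) * redMon p (fun i => algebraMap k K (x i)) e = 0 := by
      rw [← hg]
      refine Finset.sum_congr rfl fun e _ => ?_
      rw [Algebra.smul_def]
      rfl
    rw [h2, TensorProduct.tmul_zero]
  have hz0 : z = 0 := IsReduced.eq_zero _ ⟨p, hzp⟩
  have hd0 := eq_zero_of_sum_tmul_eq_zero (redMon p y) hyli s d hz0
  intro e he
  apply Subtype.ext
  rw [← hd e, hd0 e he, zero_pow hp.ne_zero]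
  rfl


section JZ

variable {R S T : Type*} [CommRing R] [CommRing S] [CommRing T] [Algebra R S] [Algebra R T]
  [Algebra S T] [IsScalarTower R S T]

/-- Jacobi–Zariski: if `H¹(L_{T/R}) = 0` and `T ⊗_S Ω_{S/R} → Ω_{T/R}` is injective then
`H¹(L_{T/S}) = 0`. -/
theorem subsingleton_h1Cotangent_of_injective [Subsingleton (Algebra.H1Cotangent R T)]
    (h : Function.Injective (KaehlerDifferential.mapBaseChange R S T)) :
    Subsingleton (Algebra.H1Cotangent S T) := by
  refine subsingleton_of_forall_eq 0 fun y => ?_
  have h1 : KaehlerDifferential.mapBaseChange R S T (Algebra.H1Cotangent.δ R S T y) = 0 :=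
    (Algebra.H1Cotangent.exact_δ_mapBaseChange R S T).apply_apply_eq_zero y
  have h2 : Algebra.H1Cotangent.δ R S T y = 0 := h (by rw [h1, map_zero])
  obtain ⟨z, hz⟩ := (Algebra.H1Cotangent.exact_map_δ R S T y).1 h2
  rw [← hz, Subsingleton.elim z 0, map_zero]

/-- Jacobi–Zariski: if `H¹(L_{T/S}) = 0` then `T ⊗_S Ω_{S/R} → Ω_{T/R}` is injective. -/
theorem mapBaseChange_injective_of_subsingleton [Subsingleton (Algebra.H1Cotangent S T)] :
    Function.Injective (KaehlerDifferential.mapBaseChange R S T) := by
  rw [injective_iff_map_eq_zero]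
  intro w hw
  obtain ⟨y, hy⟩ := (Algebra.H1Cotangent.exact_δ_mapBaseChange R S T w).1 hw
  rw [← hy, Subsingleton.elim y 0, map_zero]

end JZ

/-- A field extension with vanishing `H¹` of the cotangent complex is formally smooth. -/
theorem formallySmooth_of_subsingleton_h1Cotangent {k K : Type*} [Field k] [Field K] [Algebra k K]
    [Subsingleton (Algebra.H1Cotangent k K)] : Algebra.FormallySmooth k K :=
  ⟨inferInstance, inferInstance⟩

/-- **Geometrically reduced ⟹ formally smooth**, characteristic `p`, relative to a perfect
subfield `P` of `k`. -/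
theorem formallySmooth_of_isGeometricallyReduced_charP (p : ℕ) [Fact p.Prime] {P k K : Type u}
    [Field P] [Field k] [Field K] [Algebra P k] [Algebra k K] [Algebra P K] [IsScalarTower P k K]
    [CharP P p] [PerfectRing P p] [Algebra.IsGeometricallyReduced k K] :
    Algebra.FormallySmooth k K := by
  haveI : CharP k p := charP_of_injective_algebraMap (algebraMap P k).injective p
  haveI : CharP K p := charP_of_injective_algebraMap (algebraMap k K).injective p
  have hred : IsReduced (AlgebraicClosure k ⊗[k] K) :=
    (Algebra.isGeometricallyReduced_field_iff k K).1 inferInstance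
  obtain ⟨B, hB⟩ := exists_pBasis p (k := P) (K := k)
  have hPI := isPIndependent_map_of_isReduced p (P := P) (AlgebraicClosure k) hred
    (Subtype.val : B → k) hB
  have hD : LinearIndependent K
      (fun i : B => KaehlerDifferential.D P K (algebraMap k K i.1)) :=
    (Groth.Agent.S2468.result (k := P) p (fun i : B => algebraMap k K i.1)).1.1 hPI
  obtain ⟨bk, hbk⟩ := Groth.Agent.S2466.result p (Subtype.val : B → k) hB
  have hinj : Function.Injective (KaehlerDifferential.mapBaseChange P k K) := by
    apply injective_of_basis_linearIndependent (bk.baseChange K)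
    have hfun : (fun i => KaehlerDifferential.mapBaseChange P k K ((bk.baseChange K) i)) =
        fun i : B => KaehlerDifferential.D P K (algebraMap k K i.1) := by
      funext i
      rw [Module.Basis.baseChange_apply, KaehlerDifferential.mapBaseChange_tmul, one_smul, hbk,
        KaehlerDifferential.map_D]
    rw [hfun]
    exact hD
  haveI : Algebra.FormallySmooth P K := formallySmooth_of_perfectRing p
  haveI : Subsingleton (Algebra.H1Cotangent k K) := subsingleton_h1Cotangent_of_injective hinj
  exact formallySmooth_of_subsingleton_h1Cotangent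

end Groth.Agent.Lib.Helper81.FieldSmooth
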