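import Mathlib
import Groth.Agent.Lib.Helper81.FieldSmooth
import Groth.Agent.Lib.Helper81.SmoothArtin

/-!
# Formally smooth field extensions are geometrically reduced, characteristic `p` (helper81)

If `K/k` is formally smooth then `k' ⊗_k K` is reduced for every finite extension `k'/k`
(EGA 0_IV 19.6.1, a ⟹ b): the Artinian ring `k' ⊗_k K` is formally smooth over a perfect subfield,
so its local rings are fields.
-/

set_option autoImplicit false
universe u

namespace Groth.Agent.Lib.Helper81.FieldSmooth

open Groth.Agent.Lib.Helper81.SmoothArtin
open scoped TensorProduct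

/-- An Artinian ring which is formally smooth over a perfect field of characteristic `p` is
reduced. -/
theorem isReduced_of_formallySmooth_of_isArtinianRing (p : ℕ) [Fact p.Prime] {P A : Type u}
    [Field P] [CharP P p] [PerfectRing P p] [CommRing A] [Algebra P A] [IsArtinianRing A]
    [Algebra.FormallySmooth P A] : IsReduced A := by
  apply isReduced_ofLocalizationMaximal
  intro M hM
  haveI : IsLocalRing (Localization.AtPrime M) := inferInstance
  haveI : Algebra.FormallySmooth P (IsLocalRing.ResidueField (Localization.AtPrime M)) :=
    formallySmooth_of_perfectRing p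
  have hnil : ∀ x ∈ IsLocalRing.maximalIdeal (Localization.AtPrime M), IsNilpotent x := by
    intro x hx
    obtain ⟨n, hn⟩ := IsArtinianRing.isNilpotent_jacobson_bot (R := Localization.AtPrime M)
    rw [IsLocalRing.jacobson_eq_maximalIdeal ⊥ bot_ne_top] at hn
    refine ⟨n, ?_⟩
    have := Ideal.pow_mem_pow hx n
    rw [hn] at this
    exact this
  have hbot := maximalIdeal_eq_bot (P := P) (A := Localization.AtPrime M) hnil
  have hf : IsField (Localization.AtPrime M) := IsLocalRing.isField_iff_maximalIdeal_eq.2 hbot
  letI := hf.toField
  infer_instance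

/-- If `K/k` is formally smooth (characteristic `p`), `k' ⊗_k K` is reduced for every finite
extension `k'` of `k`. -/
theorem isReduced_tensor_of_formallySmooth (p : ℕ) [Fact p.Prime] {k K k' : Type u} [Field k]
    [Field K] [Algebra k K] [CharP k p] [Algebra.FormallySmooth k K] [Field k'] [Algebra k k']
    [Module.Finite k k'] : IsReduced (k' ⊗[k] K) := by
  haveI : CharP k' p := charP_of_injective_algebraMap (algebraMap k k').injective p
  -- the prime field of `k'`
  let P' : Subfield k' := ⊥
  letI : Algebra (ZMod p) k' := ZMod.algebra k' p
  have hbot : (⊥ : Subfield k') = (algebraMap (ZMod p) k').fieldRange :=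
    Subfield.bot_eq_of_zMod_algebra p
  haveI : Finite P' := by
    show Finite (⊥ : Subfield k')
    rw [hbot]
    exact Set.finite_range _
  haveI : CharP P' p := RingHom.charP (algebraMap P' k') (algebraMap P' k').injective p
  haveI : PerfectRing P' p := PerfectRing.ofFiniteOfIsReduced p P'
  haveI : Algebra.FormallySmooth P' k' := formallySmooth_of_perfectRing p
  haveI : Algebra.FormallySmooth P' (k' ⊗[k] K) := Algebra.FormallySmooth.comp P' k' (k' ⊗[k] K)
  haveI : IsArtinianRing (k' ⊗[k] K) := by
    haveI : IsArtinianRing (K ⊗[k] k') := IsArtinianRing.of_finite K (K ⊗[k] k')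
    exact (Algebra.TensorProduct.comm k K k').toRingEquiv.isArtinianRing
  exact isReduced_of_formallySmooth_of_isArtinianRing p (P := P')

end Groth.Agent.Lib.Helper81.FieldSmooth
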