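import Mathlib

/-!
# Changing the base of absolute differentials (helper81)

For a tower `R → P → k → K` with `Ω[P/R] = 0` (e.g. `R = ℤ` and `P` a prime field), injectivity of
`K ⊗_k Ω[k/R] → Ω[K/R]` implies that of `K ⊗_k Ω[k/P] → Ω[K/P]`.  Also: for fields `k ⊆ K`, every
derivation `k → K` extends to `K` iff `K ⊗_k Ω[k/R] → Ω[K/R]` is injective.
-/

set_option autoImplicit false

namespace Groth.Agent.Lib.Helper81.KaehlerCompare

open scoped TensorProduct
open KaehlerDifferential

section Compare

variable (R P k K : Type*) [CommRing R] [CommRing P] [CommRing k] [CommRing K]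
  [Algebra R P] [Algebra R k] [Algebra R K] [Algebra P k] [Algebra P K] [Algebra k K]
  [IsScalarTower R P k] [IsScalarTower R P K] [IsScalarTower R k K] [IsScalarTower P k K]

/-- `Ω[K/R] → Ω[K/P]` is injective when `Ω[P/R] = 0`. -/
theorem map_injective_of_subsingleton [Subsingleton Ω[P⁄R]] :
    Function.Injective (KaehlerDifferential.map R P K K) := by
  rw [injective_iff_map_eq_zero]
  intro w hw
  obtain ⟨z, rfl⟩ := (KaehlerDifferential.exact_mapBaseChange_map R P K w).1 hw
  rw [Subsingleton.elim z 0, map_zero]

theorem map_map_eq (ω : Ω[k⁄R]) :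
    KaehlerDifferential.map R P K K (KaehlerDifferential.map R R k K ω) =
      KaehlerDifferential.map P P k K (KaehlerDifferential.map R P k k ω) := by
  have : ((KaehlerDifferential.map R P K K).restrictScalars k) ∘ₗ (KaehlerDifferential.map R R k K) =
      (KaehlerDifferential.map P P k K) ∘ₗ (KaehlerDifferential.map R P k k) := by
    apply Derivation.liftKaehlerDifferential_unique
    ext a
    simp [KaehlerDifferential.map_D]
  exact LinearMap.congr_fun this ω

theorem map_mapBaseChange_eq (z : K ⊗[k] Ω[k⁄R]) :
    KaehlerDifferential.map R P K K (KaehlerDifferential.mapBaseChange R k K z) =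
      KaehlerDifferential.mapBaseChange P k K
        ((KaehlerDifferential.map R P k k).baseChange K z) := by
  induction z using TensorProduct.induction_on with
  | zero => simp
  | tmul c ω =>
    rw [LinearMap.baseChange_tmul, mapBaseChange_tmul, mapBaseChange_tmul, map_smul, map_map_eq]
  | add x y hx hy => simp only [map_add, hx, hy]

/-- Injectivity over `R` implies injectivity over `P` when `Ω[P/R] = 0`. -/
theorem mapBaseChange_injective_of_injective [Subsingleton Ω[P⁄R]]
    (h : Function.Injective (KaehlerDifferential.mapBaseChange R k K)) :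
    Function.Injective (KaehlerDifferential.mapBaseChange P k K) := by
  rw [injective_iff_map_eq_zero]
  intro w hw
  have hsurj : Function.Surjective ((KaehlerDifferential.map R P k k).baseChange K) := by
    rw [LinearMap.baseChange_eq_ltensor]
    exact LinearMap.lTensor_surjective K (KaehlerDifferential.map_surjective R P k)
  obtain ⟨z, rfl⟩ := hsurj w
  rw [← map_mapBaseChange_eq] at hw
  have h1 : KaehlerDifferential.mapBaseChange R k K z = 0 :=
    map_injective_of_subsingleton R P K (by rw [hw, map_zero])
  rw [h (by rw [h1, map_zero] : KaehlerDifferential.mapBaseChange R k K z =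
    KaehlerDifferential.mapBaseChange R k K 0), map_zero]

end Compare

section Extend

variable (R k K : Type*) [CommRing R] [Field k] [Field K] [Algebra R k] [Algebra R K] [Algebra k K]
  [IsScalarTower R k K]

/-- For fields `k ⊆ K`: every `R`-derivation `k → K` extends to `K` iff
`K ⊗_k Ω[k/R] → Ω[K/R]` is injective. -/
theorem forall_exists_extension_iff :
    (∀ D : Derivation R k K, ∃ D' : Derivation R K K, ∀ a : k, D' (algebraMap k K a) = D a) ↔
      Function.Injective (KaehlerDifferential.mapBaseChange R k K) := by
  constructor
  · intro hext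
    rw [injective_iff_map_eq_zero]
    intro w hw
    by_contra hne
    obtain ⟨θ, hθ⟩ := Module.Projective.exists_dual_ne_zero K hne
    let ℓ : Ω[k⁄R] →ₗ[k] K := (θ.restrictScalars k) ∘ₗ (TensorProduct.mk k K Ω[k⁄R] 1)
    obtain ⟨D', hD'⟩ := hext (ℓ.compDer (KaehlerDifferential.D R k))
    have hℓ : ℓ = (D'.liftKaehlerDifferential.restrictScalars k) ∘ₗ
        (KaehlerDifferential.map R R k K) := by
      apply Derivation.liftKaehlerDifferential_unique
      ext a
      show ℓ (KaehlerDifferential.D R k a) = D'.liftKaehlerDifferential
        (KaehlerDifferential.map R R k K (KaehlerDifferential.D R k a))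
      rw [KaehlerDifferential.map_D, Derivation.liftKaehlerDifferential_comp_D]
      exact (hD' a).symm
    have hθeq : θ = D'.liftKaehlerDifferential ∘ₗ KaehlerDifferential.mapBaseChange R k K := by
      apply TensorProduct.AlgebraTensorModule.ext
      intro c ω
      rw [LinearMap.comp_apply, mapBaseChange_tmul, map_smul,
        show c ⊗ₜ[k] ω = c • ((1 : K) ⊗ₜ[k] ω) by rw [TensorProduct.smul_tmul', smul_eq_mul, mul_one],
        map_smul]
      congr 1
      exact LinearMap.congr_fun hℓ ω
    apply hθ
    rw [hθeq, LinearMap.comp_apply, hw, map_zero]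
  · intro hinj D
    obtain ⟨r, hr⟩ := LinearMap.exists_leftInverse_of_injective
      (KaehlerDifferential.mapBaseChange R k K) (LinearMap.ker_eq_bot.2 hinj)
    refine ⟨((D.liftKaehlerDifferential.liftBaseChange K) ∘ₗ r).compDer
      (KaehlerDifferential.D R K), fun a => ?_⟩
    have h1 : KaehlerDifferential.D R K (algebraMap k K a) =
        KaehlerDifferential.mapBaseChange R k K ((1 : K) ⊗ₜ[k] KaehlerDifferential.D R k a) := by
      rw [mapBaseChange_tmul, one_smul, KaehlerDifferential.map_D]
    show (D.liftKaehlerDifferential.liftBaseChange K)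
      (r (KaehlerDifferential.D R K (algebraMap k K a))) = D a
    rw [h1,
      show r (KaehlerDifferential.mapBaseChange R k K ((1 : K) ⊗ₜ[k] KaehlerDifferential.D R k a)) =
        (1 : K) ⊗ₜ[k] KaehlerDifferential.D R k a from LinearMap.congr_fun hr _,
      LinearMap.liftBaseChange_tmul, one_smul, Derivation.liftKaehlerDifferential_comp_D]

end Extend

end Groth.Agent.Lib.Helper81.KaehlerCompare
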