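import Mathlib
import Groth.Prelude.Def_Smoothing
import Groth.Agent.Lib.Helper47.SeparableSmooth

/-!
# A separable field extension is ind-smooth (helper81)
-/

set_option autoImplicit false
universe u

namespace Groth.Agent.Lib.Helper81.Pop

open Smoothing

/-- A smooth algebra has unit singular ideal. -/
theorem singularIdeal_eq_top_of_smooth (R B : Type u) [CommRing R] [CommRing B] [Algebra R B]
    [Algebra.Smooth R B] : singularIdeal R B = ⊤ := by
  rw [singularIdeal, Algebra.smoothLocus_eq_univ, Set.compl_univ]
  exact PrimeSpectrum.vanishingIdeal_empty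

/-- A finitely generated domain over a field whose fraction field is formally smooth has a
smooth principal localization. -/
theorem exists_smooth_away_of_formallySmooth_fractionRing {K₀ D : Type u} [Field K₀] [CommRing D]
    [IsDomain D] [Algebra K₀ D] [Algebra.FiniteType K₀ D]
    [Algebra.FormallySmooth K₀ (FractionRing D)] :
    ∃ g : D, g ≠ 0 ∧ Algebra.Smooth K₀ (Localization.Away g) := by
  haveI : Algebra.FinitePresentation K₀ D :=
    (Algebra.FinitePresentation.of_finiteType).1 inferInstance
  -- the generic point is in the smooth locus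
  have hbot : (⟨⊥, Ideal.isPrime_bot⟩ : PrimeSpectrum D) ∈ Algebra.smoothLocus K₀ D := by
    change Algebra.FormallySmooth K₀ (Localization.AtPrime (⊥ : Ideal D))
    haveI : IsLocalization (⊥ : Ideal D).primeCompl (FractionRing D) := by
      rw [Ideal.primeCompl_bot]
      infer_instance
    let e : FractionRing D ≃ₐ[D] Localization.AtPrime (⊥ : Ideal D) :=
      IsLocalization.algEquiv (⊥ : Ideal D).primeCompl _ _
    exact Algebra.FormallySmooth.of_equiv (e.restrictScalars K₀)
  obtain ⟨_, ⟨g, rfl⟩, hg, hsub⟩ :=
    PrimeSpectrum.isTopologicalBasis_basic_opens.exists_subset_of_mem_open hbot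
      (Algebra.isOpen_smoothLocus (R := K₀) (A := D))
  refine ⟨g, ?_, ?_⟩
  · intro h0
    rw [h0] at hg
    exact hg (zero_mem _)
  · exact Algebra.basicOpen_subset_smoothLocus_iff_smooth.1 hsub

/-- A geometrically reduced field extension is ind-smooth.  The base field is allowed to be a
bijective image `K₀` of the field `k` over which geometric reducedness is known. -/
theorem indSmooth_of_isGeometricallyReduced {k K₀ K : Type u} [Field k] [CommRing K₀] [CommRing K]
    [Algebra k K₀] [Algebra K₀ K] [Algebra k K] [IsScalarTower k K₀ K] (hK₀ : IsField K₀)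
    (hK : IsField K) (hsurj : Function.Surjective (algebraMap k K₀))
    [Algebra.IsGeometricallyReduced k K] : IndSmooth K₀ K := by
  intro A _ _ hfp f
  letI : Field K₀ := hK₀.toField
  letI : Field K := hK.toField
  let D : Subalgebra K₀ K := f.range
  haveI : Algebra.FiniteType K₀ D :=
    Algebra.FiniteType.of_surjective f.rangeRestrict f.rangeRestrict_surjective
  let L := FractionRing D
  -- the embedding of `L` into `K`
  let ιD : D →ₐ[k] K := (D.val).restrictScalars k
  have hιD : Function.Injective ιD := Subtype.val_injective
  let ιL : L →ₐ[k] K := IsFractionRing.liftAlgHom (g := ιD) hιD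
  haveI : Algebra.IsGeometricallyReduced k L :=
    Algebra.IsGeometricallyReduced.of_injective ιL ιL.injective
  haveI : Algebra.FormallySmooth k L :=
    Groth.Agent.Lib.Helper47.formallySmooth_of_isGeometricallyReduced k L
  haveI : Algebra.FormallyUnramified k K₀ := Algebra.FormallyUnramified.of_surjective
    (Algebra.ofId k K₀) hsurj
  haveI : IsScalarTower k K₀ L := IsScalarTower.of_algebraMap_eq fun x => by
    rw [IsScalarTower.algebraMap_apply k D L, IsScalarTower.algebraMap_apply K₀ D L]
    congr 1
    apply Subtype.ext
    exact IsScalarTower.algebraMap_apply k K₀ K x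
  haveI : Algebra.FormallySmooth K₀ L := Algebra.FormallySmooth.of_restrictScalars k K₀ L
  obtain ⟨g, hg0, hsm⟩ := exists_smooth_away_of_formallySmooth_fractionRing (K₀ := K₀) (D := D)
  have hgK : IsUnit ((D.val : D →ₐ[K₀] K) g) := by
    rw [isUnit_iff_ne_zero]
    intro h0
    exact hg0 (Subtype.ext h0)
  let h : Localization.Away g →ₐ[K₀] K :=
    IsLocalization.liftAlgHom (M := Submonoid.powers g) (f := D.val) (by
      rintro ⟨_, n, rfl⟩
      rw [map_pow]
      exact hgK.pow n)
  refine ⟨Localization.Away g, inferInstance, inferInstance, hsm,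
    (IsScalarTower.toAlgHom K₀ D (Localization.Away g)).comp f.rangeRestrict, h, ?_⟩
  ext a
  change h (algebraMap D (Localization.Away g) (f.rangeRestrict a)) = f a
  rw [IsLocalization.liftAlgHom_apply, IsLocalization.lift_eq]
  rfl

end Groth.Agent.Lib.Helper81.Pop
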