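import Mathlib
import Groth.Prelude.Def_Smoothing
import Groth.Agent.S2026

/-!
# Elementary standard elements from charts with general finite index types (helper81)
-/

set_option autoImplicit false
universe u

namespace Groth.Agent.Lib.Helper81.Pop

open MvPolynomial Smoothing

/-- `Fin`-indexed chart gives an elementary standard element (extracted from the proof of S2026). -/
theorem isElementaryStandard_of_fin_chart {R A : Type u} [CommRing R] [CommRing A] [Algebra R A]
    {n m c : ℕ} (f : Fin m → MvPolynomial (Fin n) R) (φ : MvPolynomial (Fin n) R →ₐ[R] A)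
    (hφ : Function.Surjective φ) (hker : RingHom.ker φ.toRingHom = Ideal.span (Set.range f))
    (rows : Fin c ↪ Fin m) (cols : Fin c ↪ Fin n) (a a' : A)
    (ha : a = a' * φ (jacobianMinor f rows cols))
    (hkt : ∀ a₁ : MvPolynomial (Fin n) R, φ a₁ = a → ∀ ℓ : Fin m,
        a₁ * f ℓ ∈ Ideal.span (Set.range (f ∘ rows)) ⊔ Ideal.span (Set.range f) ^ 2) :
    IsElementaryStandard R A a := by
  classical
  have hcn : c ≤ n := by simpa using Fintype.card_le_of_embedding cols
  obtain ⟨τ, hτ⟩ := Groth.Agent.S2026.exists_perm_castLE cols hcn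
  have hτ' : ∀ k, τ.symm (cols k) = Fin.castLE hcn k := fun k => by
    rw [← hτ k, Equiv.symm_apply_apply]
  let ρ : MvPolynomial (Fin n) R ≃ₐ[R] MvPolynomial (Fin n) R := renameEquiv R τ
  let rel : Fin (c + m) → MvPolynomial (Fin n) R :=
    fun j => ρ.symm (Fin.append (f ∘ rows) f j)
  have hrelL : ∀ i : Fin c, rel (Fin.castLE (Nat.le_add_right c m) i) = ρ.symm (f (rows i)) := by
    intro i
    change ρ.symm (Fin.append (f ∘ rows) f (Fin.castAdd m i)) = _
    rw [Fin.append_left]; rfl
  have hrelR : ∀ i : Fin m, rel (Fin.natAdd c i) = ρ.symm (f i) := by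
    intro i
    change ρ.symm (Fin.append (f ∘ rows) f (Fin.natAdd c i)) = _
    rw [Fin.append_right]
  have hrel_mem : ∀ j, ∃ i, rel j = ρ.symm (f i) := by
    intro j
    refine Fin.addCases (fun i => ⟨rows i, ?_⟩) (fun i => ⟨i, hrelR i⟩) j
    exact hrelL i
  have hmapI : (Ideal.span (Set.range f)).map (ρ.symm : MvPolynomial (Fin n) R →+* MvPolynomial (Fin n) R) =
      Ideal.span (Set.range rel) := by
    rw [Ideal.map_span]
    apply le_antisymm
    · rw [Ideal.span_le]
      rintro _ ⟨_, ⟨i, rfl⟩, rfl⟩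
      exact Ideal.subset_span ⟨Fin.natAdd c i, hrelR i⟩
    · rw [Ideal.span_le]
      rintro _ ⟨j, rfl⟩
      obtain ⟨i, hi⟩ := hrel_mem j
      rw [hi]
      exact Ideal.subset_span ⟨f i, ⟨i, rfl⟩, rfl⟩
  have hkerP : RingHom.ker (φ.comp ρ.toAlgHom).toRingHom = Ideal.span (Set.range rel) := by
    rw [← hmapI]
    ext x
    rw [RingHom.mem_ker]
    change φ (ρ x) = 0 ↔ _
    rw [← RingHom.mem_ker]
    change ρ x ∈ RingHom.ker φ.toRingHom ↔ _
    rw [hker]
    constructor
    · intro h
      have := Ideal.mem_map_of_mem (ρ.symm : MvPolynomial (Fin n) R →+* MvPolynomial (Fin n) R) h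
      simpa using this
    · intro h
      have := Ideal.mem_map_of_mem (ρ : MvPolynomial (Fin n) R →+* MvPolynomial (Fin n) R) h
      rw [Ideal.map_map] at this
      have h2 : ((ρ : MvPolynomial (Fin n) R →+* MvPolynomial (Fin n) R).comp
          (ρ.symm : MvPolynomial (Fin n) R →+* MvPolynomial (Fin n) R)) = RingHom.id _ := by
        ext x <;> simp
      rw [h2, Ideal.map_id] at this
      exact this
  let P : MarkedPresentation R A :=
    { n := n, m := c + m, c := c, hcn := hcn, hcm := Nat.le_add_right c m, rel := rel,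
      hom := φ.comp ρ.toAlgHom, surj := hφ.comp ρ.surjective, ker_eq := hkerP }
  refine ⟨P, ⟨a', ?_⟩, ?_⟩
  · have h1 : jacobianMinor rel (Fin.castLE (Nat.le_add_right c m)) (Fin.castLE hcn) =
        ρ.symm (jacobianMinor f rows cols) := by
      rw [jacobianMinor, jacobianMinor, AlgEquiv.map_det]
      congr 1
      refine Matrix.ext fun j k => ?_
      simp only [Matrix.of_apply, AlgEquiv.mapMatrix_apply, Matrix.map_apply]
      rw [hrelL, ← hτ' k]
      exact pderiv_rename τ.symm.injective (cols k) (f (rows j))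
    change a = a' * φ (ρ (jacobianMinor rel (Fin.castLE (Nat.le_add_right c m)) (Fin.castLE hcn)))
    rw [h1, AlgEquiv.apply_symm_apply, ha]
  · intro a'' ha'' j hj
    change φ (ρ a'') = a at ha''
    change a'' * rel j ∈ Ideal.span (rel '' {j' : Fin (c + m) | (j' : ℕ) < c}) ⊔
      Ideal.span (Set.range rel) ^ 2
    have hj' : c ≤ (j : ℕ) := hj
    have hjlt : (j : ℕ) < c + m := j.2
    obtain ⟨i, rfl⟩ : ∃ i : Fin m, Fin.natAdd c i = j :=
      ⟨⟨j - c, by omega⟩, by ext; simp; omega⟩
    have h1 := hkt (ρ a'') ha'' i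
    have h2 := Ideal.mem_map_of_mem
      (ρ.symm : MvPolynomial (Fin n) R →+* MvPolynomial (Fin n) R) h1
    rw [map_mul] at h2
    have h3 : (ρ.symm : MvPolynomial (Fin n) R →+* MvPolynomial (Fin n) R) (ρ a'') = a'' :=
      ρ.symm_apply_apply a''
    have h4 : (ρ.symm : MvPolynomial (Fin n) R →+* MvPolynomial (Fin n) R) (f i) =
        rel (Fin.natAdd c i) := (hrelR i).symm
    rw [h3, h4, Ideal.map_sup, Ideal.map_pow, hmapI, Ideal.map_span] at h2
    have hle : Ideal.span ((ρ.symm : MvPolynomial (Fin n) R →+* MvPolynomial (Fin n) R) ''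
          Set.range (f ∘ rows)) ⊔ Ideal.span (Set.range rel) ^ 2 ≤
        Ideal.span (rel '' {j' : Fin (c + m) | (j' : ℕ) < c}) ⊔
          Ideal.span (Set.range rel) ^ 2 := by
      refine sup_le_sup_right (Ideal.span_mono ?_) _
      rintro _ ⟨_, ⟨i', rfl⟩, rfl⟩
      exact ⟨Fin.castLE (Nat.le_add_right c m) i', by simp, hrelL i'⟩
    exact hle h2

/-- A chart with arbitrary finite index types gives an elementary standard element. -/
theorem isElementaryStandard_of_chart {R A : Type u} [CommRing R] [CommRing A] [Algebra R A]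
    {V M T : Type} [Finite V] [Finite M] [Fintype T] [DecidableEq T]
    (f : M → MvPolynomial V R) (φ : MvPolynomial V R →ₐ[R] A)
    (hφ : Function.Surjective φ) (hker : RingHom.ker φ.toRingHom = Ideal.span (Set.range f))
    (rows : T ↪ M) (cols : T ↪ V) (a a' : A)
    (ha : a = a' * φ (Matrix.det (Matrix.of fun j k : T => pderiv (cols k) (f (rows j)))))
    (hkt : ∀ a₁ : MvPolynomial V R, φ a₁ = a → ∀ ℓ : M,
        a₁ * f ℓ ∈ Ideal.span (Set.range (f ∘ rows)) ⊔ Ideal.span (Set.range f) ^ 2) :
    IsElementaryStandard R A a := by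
  classical
  haveI := Fintype.ofFinite V
  haveI := Fintype.ofFinite M
  let eV : V ≃ Fin (Fintype.card V) := Fintype.equivFin V
  let eM : M ≃ Fin (Fintype.card M) := Fintype.equivFin M
  let eT : T ≃ Fin (Fintype.card T) := Fintype.equivFin T
  let ρ : MvPolynomial V R ≃ₐ[R] MvPolynomial (Fin (Fintype.card V)) R := renameEquiv R eV
  let f' : Fin (Fintype.card M) → MvPolynomial (Fin (Fintype.card V)) R :=
    fun j => ρ (f (eM.symm j))
  let rows' : Fin (Fintype.card T) ↪ Fin (Fintype.card M) :=
    (eT.symm.toEmbedding.trans rows).trans eM.toEmbedding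
  let cols' : Fin (Fintype.card T) ↪ Fin (Fintype.card V) :=
    (eT.symm.toEmbedding.trans cols).trans eV.toEmbedding
  have hrange : Set.range f' = (ρ : MvPolynomial V R →+* MvPolynomial (Fin (Fintype.card V)) R) '' Set.range f := by
    ext x
    constructor
    · rintro ⟨j, rfl⟩
      exact ⟨f (eM.symm j), ⟨_, rfl⟩, rfl⟩
    · rintro ⟨_, ⟨i, rfl⟩, rfl⟩
      exact ⟨eM i, by simp [f']⟩
  have hrange2 : Set.range (f' ∘ rows') = (ρ : MvPolynomial V R →+* MvPolynomial (Fin (Fintype.card V)) R) '' Set.range (f ∘ rows) := by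
    ext x
    constructor
    · rintro ⟨j, rfl⟩
      exact ⟨f (rows (eT.symm j)), ⟨_, rfl⟩, by simp [f', rows']⟩
    · rintro ⟨_, ⟨i, rfl⟩, rfl⟩
      exact ⟨eT i, by simp [f', rows']⟩
  have hmapI : (Ideal.span (Set.range f)).map (ρ : MvPolynomial V R →+* MvPolynomial (Fin (Fintype.card V)) R) =
      Ideal.span (Set.range f') := by
    rw [Ideal.map_span, hrange]
  have hmapI2 : (Ideal.span (Set.range (f ∘ rows))).map (ρ : MvPolynomial V R →+* MvPolynomial (Fin (Fintype.card V)) R) =
      Ideal.span (Set.range (f' ∘ rows')) := by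
    rw [Ideal.map_span, hrange2]
  have hker' : RingHom.ker (φ.comp ρ.symm.toAlgHom).toRingHom = Ideal.span (Set.range f') := by
    rw [← hmapI]
    ext x
    rw [RingHom.mem_ker]
    change φ (ρ.symm x) = 0 ↔ _
    rw [← RingHom.mem_ker]
    change ρ.symm x ∈ RingHom.ker φ.toRingHom ↔ _
    rw [hker]
    constructor
    · intro h
      have := Ideal.mem_map_of_mem (ρ : MvPolynomial V R →+* MvPolynomial (Fin (Fintype.card V)) R) h
      simpa using this
    · intro h
      have := Ideal.mem_map_of_mem (ρ.symm : MvPolynomial (Fin (Fintype.card V)) R →+* MvPolynomial V R) h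
      rw [Ideal.map_map] at this
      have h2 : ((ρ.symm : MvPolynomial (Fin (Fintype.card V)) R →+* MvPolynomial V R).comp
          (ρ : MvPolynomial V R →+* MvPolynomial (Fin (Fintype.card V)) R)) = RingHom.id _ := by
        ext x <;> simp
      rw [h2, Ideal.map_id] at this
      exact this
  have hjac : jacobianMinor f' rows' cols' =
      ρ (Matrix.det (Matrix.of fun j k : T => pderiv (cols k) (f (rows j)))) := by
    rw [jacobianMinor, AlgEquiv.map_det]
    rw [← Matrix.det_reindex_self eT]
    congr 1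
    refine Matrix.ext fun j k => ?_
    simp only [Matrix.of_apply, AlgEquiv.mapMatrix_apply, Matrix.map_apply, Matrix.reindex_apply,
      Matrix.submatrix_apply]
    change pderiv (eV (cols (eT.symm k))) (ρ (f (eM.symm (eM (rows (eT.symm j)))))) = _
    rw [Equiv.symm_apply_apply]
    exact pderiv_rename eV.injective (cols (eT.symm k)) (f (rows (eT.symm j)))
  refine isElementaryStandard_of_fin_chart f' (φ.comp ρ.symm.toAlgHom)
    (hφ.comp ρ.symm.surjective) hker' rows' cols' a a' ?_ ?_
  · change a = a' * φ (ρ.symm (jacobianMinor f' rows' cols'))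
    rw [hjac, AlgEquiv.symm_apply_apply, ha]
  · intro a₁ ha₁ ℓ
    change φ (ρ.symm a₁) = a at ha₁
    have h1 := hkt (ρ.symm a₁) ha₁ (eM.symm ℓ)
    have h2 := Ideal.mem_map_of_mem (ρ : MvPolynomial V R →+* MvPolynomial (Fin (Fintype.card V)) R) h1
    rw [map_mul, Ideal.map_sup, Ideal.map_pow, hmapI, hmapI2] at h2
    have h3 : (ρ : MvPolynomial V R →+* MvPolynomial (Fin (Fintype.card V)) R) (ρ.symm a₁) = a₁ := ρ.apply_symm_apply a₁
    rw [h3] at h2
    exact h2

end Groth.Agent.Lib.Helper81.Pop
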