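import Mathlib

/-!
# Clearing denominators in polynomial rings over a localization (helper81)
-/

set_option autoImplicit false
universe u

namespace Groth.Agent.Lib.Helper81.Pop

open MvPolynomial TensorProduct

section
variable {R Rₛ : Type u} [CommRing R] (S : Submonoid R) [CommRing Rₛ] [Algebra R Rₛ]
  [IsLocalization S Rₛ] {V : Type}

attribute [local instance] MvPolynomial.algebraMvPolynomial

/-- Clearing denominators of a polynomial over the localization. -/
theorem exists_clear (p : MvPolynomial V Rₛ) :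
    ∃ s ∈ S, ∃ q : MvPolynomial V R,
      MvPolynomial.map (algebraMap R Rₛ) q = C (algebraMap R Rₛ s) * p := by
  haveI : IsLocalization (S.map (C (σ := V))) (MvPolynomial V Rₛ) :=
    MvPolynomial.isLocalization S Rₛ
  obtain ⟨⟨x, ⟨_, s, hs, rfl⟩⟩, hx⟩ := IsLocalization.surj (S.map (C (σ := V))) p
  refine ⟨s, hs, x, ?_⟩
  rw [MvPolynomial.algebraMap_def] at hx
  simp only [map_C] at hx
  rw [← hx, mul_comm]

/-- A polynomial over `R` dying over the localization is killed by an element of `S`. -/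
theorem exists_kill (q : MvPolynomial V R) (h : MvPolynomial.map (algebraMap R Rₛ) q = 0) :
    ∃ s ∈ S, C s * q = 0 := by
  haveI : IsLocalization (S.map (C (σ := V))) (MvPolynomial V Rₛ) :=
    MvPolynomial.isLocalization S Rₛ
  have h' : algebraMap (MvPolynomial V R) (MvPolynomial V Rₛ) q = 0 := h
  obtain ⟨⟨_, s, hs, rfl⟩, hm⟩ :=
    (IsLocalization.map_eq_zero_iff (S.map (C (σ := V))) (MvPolynomial V Rₛ) q).1 h'
  exact ⟨s, hs, hm⟩

/-- Membership in an extended ideal can be tested after multiplying by an element of `S`. -/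
theorem exists_mul_mem_of_map_mem (I : Ideal (MvPolynomial V R)) (q : MvPolynomial V R)
    (h : MvPolynomial.map (algebraMap R Rₛ) q ∈ I.map (MvPolynomial.map (algebraMap R Rₛ))) :
    ∃ s ∈ S, C s * q ∈ I := by
  haveI : IsLocalization (S.map (C (σ := V))) (MvPolynomial V Rₛ) :=
    MvPolynomial.isLocalization S Rₛ
  have h' : algebraMap (MvPolynomial V R) (MvPolynomial V Rₛ) q ∈
      I.map (algebraMap (MvPolynomial V R) (MvPolynomial V Rₛ)) := h
  obtain ⟨⟨⟨i, hi⟩, ⟨_, s, hs, rfl⟩⟩, hx⟩ :=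
    (IsLocalization.mem_map_algebraMap_iff (S.map (C (σ := V))) (MvPolynomial V Rₛ)).1 h'
  simp only at hx
  rw [← map_mul] at hx
  have h0 : MvPolynomial.map (algebraMap R Rₛ) (q * C s - i) = 0 := by
    rw [map_sub]
    exact sub_eq_zero.2 hx
  obtain ⟨s', hs', hk⟩ := exists_kill S _ h0
  refine ⟨s' * s, S.mul_mem hs' hs, ?_⟩
  have : C (s' * s) * q = C s' * i := by
    rw [mul_sub] at hk
    rw [← sub_eq_zero.1 hk, C_mul]
    ring
  rw [this]
  exact Ideal.mul_mem_left _ _ hi

end

section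
variable {R Rₛ Λ : Type u} [CommRing R] (S : Submonoid R) [CommRing Rₛ] [Algebra R Rₛ]
  [IsLocalization S Rₛ] [CommRing Λ] [Algebra R Λ]

/-- An element dying in the localization `Rₛ ⊗ Λ` is `S`-torsion. -/
theorem exists_smul_eq_zero_of_one_tmul_eq_zero (x : Λ) (h : (1 : Rₛ) ⊗ₜ[R] x = 0) :
    ∃ s ∈ S, s • x = 0 := by
  haveI : IsLocalizedModule S (TensorProduct.mk R Rₛ Λ 1) :=
    IsLocalization.tensorProduct_isLocalizedModule S Rₛ
  have h' : TensorProduct.mk R Rₛ Λ 1 x = TensorProduct.mk R Rₛ Λ 1 0 := by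
    rw [map_zero]; exact h
  obtain ⟨c, hc⟩ := IsLocalizedModule.exists_of_eq (S := S) h'
  refine ⟨c, c.2, ?_⟩
  rw [smul_zero] at hc
  exact hc

/-- Every element of `Rₛ ⊗ Λ` becomes a pure tensor `1 ⊗ x` after multiplying by an element of `S`. -/
theorem exists_smul_eq_one_tmul (y : Rₛ ⊗[R] Λ) :
    ∃ s ∈ S, ∃ x : Λ, (algebraMap R Rₛ s) • y = (1 : Rₛ) ⊗ₜ[R] x := by
  haveI : IsLocalizedModule S (TensorProduct.mk R Rₛ Λ 1) :=
    IsLocalization.tensorProduct_isLocalizedModule S Rₛ
  obtain ⟨⟨x, s⟩, hx⟩ := IsLocalizedModule.surj S (TensorProduct.mk R Rₛ Λ 1) y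
  refine ⟨s, s.2, x, ?_⟩
  rw [algebraMap_smul]
  exact hx

variable {V : Type}

/-- Evaluating a polynomial with coefficients in `R` at pure tensors. -/
theorem aeval_one_tmul_map (lam : V → Λ) (q : MvPolynomial V R) :
    aeval (fun v => (1 : Rₛ) ⊗ₜ[R] lam v) (MvPolynomial.map (algebraMap R Rₛ) q) =
      (1 : Rₛ) ⊗ₜ[R] (aeval lam q) := by
  induction q using MvPolynomial.induction_on with
  | C r =>
    rw [map_C, aeval_C, aeval_C, Algebra.TensorProduct.algebraMap_apply, Algebra.algebraMap_self,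
      RingHom.id_apply, Algebra.algebraMap_eq_smul_one, Algebra.algebraMap_eq_smul_one r (A := Λ),
      TensorProduct.smul_tmul]
  | add p q hp hq => rw [map_add, map_add, map_add, hp, hq, TensorProduct.tmul_add]
  | mul_X p v hp =>
    rw [map_mul, map_mul, map_mul, hp, map_X, aeval_X, aeval_X, Algebra.TensorProduct.tmul_mul_tmul,
      mul_one]

end

end Groth.Agent.Lib.Helper81.Pop
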