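import Mathlib
import Groth.Agent.Lib.Helper81.PopClear
import Groth.Agent.Lib.Helper81.PopChartGen

/-!
# Delocalizing the base (Stacks 07F6): from a chart over the localization to the conclusion
(helper81)
-/

set_option autoImplicit false
universe u

namespace Groth.Agent.Lib.Helper81.Pop

open MvPolynomial TensorProduct Smoothing

/-- Evaluations at congruent points are congruent. -/
theorem aeval_sub_aeval_mem {R B : Type*} [CommRing R] [CommRing B] [Algebra R B] {σ : Type*}
    (I : Ideal B) (x y : σ → B) (h : ∀ i, x i - y i ∈ I) (p : MvPolynomial σ R) :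
    aeval x p - aeval y p ∈ I := by
  rw [← Ideal.Quotient.eq]
  have h1 : ∀ z : σ → B, Ideal.Quotient.mk I (aeval z p) =
      aeval (fun i => Ideal.Quotient.mk I (z i)) p := by
    intro z
    have : (Ideal.Quotient.mkₐ R I).comp (aeval z) =
        aeval (fun i => Ideal.Quotient.mk I (z i)) := by
      apply MvPolynomial.algHom_ext
      intro i
      simp
    exact DFunLike.congr_fun this p
  rw [h1, h1]
  have h2 : (fun i => Ideal.Quotient.mk I (x i)) = fun i => Ideal.Quotient.mk I (y i) :=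
    funext fun i => Ideal.Quotient.eq.2 (h i)
  rw [h2]

theorem exists_factor_of_interface {R A Λ Rₛ : Type u} [CommRing R] [CommRing A] [Algebra R A]
    [CommRing Λ] [Algebra R Λ] (φ : A →ₐ[R] Λ) (S : Submonoid R) [CommRing Rₛ] [Algebra R Rₛ]
    [IsLocalization S Rₛ] {n t : ℕ} (gA : Fin t → MvPolynomial (Fin n) R)
    (πA : MvPolynomial (Fin n) R →ₐ[R] A) (hπA : Function.Surjective πA)
    (hkerA : RingHom.ker πA.toRingHom = Ideal.span (Set.range gA))
    {V T : Type} [Finite V] [Fintype T] [DecidableEq T]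
    (W : Fin n → V) (cols : T ↪ V) (lam : V → Λ) (hlamW : ∀ i, lam (W i) = φ (πA (X i)))
    (lead : T → MvPolynomial V Rₛ)
    (hlead : ∀ j, aeval (fun v => (1 : Rₛ) ⊗ₜ[R] lam v) (lead j) = 0)
    (u : MvPolynomial V Rₛ)
    (hu : u * Matrix.det (Matrix.of fun j k : T => pderiv (cols k) (lead j)) - 1 ∈
      Ideal.span (Set.range lead))
    (hg : ∀ k, MvPolynomial.map (algebraMap R Rₛ) (rename W (gA k)) ∈
      Ideal.span (Set.range lead)) :
    ∃ (B : Type u) (_ : CommRing B) (_ : Algebra R B) (α : A →ₐ[R] B) (β : B →ₐ[R] Λ),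
      β.comp α = φ ∧ ∃ s ∈ S, IsElementaryStandard R B (algebraMap R B s) := by
  classical
  -- clear denominators of the leading relations
  have h1 : ∀ j, ∃ s ∈ S, ∃ q : MvPolynomial V R,
      MvPolynomial.map (algebraMap R Rₛ) q = C (algebraMap R Rₛ s) * lead j :=
    fun j => exists_clear S (lead j)
  choose sL hsL L hL using h1
  have h2 : ∀ j, ∃ s ∈ S, s • aeval lam (L j) = 0 := by
    intro j
    apply exists_smul_eq_zero_of_one_tmul_eq_zero (Rₛ := Rₛ) S
    rw [← aeval_one_tmul_map, hL, map_mul, hlead, mul_zero]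
  choose sL' hsL' hkill using h2
  -- the presentation
  let f : T ⊕ Fin t → MvPolynomial V R :=
    Sum.elim (fun j => C (sL' j) * L j) (fun k => rename W (gA k))
  set I : Ideal (MvPolynomial V R) := Ideal.span (Set.range f) with hI
  set IE : Ideal (MvPolynomial V R) :=
    Ideal.span (Set.range (f ∘ (Function.Embedding.inl : T ↪ T ⊕ Fin t))) with hIE
  have hIEI : IE ≤ I := by
    apply Ideal.span_mono
    rintro _ ⟨j, rfl⟩
    exact ⟨Sum.inl j, rfl⟩
  have hfl : ∀ j, f (Sum.inl j) = C (sL' j) * L j := fun j => rfl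
  have hfr : ∀ k, f (Sum.inr k) = rename W (gA k) := fun k => rfl
  have hflIE : ∀ j, f (Sum.inl j) ∈ IE := fun j => Ideal.subset_span ⟨j, rfl⟩
  let πB : MvPolynomial V R →ₐ[R] MvPolynomial V R ⧸ I := Ideal.Quotient.mkₐ R I
  have hπB : Function.Surjective πB := Ideal.Quotient.mkₐ_surjective R I
  have hkerB : RingHom.ker πB.toRingHom = Ideal.span (Set.range f) := by
    ext x
    rw [RingHom.mem_ker]
    change Ideal.Quotient.mk I x = 0 ↔ _
    rw [Ideal.Quotient.eq_zero_iff_mem]
  -- β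
  have hβ0 : ∀ a ∈ I, aeval lam a = 0 := by
    intro a ha
    have : I ≤ RingHom.ker (aeval lam : MvPolynomial V R →ₐ[R] Λ).toRingHom := by
      rw [hI, Ideal.span_le]
      rintro _ ⟨j | k, rfl⟩
      · rw [SetLike.mem_coe, RingHom.mem_ker]
        change aeval lam (C (sL' j) * L j) = 0
        rw [map_mul, ← hkill j, Algebra.smul_def]
        simp
      · rw [SetLike.mem_coe, RingHom.mem_ker]
        change aeval lam (rename W (gA k)) = 0
        rw [aeval_rename]
        have h3 : (aeval (lam ∘ W) : MvPolynomial (Fin n) R →ₐ[R] Λ) = φ.comp πA := by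
          apply MvPolynomial.algHom_ext
          intro i
          simp [hlamW]
        rw [h3, AlgHom.comp_apply]
        have : gA k ∈ RingHom.ker πA.toRingHom := by
          rw [hkerA]; exact Ideal.subset_span ⟨k, rfl⟩
        rw [RingHom.mem_ker] at this
        change πA (gA k) = 0 at this
        rw [this, map_zero]
    exact this ha
  let β : (MvPolynomial V R ⧸ I) →ₐ[R] Λ := Ideal.Quotient.liftₐ I (aeval lam) hβ0
  -- α
  have hα0 : ∀ a ∈ RingHom.ker πA.toRingHom, (πB.comp (rename W)) a = 0 := by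
    intro a ha
    have : RingHom.ker πA.toRingHom ≤ RingHom.ker (πB.comp (rename W)).toRingHom := by
      rw [hkerA, Ideal.span_le]
      rintro _ ⟨k, rfl⟩
      rw [SetLike.mem_coe, RingHom.mem_ker]
      change Ideal.Quotient.mk I (rename W (gA k)) = 0
      rw [Ideal.Quotient.eq_zero_iff_mem]
      exact Ideal.subset_span ⟨Sum.inr k, rfl⟩
    exact this ha
  let α₀ : (MvPolynomial (Fin n) R ⧸ RingHom.ker πA.toRingHom) →ₐ[R] MvPolynomial V R ⧸ I :=
    Ideal.Quotient.liftₐ _ (πB.comp (rename W)) hα0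
  let eA : (MvPolynomial (Fin n) R ⧸ RingHom.ker πA.toRingHom) ≃ₐ[R] A :=
    Ideal.quotientKerAlgEquivOfSurjective hπA
  let α : A →ₐ[R] MvPolynomial V R ⧸ I := α₀.comp eA.symm.toAlgHom
  have hαπ : ∀ p, α (πA p) = πB (rename W p) := by
    intro p
    change α₀ (eA.symm (πA p)) = _
    have : eA.symm (πA p) = Ideal.Quotient.mk _ p := by
      rw [AlgEquiv.symm_apply_eq]
      rfl
    rw [this]
    rfl
  have hβα : β.comp α = φ := by
    apply (AlgHom.cancel_right hπA).1
    apply MvPolynomial.algHom_ext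
    intro i
    change β (α (πA (X i))) = φ (πA (X i))
    rw [hαπ, rename_X]
    change aeval lam (X (W i)) = _
    rw [aeval_X, hlamW]
  refine ⟨MvPolynomial V R ⧸ I, inferInstance, inferInstance, α, β, hβα, ?_⟩
  -- the units
  set m : MvPolynomial V R →+* MvPolynomial V Rₛ := MvPolynomial.map (algebraMap R Rₛ) with hm
  have hmf : ∀ j, m (f (Sum.inl j)) = C (algebraMap R Rₛ (sL' j * sL j)) * lead j := by
    intro j
    rw [hfl, map_mul, hm, map_C, hL, ← mul_assoc, ← C_mul, ← map_mul]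
  have hleadle : Ideal.span (Set.range lead) ≤ IE.map m := by
    rw [Ideal.span_le]
    rintro _ ⟨j, rfl⟩
    have hunit : IsUnit (algebraMap R Rₛ (sL' j * sL j)) :=
      IsLocalization.map_units Rₛ (⟨sL' j * sL j, S.mul_mem (hsL' j) (hsL j)⟩ : S)
    obtain ⟨w, hw⟩ := hunit.exists_left_inv
    have : lead j = C w * m (f (Sum.inl j)) := by
      rw [hmf, ← mul_assoc, ← C_mul, hw, C_1, one_mul]
    rw [SetLike.mem_coe, this]
    exact Ideal.mul_mem_left _ _ (Ideal.mem_map_of_mem m (hflIE j))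
  -- tail relations
  have h3 : ∀ k, ∃ s ∈ S, C s * rename W (gA k) ∈ IE :=
    fun k => exists_mul_mem_of_map_mem S IE _ (hleadle (hg k))
  choose sg hsg hsgmem using h3
  -- the Jacobian
  set Jf : MvPolynomial V R :=
    Matrix.det (Matrix.of fun j k : T => pderiv (cols k) (f (Sum.inl j))) with hJf
  set Jl : MvPolynomial V Rₛ :=
    Matrix.det (Matrix.of fun j k : T => pderiv (cols k) (lead j)) with hJl
  have hmJ : m Jf = (∏ j, C (algebraMap R Rₛ (sL' j * sL j))) * Jl := by
    rw [hJf, RingHom.map_det, hJl, ← Matrix.det_mul_column]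
    congr 1
    apply Matrix.ext
    intro j k
    simp only [RingHom.mapMatrix_apply, Matrix.map_apply, Matrix.of_apply]
    rw [hm, ← pderiv_map, ← hm, hmf, pderiv_C_mul]
  obtain ⟨su, hsu, u', hu'⟩ := exists_clear S u
  set s₂ : R := su * ∏ j, (sL' j * sL j) with hs₂
  have hs₂S : s₂ ∈ S :=
    S.mul_mem hsu (S.prod_mem fun j _ => S.mul_mem (hsL' j) (hsL j))
  have h4 : m (u' * Jf - C s₂) ∈ IE.map m := by
    have : m (u' * Jf - C s₂) = C (algebraMap R Rₛ s₂) * (u * Jl - 1) := by
      rw [map_sub, map_mul, hmJ]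
      change MvPolynomial.map (algebraMap R Rₛ) u' * _ - MvPolynomial.map (algebraMap R Rₛ) (C s₂) = _
      rw [hu', map_C, hs₂, map_mul, map_prod, C_mul, map_prod]
      ring
    rw [this]
    exact Ideal.mul_mem_left _ _ (hleadle hu)
  obtain ⟨s₃, hs₃, hs₃mem⟩ := exists_mul_mem_of_map_mem S IE _ h4
  set sT : R := ∏ k, sg k with hsT
  have hsTS : sT ∈ S := S.prod_mem fun k _ => hsg k
  refine ⟨s₃ * s₂ * sT, S.mul_mem (S.mul_mem hs₃ hs₂S) hsTS, ?_⟩
  refine isElementaryStandard_of_chart f πB hπB hkerB (Function.Embedding.inl : T ↪ T ⊕ Fin t) cols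
    _ (algebraMap R _ sT * πB (C s₃ * u')) ?_ ?_
  · change _ = _ * πB Jf
    have h5 : πB ((C s₃ * u') * Jf) = πB (C (s₃ * s₂)) := by
      change Ideal.Quotient.mk I _ = Ideal.Quotient.mk I _
      rw [Ideal.Quotient.eq]
      have : C s₃ * u' * Jf - C (s₃ * s₂) = C s₃ * (u' * Jf - C s₂) := by
        rw [C_mul]; ring
      rw [this]
      exact hIEI hs₃mem
    calc algebraMap R (MvPolynomial V R ⧸ I) (s₃ * s₂ * sT)
        = algebraMap R (MvPolynomial V R ⧸ I) sT * algebraMap R (MvPolynomial V R ⧸ I) (s₃ * s₂) := by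
          rw [map_mul, mul_comm]
      _ = algebraMap R (MvPolynomial V R ⧸ I) sT * πB (C (s₃ * s₂)) := rfl
      _ = algebraMap R (MvPolynomial V R ⧸ I) sT * πB (C s₃ * u') * πB Jf := by
          rw [← h5, map_mul, mul_assoc]
  · intro a₁ ha₁ ℓ
    have ha₁' : a₁ - C (s₃ * s₂ * sT) ∈ I := by
      rw [← Ideal.Quotient.eq]
      exact ha₁
    rcases ℓ with j | k
    · exact Ideal.mem_sup_left (Ideal.mul_mem_left _ _ (hflIE j))
    · have h6 : a₁ * f (Sum.inr k) = C (s₃ * s₂ * sT) * f (Sum.inr k) +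
          (a₁ - C (s₃ * s₂ * sT)) * f (Sum.inr k) := by ring
      rw [h6]
      refine add_mem (Ideal.mem_sup_left ?_) (Ideal.mem_sup_right ?_)
      · obtain ⟨d, hd⟩ : sg k ∣ sT := Finset.dvd_prod_of_mem sg (Finset.mem_univ k)
        have : C (s₃ * s₂ * sT) * f (Sum.inr k) =
            C (s₃ * s₂ * d) * (C (sg k) * rename W (gA k)) := by
          rw [hfr, hd, ← mul_assoc (C _), ← C_mul]
          congr 2
          ring
        rw [this]
        exact Ideal.mul_mem_left _ _ (hsgmem k)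
      · rw [pow_two]
        exact Ideal.mul_mem_mul ha₁' (Ideal.subset_span ⟨Sum.inr k, rfl⟩)

end Groth.Agent.Lib.Helper81.Pop
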