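import Mathlib
import Groth.Agent.Lib.Helper81.PopBaseMain

/-!
# Delocalizing the base (Stacks 07F6): the standard smooth case (helper81)
-/

set_option autoImplicit false
universe u

namespace Groth.Agent.Lib.Helper81.Pop

open MvPolynomial TensorProduct Smoothing

section chain
variable {K : Type*} [CommRing K] {ι V : Type*} (w : ι → K) (e : ι → V)

/-- The rescaling-and-renaming substitution `X v ↦ w v • X (e v)`. -/
noncomputable def rescale : MvPolynomial ι K →ₐ[K] MvPolynomial V K :=
  aeval (fun v => C (w v) * X (e v))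

@[simp] theorem rescale_X (v : ι) : rescale w e (X v) = C (w v) * X (e v) := by
  simp [rescale]

theorem pderiv_rescale (he : Function.Injective e) (v : ι) (p : MvPolynomial ι K) :
    pderiv (e v) (rescale w e p) = C (w v) * rescale w e (pderiv v p) := by
  classical
  induction p using MvPolynomial.induction_on with
  | C a => simp [rescale]
  | add p q hp hq => rw [map_add, map_add, hp, hq, map_add, map_add, mul_add]
  | mul_X p v₁ hp =>
    rw [map_mul, Derivation.leibniz, Derivation.leibniz, hp, rescale_X, pderiv_C_mul, pderiv_X,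
      pderiv_X, map_add]
    simp only [smul_eq_mul, Pi.single_apply, map_mul, rescale_X]
    by_cases hv : v₁ = v
    · subst hv
      simp only [if_true, map_one]
      ring
    · have hv' : e v₁ ≠ e v := fun h => hv (he h)
      have hv2 : ¬ v = v₁ := fun h => hv h.symm
      have hv3 : ¬ e v = e v₁ := fun h => hv' h.symm
      simp only [hv, hv', hv2, hv3, if_false, map_zero, mul_zero, add_zero]
      ring

theorem pderiv_rescale_of_notMem (v' : V) (hv' : ∀ v, e v ≠ v') (p : MvPolynomial ι K) :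
    pderiv v' (rescale w e p) = 0 := by
  classical
  induction p using MvPolynomial.induction_on with
  | C a => simp [rescale]
  | add p q hp hq => rw [map_add, map_add, hp, hq, add_zero]
  | mul_X p v₁ hp =>
    rw [map_mul, Derivation.leibniz, hp, rescale_X, pderiv_C_mul, pderiv_X]
    have : ¬ e v₁ = v' := hv' v₁
    have h2 : ¬ v' = e v₁ := fun h => this h.symm
    simp [this]

end chain

theorem map_rename_eq_aeval {R Rₛ : Type*} [CommRing R] [CommRing Rₛ] [Algebra R Rₛ]
    {σ V : Type*} (W : σ → V) (p : MvPolynomial σ R) :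
    MvPolynomial.map (algebraMap R Rₛ) (rename W p) =
      aeval (fun i => (X (W i) : MvPolynomial V Rₛ)) p := by
  induction p using MvPolynomial.induction_on with
  | C a => simp [MvPolynomial.algebraMap_eq]
  | add p q hp hq => simp [hp, hq]
  | mul_X p v hp => simp [hp]

theorem delocalize_base_of_standardSmooth {R A Λ Rₛ B' : Type u} [CommRing R] [CommRing A]
    [Algebra R A] [Algebra.FinitePresentation R A] [CommRing Λ] [Algebra R Λ] (φ : A →ₐ[R] Λ)
    (S : Submonoid R) [CommRing Rₛ] [Algebra R Rₛ] [IsLocalization S Rₛ] [CommRing B']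
    [Algebra Rₛ B'] [Algebra.IsStandardSmooth Rₛ B'] (g : Rₛ ⊗[R] A →ₐ[Rₛ] B')
    (h : B' →ₐ[Rₛ] Rₛ ⊗[R] Λ)
    (hgh : h.comp g = Algebra.TensorProduct.map (AlgHom.id Rₛ Rₛ) φ) :
    ∃ (B : Type u) (_ : CommRing B) (_ : Algebra R B) (α : A →ₐ[R] B) (β : B →ₐ[R] Λ),
      β.comp α = φ ∧ ∃ s ∈ S, IsElementaryStandard R B (algebraMap R B s) := by
  classical
  obtain ⟨n, πA, hπA, hfg⟩ := (inferInstance : Algebra.FinitePresentation R A).out
  obtain ⟨t, gA, hgA⟩ := Submodule.fg_iff_exists_fin_generating_family.1 hfg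
  have hkerA : RingHom.ker πA.toRingHom = Ideal.span (Set.range gA) := hgA.symm
  obtain ⟨ι, σ, hσ, hι, ⟨P⟩⟩ := (inferInstance : Algebra.IsStandardSmooth Rₛ B').out
  haveI := Fintype.ofFinite σ
  let Pπ : MvPolynomial ι Rₛ →ₐ[Rₛ] B' := aeval P.val
  have hPπ : Function.Surjective Pπ := by
    intro b
    obtain ⟨x, hx⟩ := P.algebraMap_surjective b
    exact ⟨x, by rw [← hx, Algebra.Generators.algebraMap_apply]⟩
  have hkerP : ∀ x, Pπ x = 0 → x ∈ Ideal.span (Set.range P.relation) := by
    intro x hx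
    rw [P.span_range_relation_eq_ker, Algebra.Generators.ker_eq_ker_aeval_val, RingHom.mem_ker]
    exact hx
  -- the elements `lam`
  have h1 : ∀ v : ι, ∃ s ∈ S, ∃ x : Λ, (algebraMap R Rₛ s) • h (P.val v) = (1 : Rₛ) ⊗ₜ[R] x :=
    fun v => exists_smul_eq_one_tmul S _
  choose sv hsv lamv hlamv using h1
  have h2 : ∀ v : ι, ∃ w : Rₛ, w * algebraMap R Rₛ (sv v) = 1 := fun v =>
    (IsLocalization.map_units Rₛ (⟨sv v, hsv v⟩ : S)).exists_left_inv
  choose w hw using h2
  let Θ : MvPolynomial ι Rₛ →ₐ[Rₛ] MvPolynomial (Fin n ⊕ ι) Rₛ := rescale w Sum.inr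
  let lam : Fin n ⊕ ι → Λ := Sum.elim (fun i => φ (πA (X i))) lamv
  let ev : MvPolynomial (Fin n ⊕ ι) Rₛ →ₐ[Rₛ] Rₛ ⊗[R] Λ := aeval (fun v => (1 : Rₛ) ⊗ₜ[R] lam v)
  have hevX : ∀ v, ev (X v) = (1 : Rₛ) ⊗ₜ[R] lam v := fun v => aeval_X _ _
  have hevC : ∀ a, ev (C a) = algebraMap Rₛ (Rₛ ⊗[R] Λ) a := fun a => aeval_C _ a
  have hevΘ : ∀ p, ev (Θ p) = h (Pπ p) := by
    intro p
    have : ev.comp Θ = h.comp Pπ := by
      apply MvPolynomial.algHom_ext
      intro v
      change ev (rescale w Sum.inr (X v)) = h (aeval P.val (X v))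
      rw [rescale_X, map_mul, hevX, hevC, aeval_X]
      change algebraMap Rₛ (Rₛ ⊗[R] Λ) (w v) * ((1 : Rₛ) ⊗ₜ[R] lamv v) = _
      rw [← hlamv v, ← Algebra.smul_def, smul_smul, hw, one_smul]
    exact DFunLike.congr_fun this p
  have het : ∀ i : Fin n, ∃ p : MvPolynomial ι Rₛ, Pπ p = g ((1 : Rₛ) ⊗ₜ[R] πA (X i)) :=
    fun i => hPπ _
  choose et het using het
  let lead : Fin n ⊕ σ → MvPolynomial (Fin n ⊕ ι) Rₛ :=
    Sum.elim (fun i => X (Sum.inl i) - Θ (et i)) (fun j => Θ (P.relation j))
  have hhg : ∀ x, h (g x) = Algebra.TensorProduct.map (AlgHom.id Rₛ Rₛ) φ x :=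
    fun x => DFunLike.congr_fun hgh x
  have hlead : ∀ j, aeval (fun v => (1 : Rₛ) ⊗ₜ[R] lam v) (lead j) = 0 := by
    rintro (i | j)
    · change ev (X (Sum.inl i) - Θ (et i)) = 0
      rw [map_sub, hevΘ, het, hhg, Algebra.TensorProduct.map_tmul]
      change aeval (fun v => (1 : Rₛ) ⊗ₜ[R] lam v) (X (Sum.inl i)) - _ = 0
      rw [aeval_X]
      simp [lam]
    · change ev (Θ (P.relation j)) = 0
      rw [hevΘ]
      change h (aeval P.val (P.relation j)) = 0
      rw [P.aeval_val_relation, map_zero]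
  have hΘrel : ∀ x ∈ Ideal.span (Set.range P.relation), Θ x ∈ Ideal.span (Set.range lead) := by
    intro x hx
    have : Ideal.span (Set.range P.relation) ≤
        (Ideal.span (Set.range lead)).comap (Θ : MvPolynomial ι Rₛ →+* MvPolynomial (Fin n ⊕ ι) Rₛ) := by
      rw [Ideal.span_le]
      rintro _ ⟨j, rfl⟩
      exact Ideal.subset_span ⟨Sum.inr j, rfl⟩
    exact this hx
  -- the Jacobian
  let cols : Fin n ⊕ σ ↪ Fin n ⊕ ι :=
    Function.Embedding.sumMap (Function.Embedding.refl _) ⟨P.map, P.map_inj⟩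
  set J₀ : MvPolynomial ι Rₛ :=
    Matrix.det (Matrix.of fun j k : σ => pderiv (P.map k) (P.relation j)) with hJ₀
  have hJ₀unit : IsUnit (Pπ J₀) := by
    have := P.jacobian_isUnit
    rw [Algebra.PreSubmersivePresentation.jacobian_eq_jacobiMatrix_det,
      Algebra.Generators.algebraMap_apply] at this
    have h3 : P.jacobiMatrix.det = J₀ := by
      rw [hJ₀, ← Matrix.det_transpose]
      congr 1
      apply Matrix.ext
      intro j k
      rw [Matrix.transpose_apply, Algebra.PreSubmersivePresentation.jacobiMatrix_apply]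
      rfl
    rw [h3] at this
    exact this
  have hdet : Matrix.det (Matrix.of fun j k : Fin n ⊕ σ => pderiv (cols k) (lead j)) =
      (∏ k : σ, C (w (P.map k))) * Θ J₀ := by
    have hM : (Matrix.of fun j k : Fin n ⊕ σ => pderiv (cols k) (lead j)) =
        Matrix.fromBlocks (1 : Matrix (Fin n) (Fin n) _)
          (Matrix.of fun (i : Fin n) (k : σ) => pderiv (Sum.inr (P.map k)) (lead (Sum.inl i)))
          0
          (Matrix.of fun (j : σ) (k : σ) => C (w (P.map k)) * Θ (pderiv (P.map k) (P.relation j))) := by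
      apply Matrix.ext
      rintro (i | j) (i' | k)
      · rw [Matrix.fromBlocks_apply₁₁, Matrix.of_apply]
        change pderiv (Sum.inl i') (X (Sum.inl i) - Θ (et i)) = _
        rw [map_sub, pderiv_rescale_of_notMem w Sum.inr (Sum.inl i') (fun v => by simp), sub_zero,
          pderiv_X, Matrix.one_apply, Pi.single_apply]
        by_cases hi : i = i'
        · subst hi; simp
        · have : ¬ i' = i := fun h => hi h.symm
          simp [hi, this]
      · rw [Matrix.fromBlocks_apply₁₂, Matrix.of_apply, Matrix.of_apply]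
        rfl
      · rw [Matrix.fromBlocks_apply₂₁, Matrix.of_apply]
        change pderiv (Sum.inl i') (Θ (P.relation j)) = _
        rw [pderiv_rescale_of_notMem w Sum.inr (Sum.inl i') (fun v => by simp)]
        rfl
      · rw [Matrix.fromBlocks_apply₂₂, Matrix.of_apply, Matrix.of_apply]
        change pderiv (Sum.inr (P.map k)) (Θ (P.relation j)) = _
        exact pderiv_rescale w Sum.inr Sum.inr_injective (P.map k) (P.relation j)
    rw [hM, Matrix.det_fromBlocks_zero₂₁, Matrix.det_one, one_mul]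
    have hrow := Matrix.det_mul_row (fun k => C (w (P.map k)))
      (Matrix.of fun (j : σ) (k : σ) => Θ (pderiv (P.map k) (P.relation j)))
    simp only [Matrix.of_apply] at hrow
    rw [hrow]
    congr 1
    rw [hJ₀, AlgHom.map_det]
    congr 1
  obtain ⟨u₀, hu₀⟩ : ∃ u₀, Pπ u₀ * Pπ J₀ = 1 := by
    obtain ⟨b, hb⟩ := hJ₀unit.exists_left_inv
    obtain ⟨u₀, rfl⟩ := hPπ b
    exact ⟨u₀, hb⟩
  have hu₀mem : u₀ * J₀ - 1 ∈ Ideal.span (Set.range P.relation) := by
    apply hkerP
    rw [map_sub, map_mul, hu₀, map_one, sub_self]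
  have hprod : (∏ k : σ, C (algebraMap R Rₛ (sv (P.map k)))) * (∏ k : σ, C (w (P.map k))) =
      (1 : MvPolynomial (Fin n ⊕ ι) Rₛ) := by
    rw [← Finset.prod_mul_distrib]
    apply Finset.prod_eq_one
    intro k _
    rw [← C_mul, mul_comm, hw, C_1]
  refine exists_factor_of_interface φ S gA πA hπA hkerA (Sum.inl : Fin n → Fin n ⊕ ι) cols lam
    (fun i => rfl) lead hlead (Θ u₀ * ∏ k : σ, C (algebraMap R Rₛ (sv (P.map k)))) ?_ ?_
  · rw [hdet]
    have : Θ u₀ * (∏ k : σ, C (algebraMap R Rₛ (sv (P.map k)))) *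
        ((∏ k : σ, C (w (P.map k))) * Θ J₀) - 1 = Θ (u₀ * J₀ - 1) := by
      rw [map_sub, map_mul, map_one, mul_assoc, ← mul_assoc (∏ k : σ, C _), hprod, one_mul]
    rw [this]
    exact hΘrel _ hu₀mem
  · intro k
    rw [map_rename_eq_aeval]
    have h3 := aeval_sub_aeval_mem (R := R) (Ideal.span (Set.range lead))
      (fun i => (X (Sum.inl i) : MvPolynomial (Fin n ⊕ ι) Rₛ)) (fun i => Θ (et i))
      (fun i => Ideal.subset_span ⟨Sum.inl i, rfl⟩) (gA k)
    have h4 : aeval (fun i => Θ (et i)) (gA k) = Θ (aeval et (gA k)) := by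
      have : (Θ.restrictScalars R).comp (aeval et) = aeval (fun i => Θ (et i)) := by
        apply MvPolynomial.algHom_ext
        intro i
        simp
      rw [← this]
      rfl
    have h5 : Pπ (aeval et (gA k)) = 0 := by
      letI : Algebra R B' := Algebra.compHom B' (algebraMap R Rₛ)
      haveI : IsScalarTower R Rₛ B' := IsScalarTower.of_algebraMap_eq fun r => rfl
      have : (Pπ.restrictScalars R).comp (aeval et) =
          ((g.restrictScalars R).comp Algebra.TensorProduct.includeRight).comp πA := by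
        apply MvPolynomial.algHom_ext
        intro i
        simp [het]
      have h6 := DFunLike.congr_fun this (gA k)
      have h7 : πA (gA k) = 0 := by
        have : gA k ∈ RingHom.ker πA.toRingHom := by
          rw [hkerA]; exact Ideal.subset_span ⟨k, rfl⟩
        exact this
      change Pπ (aeval et (gA k)) = g (Algebra.TensorProduct.includeRight (πA (gA k))) at h6
      rw [h6, h7, map_zero, map_zero]
    have h8 := hΘrel _ (hkerP _ h5)
    rw [← h4] at h8
    have := add_mem h3 h8
    rwa [sub_add_cancel] at this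

end Groth.Agent.Lib.Helper81.Pop
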