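import Mathlib
import Groth.Agent.Lib.Helper87.Smoothing2

/-!
# Parameters of a regular local ring: nonzerodivisors modulo powers of the others (helper81)
-/

set_option autoImplicit false
universe u

namespace Groth.Agent.Lib.Helper81.Pop

open IsLocalRing RingTheory.Sequence Groth.Agent.Lib.Helper29 Groth.Agent.Lib.Helper87.Smoothing

/-- In a regular local ring with parameters `g`, the last parameter is a nonzerodivisor modulo
arbitrary positive powers of the previous ones. -/
theorem mem_span_pow_of_mul_mem_last {R : Type u} [CommRing R] [IsRegularLocalRing R] {d : ℕ}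
    (hd : (maximalIdeal R).spanFinrank = d + 1) (g : Fin (d + 1) → R)
    (hg : Ideal.span (Set.range g) = maximalIdeal R) (v : Fin (d + 1) → ℕ) (hv : ∀ j, 1 ≤ v j)
    (hvl : v (Fin.last d) = 1) (z : R)
    (hz : g (Fin.last d) * z ∈
      Ideal.span (Set.range fun j : Fin d => g j.castSucc ^ v j.castSucc)) :
    z ∈ Ideal.span (Set.range fun j : Fin d => g j.castSucc ^ v j.castSucc) := by
  classical
  have hL := isWeaklyRegular_ofFn_pow (d + 1) R g v hv
    (isWeaklyRegular_ofFn_of_span_eq (d + 1) R g hd hg)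
  rw [isWeaklyRegular_iff_Fin] at hL
  have hlen : (List.ofFn fun j => g j ^ v j).length = d + 1 := List.length_ofFn
  have hi := hL ⟨d, by rw [hlen]; omega⟩
  have hgi : (List.ofFn fun j => g j ^ v j)[d]'(by rw [hlen]; omega) = g (Fin.last d) := by
    rw [List.getElem_ofFn]
    change g (Fin.last d) ^ v (Fin.last d) = _
    rw [hvl, pow_one]
  have hJ : (Ideal.ofList ((List.ofFn fun j => g j ^ v j).take d) • ⊤ : Submodule R R) =
      Ideal.span (Set.range fun j : Fin d => g j.castSucc ^ v j.castSucc) := by
    rw [smul_eq_mul, Ideal.mul_top]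
    unfold Ideal.ofList
    congr 1
    ext x
    simp only [Set.mem_setOf_eq, Set.mem_range]
    rw [mem_take_ofFn]
    constructor
    · rintro ⟨j, hj, rfl⟩
      exact ⟨⟨j, hj⟩, rfl⟩
    · rintro ⟨j, rfl⟩
      exact ⟨j.castSucc, j.2, rfl⟩
  simp only [Fin.getElem_fin] at hi
  rw [hgi] at hi
  have h0 : g (Fin.last d) • (Submodule.Quotient.mk z : R ⧸ (Ideal.ofList
      ((List.ofFn fun j => g j ^ v j).take d) • ⊤ : Submodule R R)) =
      g (Fin.last d) • (0 : R ⧸ (Ideal.ofList
      ((List.ofFn fun j => g j ^ v j).take d) • ⊤ : Submodule R R)) := by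
    rw [smul_zero, ← Submodule.Quotient.mk_smul, Submodule.Quotient.mk_eq_zero, hJ]
    exact hz
  have h1 := hi h0
  rw [Submodule.Quotient.mk_eq_zero, hJ] at h1
  exact h1

/-- In a regular local ring with parameters `g`, each parameter is a nonzerodivisor modulo
arbitrary positive powers of the other ones. -/
theorem mem_span_pow_of_mul_mem {R : Type u} [CommRing R] [IsRegularLocalRing R] {d : ℕ}
    (hd : (maximalIdeal R).spanFinrank = d) (g : Fin d → R)
    (hg : Ideal.span (Set.range g) = maximalIdeal R) (v : Fin d → ℕ) (hv : ∀ j, 1 ≤ v j)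
    (t : Fin d) (z : R)
    (hz : g t * z ∈ Ideal.span (Set.range fun j : {j : Fin d // j ≠ t} => g j ^ v j)) :
    z ∈ Ideal.span (Set.range fun j : {j : Fin d // j ≠ t} => g j ^ v j) := by
  classical
  obtain ⟨d', rfl⟩ : ∃ d', d = d' + 1 := ⟨d - 1, by have := t.2; omega⟩
  let σ : Equiv.Perm (Fin (d' + 1)) := Equiv.swap t (Fin.last d')
  have hσl : σ (Fin.last d') = t := Equiv.swap_apply_right _ _
  let g' : Fin (d' + 1) → R := fun j => g (σ j)
  let v' : Fin (d' + 1) → ℕ := fun j => if j = Fin.last d' then 1 else v (σ j)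
  have hg' : Ideal.span (Set.range g') = maximalIdeal R := by
    rw [← hg]
    congr 1
    exact σ.surjective.range_comp g
  have hv' : ∀ j, 1 ≤ v' j := by
    intro j
    simp only [v']
    split_ifs
    · exact le_rfl
    · exact hv _
  have hset : (Set.range fun j : Fin d' => g' j.castSucc ^ v' j.castSucc) =
      Set.range fun j : {j : Fin (d' + 1) // j ≠ t} => g j ^ v j := by
    ext x
    constructor
    · rintro ⟨j, rfl⟩
      have hne : j.castSucc ≠ Fin.last d' := Fin.castSucc_ne_last j
      refine ⟨⟨σ j.castSucc, ?_⟩, ?_⟩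
      · intro h
        rw [← hσl] at h
        exact hne (σ.injective h)
      · simp only [g', v', if_neg hne]
    · rintro ⟨⟨j, hj⟩, rfl⟩
      have hne : σ.symm j ≠ Fin.last d' := by
        intro h
        apply hj
        rw [← hσl, ← h, Equiv.apply_symm_apply]
      refine ⟨(σ.symm j).castPred hne, ?_⟩
      simp only [g', v', Fin.castSucc_castPred, if_neg hne, Equiv.apply_symm_apply]
  rw [← hset] at hz ⊢
  refine mem_span_pow_of_mul_mem_last hd g' hg' v' hv' (by simp [v']) z ?_
  change g (σ (Fin.last d')) * z ∈ _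
  rw [hσl]
  exact hz

end Groth.Agent.Lib.Helper81.Pop
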