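import Mathlib
import Groth.Prelude.Def_CAlgX

/-!
# Transfer of adic formal smoothness along a formally étale map out of a tensor product (helper81)

`E₀` formally smooth over `K₀ = Frac A₀`; `E` formally étale over `Λ ⊗_{A₀} A` where `Λ → E₀`;
then `E` is formally smooth over `L = Frac A`.
(base change + localization + finer topology, EGA 0_IV 19.3.5.)
-/

set_option autoImplicit false
set_option linter.style.haveILetI false
universe u
open TensorProduct

namespace Groth.Agent.Lib.Helper81.FSTransfer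

set_option synthInstance.maxHeartbeats 200000 in
set_option maxHeartbeats 1000000 in
theorem transfer {A₀ A K₀ L Λ E₀ E : Type u} [CommRing A₀] [CommRing A] [CommRing K₀] [CommRing L]
    [CommRing Λ] [CommRing E₀] [CommRing E]
    [Algebra A₀ A] [Algebra A₀ K₀] [IsFractionRing A₀ K₀] [Algebra A L] [IsFractionRing A L]
    [Algebra K₀ L]
    (hKL : ∀ a₀ : A₀, algebraMap K₀ L (algebraMap A₀ K₀ a₀) = algebraMap A L (algebraMap A₀ A a₀))
    [Algebra A₀ Λ] [Algebra K₀ E₀] [Algebra L E]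
    (iΛ : Λ →+* E₀)
    (h1 : ∀ a₀ : A₀, algebraMap K₀ E₀ (algebraMap A₀ K₀ a₀) = iΛ (algebraMap A₀ Λ a₀))
    (ψT : Λ ⊗[A₀] A →+* E) (hψ : @Algebra.FormallyEtale _ E _ _ ψT.toAlgebra)
    (φ : E₀ →+* E) (h2 : ∀ l : Λ, φ (iΛ l) = ψT (l ⊗ₜ 1))
    (h3 : ∀ a : A, ψT (1 ⊗ₜ a) = algebraMap L E (algebraMap A L a))
    (𝔫₀ : Ideal E₀) (𝔫 : Ideal E) (h𝔫 : ∀ x ∈ 𝔫₀, φ x ∈ 𝔫)
    (hsm : CAlgX.IsAdicFormallySmooth K₀ E₀ 𝔫₀) :
    CAlgX.IsAdicFormallySmooth L E 𝔫 := by
  intro C _ _ J hJ ψ ⟨k, hk⟩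
  letI algK₀C : Algebra K₀ C := ((algebraMap L C).comp (algebraMap K₀ L)).toAlgebra
  haveI towC : IsScalarTower K₀ L C := IsScalarTower.of_algebraMap_eq (fun _ => rfl)
  haveI towCJ : IsScalarTower K₀ L (C ⧸ J) := IsScalarTower.of_algebraMap_eq (fun _ => rfl)
  -- the restricted map
  have hcomm : ∀ x : K₀, ψ (φ (algebraMap K₀ E₀ x)) = algebraMap K₀ (C ⧸ J) x := by
    have : ((ψ.toRingHom.comp φ).comp (algebraMap K₀ E₀)) = algebraMap K₀ (C ⧸ J) := by
      apply IsLocalization.ringHom_ext (nonZeroDivisors A₀)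
      ext a₀
      change ψ (φ (algebraMap K₀ E₀ (algebraMap A₀ K₀ a₀))) =
        algebraMap K₀ (C ⧸ J) (algebraMap A₀ K₀ a₀)
      rw [h1, h2, IsScalarTower.algebraMap_apply K₀ L (C ⧸ J), hKL, ← AlgHom.commutes ψ, ← h3]
      congr 2
      rw [Algebra.algebraMap_eq_smul_one, TensorProduct.smul_tmul, ← Algebra.algebraMap_eq_smul_one]
    intro x
    exact congrFun (congrArg DFunLike.coe this) x
  let ψ₀ : E₀ →ₐ[K₀] C ⧸ J :=
    { toRingHom := ψ.toRingHom.comp φ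
      commutes' := hcomm }
  have hψ₀ : ∀ x, ψ₀ x = ψ (φ x) := fun _ => rfl
  have hkill : ∀ x ∈ 𝔫₀ ^ k, ψ₀ x = 0 := by
    intro x hx
    rw [hψ₀]
    apply hk
    have h4 : 𝔫₀.map φ ≤ 𝔫 := by
      rw [Ideal.map_le_iff_le_comap]
      exact fun y hy => h𝔫 y hy
    have h5 : (𝔫₀ ^ k).map φ ≤ 𝔫 ^ k := by
      rw [Ideal.map_pow]
      exact Ideal.pow_right_mono h4 k
    exact h5 (Ideal.mem_map_of_mem φ hx)
  obtain ⟨χ₀, hχ₀⟩ := hsm C J hJ ψ₀ ⟨k, hkill⟩
  have hχ₀' : ∀ x, Ideal.Quotient.mk J (χ₀ x) = ψ (φ x) := by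
    intro x
    have := congrArg (fun f => f x) hχ₀
    exact this
  -- the algebra structure on `C` over the tensor product
  letI algA₀C : Algebra A₀ C := ((algebraMap K₀ C).comp (algebraMap A₀ K₀)).toAlgebra
  let fΛ : Λ →ₐ[A₀] C :=
    { toRingHom := χ₀.toRingHom.comp iΛ
      commutes' := fun a₀ => by
        change χ₀ (iΛ (algebraMap A₀ Λ a₀)) = algebraMap K₀ C (algebraMap A₀ K₀ a₀)
        rw [← h1, AlgHom.commutes] }
  let fA : A →ₐ[A₀] C :=
    { toRingHom := (algebraMap L C).comp (algebraMap A L)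
      commutes' := fun a₀ => by
        change algebraMap L C (algebraMap A L (algebraMap A₀ A a₀)) =
          algebraMap K₀ C (algebraMap A₀ K₀ a₀)
        rw [← hKL]
        rfl }
  let g : Λ ⊗[A₀] A →ₐ[A₀] C := Algebra.TensorProduct.productMap fΛ fA
  have hg : ∀ (l : Λ) (a : A), g (l ⊗ₜ a) = χ₀ (iΛ l) * algebraMap L C (algebraMap A L a) := by
    intro l a
    exact Algebra.TensorProduct.productMap_apply_tmul fΛ fA l a
  letI algTC : Algebra (Λ ⊗[A₀] A) C := g.toRingHom.toAlgebra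
  letI algTE : Algebra (Λ ⊗[A₀] A) E := ψT.toAlgebra
  haveI : Algebra.FormallyEtale (Λ ⊗[A₀] A) E := hψ
  have hψT : ∀ (l : Λ) (a : A), ψT (l ⊗ₜ a) = φ (iΛ l) * algebraMap L E (algebraMap A L a) := by
    intro l a
    rw [h2, ← h3, ← map_mul, Algebra.TensorProduct.tmul_mul_tmul, mul_one, one_mul]
  have hcomm' : ∀ t : Λ ⊗[A₀] A, ψ (ψT t) = Ideal.Quotient.mk J (g t) := by
    intro t
    induction t using TensorProduct.induction_on with
    | zero => simp
    | tmul l a =>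
      rw [hψT, hg, map_mul, map_mul, hχ₀', AlgHom.commutes]
      rfl
    | add x y hx hy => rw [map_add, map_add, hx, hy, map_add, map_add]
  let ψ' : E →ₐ[Λ ⊗[A₀] A] C ⧸ J :=
    { toRingHom := ψ.toRingHom
      commutes' := hcomm' }
  obtain ⟨χ, hχ⟩ := Algebra.FormallySmooth.comp_surjective (Λ ⊗[A₀] A) E J hJ ψ'
  have hχ' : ∀ x, Ideal.Quotient.mk J (χ x) = ψ x := by
    intro x
    have := congrArg (fun f => f x) hχ
    exact this
  have hχL : ∀ x : L, χ (algebraMap L E x) = algebraMap L C x := by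
    have : (χ.toRingHom.comp (algebraMap L E)) = algebraMap L C := by
      apply IsLocalization.ringHom_ext (nonZeroDivisors A)
      ext a
      change χ (algebraMap L E (algebraMap A L a)) = algebraMap L C (algebraMap A L a)
      rw [← h3]
      have h6 := χ.commutes ((1 : Λ) ⊗ₜ[A₀] a)
      have h7 : algebraMap (Λ ⊗[A₀] A) E ((1 : Λ) ⊗ₜ[A₀] a) = ψT (1 ⊗ₜ a) := rfl
      have h8 : algebraMap (Λ ⊗[A₀] A) C ((1 : Λ) ⊗ₜ[A₀] a) = g (1 ⊗ₜ a) := rfl
      rw [h7, h8, hg, map_one, map_one, one_mul] at h6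
      exact h6
    intro x
    exact congrFun (congrArg DFunLike.coe this) x
  refine ⟨{ toRingHom := χ.toRingHom, commutes' := hχL }, ?_⟩
  ext x
  exact hχ' x

end Groth.Agent.Lib.Helper81.FSTransfer
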