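import Mathlib

/-!
# Extending derivations (helper81)

* along a formally étale map (e.g. a localization),
* from a factor to a pushout (`S`-linearly),
* criterion: extension of derivations to the residue field implies injectivity of
  `κ ⊗ (A ⊗_k Ω_{k/R}) → κ ⊗ Ω_{A/R}`.
-/

set_option autoImplicit false

namespace Groth.Agent.Lib.Helper81.DerExtend

open TensorProduct KaehlerDifferential

section Etale

variable (R S T : Type*) [CommRing R] [CommRing S] [CommRing T]
  [Algebra R S] [Algebra R T] [Algebra S T] [IsScalarTower R S T] [Algebra.FormallyEtale S T]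
  (N : Type*) [AddCommGroup N] [Module T N] [Module S N] [Module R N]
  [IsScalarTower S T N] [IsScalarTower R T N] [IsScalarTower R S N]

/-- derivations extend along formally étale maps -/
theorem exists_extend_of_formallyEtale (D₀ : Derivation R S N) :
    ∃ D' : Derivation R T N, ∀ s, D' (algebraMap S T s) = D₀ s := by
  let g : Ω[T⁄R] →ₗ[T] N :=
    (D₀.liftKaehlerDifferential.liftBaseChange T) ∘ₗ
      (tensorKaehlerEquivOfFormallyEtale R S T).symm.toLinearMap
  refine ⟨g.compDer (KaehlerDifferential.D R T), fun s => ?_⟩
  change g (KaehlerDifferential.D R T (algebraMap S T s)) = D₀ s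
  change (D₀.liftKaehlerDifferential.liftBaseChange T)
    ((tensorKaehlerEquivOfFormallyEtale R S T).symm (D R T (algebraMap S T s))) = D₀ s
  rw [tensorKaehlerEquivOfFormallyEtale_symm_D_algebraMap, LinearMap.liftBaseChange_tmul,
    one_smul, Derivation.liftKaehlerDifferential_comp_D]

end Etale

section Pushout

variable (R S A B : Type*) [CommRing R] [CommRing S] [Algebra R S] [CommRing A] [CommRing B]
  [Algebra R A] [Algebra R B] [Algebra A B] [Algebra S B] [IsScalarTower R A B]
  [IsScalarTower R S B] [Algebra.IsPushout R S A B]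
  (N : Type*) [AddCommGroup N] [Module B N] [Module A N] [Module R N] [Module S N]
  [IsScalarTower A B N] [IsScalarTower R A N] [IsScalarTower S B N]

/-- an `R`-derivation of `A` extends to an `S`-derivation of the pushout `B = S ⊗_R A` -/
theorem exists_extend_pushout (D₀ : Derivation R A N) :
    ∃ D' : Derivation S B N, ∀ a, D' (algebraMap A B a) = D₀ a := by
  let g : Ω[B⁄S] →ₗ[B] N :=
    (D₀.liftKaehlerDifferential.liftBaseChange B) ∘ₗ
      (tensorKaehlerEquiv R S A B).symm.toLinearMap
  refine ⟨g.compDer (KaehlerDifferential.D S B), fun a => ?_⟩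
  change (D₀.liftKaehlerDifferential.liftBaseChange B)
    ((tensorKaehlerEquiv R S A B).symm (D S B (algebraMap A B a))) = D₀ a
  have h : (tensorKaehlerEquiv R S A B).symm (D S B (algebraMap A B a)) =
      (1 : B) ⊗ₜ[A] D R A a := by
    rw [LinearEquiv.symm_apply_eq, tensorKaehlerEquiv_tmul_D, one_smul]
  rw [h, LinearMap.liftBaseChange_tmul, one_smul, Derivation.liftKaehlerDifferential_comp_D]

end Pushout

section Kills

variable {R B M : Type*} [CommRing R] [CommRing B] [Algebra R B] [AddCommGroup M] [Module B M]
  [Module R M] [IsScalarTower R B M]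

/-- an additive map satisfying the Leibniz rule and killing the image of `R` is an `R`-derivation -/
def ofFun (D : B → M) (hadd : ∀ x y, D (x + y) = D x + D y)
    (hleib : ∀ x y, D (x * y) = x • D y + y • D x)
    (h : ∀ r : R, D (algebraMap R B r) = 0) : Derivation R B M where
  toFun := D
  map_add' := hadd
  map_smul' r x := by
    rw [RingHom.id_apply, Algebra.smul_def, hleib, h, smul_zero, add_zero, algebraMap_smul]
  map_one_eq_zero' := by
    have h1 := hleib 1 1
    rw [mul_one, one_smul] at h1
    have h2 : D 1 + 0 = D 1 + D 1 := by rw [add_zero]; exact h1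
    exact (add_left_cancel h2).symm
  leibniz' := hleib

@[simp] theorem ofFun_apply (D : B → M) (hadd : ∀ x y, D (x + y) = D x + D y)
    (hleib : ∀ x y, D (x * y) = x • D y + y • D x)
    (h : ∀ r : R, D (algebraMap R B r) = 0) (x : B) : ofFun D hadd hleib h x = D x := rfl

end Kills

section Field

variable {K M : Type*} [Field K] [AddCommGroup M] [Module K M]

/-- two derivations of a fraction field agreeing on the ring agree -/
theorem eq_of_eq_on {A R₁ R₂ : Type*} [CommRing A] [Algebra A K] [IsFractionRing A K]
    [CommRing R₁] [CommRing R₂] [Algebra R₁ K] [Algebra R₂ K] [Module R₁ M] [Module R₂ M]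
    [IsScalarTower R₁ K M] [IsScalarTower R₂ K M]
    (D : Derivation R₁ K M) (D' : Derivation R₂ K M)
    (h : ∀ a : A, D (algebraMap A K a) = D' (algebraMap A K a)) (x : K) :
    D x = D' x := by
  obtain ⟨a, b, -, rfl⟩ := IsFractionRing.div_surjective (A := A) x
  rw [Derivation.leibniz_div, Derivation.leibniz_div, h, h]

end Field

section Injective

variable {R k A : Type*} [CommRing R] [Field k] [CommRing A] [IsLocalRing A] [Algebra R k]
  [Algebra R A] [Algebra k A] [IsScalarTower R k A]

open IsLocalRing

/-- if every `R`-derivation `k → κ(A)` extends to `A`, then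
`κ ⊗ (A ⊗_k Ω_{k/R}) → κ ⊗ Ω_{A/R}` is injective -/
theorem injective_of_extend
    (hext : ∀ D : Derivation R k (ResidueField A),
      ∃ D' : Derivation R A (ResidueField A), ∀ c, D' (algebraMap k A c) = D c) :
    Function.Injective ((mapBaseChange R k A).lTensor (ResidueField A)) := by
  rw [injective_iff_map_eq_zero]
  intro x hx
  rw [← Module.forall_dual_apply_eq_zero_iff (ResidueField A)]
  intro φ
  let lam : Ω[k⁄R] →ₗ[k] ResidueField A :=
    (φ.restrictScalars k) ∘ₗ
      ((TensorProduct.mk A (ResidueField A) (A ⊗[k] Ω[k⁄R]) 1).restrictScalars k) ∘ₗ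
      (TensorProduct.mk k A Ω[k⁄R] 1)
  have hlam : ∀ ω, lam ω = φ (1 ⊗ₜ (1 ⊗ₜ ω)) := fun ω => rfl
  obtain ⟨D', hD'⟩ := hext (lam.compDer (KaehlerDifferential.D R k))
  let μ := D'.liftKaehlerDifferential
  let φ' : ResidueField A ⊗[A] Ω[A⁄R] →ₗ[A] ResidueField A :=
    (LinearMap.mul' A (ResidueField A)).comp (μ.lTensor _)
  have hμ : ∀ ω, lam ω = μ (KaehlerDifferential.map R R k A ω) := by
    intro ω
    have : lam = (μ.restrictScalars k).comp (KaehlerDifferential.map R R k A) := by
      apply Derivation.liftKaehlerDifferential_unique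
      ext c
      have e1 : (lam.compDer (KaehlerDifferential.D R k)) c = lam (KaehlerDifferential.D R k c) :=
        rfl
      have e2 : (((μ.restrictScalars k).comp (KaehlerDifferential.map R R k A)).compDer
          (KaehlerDifferential.D R k)) c =
          μ (KaehlerDifferential.map R R k A (KaehlerDifferential.D R k c)) := rfl
      rw [e2, KaehlerDifferential.map_D, Derivation.liftKaehlerDifferential_comp_D, hD']
    rw [this]
    rfl
  have key : ∀ y, φ y = φ' ((mapBaseChange R k A).lTensor _ y) := by
    intro y
    induction y using TensorProduct.induction_on with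
    | zero => simp
    | add y z hy hz => rw [map_add, map_add, map_add, hy, hz]
    | tmul κ y =>
      induction y using TensorProduct.induction_on with
      | zero => simp
      | add y z hy hz => rw [TensorProduct.tmul_add, map_add, map_add, map_add, hy, hz]
      | tmul a ω =>
        have h1 : κ ⊗ₜ[A] (a ⊗ₜ[k] ω) =
            (a • κ) • ((1 : ResidueField A) ⊗ₜ[A] ((1 : A) ⊗ₜ[k] ω)) := by
          rw [TensorProduct.smul_tmul', smul_eq_mul, mul_one]
          have : a ⊗ₜ[k] ω = a • ((1 : A) ⊗ₜ[k] ω) := by
            rw [TensorProduct.smul_tmul', smul_eq_mul, mul_one]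
          rw [this, TensorProduct.tmul_smul, TensorProduct.smul_tmul']
        have hL : φ (κ ⊗ₜ[A] (a ⊗ₜ[k] ω)) = (a • κ) * lam ω := by
          rw [h1, map_smul, ← hlam, smul_eq_mul]
        rw [hL, hμ]
        rw [LinearMap.lTensor_tmul, mapBaseChange_tmul]
        simp only [φ', LinearMap.coe_comp, Function.comp_apply, LinearMap.lTensor_tmul,
          LinearMap.mul'_apply, map_smul]
        rw [Algebra.smul_def, Algebra.smul_def]
        ring
  rw [key, hx, map_zero]

end Injective

end Groth.Agent.Lib.Helper81.DerExtend
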