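import Mathlib
import Groth.Agent.Lib.Helper81.DerExtend

/-!
# Extending a derivation of `A` to a formally étale algebra over `Λ ⊗_S A` (helper81)
-/

set_option autoImplicit false

namespace Groth.Agent.Lib.Helper81.DerExtend

open TensorProduct KaehlerDifferential

theorem exists_extend_tensor {S₀ A Λ E : Type*} [CommRing S₀] [CommRing A] [CommRing Λ] [CommRing E]
    [Algebra S₀ A] [Algebra S₀ Λ] (ψ : Λ ⊗[S₀] A →+* E)
    (hψ : @Algebra.FormallyEtale (Λ ⊗[S₀] A) E _ _ ψ.toAlgebra)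
    (N : Type*) [AddCommGroup N] [Module E N] [Module A N] [Module S₀ N] [IsScalarTower S₀ A N]
    (hN : ∀ (a : A) (x : N), a • x = ψ (1 ⊗ₜ a) • x)
    (δ₀ : Derivation S₀ A N) :
    ∃ D : E → N, (∀ x y, D (x + y) = D x + D y) ∧ (∀ x y, D (x * y) = x • D y + y • D x) ∧
      ∀ a, D (ψ (1 ⊗ₜ a)) = δ₀ a := by
  letI algTE : Algebra (Λ ⊗[S₀] A) E := ψ.toAlgebra
  haveI : Algebra.FormallyEtale (Λ ⊗[S₀] A) E := hψ
  letI algAT : Algebra A (Λ ⊗[S₀] A) := Algebra.TensorProduct.rightAlgebra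
  haveI : IsScalarTower S₀ A (Λ ⊗[S₀] A) := Algebra.TensorProduct.right_isScalarTower
  letI modTN : Module (Λ ⊗[S₀] A) N := Module.compHom N ψ
  have hTN : ∀ (t : Λ ⊗[S₀] A) (x : N), t • x = ψ t • x := fun t x => rfl
  haveI : IsScalarTower (Λ ⊗[S₀] A) E N := ⟨fun t e x => by
    rw [hTN, Algebra.smul_def, mul_smul]
    rfl⟩
  have hAT : ∀ a : A, algebraMap A (Λ ⊗[S₀] A) a = 1 ⊗ₜ a := fun a => rfl
  haveI : IsScalarTower A (Λ ⊗[S₀] A) N := ⟨fun a t x => by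
    rw [hTN, Algebra.smul_def, map_mul, mul_smul, hAT, ← hN, ← hTN]⟩
  letI modΛN : Module Λ N := Module.compHom N (algebraMap Λ (Λ ⊗[S₀] A))
  have hΛN : ∀ (l : Λ) (x : N), l • x = algebraMap Λ (Λ ⊗[S₀] A) l • x := fun l x => rfl
  haveI : IsScalarTower Λ (Λ ⊗[S₀] A) N := ⟨fun l t x => by
    rw [hΛN, Algebra.smul_def, mul_smul]⟩
  obtain ⟨D₁, hD₁⟩ := exists_extend_pushout S₀ Λ A (Λ ⊗[S₀] A) N δ₀
  letI algΛE : Algebra Λ E := (ψ.comp (algebraMap Λ (Λ ⊗[S₀] A))).toAlgebra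
  haveI : IsScalarTower Λ (Λ ⊗[S₀] A) E := IsScalarTower.of_algebraMap_eq (fun _ => rfl)
  haveI : IsScalarTower Λ E N := ⟨fun l e x => by
    rw [hΛN, hTN, Algebra.smul_def, mul_smul]
    rfl⟩
  obtain ⟨D₂, hD₂⟩ := exists_extend_of_formallyEtale Λ (Λ ⊗[S₀] A) E N D₁
  refine ⟨D₂, fun x y => map_add D₂ x y, fun x y => D₂.leibniz x y, fun a => ?_⟩
  have := hD₂ (1 ⊗ₜ a)
  rw [← hD₁ a, hAT]
  exact this

end Groth.Agent.Lib.Helper81.DerExtend
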