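import Mathlib
import Groth.Agent.H8.FinCompl
import Groth.Agent.Lib.Helper81.DerExtendTensor

/-!
# Extending derivations to localizations of completions (helper81)

`A` a Noetherian ring, `S ⊆ A` a Noetherian subring over which `A` is finite, `m` a prime of `A`,
`Λ` the completion of `A_m`, `P₀` a prime of `Λ`.  Every `S`-derivation of `A` into a
`Λ_{P₀}`-module extends to `Λ_{P₀}`.
-/

set_option autoImplicit false
set_option linter.style.haveILetI false
universe u
open IsLocalRing TensorProduct

namespace Groth.Agent.Lib.Helper81.GenFibreDer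

open Groth.Agent.H8.FinCompl Groth.Agent.Lib.Helper81.DerExtend

section

variable {A : Type u} [CommRing A] (S : Type u) [CommRing S] [Algebra S A] (m : Ideal A) [m.IsPrime]

/-- the contraction of `m` to `S` -/
abbrev mS : Ideal S := m.comap (algebraMap S A)

/-- completion of `S` at the contraction -/
abbrev CplS : Type u :=
  AdicCompletion (maximalIdeal (Localization.AtPrime (mS S m))) (Localization.AtPrime (mS S m))

/-- completion of `A_m` -/
abbrev Cpl : Type u :=
  AdicCompletion (maximalIdeal (Localization.AtPrime m)) (Localization.AtPrime m)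

/-- `Λ_S ⊗_S A` -/
abbrev TT : Type u := CplS S m ⊗[S] A

end

/-- the canonical map `A → Λ_{P₀}` -/
noncomputable def can {A : Type u} [CommRing A] (m : Ideal A) [m.IsPrime] (P₀ : Ideal (Cpl m))
    [P₀.IsPrime] : A →+* Localization.AtPrime P₀ :=
  (algebraMap (Cpl m) (Localization.AtPrime P₀)).comp (algebraMap A (Cpl m))

set_option synthInstance.maxHeartbeats 200000 in
set_option maxHeartbeats 1000000 in
theorem exists_extend {A : Type u} [CommRing A] [IsNoetherianRing A]
    (S : Type u) [CommRing S] [Algebra S A] [IsNoetherianRing S] [Module.Finite S A]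
    (m : Ideal A) [m.IsPrime]
    (P₀ : Ideal (Cpl m)) [P₀.IsPrime]
    (N : Type u) [AddCommGroup N] [Module (Localization.AtPrime P₀) N] [Module A N]
    (hN : ∀ (a : A) (x : N), a • x = can m P₀ a • x) [Module S N] [IsScalarTower S A N]
    (δ₀ : Derivation S A N) :
    ∃ D : Localization.AtPrime P₀ → N, (∀ x y, D (x + y) = D x + D y) ∧
      (∀ x y, D (x * y) = x • D y + y • D x) ∧
      ∀ a, D (can m P₀ a) = δ₀ a := by
  haveI hlo : m.LiesOver (mS S m) := ⟨rfl⟩
  obtain ⟨θ, hθ⟩ := exists_cplEquiv_tensor S A (mS S m) m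
  let ψ : TT S m →+* Localization.AtPrime P₀ :=
    (algebraMap (Cpl m) (Localization.AtPrime P₀)).comp (θ.symm.toRingHom.comp
      (algebraMap (TT S m) (Localization.AtPrime (maxOver S A (mS S m) m))))
  have hψ1 : ∀ a : A, ψ (1 ⊗ₜ a) = can m P₀ a := by
    intro a
    change algebraMap (Cpl m) (Localization.AtPrime P₀) (θ.symm (algebraMap (TT S m)
      (Localization.AtPrime (maxOver S A (mS S m) m)) (1 ⊗ₜ a))) = _
    rw [← hθ a, RingEquiv.symm_apply_apply]
    rfl
  have hψ : @Algebra.FormallyEtale _ (Localization.AtPrime P₀) _ _ ψ.toAlgebra := by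
    letI algTE : Algebra (TT S m) (Localization.AtPrime P₀) := ψ.toAlgebra
    letI algTΛ : Algebra (TT S m) (Cpl m) :=
      (θ.symm.toRingHom.comp
        (algebraMap (TT S m) (Localization.AtPrime (maxOver S A (mS S m) m)))).toAlgebra
    haveI : @IsScalarTower (TT S m) (Cpl m) (Localization.AtPrime P₀) Algebra.toSMul Algebra.toSMul
        Algebra.toSMul := IsScalarTower.of_algebraMap_eq (fun _ => rfl)
    let e : @AlgEquiv (TT S m) (Localization.AtPrime (maxOver S A (mS S m) m)) (Cpl m)
        CommRing.toCommSemiring CommRing.toCommSemiring.toSemiring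
        CommRing.toCommSemiring.toSemiring _ algTΛ :=
      { θ.symm with commutes' := fun _ => rfl }
    haveI : Algebra.FormallyEtale (TT S m) (Cpl m) := Algebra.FormallyEtale.of_equiv
      (A := Localization.AtPrime (maxOver S A (mS S m) m)) e
    haveI : Algebra.FormallyEtale (Cpl m) (Localization.AtPrime P₀) :=
      Algebra.FormallyEtale.of_isLocalization (Rₘ := Localization.AtPrime P₀) P₀.primeCompl
    exact Algebra.FormallyEtale.comp (TT S m) (Cpl m) (Localization.AtPrime P₀)
  obtain ⟨D, h1, h2, h3⟩ := exists_extend_tensor ψ hψ N (fun a x => by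
    rw [hψ1, hN]) δ₀
  exact ⟨D, h1, h2, fun a => by rw [← hψ1, h3]⟩

end Groth.Agent.Lib.Helper81.GenFibreDer
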