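import Mathlib

/-!
# Basic API for `SymmetricPower` (helper81)

Universal property (`lift`), extensionality, functoriality (`map`); retracts inject.
-/

set_option autoImplicit false
universe u v w

open scoped TensorProduct

namespace Groth.Agent.Lib.Helper81.SymPow

section Basic

variable {R ι : Type u} [CommRing R] {M : Type v} [AddCommGroup M] [Module R M]
  {N : Type w} [AddCommGroup N] [Module R N]

theorem mk_tprod (v : ι → M) :
    SymmetricPower.mk R ι M (PiTensorProduct.tprod R v) = SymmetricPower.tprod R v := rfl

/-- additive version of the universal property -/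
noncomputable def liftAddHom (f : MultilinearMap R (fun _ : ι => M) N)
    (hf : ∀ (e : Equiv.Perm ι) (v : ι → M), f (fun i => v (e i)) = f v) : Sym[R] ι M →+ N :=
  AddCon.lift _ (PiTensorProduct.lift f).toAddMonoidHom (by
    rw [AddCon.addConGen_le]
    intro x y h
    cases h with
    | perm e v =>
      rw [AddCon.ker_rel]
      simp only [LinearMap.toAddMonoidHom_coe, PiTensorProduct.lift.tprod]
      exact (hf e v).symm)

theorem liftAddHom_mk (f : MultilinearMap R (fun _ : ι => M) N)
    (hf : ∀ (e : Equiv.Perm ι) (v : ι → M), f (fun i => v (e i)) = f v) (x : ⨂[R] _ : ι, M) :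
    liftAddHom f hf (SymmetricPower.mk R ι M x) = PiTensorProduct.lift f x :=
  AddCon.lift_coe _ x

/-- The universal property of the symmetric power. -/
noncomputable def lift (f : MultilinearMap R (fun _ : ι => M) N)
    (hf : ∀ (e : Equiv.Perm ι) (v : ι → M), f (fun i => v (e i)) = f v) : Sym[R] ι M →ₗ[R] N where
  toFun := liftAddHom f hf
  map_add' := map_add _
  map_smul' := by
    intro r x
    obtain ⟨y, rfl⟩ : ∃ y, SymmetricPower.mk R ι M y = x := AddCon.mk'_surjective x
    rw [← map_smul, liftAddHom_mk, liftAddHom_mk, map_smul, RingHom.id_apply]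

@[simp]
theorem lift_tprod (f : MultilinearMap R (fun _ : ι => M) N)
    (hf : ∀ (e : Equiv.Perm ι) (v : ι → M), f (fun i => v (e i)) = f v) (v : ι → M) :
    lift f hf (SymmetricPower.tprod R v) = f v := by
  change liftAddHom f hf (SymmetricPower.mk R ι M (PiTensorProduct.tprod R v)) = f v
  rw [liftAddHom_mk, PiTensorProduct.lift.tprod]

/-- Linear maps out of the symmetric power are determined by their values on pure tensors. -/
theorem hom_ext {g g' : Sym[R] ι M →ₗ[R] N}
    (h : ∀ v : ι → M, g (SymmetricPower.tprod R v) = g' (SymmetricPower.tprod R v)) : g = g' := by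
  apply LinearMap.ext_on (SymmetricPower.span_tprod_eq_top R ι M)
  rintro _ ⟨v, rfl⟩
  exact h v

/-- functoriality -/
noncomputable def map {M' : Type w} [AddCommGroup M'] [Module R M'] (u : M →ₗ[R] M') :
    Sym[R] ι M →ₗ[R] Sym[R] ι M' :=
  lift ((SymmetricPower.tprod R).compLinearMap fun _ => u) (fun e v => by
    simp only [MultilinearMap.compLinearMap_apply]
    exact SymmetricPower.tprod_equiv e fun i => u (v i))

@[simp]
theorem map_tprod {M' : Type w} [AddCommGroup M'] [Module R M'] (u : M →ₗ[R] M') (v : ι → M) :
    map u (SymmetricPower.tprod R v) = SymmetricPower.tprod R fun i => u (v i) := by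
  rw [map, lift_tprod]
  rfl

theorem map_injective_of_leftInverse {M' : Type w} [AddCommGroup M'] [Module R M']
    (u : M →ₗ[R] M') (r : M' →ₗ[R] M) (h : ∀ m, r (u m) = m) :
    Function.Injective (map (ι := ι) u) := by
  have : (map (ι := ι) r) ∘ₗ (map (ι := ι) u) = LinearMap.id := by
    apply hom_ext
    intro v
    simp [h]
  intro x y hxy
  have h2 := congrArg (map (ι := ι) r) hxy
  have hx : map (ι := ι) r (map (ι := ι) u x) = x := LinearMap.congr_fun this x
  have hy : map (ι := ι) r (map (ι := ι) u y) = y := LinearMap.congr_fun this y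
  rw [hx, hy] at h2
  exact h2

end Basic

end Groth.Agent.Lib.Helper81.SymPow
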