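import Mathlib
import Groth.Prelude.Def_PP16
import Groth.Agent.Lib.Helper81.SymPow

/-!
# The canonical map `Sym^n(J/J²) → J^n/J^(n+1)` (helper81)

Construction of the canonical surjection used in `PP16.SymGrBijective`, its surjectivity and
uniqueness: `SymGrBijective R J` holds iff all canonical maps are injective.
-/

set_option autoImplicit false
universe u

open scoped TensorProduct Pointwise

namespace Groth.Agent.Lib.Helper81.SymGr

open Groth.Agent.Lib.Helper81.SymPow

section Prod

theorem prod_mem_pow_card {R : Type*} [CommRing R] (J : Ideal R) {ι : Type*} (s : Finset ι)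
    (a : ι → R) (ha : ∀ i ∈ s, a i ∈ J) : ∏ i ∈ s, a i ∈ J ^ s.card := by
  classical
  induction s using Finset.induction_on with
  | empty => simp
  | insert j s hj ih =>
    rw [Finset.prod_insert hj, Finset.card_insert_of_notMem hj, pow_succ']
    exact Ideal.mul_mem_mul (ha j (by simp)) (ih fun i hi => ha i (by simp [hi]))

theorem prod_sub_prod_mem {R : Type*} [CommRing R] (J : Ideal R) {ι : Type*} (s : Finset ι)
    (a a' : ι → R) (ha : ∀ i ∈ s, a i ∈ J) (ha' : ∀ i ∈ s, a' i ∈ J)
    (h : ∀ i ∈ s, a i - a' i ∈ J ^ 2) : ∏ i ∈ s, a i - ∏ i ∈ s, a' i ∈ J ^ (s.card + 1) := by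
  classical
  induction s using Finset.induction_on with
  | empty => simp
  | insert j s hj ih =>
    rw [Finset.prod_insert hj, Finset.prod_insert hj, Finset.card_insert_of_notMem hj]
    have e : a j * ∏ i ∈ s, a i - a' j * ∏ i ∈ s, a' i =
        a j * (∏ i ∈ s, a i - ∏ i ∈ s, a' i) + (a j - a' j) * ∏ i ∈ s, a' i := by ring
    rw [e]
    apply Ideal.add_mem
    · have : J ^ (s.card + 1 + 1) = J * J ^ (s.card + 1) := by rw [pow_succ' J (s.card + 1)]
      rw [this]
      exact Ideal.mul_mem_mul (ha j (by simp))
        (ih (fun i hi => ha i (by simp [hi])) (fun i hi => ha' i (by simp [hi]))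
          (fun i hi => h i (by simp [hi])))
    · have : J ^ (s.card + 1 + 1) = J ^ 2 * J ^ s.card := by rw [← pow_add]; congr 1; ring
      rw [this]
      exact Ideal.mul_mem_mul (h j (by simp))
        (prod_mem_pow_card J s a' fun i hi => ha' i (by simp [hi]))

end Prod

section Canonical

variable {R : Type u} [CommRing R] (J : Ideal R) (ι : Type u) [Fintype ι]

/-- the multilinear map `(x_i) ↦ [∏ x_i]` on `J^ι` -/
noncomputable def prodMap : MultilinearMap R (fun _ : ι => ↥J) (PP16.grJ R J (Fintype.card ι)) :=
  (Submodule.mkQ _).compMultilinearMap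
    (((MultilinearMap.mkPiAlgebra R ι R).compLinearMap (fun _ => Submodule.subtype J)).codRestrict
      (J ^ Fintype.card ι) (fun v => by
        simp only [MultilinearMap.compLinearMap_apply, MultilinearMap.mkPiAlgebra_apply,
          Submodule.subtype_apply]
        simpa using prod_mem_pow_card J Finset.univ (fun i => (v i : R)) (fun i _ => (v i).2)))

theorem prodMap_apply (x : ι → ↥J) : prodMap J ι x = PP16.zetaJ R J x := rfl

theorem zetaJ_congr (x x' : ι → ↥J) (h : ∀ i, J.toCotangent (x i) = J.toCotangent (x' i)) :
    PP16.zetaJ R J x = PP16.zetaJ R J x' := by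
  unfold PP16.zetaJ
  rw [Submodule.Quotient.eq]
  change (∏ i, (x i : R)) - ∏ i, (x' i : R) ∈ J ^ (Fintype.card ι + 1)
  have := prod_sub_prod_mem J Finset.univ (fun i => (x i : R)) (fun i => (x' i : R))
    (fun i _ => (x i).2) (fun i _ => (x' i).2) (fun i _ => (Ideal.toCotangent_eq J).1 (h i))
  simpa using this

/-- a set-theoretic section of `J → J/J²` -/
noncomputable def sec (p : J.Cotangent) : ↥J := Function.surjInv J.toCotangent_surjective p

theorem toCotangent_sec (p : J.Cotangent) : J.toCotangent (sec J p) = p :=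
  Function.surjInv_eq J.toCotangent_surjective p

/-- the multilinear map `(x̄_i) ↦ [∏ x_i]` on `(J/J²)^ι` -/
noncomputable def cotProdMap :
    MultilinearMap R (fun _ : ι => J.Cotangent) (PP16.grJ R J (Fintype.card ι)) where
  toFun f := PP16.zetaJ R J (fun i => sec J (f i))
  map_update_add' := by
    intro _ m i x y
    have h1 : PP16.zetaJ R J (fun j => sec J (Function.update m i (x + y) j)) =
        PP16.zetaJ R J (Function.update (fun j => sec J (m j)) i (sec J x + sec J y)) := by
      apply zetaJ_congr
      intro j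
      by_cases hj : j = i
      · subst hj
        simp [toCotangent_sec]
      · simp [Function.update_of_ne hj]
    have h2 : ∀ z : J.Cotangent, PP16.zetaJ R J (fun j => sec J (Function.update m i z j)) =
        PP16.zetaJ R J (Function.update (fun j => sec J (m j)) i (sec J z)) := by
      intro z
      apply zetaJ_congr
      intro j
      by_cases hj : j = i
      · subst hj
        simp
      · simp [Function.update_of_ne hj]
    rw [h1, h2 x, h2 y, ← prodMap_apply, ← prodMap_apply, ← prodMap_apply]
    exact (prodMap J ι).map_update_add _ i _ _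
  map_update_smul' := by
    intro _ m i c x
    have h1 : PP16.zetaJ R J (fun j => sec J (Function.update m i (c • x) j)) =
        PP16.zetaJ R J (Function.update (fun j => sec J (m j)) i (c • sec J x)) := by
      apply zetaJ_congr
      intro j
      by_cases hj : j = i
      · subst hj
        simp [toCotangent_sec]
      · simp [Function.update_of_ne hj]
    have h2 : PP16.zetaJ R J (fun j => sec J (Function.update m i x j)) =
        PP16.zetaJ R J (Function.update (fun j => sec J (m j)) i (sec J x)) := by
      apply zetaJ_congr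
      intro j
      by_cases hj : j = i
      · subst hj
        simp
      · simp [Function.update_of_ne hj]
    rw [h1, h2, ← prodMap_apply, ← prodMap_apply]
    exact (prodMap J ι).map_update_smul _ i _ _

theorem cotProdMap_toCotangent (x : ι → ↥J) :
    cotProdMap J ι (fun i => J.toCotangent (x i)) = PP16.zetaJ R J x := by
  change PP16.zetaJ R J (fun i => sec J (J.toCotangent (x i))) = _
  apply zetaJ_congr
  intro i
  rw [toCotangent_sec]

theorem cotProdMap_perm (e : Equiv.Perm ι) (f : ι → J.Cotangent) :
    cotProdMap J ι (fun i => f (e i)) = cotProdMap J ι f := by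
  change PP16.zetaJ R J (fun i => sec J (f (e i))) = PP16.zetaJ R J (fun i => sec J (f i))
  unfold PP16.zetaJ
  congr 1
  apply Subtype.ext
  exact Equiv.prod_comp e (fun i => (sec J (f i) : R))

/-- The canonical map `Sym^ι(J/J²) → J^n/J^(n+1)`. -/
noncomputable def canon : Sym[R] ι J.Cotangent →ₗ[R] PP16.grJ R J (Fintype.card ι) :=
  SymPow.lift (cotProdMap J ι) (cotProdMap_perm J ι)

theorem canon_tprod (x : ι → ↥J) :
    canon J ι (SymmetricPower.tprod R (fun i => J.toCotangent (x i))) = PP16.zetaJ R J x := by
  rw [canon, SymPow.lift_tprod, cotProdMap_toCotangent]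

theorem canon_unique (φ : Sym[R] ι J.Cotangent →ₗ[R] PP16.grJ R J (Fintype.card ι))
    (h : ∀ x : ι → ↥J, φ (SymmetricPower.tprod R (fun i => J.toCotangent (x i))) =
      PP16.zetaJ R J x) : φ = canon J ι := by
  apply SymPow.hom_ext
  intro v
  have : v = fun i => J.toCotangent (sec J (v i)) := by
    funext i
    rw [toCotangent_sec]
  rw [this, h, canon_tprod]

theorem zetaJ_mem_range (x : ι → ↥J) : PP16.zetaJ R J x ∈ LinearMap.range (canon J ι) :=
  ⟨_, canon_tprod J ι x⟩

theorem canon_surjective : Function.Surjective (canon J ι) := by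
  classical
  rw [← LinearMap.range_eq_top, eq_top_iff]
  rintro z -
  obtain ⟨⟨y, hy⟩, rfl⟩ := Submodule.mkQ_surjective _ z
  have key : ∀ (y : R) (hy : y ∈ J ^ Fintype.card ι),
      Submodule.mkQ (Submodule.comap (J ^ Fintype.card ι).subtype (J ^ (Fintype.card ι + 1)))
        ⟨y, hy⟩ ∈ LinearMap.range (canon J ι) := by
    intro y hy
    have hy' : y ∈ Submodule.span R ((J : Set R) ^ Fintype.card ι) := by
      rw [← Submodule.pow_eq_span_pow_set]; exact hy
    induction hy' using Submodule.span_induction with
    | mem y hy2 =>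
      obtain ⟨f, hf⟩ := Set.mem_pow.1 hy2
      rw [List.prod_ofFn] at hf
      let e : ι ≃ Fin (Fintype.card ι) := Fintype.equivFin ι
      have h3 : (∏ i, ((f (e i) : ↥J) : R)) = y := by
        rw [← hf]
        exact Equiv.prod_comp e (fun j => ((f j : ↥J) : R))
      have : Submodule.mkQ (Submodule.comap (J ^ Fintype.card ι).subtype
          (J ^ (Fintype.card ι + 1))) ⟨y, hy⟩ = PP16.zetaJ R J (fun i => f (e i)) := by
        unfold PP16.zetaJ
        rw [Submodule.mkQ_apply]
        congr 1
        exact Subtype.ext h3.symm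
      rw [this]
      exact zetaJ_mem_range J ι _
    | zero =>
      have : (⟨0, hy⟩ : ↥(J ^ Fintype.card ι)) = 0 := rfl
      rw [this, map_zero]
      exact zero_mem _
    | add a b ha hb iha ihb =>
      have ha' : a ∈ J ^ Fintype.card ι := by rw [Submodule.pow_eq_span_pow_set]; exact ha
      have hb' : b ∈ J ^ Fintype.card ι := by rw [Submodule.pow_eq_span_pow_set]; exact hb
      have : (⟨a + b, hy⟩ : ↥(J ^ Fintype.card ι)) = ⟨a, ha'⟩ + ⟨b, hb'⟩ := rfl
      rw [this, map_add]
      exact add_mem (iha ha') (ihb hb')
    | smul r a ha iha =>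
      have ha' : a ∈ J ^ Fintype.card ι := by rw [Submodule.pow_eq_span_pow_set]; exact ha
      have : (⟨r • a, hy⟩ : ↥(J ^ Fintype.card ι)) = r • ⟨a, ha'⟩ := rfl
      rw [this, map_smul]
      exact Submodule.smul_mem _ _ (iha ha')
  exact key y hy

end Canonical

theorem symGrBijective_iff {R : Type u} [CommRing R] (J : Ideal R) :
    PP16.SymGrBijective R J ↔
      ∀ (ι : Type u) [Fintype ι] [Nonempty ι], Function.Injective (canon J ι) := by
  constructor
  · intro h ι _ _
    obtain ⟨φ, hφ, hbij⟩ := h ι
    rw [← canon_unique J ι φ hφ]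
    exact hbij.1
  · intro h ι _ _
    exact ⟨canon J ι, canon_tprod J ι, h ι, canon_surjective J ι⟩

end Groth.Agent.Lib.Helper81.SymGr
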