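import Mathlib
import Groth.Agent.Lib.Helper81.SymPow

/-!
# Symmetric powers of a free module over a quotient ring (helper81)

For `C = B ⧸ J` and a free `C`-module `M` with basis indexed by `κ`, the map
`Sym[B] ι M → MvPolynomial κ C`, `⨂ₛ v ↦ ∏ i, (linear form of v i)` has a `B`-linear left inverse
which kills all polynomials without monomials of degree `card ι`.
-/

set_option autoImplicit false
universe u v w

open scoped TensorProduct

namespace Groth.Agent.Lib.Helper81.SymPow

section Perm

theorem exists_perm_of_sum_single_eq {ι κ : Type*} [Fintype ι] (g g' : ι → κ)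
    (h : (∑ i, Finsupp.single (g i) 1 : κ →₀ ℕ) = ∑ i, Finsupp.single (g' i) 1) :
    ∃ e : Equiv.Perm ι, ∀ i, g' i = g (e i) := by
  classical
  have hcount : ∀ (f : ι → κ) (k : κ),
      (∑ i, Finsupp.single (f i) 1 : κ →₀ ℕ) k = Fintype.card {i // f i = k} := by
    intro f k
    rw [Finsupp.finset_sum_apply, Fintype.card_subtype]
    simp only [Finsupp.single_apply]
    rw [Finset.sum_boole]
    rfl
  have hcard : ∀ k, Fintype.card {i // g' i = k} = Fintype.card {i // g i = k} := by
    intro k
    rw [← hcount g' k, ← hcount g k, h]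
  refine ⟨Equiv.ofFiberEquiv (f := g') (g := g) fun k => Fintype.equivOfCardEq (hcard k),
    fun i => ?_⟩
  exact (Equiv.ofFiberEquiv_map _ i).symm

end Perm

section Torsion

variable {B ι : Type u} [CommRing B] (J : Ideal B) {M : Type v} [AddCommGroup M] [Module B M]
  [Module (B ⧸ J) M] [IsScalarTower B (B ⧸ J) M]

include J in
theorem smul_eq_zero_of_mem [Nonempty ι] {a : B} (ha : a ∈ J) (x : Sym[B] ι M) : a • x = 0 := by
  classical
  have hx : x ∈ Submodule.span B (Set.range (SymmetricPower.tprod B (ι := ι) (M := M))) := by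
    rw [SymmetricPower.span_tprod_eq_top]; trivial
  induction hx using Submodule.span_induction with
  | mem y hy =>
    obtain ⟨v, rfl⟩ := hy
    obtain ⟨i₀⟩ := ‹Nonempty ι›
    have h1 : a • v i₀ = 0 := by
      rw [← algebraMap_smul (B ⧸ J) a (v i₀), Ideal.Quotient.algebraMap_eq,
        Ideal.Quotient.eq_zero_iff_mem.2 ha, zero_smul]
    have h2 := (SymmetricPower.tprod B (ι := ι) (M := M)).map_update_smul v i₀ a (v i₀)
    rw [Function.update_eq_self, h1] at h2
    rw [← h2]
    exact MultilinearMap.map_coord_zero _ i₀ (Function.update_self i₀ 0 v)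
  | zero => rw [smul_zero]
  | add u w _ _ hu hw => rw [smul_add, hu, hw, add_zero]
  | smul r u _ hu => rw [smul_comm, hu, smul_zero]

end Torsion

section Free

variable {B ι : Type u} [CommRing B] (J : Ideal B) {M : Type v} [AddCommGroup M] [Module B M]
  [Module (B ⧸ J) M] [IsScalarTower B (B ⧸ J) M] {κ : Type w}

/-- the linear form attached to an element of a free module -/
noncomputable def linForm (b : Module.Basis κ (B ⧸ J) M) : M →ₗ[B ⧸ J] MvPolynomial κ (B ⧸ J) :=
  (Finsupp.linearCombination (B ⧸ J) (fun k => (MvPolynomial.X k : MvPolynomial κ (B ⧸ J)))) ∘ₗ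
    b.repr.toLinearMap

theorem linForm_basis (b : Module.Basis κ (B ⧸ J) M) (k : κ) :
    linForm J b (b k) = MvPolynomial.X k := by
  simp [linForm]

theorem exists_leftInverse_of_basis [Fintype ι] [Nonempty ι] (b : Module.Basis κ (B ⧸ J) M) :
    ∃ Ψ : MvPolynomial κ (B ⧸ J) →ₗ[B] Sym[B] ι M,
      (∀ v : ι → M, Ψ (∏ i, linForm J b (v i)) = SymmetricPower.tprod B v) ∧
      (∀ p : MvPolynomial κ (B ⧸ J),
        (∀ d : κ →₀ ℕ, d.degree = Fintype.card ι → MvPolynomial.coeff d p = 0) → Ψ p = 0) := by
  classical
  have htors : Module.IsTorsionBySet B (Sym[B] ι M) (J : Set B) := fun x a =>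
    smul_eq_zero_of_mem J a.2 x
  letI modC : Module (B ⧸ J) (Sym[B] ι M) := htors.module
  haveI towN : IsScalarTower B (B ⧸ J) (Sym[B] ι M) := htors.isScalarTower
  have hmk : ∀ (a : B) (x : Sym[B] ι M), (Ideal.Quotient.mk J a) • x = a • x := fun a x => rfl
  let tprodC : MultilinearMap (B ⧸ J) (fun _ : ι => M) (Sym[B] ι M) :=
    { toFun := SymmetricPower.tprod B
      map_update_add' := fun m i x y => (SymmetricPower.tprod B).map_update_add m i x y
      map_update_smul' := fun m i c x => by
        obtain ⟨a, rfl⟩ := Ideal.Quotient.mk_surjective c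
        rw [hmk, ← Ideal.Quotient.algebraMap_eq, algebraMap_smul]
        exact (SymmetricPower.tprod B).map_update_smul m i a x }
  let F : (κ →₀ ℕ) → Sym[B] ι M := fun d =>
    if h : ∃ g : ι → κ, (∑ i, Finsupp.single (g i) 1 : κ →₀ ℕ) = d then
      SymmetricPower.tprod B (fun i => b (h.choose i)) else 0
  let ΨC : MvPolynomial κ (B ⧸ J) →ₗ[B ⧸ J] Sym[B] ι M :=
    (MvPolynomial.basisMonomials κ (B ⧸ J)).constr (B ⧸ J) F
  have hΨmon : ∀ d, ΨC (MvPolynomial.monomial d 1) = F d := fun d => by
    have := (MvPolynomial.basisMonomials κ (B ⧸ J)).constr_basis (B ⧸ J) F d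
    rwa [MvPolynomial.coe_basisMonomials] at this
  refine ⟨ΨC.restrictScalars B, fun v => ?_, fun p hp => ?_⟩
  · -- compare two multilinear maps over `C`
    have key : ΨC.compMultilinearMap
        ((MultilinearMap.mkPiAlgebra (B ⧸ J) ι (MvPolynomial κ (B ⧸ J))).compLinearMap
          fun _ => linForm J b) = tprodC := by
      apply Module.Basis.ext_multilinear (fun _ => b)
      intro g
      simp only [LinearMap.compMultilinearMap_apply, MultilinearMap.compLinearMap_apply,
        MultilinearMap.mkPiAlgebra_apply, linForm_basis]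
      have h1 : (∏ i, (MvPolynomial.X (g i) : MvPolynomial κ (B ⧸ J))) =
          MvPolynomial.monomial (∑ i, Finsupp.single (g i) 1) 1 := by
        rw [MvPolynomial.monomial_sum_one]
        rfl
      rw [h1, hΨmon]
      have hex : ∃ g' : ι → κ, (∑ i, Finsupp.single (g' i) 1 : κ →₀ ℕ) =
          ∑ i, Finsupp.single (g i) 1 := ⟨g, rfl⟩
      change (if h : ∃ g' : ι → κ, (∑ i, Finsupp.single (g' i) 1 : κ →₀ ℕ) =
          ∑ i, Finsupp.single (g i) 1 then
        SymmetricPower.tprod B (fun i => b (h.choose i)) else 0) =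
          SymmetricPower.tprod B (fun i => b (g i))
      rw [dif_pos hex]
      obtain ⟨e, he⟩ := exists_perm_of_sum_single_eq g hex.choose hex.choose_spec.symm
      have : (fun i => b (hex.choose i)) = fun i => (fun j => b (g j)) (e i) := by
        funext i
        rw [he i]
      rw [this]
      exact SymmetricPower.tprod_equiv e fun j => b (g j)
    have := congrArg (fun f => f v) key
    simp only [LinearMap.compMultilinearMap_apply, MultilinearMap.compLinearMap_apply,
      MultilinearMap.mkPiAlgebra_apply] at this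
    exact this
  · change ΨC p = 0
    rw [Module.Basis.constr_apply]
    apply Finset.sum_eq_zero
    intro d _
    change ((MvPolynomial.basisMonomials κ (B ⧸ J)).repr p) d • F d = 0
    by_cases hd : d.degree = Fintype.card ι
    · have : ((MvPolynomial.basisMonomials κ (B ⧸ J)).repr p) d = 0 := hp d hd
      rw [this, zero_smul]
    · have : F d = 0 := by
        change (if h : ∃ g : ι → κ, (∑ i, Finsupp.single (g i) 1 : κ →₀ ℕ) = d then
          SymmetricPower.tprod B (fun i => b (h.choose i)) else 0) = 0
        rw [dif_neg]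
        rintro ⟨g, rfl⟩
        apply hd
        simp [Finsupp.degree, map_sum]
      rw [this, smul_zero]

end Free

end Groth.Agent.Lib.Helper81.SymPow
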