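import Mathlib
import Groth.Prelude.Def_PP16
import Groth.Prelude.Def_CAlgX
import Groth.Agent.Lib.Helper81.SymPow
import Groth.Agent.Lib.Helper81.SymPowFree
import Groth.Agent.Lib.Helper81.SymGr
import Groth.Agent.Lib.Helper21.AdicSmooth
import Groth.Agent.Lib.Helper62.AdicDerivation

/-!
# Formal smoothness and the graded ring, I (helper81)

EGA 0_IV 19.5.3: if `B` is formally smooth over `A` for the `𝔍`-adic topology and `B ⧸ 𝔍` is
formally smooth over `A`, then `𝔍/𝔍²` is projective over `B ⧸ 𝔍` and `Sym(𝔍/𝔍²) → gr_𝔍 B` is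
bijective.
-/

set_option autoImplicit false
universe u

open scoped TensorProduct

namespace Groth.Agent.Lib.Helper81.SymGrSmooth

open Groth.Agent.Lib.Helper81.SymPow Groth.Agent.Lib.Helper81.SymGr

section Lift

/-- adic formal smoothness lifts along surjections with nilpotent kernel -/
theorem exists_lift_of_surjective {A B : Type u} [CommRing A] [CommRing B] [Algebra A B]
    {𝔫 : Ideal B} (h : CAlgX.IsAdicFormallySmooth A B 𝔫) {E E' : Type u} [CommRing E]
    [CommRing E'] [Algebra A E] [Algebra A E'] (g : E →ₐ[A] E') (hg : Function.Surjective g)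
    (hker : IsNilpotent (RingHom.ker (g : E →+* E'))) (u : B →ₐ[A] E')
    (hu : ∃ k : ℕ, ∀ x ∈ 𝔫 ^ k, u x = 0) : ∃ v : B →ₐ[A] E, g.comp v = u := by
  let e : (E ⧸ RingHom.ker (g : E →+* E')) ≃ₐ[A] E' := Ideal.quotientKerAlgEquivOfSurjective hg
  have he : ∀ x : E, e (Ideal.Quotient.mk _ x) = g x := fun x => rfl
  obtain ⟨k, hk⟩ := hu
  obtain ⟨v, hv⟩ := Groth.Agent.Lib.Helper21.exists_lift_of_isAdicFormallySmooth h
    (RingHom.ker (g : E →+* E')) hker (e.symm.toAlgHom.comp u) ⟨k, fun x hx => by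
      change e.symm (u x) = 0
      rw [hk x hx, map_zero]⟩
  refine ⟨v, ?_⟩
  ext b
  have h1 := congrArg (fun f : B →ₐ[A] _ => e (f b)) hv
  simp only [AlgHom.comp_apply, Ideal.Quotient.mkₐ_eq_mk, AlgEquiv.coe_toAlgHom,
    AlgEquiv.apply_symm_apply] at h1
  rw [he] at h1
  exact h1

end Lift

section Derivation

variable {A B : Type u} [CommRing A] [CommRing B] [Algebra A B] (𝔍 : Ideal B)

/-- If `B ⧸ 𝔍` is formally smooth over `A`, the projection `𝔍 → 𝔍/𝔍²` extends to an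
`A`-derivation of `B`. -/
theorem exists_derivation_cotangent [Algebra.FormallySmooth A (B ⧸ 𝔍)] :
    ∃ D : Derivation A B 𝔍.Cotangent, ∀ x : 𝔍, D x = 𝔍.toCotangent x := by
  have hle : 𝔍 ^ 2 ≤ 𝔍 := Ideal.pow_le_self two_ne_zero
  let π₂ : B ⧸ 𝔍 ^ 2 →ₐ[A] B ⧸ 𝔍 := Ideal.Quotient.factorₐ A hle
  have hπ₂ : ∀ b : B, π₂ (Ideal.Quotient.mk _ b) = Ideal.Quotient.mk _ b := fun b => rfl
  have hsurj : Function.Surjective π₂ := Ideal.Quotient.factor_surjective hle
  have hker : ∀ y, π₂ y = 0 → y ∈ 𝔍.cotangentIdeal := by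
    intro y hy
    obtain ⟨b, rfl⟩ := Ideal.Quotient.mk_surjective y
    rw [hπ₂, Ideal.Quotient.eq_zero_iff_mem] at hy
    exact Ideal.mk_mem_cotangentIdeal.2 hy
  have hnil : IsNilpotent (RingHom.ker (π₂ : B ⧸ 𝔍 ^ 2 →+* B ⧸ 𝔍)) := by
    refine ⟨2, ?_⟩
    rw [Ideal.zero_eq_bot, eq_bot_iff, ← 𝔍.cotangentIdeal_square]
    exact Ideal.pow_right_mono (fun y hy => hker y hy) 2
  let σ : B ⧸ 𝔍 →ₐ[A] B ⧸ 𝔍 ^ 2 :=
    Algebra.FormallySmooth.liftOfSurjective (AlgHom.id A _) π₂ hsurj hnil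
  have hσ : ∀ c, π₂ (σ c) = c := fun c =>
    Algebra.FormallySmooth.liftOfSurjective_apply _ π₂ hsurj hnil c
  have hδmem : ∀ b : B,
      Ideal.Quotient.mk (𝔍 ^ 2) b - σ (Ideal.Quotient.mk 𝔍 b) ∈ 𝔍.cotangentIdeal := by
    intro b
    apply hker
    rw [map_sub, hπ₂, hσ, sub_self]
  have hex : ∀ b : B, ∃ p : 𝔍.Cotangent, 𝔍.cotangentToQuotientSquare p =
      Ideal.Quotient.mk (𝔍 ^ 2) b - σ (Ideal.Quotient.mk 𝔍 b) := by
    intro b
    refine ⟨𝔍.cotangentEquivIdeal.symm ⟨_, hδmem b⟩, ?_⟩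
    rw [← Ideal.cotangentEquivIdeal_apply, LinearEquiv.apply_symm_apply]
  choose Dfun hDfun using hex
  have hinj := 𝔍.cotangentToQuotientSquare_injective
  have hsq : ∀ y y' : B ⧸ 𝔍 ^ 2, y ∈ 𝔍.cotangentIdeal → y' ∈ 𝔍.cotangentIdeal → y * y' = 0 := by
    intro y y' hy hy'
    have : y * y' ∈ 𝔍.cotangentIdeal * 𝔍.cotangentIdeal := Ideal.mul_mem_mul hy hy'
    rw [← pow_two 𝔍.cotangentIdeal, 𝔍.cotangentIdeal_square] at this
    exact this
  have hc2q_smul : ∀ (b : B) (p : 𝔍.Cotangent), 𝔍.cotangentToQuotientSquare (b • p) =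
      Ideal.Quotient.mk (𝔍 ^ 2) b * 𝔍.cotangentToQuotientSquare p := by
    intro b p
    rw [map_smul, Algebra.smul_def]
    rfl
  let Dlin : B →ₗ[A] 𝔍.Cotangent :=
    { toFun := Dfun
      map_add' := fun b b' => hinj (by
        simp only [map_add, hDfun]
        ring)
      map_smul' := fun a b => hinj (by
        have h1 : Ideal.Quotient.mk (𝔍 ^ 2) (algebraMap A B a) = algebraMap A (B ⧸ 𝔍 ^ 2) a := rfl
        have h2 : Ideal.Quotient.mk 𝔍 (algebraMap A B a) = algebraMap A (B ⧸ 𝔍) a := rfl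
        rw [RingHom.id_apply, hDfun, ← algebraMap_smul B a (Dfun b), hc2q_smul, hDfun,
          Algebra.smul_def, map_mul, map_mul, h1, h2, map_mul σ, AlgHom.commutes]
        ring) }
  have hDlin : ∀ b, Dlin b = Dfun b := fun b => rfl
  refine ⟨Derivation.mk' Dlin (fun b b' => hinj ?_), fun x => hinj ?_⟩
  · rw [hDlin, hDlin, hDlin, map_add, hc2q_smul, hc2q_smul, hDfun, hDfun, hDfun, map_mul, map_mul,
      map_mul σ]
    have := hsq _ _ (hδmem b) (hδmem b')
    linear_combination -this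
  · change 𝔍.cotangentToQuotientSquare (Dfun x) = _
    rw [hDfun, Ideal.toCotangent_to_quotient_square,
      Ideal.Quotient.eq_zero_iff_mem.2 x.2, map_zero, sub_zero]
    rfl

end Derivation

section Projective

variable {A B : Type u} [CommRing A] [CommRing B] [Algebra A B] (𝔍 : Ideal B)

/-- EGA 0_IV 19.5.3, first part: `𝔍/𝔍²` is projective. -/
theorem projective_cotangent [Algebra.FormallySmooth A (B ⧸ 𝔍)]
    (hfs : CAlgX.IsAdicFormallySmooth A B 𝔍) : Module.Projective (B ⧸ 𝔍) 𝔍.Cotangent := by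
  obtain ⟨D'', hD''⟩ := exists_derivation_cotangent (A := A) 𝔍
  -- the free module
  let F := 𝔍.Cotangent →₀ (B ⧸ 𝔍)
  let π : F →ₗ[B ⧸ 𝔍] 𝔍.Cotangent := Finsupp.linearCombination (B ⧸ 𝔍) id
  have hπ : Function.Surjective π := fun p => ⟨Finsupp.single p 1, by
    change Finsupp.linearCombination (B ⧸ 𝔍) id (Finsupp.single p 1) = p
    rw [Finsupp.linearCombination_single, one_smul, id]⟩
  obtain ⟨D, hD⟩ := Groth.Agent.Lib.Helper62.AdicDerivation.exists_derivation_lift hfs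
    (π.restrictScalars B) hπ 1 (fun a ha m => by
      rw [pow_one] at ha
      rw [← algebraMap_smul (B ⧸ 𝔍) a m, Ideal.Quotient.algebraMap_eq,
        Ideal.Quotient.eq_zero_iff_mem.2 ha, zero_smul]) D''
  have hkill : ∀ a ∈ 𝔍, ∀ m : F, a • m = 0 := fun a ha m => by
    rw [← algebraMap_smul (B ⧸ 𝔍) a m, Ideal.Quotient.algebraMap_eq,
      Ideal.Quotient.eq_zero_iff_mem.2 ha, zero_smul]
  -- the restriction of `D` to `𝔍` is `B`-linear and kills `𝔍²`
  let s₀ : ↥𝔍 →ₗ[B] F :=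
    { toFun := fun x => D x
      map_add' := fun x y => by
        change D ((x + y : ↥𝔍) : B) = _
        rw [Submodule.coe_add, map_add]
      map_smul' := fun b x => by
        change D ((b • x : ↥𝔍) : B) = b • D x
        rw [Submodule.coe_smul, smul_eq_mul, Derivation.leibniz, hkill x x.2, add_zero] }
  have hs₀ : (𝔍 • ⊤ : Submodule B ↥𝔍) ≤ LinearMap.ker s₀ := by
    rw [Submodule.smul_le]
    intro a ha x _
    rw [LinearMap.mem_ker, map_smul]
    exact hkill a ha _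
  let s : 𝔍.Cotangent →ₗ[B] F := Submodule.liftQ _ s₀ hs₀
  have hsπ : ∀ p, π (s p) = p := by
    intro p
    obtain ⟨x, rfl⟩ := 𝔍.toCotangent_surjective p
    change π (s₀ x) = _
    change π (D x) = _
    have := hD x
    rw [LinearMap.restrictScalars_apply] at this
    rw [this, hD'']
  let sC : 𝔍.Cotangent →ₗ[B ⧸ 𝔍] F :=
    LinearMap.extendScalarsOfSurjective Ideal.Quotient.mk_surjective s
  exact Module.Projective.of_split sC π (LinearMap.ext fun p => hsπ p)

end Projective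

end Groth.Agent.Lib.Helper81.SymGrSmooth
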