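import Mathlib
import Groth.Agent.Lib.Helper81.SymPow

/-!
# Additive induction on symmetric powers (helper81)
-/

set_option autoImplicit false
universe u v

open scoped TensorProduct

namespace Groth.Agent.Lib.Helper81.SymPow

/-- For nonempty `ι`, `Sym[R] ι M` is additively generated by pure tensors. -/
theorem induction_add {R ι : Type u} [CommRing R] {M : Type v} [AddCommGroup M] [Module R M]
    [Nonempty ι] {motive : Sym[R] ι M → Prop}
    (tprod : ∀ v : ι → M, motive (SymmetricPower.tprod R v)) (zero : motive 0)
    (add : ∀ a b, motive a → motive b → motive (a + b)) (t : Sym[R] ι M) : motive t := by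
  classical
  have key : ∀ r : R, motive (r • t) := by
    have ht : t ∈ Submodule.span R (Set.range (SymmetricPower.tprod R (ι := ι) (M := M))) := by
      rw [SymmetricPower.span_tprod_eq_top]; trivial
    induction ht using Submodule.span_induction with
    | mem y hy =>
      obtain ⟨v, rfl⟩ := hy
      intro r
      obtain ⟨i₀⟩ := ‹Nonempty ι›
      have := (SymmetricPower.tprod R (ι := ι) (M := M)).map_update_smul v i₀ r (v i₀)
      rw [Function.update_eq_self] at this
      rw [← this]
      exact tprod _
    | zero => intro r; rw [smul_zero]; exact zero
    | add a b _ _ ha hb => intro r; rw [smul_add]; exact add _ _ (ha r) (hb r)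
    | smul s a _ ha => intro r; rw [smul_smul]; exact ha _
  have := key 1
  rwa [one_smul] at this

end Groth.Agent.Lib.Helper81.SymPow
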