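import Mathlib
import Groth.Prelude.Def_PP16
import Groth.Prelude.Def_CAlgX
import Groth.Agent.Lib.Helper81.SymPow
import Groth.Agent.Lib.Helper81.SymPowInd
import Groth.Agent.Lib.Helper81.SymPowFree
import Groth.Agent.Lib.Helper81.SymGr
import Groth.Agent.Lib.Helper81.SymGrSmooth

/-!
# Formal smoothness and the graded ring, II (helper81)

EGA 0_IV 19.5.3, second part: `Sym(𝔍/𝔍²) → gr_𝔍 B` is injective when `B` is `𝔍`-adically formally
smooth over `A` and `B ⧸ 𝔍` is formally smooth over `A`.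
-/

set_option autoImplicit false
universe u

open scoped TensorProduct

namespace Groth.Agent.Lib.Helper81.SymGrSmooth

open Groth.Agent.Lib.Helper81.SymPow Groth.Agent.Lib.Helper81.SymGr

section FirstOrder

variable {A B : Type u} [CommRing A] [CommRing B] [Algebra A B] (𝔍 : Ideal B)
  {Q : Type u} [CommRing Q] [Algebra A Q] [Algebra (B ⧸ 𝔍) Q] [IsScalarTower A (B ⧸ 𝔍) Q]

/-- a first order `A`-algebra map built from a derivation-like map `ℓ` -/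
theorem exists_firstOrder (I : Ideal Q) (ℓ : B → Q) (hℓI : ∀ b, ℓ b ∈ I)
    (hℓadd : ∀ b b', ℓ (b + b') = ℓ b + ℓ b')
    (hℓmul : ∀ b b', ℓ (b * b') = algebraMap (B ⧸ 𝔍) Q (Ideal.Quotient.mk 𝔍 b) * ℓ b' +
      algebraMap (B ⧸ 𝔍) Q (Ideal.Quotient.mk 𝔍 b') * ℓ b)
    (hℓA : ∀ a : A, ℓ (algebraMap A B a) = 0) :
    ∃ v₁ : B →ₐ[A] Q ⧸ I ^ 2, ∀ b, v₁ b =
      Ideal.Quotient.mk (I ^ 2) (algebraMap (B ⧸ 𝔍) Q (Ideal.Quotient.mk 𝔍 b) + ℓ b) := by
  have h1 : ℓ 1 = 0 := by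
    have := hℓA 1
    rwa [map_one] at this
  have h0 : ℓ 0 = 0 := by
    have := hℓA 0
    rwa [map_zero] at this
  let f : B →+* Q ⧸ I ^ 2 :=
    { toFun := fun b =>
        Ideal.Quotient.mk (I ^ 2) (algebraMap (B ⧸ 𝔍) Q (Ideal.Quotient.mk 𝔍 b) + ℓ b)
      map_one' := by rw [h1, add_zero, map_one, map_one, map_one]
      map_mul' := fun b b' => by
        rw [← map_mul, Ideal.Quotient.eq, hℓmul, map_mul, map_mul]
        have : algebraMap (B ⧸ 𝔍) Q (Ideal.Quotient.mk 𝔍 b) *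
              algebraMap (B ⧸ 𝔍) Q (Ideal.Quotient.mk 𝔍 b') +
            (algebraMap (B ⧸ 𝔍) Q (Ideal.Quotient.mk 𝔍 b) * ℓ b' +
              algebraMap (B ⧸ 𝔍) Q (Ideal.Quotient.mk 𝔍 b') * ℓ b) -
            (algebraMap (B ⧸ 𝔍) Q (Ideal.Quotient.mk 𝔍 b) + ℓ b) *
              (algebraMap (B ⧸ 𝔍) Q (Ideal.Quotient.mk 𝔍 b') + ℓ b') = -(ℓ b * ℓ b') := by ring
        rw [this, pow_two]
        exact neg_mem (Ideal.mul_mem_mul (hℓI b) (hℓI b'))
      map_zero' := by rw [h0, add_zero, map_zero, map_zero, map_zero]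
      map_add' := fun b b' => by
        rw [← map_add]
        congr 1
        rw [hℓadd, map_add, map_add]
        ring }
  have hf : ∀ b, f b =
      Ideal.Quotient.mk (I ^ 2) (algebraMap (B ⧸ 𝔍) Q (Ideal.Quotient.mk 𝔍 b) + ℓ b) :=
    fun b => rfl
  refine ⟨{ f with commutes' := fun a => ?_ }, fun b => hf b⟩
  change f (algebraMap A B a) = _
  rw [hf, hℓA, add_zero]
  have : Ideal.Quotient.mk 𝔍 (algebraMap A B a) = algebraMap A (B ⧸ 𝔍) a := rfl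
  rw [this, ← IsScalarTower.algebraMap_apply]
  rfl

end FirstOrder

section HigherOrder

variable {A B : Type u} [CommRing A] [CommRing B] [Algebra A B] (𝔍 : Ideal B)
  {Q : Type u} [CommRing Q] [Algebra A Q]

theorem map_mk_pow_self (I : Ideal Q) (m : ℕ) :
    (I.map (Ideal.Quotient.mk (I ^ m))) ^ m = ⊥ := by
  rw [← Ideal.map_pow, Ideal.map_quotient_self]

/-- lifting the first order map to order `n` and computing it on products -/
theorem exists_higherOrder (hfs : CAlgX.IsAdicFormallySmooth A B 𝔍) (I : Ideal Q) (ℓ : B → Q)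
    (hℓI : ∀ b, ℓ b ∈ I) (v₁ : B →ₐ[A] Q ⧸ I ^ 2)
    (hv₁ : ∀ x ∈ 𝔍, v₁ x = Ideal.Quotient.mk (I ^ 2) (ℓ x)) (n : ℕ) (hn : 1 ≤ n) :
    ∃ v : B →ₐ[A] Q ⧸ I ^ (n + 1),
      (∀ (ι : Type u) [Fintype ι], Fintype.card ι = n → ∀ x : ι → ↥𝔍,
        v (∏ i, (x i : B)) = Ideal.Quotient.mk (I ^ (n + 1)) (∏ i, ℓ (x i))) ∧
      (∀ y ∈ 𝔍 ^ (n + 1), v y = 0) := by
  have hle : I ^ (n + 1) ≤ I ^ 2 := Ideal.pow_le_pow_right (by omega)
  let g : Q ⧸ I ^ (n + 1) →ₐ[A] Q ⧸ I ^ 2 := Ideal.Quotient.factorₐ A hle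
  have hg : ∀ q, g (Ideal.Quotient.mk _ q) = Ideal.Quotient.mk _ q := fun q => rfl
  have hgsurj : Function.Surjective g := Ideal.Quotient.factor_surjective hle
  have hImap := map_mk_pow_self I (n + 1)
  have hgker : RingHom.ker (g : Q ⧸ I ^ (n + 1) →+* Q ⧸ I ^ 2) ≤
      I.map (Ideal.Quotient.mk (I ^ (n + 1))) := by
    intro y hy
    obtain ⟨q, rfl⟩ := Ideal.Quotient.mk_surjective y
    rw [RingHom.mem_ker] at hy
    change g (Ideal.Quotient.mk _ q) = 0 at hy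
    rw [hg, Ideal.Quotient.eq_zero_iff_mem] at hy
    exact Ideal.mem_map_of_mem _ (Ideal.pow_le_self two_ne_zero hy)
  have hgnil : IsNilpotent (RingHom.ker (g : Q ⧸ I ^ (n + 1) →+* Q ⧸ I ^ 2)) := by
    refine ⟨n + 1, ?_⟩
    rw [Ideal.zero_eq_bot, eq_bot_iff, ← hImap]
    exact Ideal.pow_right_mono hgker (n + 1)
  have hu : ∃ k : ℕ, ∀ x ∈ 𝔍 ^ k, v₁ x = 0 := by
    refine ⟨2, fun x hx => ?_⟩
    have h1 : 𝔍 ≤ (I.map (Ideal.Quotient.mk (I ^ 2))).comap (v₁ : B →+* Q ⧸ I ^ 2) := by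
      intro x hx
      rw [Ideal.mem_comap]
      change v₁ x ∈ _
      rw [hv₁ x hx]
      exact Ideal.mem_map_of_mem _ (hℓI x)
    have h2 := Ideal.pow_right_mono h1 2 hx
    have h3 := Ideal.le_comap_pow (v₁ : B →+* Q ⧸ I ^ 2) 2 h2
    rw [Ideal.mem_comap, map_mk_pow_self I 2] at h3
    exact h3
  obtain ⟨v, hv⟩ := exists_lift_of_surjective hfs g hgsurj hgnil v₁ hu
  have hv' : ∀ b, g (v b) = v₁ b := fun b => AlgHom.congr_fun hv b
  have hV1 : ∀ x : ↥𝔍, ∃ e ∈ I ^ 2, v x = Ideal.Quotient.mk (I ^ (n + 1)) (ℓ x + e) := by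
    intro x
    obtain ⟨q, hq⟩ := Ideal.Quotient.mk_surjective (v x)
    have h1 := hv' x
    rw [← hq, hg, hv₁ x x.2, Ideal.Quotient.eq] at h1
    exact ⟨q - ℓ x, h1, by rw [← hq]; congr 1; ring⟩
  have hV𝔍 : ∀ x ∈ 𝔍, v x ∈ I.map (Ideal.Quotient.mk (I ^ (n + 1))) := by
    intro x hx
    obtain ⟨e, he, hve⟩ := hV1 ⟨x, hx⟩
    change v x = _ at hve
    rw [hve]
    exact Ideal.mem_map_of_mem _ (Ideal.add_mem _ (hℓI x) (Ideal.pow_le_self two_ne_zero he))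
  refine ⟨v, ?_, ?_⟩
  · intro ι _ hι x
    choose e he hve using fun i => hV1 (x i)
    rw [map_prod]
    simp only [hve]
    rw [← map_prod, Ideal.Quotient.eq]
    have := prod_sub_prod_mem I Finset.univ (fun i => ℓ (x i) + e i) (fun i => ℓ (x i))
      (fun i _ => Ideal.add_mem _ (hℓI _) (Ideal.pow_le_self two_ne_zero (he i)))
      (fun i _ => hℓI _) (fun i _ => by simpa using he i)
    rw [Finset.card_univ, hι] at this
    exact this
  · intro y hy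
    have h1 : 𝔍 ≤ (I.map (Ideal.Quotient.mk (I ^ (n + 1)))).comap
        (v : B →+* Q ⧸ I ^ (n + 1)) := hV𝔍
    have h2 := Ideal.pow_right_mono h1 (n + 1) hy
    have h3 := Ideal.le_comap_pow (v : B →+* Q ⧸ I ^ (n + 1)) (n + 1) h2
    rw [Ideal.mem_comap, hImap] at h3
    exact h3

end HigherOrder

section Inj

variable {A B : Type u} [CommRing A] [CommRing B] [Algebra A B] (𝔍 : Ideal B)

theorem linForm_mem_idealOfVars {κ : Type*} {M : Type*} [AddCommGroup M] [Module B M]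
    [Module (B ⧸ 𝔍) M] [IsScalarTower B (B ⧸ 𝔍) M] (b : Module.Basis κ (B ⧸ 𝔍) M) (m : M) :
    linForm 𝔍 b m ∈ MvPolynomial.idealOfVars κ (B ⧸ 𝔍) := by
  unfold linForm
  rw [LinearMap.comp_apply, Finsupp.linearCombination_apply]
  apply Ideal.sum_mem
  intro k _
  change (b.repr m k) • (MvPolynomial.X k : MvPolynomial κ (B ⧸ 𝔍)) ∈ _
  rw [MvPolynomial.smul_eq_C_mul]
  exact Ideal.mul_mem_left _ _ (Ideal.subset_span ⟨k, rfl⟩)

end Inj

end Groth.Agent.Lib.Helper81.SymGrSmooth
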