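import Mathlib
import Groth.Prelude.Def_PP16
import Groth.Prelude.Def_CAlgX
import Groth.Agent.Lib.Helper81.SymPow
import Groth.Agent.Lib.Helper81.SymPowInd
import Groth.Agent.Lib.Helper81.SymPowFree
import Groth.Agent.Lib.Helper81.SymGr
import Groth.Agent.Lib.Helper81.SymGrSmooth
import Groth.Agent.Lib.Helper81.SymGrSmooth2

/-!
# Formal smoothness and the graded ring, III (helper81)

EGA 0_IV 19.5.3: assembly.
-/

set_option autoImplicit false
universe u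

open scoped TensorProduct

namespace Groth.Agent.Lib.Helper81.SymGrSmooth

open Groth.Agent.Lib.Helper81.SymPow Groth.Agent.Lib.Helper81.SymGr

section Inj

variable {A B : Type u} [CommRing A] [CommRing B] [Algebra A B] (𝔍 : Ideal B)

theorem canon_injective [Algebra.FormallySmooth A (B ⧸ 𝔍)]
    (hfs : CAlgX.IsAdicFormallySmooth A B 𝔍) (ι : Type u) [Fintype ι] [Nonempty ι] :
    Function.Injective (canon 𝔍 ι) := by
  classical
  haveI hproj : Module.Projective (B ⧸ 𝔍) 𝔍.Cotangent := projective_cotangent 𝔍 hfs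
  obtain ⟨D'', hD''⟩ := exists_derivation_cotangent (A := A) 𝔍
  -- the free cover of `P = 𝔍/𝔍²` and a section
  let F := 𝔍.Cotangent →₀ (B ⧸ 𝔍)
  let π : F →ₗ[B ⧸ 𝔍] 𝔍.Cotangent := Finsupp.linearCombination (B ⧸ 𝔍) id
  have hπ : Function.Surjective π := fun p => ⟨Finsupp.single p 1, by
    change Finsupp.linearCombination (B ⧸ 𝔍) id (Finsupp.single p 1) = p
    rw [Finsupp.linearCombination_single, one_smul, id]⟩
  obtain ⟨j, hj⟩ := Module.projective_lifting_property π LinearMap.id hπ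
  have hj' : ∀ p, π (j p) = p := fun p => LinearMap.congr_fun hj p
  let bF : Module.Basis 𝔍.Cotangent (B ⧸ 𝔍) F := Finsupp.basisSingleOne
  let ℓ : B → MvPolynomial 𝔍.Cotangent (B ⧸ 𝔍) := fun b => linForm 𝔍 bF (j (D'' b))
  have hℓI : ∀ b, ℓ b ∈ MvPolynomial.idealOfVars 𝔍.Cotangent (B ⧸ 𝔍) :=
    fun b => linForm_mem_idealOfVars 𝔍 bF _
  have hℓadd : ∀ b b', ℓ (b + b') = ℓ b + ℓ b' := fun b b' => by
    change linForm 𝔍 bF (j (D'' (b + b'))) = _
    rw [map_add, map_add, map_add]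
  have hℓmul : ∀ b b', ℓ (b * b') =
      algebraMap (B ⧸ 𝔍) (MvPolynomial 𝔍.Cotangent (B ⧸ 𝔍)) (Ideal.Quotient.mk 𝔍 b) * ℓ b' +
      algebraMap (B ⧸ 𝔍) (MvPolynomial 𝔍.Cotangent (B ⧸ 𝔍)) (Ideal.Quotient.mk 𝔍 b') * ℓ b :=
    fun b b' => by
    change linForm 𝔍 bF (j (D'' (b * b'))) = _
    have h1 : ∀ (c : B) (p : 𝔍.Cotangent), c • p = (Ideal.Quotient.mk 𝔍 c) • p := fun c p => by
      rw [← Ideal.Quotient.algebraMap_eq, algebraMap_smul]
    rw [Derivation.leibniz, h1, h1, map_add, map_add, map_smul, map_smul, map_smul, map_smul,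
      Algebra.smul_def, Algebra.smul_def]
  have hℓA : ∀ a : A, ℓ (algebraMap A B a) = 0 := fun a => by
    change linForm 𝔍 bF (j (D'' (algebraMap A B a))) = 0
    rw [Derivation.map_algebraMap, map_zero, map_zero]
  have hℓ𝔍 : ∀ x : ↥𝔍, ℓ x = linForm 𝔍 bF (j (𝔍.toCotangent x)) := fun x => by
    change linForm 𝔍 bF (j (D'' x)) = _
    rw [hD'']
  obtain ⟨v₁, hv₁⟩ := exists_firstOrder (A := A) 𝔍
    (MvPolynomial.idealOfVars 𝔍.Cotangent (B ⧸ 𝔍)) ℓ hℓI hℓadd hℓmul hℓA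
  have hv₁𝔍 : ∀ x ∈ 𝔍, v₁ x = Ideal.Quotient.mk _ (ℓ x) := fun x hx => by
    rw [hv₁, Ideal.Quotient.eq_zero_iff_mem.2 hx, map_zero, zero_add]
  obtain ⟨v, hV2, hV3⟩ := exists_higherOrder 𝔍 hfs
    (MvPolynomial.idealOfVars 𝔍.Cotangent (B ⧸ 𝔍)) ℓ hℓI v₁ hv₁𝔍 (Fintype.card ι)
    Fintype.card_pos
  -- the comparison map to polynomials
  let ΦF : Sym[B] ι F →ₗ[B] MvPolynomial 𝔍.Cotangent (B ⧸ 𝔍) :=
    SymPow.lift ((MultilinearMap.mkPiAlgebra B ι (MvPolynomial 𝔍.Cotangent (B ⧸ 𝔍))).compLinearMap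
      (fun _ => (linForm 𝔍 bF).restrictScalars B)) (fun e f => by
        simp only [MultilinearMap.compLinearMap_apply, MultilinearMap.mkPiAlgebra_apply,
          LinearMap.restrictScalars_apply]
        exact Equiv.prod_comp e (fun i => linForm 𝔍 bF (f i)))
  have hΦF : ∀ f : ι → F, ΦF (SymmetricPower.tprod B f) = ∏ i, linForm 𝔍 bF (f i) := fun f => by
    change SymPow.lift _ _ _ = _
    rw [SymPow.lift_tprod]
    simp only [MultilinearMap.compLinearMap_apply, MultilinearMap.mkPiAlgebra_apply,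
      LinearMap.restrictScalars_apply]
  let Θ₀ : Sym[B] ι 𝔍.Cotangent →ₗ[B] MvPolynomial 𝔍.Cotangent (B ⧸ 𝔍) :=
    ΦF ∘ₗ SymPow.map (j.restrictScalars B)
  have hΘ₀ : ∀ p : ι → 𝔍.Cotangent, Θ₀ (SymmetricPower.tprod B p) =
      ∏ i, linForm 𝔍 bF (j (p i)) := fun p => by
    change ΦF (SymPow.map (j.restrictScalars B) (SymmetricPower.tprod B p)) = _
    rw [SymPow.map_tprod, hΦF]
    rfl
  obtain ⟨Ψ, hΨ1, hΨ2⟩ := exists_leftInverse_of_basis (ι := ι) 𝔍 bF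
  have hΨΘ : Ψ ∘ₗ Θ₀ = SymPow.map (j.restrictScalars B) := by
    apply LinearMap.ext_on (SymmetricPower.span_tprod_eq_top B ι 𝔍.Cotangent)
    rintro _ ⟨p, rfl⟩
    rw [LinearMap.comp_apply, hΘ₀, hΨ1, SymPow.map_tprod]
    rfl
  have hmapinj : Function.Injective (SymPow.map (ι := ι) (j.restrictScalars B)) :=
    SymPow.map_injective_of_leftInverse _ (π.restrictScalars B) hj'
  -- the key claim
  have claim : ∀ t : Sym[B] ι 𝔍.Cotangent, ∃ (y : B) (hy : y ∈ 𝔍 ^ Fintype.card ι),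
      canon 𝔍 ι t = Submodule.Quotient.mk ⟨y, hy⟩ ∧
        v y = Ideal.Quotient.mk _ (Θ₀ t) := by
    intro t
    induction t using SymPow.induction_add with
    | tprod p =>
      have hp : p = fun i => 𝔍.toCotangent (sec 𝔍 (p i)) := by
        funext i
        rw [toCotangent_sec]
      refine ⟨∏ i, ((sec 𝔍 (p i) : ↥𝔍) : B), ?_, ?_, ?_⟩
      · simpa using prod_mem_pow_card 𝔍 Finset.univ (fun i => ((sec 𝔍 (p i) : ↥𝔍) : B))
          (fun i _ => (sec 𝔍 (p i)).2)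
      · conv_lhs => rw [hp]
        rw [canon_tprod]
        rfl
      · rw [hV2 ι rfl, hΘ₀]
        congr 1
        refine Finset.prod_congr rfl fun i _ => ?_
        rw [hℓ𝔍, toCotangent_sec]
    | zero =>
      refine ⟨0, zero_mem _, ?_, ?_⟩
      · rw [map_zero]
        rfl
      · rw [map_zero, map_zero, map_zero]
    | add a b ha hb =>
      obtain ⟨ya, hya, h1a, h2a⟩ := ha
      obtain ⟨yb, hyb, h1b, h2b⟩ := hb
      refine ⟨ya + yb, add_mem hya hyb, ?_, ?_⟩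
      · rw [map_add, h1a, h1b]
        rfl
      · rw [map_add, map_add, map_add, h2a, h2b]
  rw [injective_iff_map_eq_zero]
  intro t ht
  obtain ⟨y, hy, h1, h2⟩ := claim t
  rw [ht] at h1
  have hy' : y ∈ 𝔍 ^ (Fintype.card ι + 1) := by
    have := (Submodule.Quotient.mk_eq_zero _).1 h1.symm
    exact this
  rw [hV3 y hy'] at h2
  have h3 : Θ₀ t ∈ MvPolynomial.idealOfVars 𝔍.Cotangent (B ⧸ 𝔍) ^ (Fintype.card ι + 1) :=
    Ideal.Quotient.eq_zero_iff_mem.1 h2.symm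
  have h4 : Ψ (Θ₀ t) = 0 := by
    apply hΨ2
    intro d hd
    exact (MvPolynomial.mem_pow_idealOfVars_iff' (Fintype.card ι + 1) _).1 h3 d (by omega)
  have h5 : SymPow.map (ι := ι) (j.restrictScalars B) t = 0 := by
    rw [← hΨΘ, LinearMap.comp_apply, h4]
  exact hmapinj (by rw [h5, map_zero])

/-- EGA 0_IV 19.5.3 -/
theorem symGrBijective_of_isAdicFormallySmooth [Algebra.FormallySmooth A (B ⧸ 𝔍)]
    (hfs : CAlgX.IsAdicFormallySmooth A B 𝔍) :
    Module.Projective (B ⧸ 𝔍) 𝔍.Cotangent ∧ PP16.SymGrBijective B 𝔍 :=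
  ⟨projective_cotangent 𝔍 hfs, (symGrBijective_iff 𝔍).2 fun ι _ _ => canon_injective 𝔍 hfs ι⟩

end Inj

end Groth.Agent.Lib.Helper81.SymGrSmooth
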