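import Mathlib

/-!
# Linear independence over a decreasing directed family of subfields (helper81)

If a finite family of elements of a field `k` is linearly independent over the intersection of a
decreasing directed family of subfields, it is already linearly independent over one (hence all
later ones) of them.  (EGA 0_IV 21.8.? type lemma.)
-/

set_option autoImplicit false
universe u

namespace Groth.Agent.Lib.Helper81.DescIndep

variable {k : Type u} [Field k]

/-- concrete linear independence of `v` on `s` over a subfield `L` -/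
def IndepOver {J : Type*} (L : Subfield k) (v : J → k) (s : Finset J) : Prop :=
  ∀ c : J → k, (∀ i, c i ∈ L) → ∑ i ∈ s, c i * v i = 0 → ∀ i ∈ s, c i = 0

theorem IndepOver.mono {J : Type*} {L L' : Subfield k} (h : L' ≤ L) {v : J → k} {s : Finset J}
    (hL : IndepOver L v s) : IndepOver L' v s :=
  fun c hc hsum => hL c (fun i => h (hc i)) hsum

theorem linearIndependent_subfield_iff {J : Type*} (L : Subfield k) (v : J → k) :
    LinearIndependent L v ↔ ∀ s : Finset J, IndepOver L v s := by
  rw [linearIndependent_iff']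
  constructor
  · intro h s c hc hsum i hi
    have := h s (fun i => ⟨c i, hc i⟩) (by
      rw [← hsum]
      exact Finset.sum_congr rfl fun i _ => rfl) i hi
    exact congrArg Subtype.val this
  · intro h s g hsum i hi
    have := h s (fun i => (g i : k)) (fun i => (g i).2) (by
      rw [← hsum]
      exact Finset.sum_congr rfl fun i _ => rfl) i hi
    exact Subtype.ext this

/-- inserting an element which is not a combination -/
theorem indepOver_insert {J : Type*} [DecidableEq J] (L : Subfield k) (v : J → k) (s : Finset J)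
    (j : J) (hj : j ∉ s) (hs : IndepOver L v s)
    (hnot : ¬ ∃ c : J → k, (∀ i, c i ∈ L) ∧ v j = ∑ i ∈ s, c i * v i) :
    IndepOver L v (insert j s) := by
  intro c hc hsum
  rw [Finset.sum_insert hj] at hsum
  have hcj : c j = 0 := by
    by_contra hne
    apply hnot
    refine ⟨fun i => -(c j)⁻¹ * c i, fun i => L.mul_mem (L.neg_mem (L.inv_mem (hc j))) (hc i), ?_⟩
    have h1 : ∑ i ∈ s, -(c j)⁻¹ * c i * v i = -(c j)⁻¹ * ∑ i ∈ s, c i * v i := by
      rw [Finset.mul_sum]
      exact Finset.sum_congr rfl fun i _ => by ring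
    rw [h1]
    have h2 : ∑ i ∈ s, c i * v i = -(c j * v j) := by
      rw [eq_neg_iff_add_eq_zero, add_comm]; exact hsum
    rw [h2]
    field_simp
  rw [hcj, zero_mul, zero_add] at hsum
  intro i hi
  rcases Finset.mem_insert.1 hi with rfl | hi'
  · exact hcj
  · exact hs c hc hsum i hi'

theorem IndepOver.of_insert {J : Type*} [DecidableEq J] {L : Subfield k} {v : J → k}
    {s : Finset J} {j : J} (hj : j ∉ s) (h : IndepOver L v (insert j s)) :
    IndepOver L v s ∧ ¬ ∃ c : J → k, (∀ i, c i ∈ L) ∧ v j = ∑ i ∈ s, c i * v i := by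
  have hne : ∀ i ∈ s, i ≠ j := fun i hi (h' : i = j) => hj (h' ▸ hi)
  constructor
  · intro c hc hsum i hi
    have hsum' : ∑ i ∈ insert j s, (if i = j then (0 : k) else c i) * v i = 0 := by
      rw [Finset.sum_insert hj, if_pos rfl, zero_mul, zero_add]
      have : ∑ i ∈ s, (if i = j then (0 : k) else c i) * v i = ∑ i ∈ s, c i * v i :=
        Finset.sum_congr rfl fun i hi => by rw [if_neg (hne i hi)]
      rw [this, hsum]
    have := h (fun i => if i = j then 0 else c i)
      (fun i => by split_ifs; exacts [L.zero_mem, hc i]) hsum' i (Finset.mem_insert_of_mem hi)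
    rwa [if_neg (hne i hi)] at this
  · rintro ⟨c, hc, hvj⟩
    have hsum' : ∑ i ∈ insert j s, (if i = j then (-1 : k) else c i) * v i = 0 := by
      rw [Finset.sum_insert hj, if_pos rfl]
      have : ∑ i ∈ s, (if i = j then (-1 : k) else c i) * v i = ∑ i ∈ s, c i * v i :=
        Finset.sum_congr rfl fun i hi => by rw [if_neg (hne i hi)]
      rw [this, ← hvj]
      ring
    have := h (fun i => if i = j then -1 else c i)
      (fun i => by split_ifs; exacts [L.neg_mem L.one_mem, hc i]) hsum' j
      (Finset.mem_insert_self j s)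
    rw [if_pos rfl] at this
    exact one_ne_zero (neg_eq_zero.1 this)

/-- **Descending lemma.** -/
theorem exists_indepOver {ι : Type*} [Preorder ι] [IsDirected ι (· ≤ ·)] [Nonempty ι]
    (F : ι → Subfield k) (hF : Antitone F) {J : Type*} (v : J → k) (s : Finset J)
    (h : IndepOver (⨅ α, F α) v s) : ∃ α, ∀ β, α ≤ β → IndepOver (F β) v s := by
  classical
  induction s using Finset.induction_on with
  | empty =>
    exact ⟨Classical.arbitrary ι, fun β _ c _ _ i hi => absurd hi (Finset.notMem_empty i)⟩
  | insert j s hj ih =>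
    obtain ⟨hs, hnot⟩ := h.of_insert hj
    obtain ⟨α₁, hα₁⟩ := ih hs
    have hclaim : ∃ α, α₁ ≤ α ∧ ¬ ∃ c : J → k, (∀ i, c i ∈ F α) ∧ v j = ∑ i ∈ s, c i * v i := by
      by_contra hcon
      push Not at hcon
      choose c hc hv using hcon
      apply hnot
      have heq : ∀ β (hβ : α₁ ≤ β), ∀ i ∈ s, c α₁ le_rfl i = c β hβ i := by
        intro β hβ i hi
        have h1 := hα₁ α₁ le_rfl (fun i => c α₁ le_rfl i - c β hβ i)
          (fun i => (F α₁).sub_mem (hc α₁ le_rfl i) (hF hβ (hc β hβ i))) (by
            have : ∑ i ∈ s, (c α₁ le_rfl i - c β hβ i) * v i =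
                ∑ i ∈ s, c α₁ le_rfl i * v i - ∑ i ∈ s, c β hβ i * v i := by
              rw [← Finset.sum_sub_distrib]
              exact Finset.sum_congr rfl fun i _ => by ring
            rw [this, ← hv α₁ le_rfl, ← hv β hβ, sub_self]) i hi
        exact sub_eq_zero.1 h1
      refine ⟨fun i => if i ∈ s then c α₁ le_rfl i else 0, fun i => ?_, ?_⟩
      · rw [Subfield.mem_iInf]
        intro γ
        obtain ⟨β, hγβ, hαβ⟩ := exists_ge_ge γ α₁
        apply hF hγβ
        change (if i ∈ s then c α₁ le_rfl i else 0) ∈ F β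
        split_ifs with hi
        · rw [heq β hαβ i hi]
          exact hc β hαβ i
        · exact (F β).zero_mem
      · rw [hv α₁ le_rfl]
        exact Finset.sum_congr rfl fun i hi => by
          change _ = (if i ∈ s then c α₁ le_rfl i else 0) * v i
          rw [if_pos hi]
    obtain ⟨α, hα₁α, hα⟩ := hclaim
    refine ⟨α, fun β hβ => indepOver_insert (F β) v s j hj (hα₁ β (hα₁α.trans hβ)) ?_⟩
    rintro ⟨c, hc, hvj⟩
    exact hα ⟨c, fun i => hF hβ (hc i), hvj⟩

end Groth.Agent.Lib.Helper81.DescIndep
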