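import Mathlib
import Groth.Agent.Lib.Helper81.KaehlerCompare

/-!
# Nonvanishing after base change `K ⊗_A (A ⊗_k -)` (helper81)

`k` a field, `A` a `k`-algebra, `K` an `A`-algebra.  A nonzero element of `K ⊗_A (A ⊗_k V)`
stays nonzero under `T(g)` for any `k`-linear `g` keeping finitely many prescribed basis vectors
linearly independent.  Also a naturality square for `mapBaseChange`.
-/

set_option autoImplicit false
universe u

open scoped TensorProduct
open KaehlerDifferential

namespace Groth.Agent.Lib.Helper81.DescKaehler

section NZ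

variable {k A K : Type u} [Field k] [CommRing A] [Algebra k A] [CommRing K] [Algebra A K]
  [Algebra k K] [IsScalarTower k A K]

theorem cancel_natural {V W : Type u} [AddCommGroup V] [Module k V] [AddCommGroup W] [Module k W]
    (g : V →ₗ[k] W) (ω : K ⊗[A] (A ⊗[k] V)) :
    TensorProduct.AlgebraTensorModule.cancelBaseChange k A K K W
      ((g.baseChange A).lTensor K ω) =
    g.baseChange K (TensorProduct.AlgebraTensorModule.cancelBaseChange k A K K V ω) := by
  induction ω using TensorProduct.induction_on with
  | zero => simp only [map_zero]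
  | tmul c y =>
    induction y using TensorProduct.induction_on with
    | zero => simp only [TensorProduct.tmul_zero, map_zero]
    | tmul a v =>
      rw [LinearMap.lTensor_tmul, LinearMap.baseChange_tmul,
        TensorProduct.AlgebraTensorModule.cancelBaseChange_tmul,
        TensorProduct.AlgebraTensorModule.cancelBaseChange_tmul, LinearMap.baseChange_tmul]
    | add y z hy hz =>
      simp only [TensorProduct.tmul_add, map_add, hy, hz]
  | add y z hy hz => simp only [map_add, hy, hz]

theorem exists_finset_ne_zero {V : Type u} [AddCommGroup V] [Module k V] {I : Type u}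
    (b : Module.Basis I k V) (ω : K ⊗[A] (A ⊗[k] V)) (hω : ω ≠ 0) :
    ∃ F : Finset I, ∀ (W : Type u) [AddCommGroup W] [Module k W] (g : V →ₗ[k] W),
      LinearIndependent k (fun i : F => g (b i)) → (g.baseChange A).lTensor K ω ≠ 0 := by
  classical
  let eV := TensorProduct.AlgebraTensorModule.cancelBaseChange k A K K V
  let B' : Module.Basis I K (K ⊗[k] V) := b.baseChange K
  have hω' : eV ω ≠ 0 := fun h => hω (eV.injective (by rw [h, map_zero]))
  refine ⟨(B'.repr (eV ω)).support, fun W _ _ g hg hzero => ?_⟩
  have h1 := cancel_natural (K := K) g ω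
  rw [hzero, map_zero] at h1
  -- expand `eV ω` in the basis
  have h2 : eV ω = ∑ i ∈ (B'.repr (eV ω)).support, B'.repr (eV ω) i • B' i := by
    conv_lhs => rw [← B'.linearCombination_repr (eV ω)]
    rw [Finsupp.linearCombination_apply, Finsupp.sum]
  have h3 : g.baseChange K (eV ω) =
      ∑ i ∈ (B'.repr (eV ω)).support, B'.repr (eV ω) i • ((1 : K) ⊗ₜ[k] g (b i)) := by
    refine (congrArg (g.baseChange K) h2).trans ?_
    rw [map_sum]
    refine Finset.sum_congr rfl fun i _ => ?_
    rw [map_smul, Module.Basis.baseChange_apply, LinearMap.baseChange_tmul]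
  have hli : LinearIndependent K
      (fun i : (B'.repr (eV ω)).support => (1 : K) ⊗ₜ[k] g (b i)) :=
    Module.Flat.linearIndependent_one_tmul hg
  rw [h3] at h1
  have h4 : ∑ i : (B'.repr (eV ω)).support, B'.repr (eV ω) i • ((1 : K) ⊗ₜ[k] g (b i)) = 0 :=
    (Finset.sum_coe_sort (B'.repr (eV ω)).support
      (fun i => B'.repr (eV ω) i • ((1 : K) ⊗ₜ[k] g (b i)))).trans h1.symm
  have h5 := (Fintype.linearIndependent_iff.1 hli) (fun i => B'.repr (eV ω) i) h4
  apply hω'
  apply B'.repr.injective
  rw [map_zero]
  ext i
  by_cases hi : i ∈ (B'.repr (eV ω)).support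
  · exact h5 ⟨i, hi⟩
  · exact Finsupp.notMem_support_iff.1 hi

end NZ

end Groth.Agent.Lib.Helper81.DescKaehler
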