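import Mathlib
import Groth.Prelude.Def_EGA41
import Groth.Agent.Lib.Helper81.DescIndep
import Groth.Agent.Lib.Helper81.PBasisEGA

/-!
# `p`-independence over a decreasing directed family of subfields (helper81)

For a subfield `L` of a field `k` of characteristic `p`, the algebra `L[k^p]` is the subfield
`L ⊔ k^p`; `p`-independence over `L` in terms of `DescIndep.IndepOver`.
-/

set_option autoImplicit false
universe u

namespace Groth.Agent.Lib.Helper81.DescIndep

open Groth.Agent.Lib.Helper81.PBasisEGA

variable {k : Type u} [Field k] (p : ℕ) [hp : Fact p.Prime] [CharP k p] (L : Subfield k)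

/-- `L[k^p]` as a subfield -/
def pPowerSubfield : Subfield k :=
  { (EGA41.pPowerSubalgebra p L k).toSubring with
    inv_mem' := by
      intro w hw
      change w ∈ EGA41.pPowerSubalgebra p L k at hw
      change w⁻¹ ∈ EGA41.pPowerSubalgebra p L k
      by_cases h0 : w = 0
      · rw [h0, inv_zero]; exact Subalgebra.zero_mem _
      · obtain ⟨m, hm⟩ : ∃ m, p = m + 1 := ⟨p - 1, (Nat.sub_add_cancel hp.out.one_le).symm⟩
        have : w⁻¹ = w ^ m * (w⁻¹) ^ p := by
          rw [hm, pow_succ, ← mul_assoc, ← mul_pow, mul_inv_cancel₀ h0, one_pow, one_mul]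
        rw [this]
        exact Subalgebra.mul_mem _ (Subalgebra.pow_mem _ hw _) (pow_mem_pPowerSubalgebra p _) }

theorem mem_pPowerSubfield_iff (y : k) :
    y ∈ pPowerSubfield p L ↔ y ∈ EGA41.pPowerSubalgebra p L k := Iff.rfl

theorem pPowerSubfield_eq : pPowerSubfield p L = L ⊔ (frobenius k p).fieldRange := by
  apply le_antisymm
  · intro y hy
    rw [mem_pPowerSubfield_iff] at hy
    unfold EGA41.pPowerSubalgebra at hy
    induction hy using Algebra.adjoin_induction with
    | mem y hy =>
      obtain ⟨b, rfl⟩ := hy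
      exact (le_sup_right : (frobenius k p).fieldRange ≤ L ⊔ (frobenius k p).fieldRange) ⟨b, rfl⟩
    | algebraMap r =>
      exact (le_sup_left : L ≤ L ⊔ (frobenius k p).fieldRange) r.2
    | add a b _ _ ha hb => exact add_mem ha hb
    | mul a b _ _ ha hb => exact mul_mem ha hb
  · apply sup_le
    · intro y hy
      rw [mem_pPowerSubfield_iff]
      exact (EGA41.pPowerSubalgebra p L k).algebraMap_mem (⟨y, hy⟩ : L)
    · rintro _ ⟨b, rfl⟩
      rw [mem_pPowerSubfield_iff]
      exact pow_mem_pPowerSubalgebra p b

theorem linearIndependent_subalgebra_iff {R : Type*} [CommRing R] [Algebra R k]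
    (S : Subalgebra R k) {J : Type*} (v : J → k) :
    LinearIndependent S v ↔ ∀ (s : Finset J) (c : J → k), (∀ i, c i ∈ S) →
      ∑ i ∈ s, c i * v i = 0 → ∀ i ∈ s, c i = 0 := by
  rw [linearIndependent_iff']
  constructor
  · intro h s c hc hsum i hi
    have := h s (fun i => ⟨c i, hc i⟩) (by
      rw [← hsum]
      exact Finset.sum_congr rfl fun i _ => rfl) i hi
    exact congrArg Subtype.val this
  · intro h s g hsum i hi
    have := h s (fun i => (g i : k)) (fun i => (g i).2) (by
      rw [← hsum]
      exact Finset.sum_congr rfl fun i _ => rfl) i hi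
    exact Subtype.ext this

theorem isPIndependent_iff_indepOver {ι : Type u} (x : ι → k) :
    EGA41.IsPIndependent p L x ↔
      ∀ s, IndepOver (L ⊔ (frobenius k p).fieldRange)
        (fun e : {e : ι →₀ ℕ // ∀ i, e i < p} => EGA41.pMonomial x e.1) s := by
  unfold EGA41.IsPIndependent
  rw [linearIndependent_subalgebra_iff, ← pPowerSubfield_eq]
  rfl

omit hp [CharP k p] in
theorem IndepOver.subset {J : Type*} {L : Subfield k} {v : J → k} {s t : Finset J} (hst : s ⊆ t)
    (ht : IndepOver L v t) : IndepOver L v s := by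
  classical
  intro c hc hsum i hi
  have h1 : ∑ i ∈ t, (if i ∈ s then c i else 0) * v i = 0 := by
    have h2 : ∑ i ∈ s, (if i ∈ s then c i else 0) * v i =
        ∑ i ∈ t, (if i ∈ s then c i else 0) * v i :=
      Finset.sum_subset hst (fun i _ hi => by rw [if_neg hi, zero_mul])
    rw [← h2, ← hsum]
    exact Finset.sum_congr rfl fun i hi => by rw [if_pos hi]
  have := ht (fun i => if i ∈ s then c i else 0)
    (fun i => by split_ifs; exacts [hc i, L.zero_mem]) h1 i (hst hi)
  rwa [if_pos hi] at this

omit hp [CharP k p] in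
theorem finite_red (I : Type*) [Finite I] :
    Finite {e : I →₀ ℕ // ∀ i, e i < p} := by
  have : Function.Injective (fun e : {e : I →₀ ℕ // ∀ i, e i < p} =>
      (fun i => (⟨e.1 i, e.2 i⟩ : Fin p))) := by
    intro e e' h
    apply Subtype.ext
    ext i
    have := congrFun h i
    exact congrArg Fin.val this
  exact Finite.of_injective _ this

/-- **Descending lemma for `p`-independence**: a finite family `p`-independent over the prime
field is `p`-independent over `kα β` for all large `β`. -/
theorem exists_isPIndependent {ι : Type*} [Preorder ι] [IsDirected ι (· ≤ ·)] [Nonempty ι]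
    (kα : ι → Subfield k) (hanti : Antitone kα)
    (hint : ⨅ α, (kα α ⊔ (frobenius k p).fieldRange) = (frobenius k p).fieldRange)
    {I : Type u} [Finite I] (x : I → k) (hx : EGA41.IsPIndependent p (⊥ : Subfield k) x) :
    ∃ α, ∀ β, α ≤ β → EGA41.IsPIndependent p (kα β) x := by
  haveI : Finite {e : I →₀ ℕ // ∀ i, e i < p} := finite_red p I
  letI : Fintype {e : I →₀ ℕ // ∀ i, e i < p} := Fintype.ofFinite _
  have h0 := (isPIndependent_iff_indepOver p ⊥ x).1 hx Finset.univ
  rw [bot_sup_eq, ← hint] at h0
  have hF : Antitone (fun α => kα α ⊔ (frobenius k p).fieldRange) :=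
    fun α β h => sup_le_sup_right (hanti h) _
  obtain ⟨α, hα⟩ := exists_indepOver (fun α => kα α ⊔ (frobenius k p).fieldRange) hF _ _ h0
  refine ⟨α, fun β hβ => (isPIndependent_iff_indepOver p (kα β) x).2 fun s => ?_⟩
  exact (hα β hβ).subset (Finset.subset_univ s)

end Groth.Agent.Lib.Helper81.DescIndep
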