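import Mathlib
import Groth.Agent.Lib.Helper81.KaehlerCompare

/-!
# Changing the base of absolute differentials, II (helper81)

For a tower `R → P → k → A` with `Ω[P/R] = 0` and an `A`-module `Q`, injectivity of
`Q ⊗_A (A ⊗_k Ω[k/R]) → Q ⊗_A Ω[A/R]` is equivalent to the same over `P`.
-/

set_option autoImplicit false

namespace Groth.Agent.Lib.Helper81.KaehlerCompare

open scoped TensorProduct
open KaehlerDifferential

theorem lTensor_bijective_of_bijective {R M N : Type*} [CommRing R] [AddCommGroup M]
    [AddCommGroup N] [Module R M] [Module R N] (Q : Type*) [AddCommGroup Q] [Module R Q]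
    (f : M →ₗ[R] N) (hf : Function.Bijective f) : Function.Bijective (f.lTensor Q) := by
  let e := LinearEquiv.ofBijective f hf
  have h : f.lTensor Q = ((e.lTensor Q : Q ⊗[R] M ≃ₗ[R] Q ⊗[R] N) : Q ⊗[R] M →ₗ[R] Q ⊗[R] N) := by
    rw [LinearEquiv.coe_lTensor]
    rfl
  rw [h]
  exact (e.lTensor Q).bijective

section Compare2

variable (R P k A : Type*) [CommRing R] [CommRing P] [CommRing k] [CommRing A]
  [Algebra R P] [Algebra R k] [Algebra R A] [Algebra P k] [Algebra P A] [Algebra k A]
  [IsScalarTower R P k] [IsScalarTower R P A] [IsScalarTower R k A] [IsScalarTower P k A]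
  (Q : Type*) [AddCommGroup Q] [Module A Q]

theorem map_bijective_of_subsingleton [Subsingleton Ω[P⁄R]] :
    Function.Bijective (KaehlerDifferential.map R P A A) :=
  ⟨map_injective_of_subsingleton R P A, KaehlerDifferential.map_surjective R P A⟩

theorem lTensor_mapBaseChange_injective_iff [Subsingleton Ω[P⁄R]] :
    Function.Injective ((mapBaseChange R k A).lTensor Q) ↔
      Function.Injective ((mapBaseChange P k A).lTensor Q) := by
  have hu₁ : Function.Bijective ((KaehlerDifferential.map R P k k).baseChange A) := by
    rw [LinearMap.baseChange_eq_ltensor]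
    exact lTensor_bijective_of_bijective A _ (map_bijective_of_subsingleton R P k)
  have hu : Function.Bijective (((KaehlerDifferential.map R P k k).baseChange A).lTensor Q) :=
    lTensor_bijective_of_bijective Q _ hu₁
  have hv : Function.Bijective ((KaehlerDifferential.map R P A A).lTensor Q) :=
    lTensor_bijective_of_bijective Q _ (map_bijective_of_subsingleton R P A)
  have hsq : (KaehlerDifferential.map R P A A) ∘ₗ (mapBaseChange R k A) =
      (mapBaseChange P k A) ∘ₗ ((KaehlerDifferential.map R P k k).baseChange A) :=
    LinearMap.ext fun z => map_mapBaseChange_eq R P k A z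
  have hsqQ : ∀ x, (KaehlerDifferential.map R P A A).lTensor Q ((mapBaseChange R k A).lTensor Q x) =
      (mapBaseChange P k A).lTensor Q
        (((KaehlerDifferential.map R P k k).baseChange A).lTensor Q x) := by
    intro x
    rw [← LinearMap.comp_apply, ← LinearMap.comp_apply, ← LinearMap.lTensor_comp,
      ← LinearMap.lTensor_comp, hsq]
  constructor
  · intro h
    have h1 : Function.Injective (fun x => (KaehlerDifferential.map R P A A).lTensor Q
        ((mapBaseChange R k A).lTensor Q x)) := hv.1.comp h
    intro y y' hyy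
    obtain ⟨x, rfl⟩ := hu.2 y
    obtain ⟨x', rfl⟩ := hu.2 y'
    rw [← hsqQ, ← hsqQ] at hyy
    rw [h1 hyy]
  · intro h x x' hxx
    have h2 := congrArg ((KaehlerDifferential.map R P A A).lTensor Q) hxx
    rw [hsqQ, hsqQ] at h2
    exact hu.1 (h h2)

end Compare2

end Groth.Agent.Lib.Helper81.KaehlerCompare
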