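import Mathlib
import Groth.Agent.Lib.Helper81.FieldSmooth

/-!
# The prime subfield (helper81)

For a field `k`, the prime subfield `P = ⊥ : Subfield k` has `Ω[P/ℤ] = 0`, and every field
extension of `k` is formally smooth over `P`.
-/

set_option autoImplicit false
universe u

open scoped TensorProduct
open KaehlerDifferential

namespace Groth.Agent.Lib.Helper81.PrimeField

variable (k : Type u) [Field k]

theorem subsingleton_kaehler_bot : Subsingleton Ω[(⊥ : Subfield k)⁄ℤ] := by
  rcases CharP.exists' k with h0 | ⟨p, hp, hpk⟩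
  · haveI := h0
    have hD : ∀ x : (⊥ : Subfield k), D ℤ (⊥ : Subfield k) x = 0 := by
      intro x
      have hx : (x : k) ∈ (algebraMap ℚ k).fieldRange := Subfield.bot_eq_of_charZero (K := k) ▸ x.2
      obtain ⟨q, hq⟩ := hx
      have hden : ((q.den : (⊥ : Subfield k)) : k) ≠ 0 := by
        push_cast
        exact Nat.cast_ne_zero.2 q.den_ne_zero
      have hden' : (q.den : (⊥ : Subfield k)) ≠ 0 := fun h => hden (by rw [h]; rfl)
      have hmul : (q.den : (⊥ : Subfield k)) * x = (q.num : (⊥ : Subfield k)) := by
        apply Subtype.ext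
        push_cast
        rw [← hq]
        have h1 : (q : k) = algebraMap ℚ k q := (eq_ratCast (algebraMap ℚ k) q).symm
        rw [← h1]
        have h2 : (q : k) = (q.num : k) / (q.den : k) := Rat.cast_def q
        rw [h2]
        field_simp
      have h3 := congrArg (D ℤ (⊥ : Subfield k)) hmul
      have hnat : D ℤ (⊥ : Subfield k) (q.den : (⊥ : Subfield k)) = 0 := by
        have : (q.den : (⊥ : Subfield k)) = algebraMap ℤ (⊥ : Subfield k) (q.den : ℤ) := by
          simp
        rw [this, Derivation.map_algebraMap]
      have hint : D ℤ (⊥ : Subfield k) (q.num : (⊥ : Subfield k)) = 0 := by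
        have : (q.num : (⊥ : Subfield k)) = algebraMap ℤ (⊥ : Subfield k) q.num := by
          simp
        rw [this, Derivation.map_algebraMap]
      rw [Derivation.leibniz, hnat, hint, smul_zero, add_zero] at h3
      have h4 := congrArg (fun m => (q.den : (⊥ : Subfield k))⁻¹ • m) h3
      simp only [smul_smul, inv_mul_cancel₀ hden', one_smul, smul_zero] at h4
      exact h4
    have htop : (⊤ : Submodule (⊥ : Subfield k) Ω[(⊥ : Subfield k)⁄ℤ]) = ⊥ := by
      rw [← KaehlerDifferential.span_range_derivation, Submodule.span_eq_bot]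
      rintro _ ⟨x, rfl⟩
      exact hD x
    exact ⟨fun a b => by
      have ha : a ∈ (⊤ : Submodule (⊥ : Subfield k) Ω[(⊥ : Subfield k)⁄ℤ]) := trivial
      have hb : b ∈ (⊤ : Submodule (⊥ : Subfield k) Ω[(⊥ : Subfield k)⁄ℤ]) := trivial
      rw [htop, Submodule.mem_bot] at ha hb
      rw [ha, hb]⟩
  · haveI := hp
    haveI := hpk
    letI : Algebra (ZMod p) k := ZMod.algebra k p
    have hbot : (⊥ : Subfield k) = (algebraMap (ZMod p) k).fieldRange :=
      Subfield.bot_eq_of_zMod_algebra p
    have hsurj : Function.Surjective (algebraMap ℤ (⊥ : Subfield k)) := by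
      intro x
      have hx : (x : k) ∈ (algebraMap (ZMod p) k).fieldRange := hbot ▸ x.2
      obtain ⟨c, hc⟩ := hx
      obtain ⟨n, rfl⟩ := ZMod.intCast_surjective c
      refine ⟨n, Subtype.ext ?_⟩
      rw [← hc]
      simp
    exact KaehlerDifferential.subsingleton_of_surjective ℤ _ hsurj

theorem formallySmooth_bot (K : Type u) [Field K] [Algebra k K] :
    Algebra.FormallySmooth (⊥ : Subfield k) K := by
  rcases CharP.exists' k with h0 | ⟨p, hp, hpk⟩
  · haveI := h0
    haveI : CharZero (⊥ : Subfield k) := RingHom.charZero (algebraMap (⊥ : Subfield k) k)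
    exact Groth.Agent.Lib.Helper81.FieldSmooth.formallySmooth_of_charZero
  · haveI := hp
    haveI := hpk
    letI : Algebra (ZMod p) k := ZMod.algebra k p
    have hbot : (⊥ : Subfield k) = (algebraMap (ZMod p) k).fieldRange :=
      Subfield.bot_eq_of_zMod_algebra p
    haveI : Finite (⊥ : Subfield k) := by
      rw [hbot]
      exact Set.finite_range _
    haveI : CharP (⊥ : Subfield k) p :=
      RingHom.charP (algebraMap (⊥ : Subfield k) k) (algebraMap (⊥ : Subfield k) k).injective p
    haveI : PerfectRing (⊥ : Subfield k) p := PerfectRing.ofFiniteOfIsReduced p _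
    exact Groth.Agent.Lib.Helper81.FieldSmooth.formallySmooth_of_perfectRing p

end Groth.Agent.Lib.Helper81.PrimeField
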