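import Mathlib
import Groth.Prelude.Def_EGA41
import Groth.Agent.S2468
import Groth.Agent.Lib.Helper81.KaehlerCompare
import Groth.Agent.Lib.Helper81.KaehlerCompare2
import Groth.Agent.Lib.Helper81.PrimeField
import Groth.Agent.Lib.Helper81.FieldSmooth
import Groth.Agent.Lib.Helper81.DescIndep
import Groth.Agent.Lib.Helper81.DescPIndep
import Groth.Agent.Lib.Helper81.DescKaehler

/-!
# Injectivity of absolute differentials from eventual injectivity over a descending family
(helper81)

`k` a field of characteristic `p`, `(k_α)` a decreasing directed family of subfields with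
`⋂ k_α(k^p) = k^p`, `A` a `k`-algebra, `K` an `A`-algebra.  If
`K ⊗_A (A ⊗_k Ω_{k/k_α}) → K ⊗_A Ω_{A/k_α}` is injective for all large `α`, then so is
`K ⊗_A (A ⊗_k Ω_{k/ℤ}) → K ⊗_A Ω_{A/ℤ}`.  (EGA 0_IV 22.2.? / 21.8.)
-/

set_option autoImplicit false
universe u

open scoped TensorProduct
open KaehlerDifferential

namespace Groth.Agent.Lib.Helper81.DescKaehler

open Groth.Agent.Lib.Helper81.KaehlerCompare Groth.Agent.Lib.Helper81.DescIndep

section Square

variable (R P k A : Type*) [CommRing R] [CommRing P] [CommRing k] [CommRing A]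
  [Algebra R P] [Algebra R k] [Algebra R A] [Algebra P k] [Algebra P A] [Algebra k A]
  [IsScalarTower R P k] [IsScalarTower R P A] [IsScalarTower R k A] [IsScalarTower P k A]
  (Q : Type*) [AddCommGroup Q] [Module A Q]

theorem lTensor_square (x : Q ⊗[A] (A ⊗[k] Ω[k⁄R])) :
    (KaehlerDifferential.map R P A A).lTensor Q ((mapBaseChange R k A).lTensor Q x) =
      (mapBaseChange P k A).lTensor Q
        (((KaehlerDifferential.map R P k k).baseChange A).lTensor Q x) := by
  have hsq : (KaehlerDifferential.map R P A A) ∘ₗ (mapBaseChange R k A) =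
      (mapBaseChange P k A) ∘ₗ ((KaehlerDifferential.map R P k k).baseChange A) :=
    LinearMap.ext fun z => map_mapBaseChange_eq R P k A z
  rw [← LinearMap.comp_apply, ← LinearMap.comp_apply, ← LinearMap.lTensor_comp,
    ← LinearMap.lTensor_comp, hsq]

end Square

section Main

variable {k : Type u} [Field k] (p : ℕ) [Fact p.Prime] [CharP k p]

/-- a basis of the absolute differentials consisting of differentials of a `p`-basis -/
theorem exists_basis_kaehler_int : ∃ (I : Type u) (x : I → k) (b : Module.Basis I k Ω[k⁄ℤ]),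
    (∀ i, b i = D ℤ k (x i)) ∧
      ∀ F : Finset I, EGA41.IsPIndependent p (⊥ : Subfield k) (fun i : F => x i) := by
  obtain ⟨B, hB⟩ := Groth.Agent.Lib.Helper81.FieldSmooth.exists_pBasis p
    (k := (⊥ : Subfield k)) (K := k)
  obtain ⟨bP, hbP⟩ := (Groth.Agent.S2468.result p (k := (⊥ : Subfield k)) (K := k)
    (Subtype.val : B → k)).2.2.1 hB
  haveI : Subsingleton Ω[(⊥ : Subfield k)⁄ℤ] :=
    Groth.Agent.Lib.Helper81.PrimeField.subsingleton_kaehler_bot k
  let e : Ω[k⁄ℤ] ≃ₗ[k] Ω[k⁄(⊥ : Subfield k)] :=
    LinearEquiv.ofBijective (KaehlerDifferential.map ℤ (⊥ : Subfield k) k k)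
      (map_bijective_of_subsingleton ℤ (⊥ : Subfield k) k)
  have he : ∀ y, e (D ℤ k y) = D (⊥ : Subfield k) k y := fun y => by
    change KaehlerDifferential.map ℤ (⊥ : Subfield k) k k (D ℤ k y) = _
    rw [map_D]
    rfl
  refine ⟨B, Subtype.val, bP.map e.symm, fun i => ?_, fun F => ?_⟩
  · rw [Module.Basis.map_apply, hbP, ← he, LinearEquiv.symm_apply_apply]
  · apply (Groth.Agent.S2468.result p (k := (⊥ : Subfield k)) (K := k)
      (fun i : F => ((i : B) : k))).1.2
    have h1 : LinearIndependent k (fun i : F => bP (i : B)) :=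
      bP.linearIndependent.comp _ Subtype.val_injective
    have h2 : (fun i : F => bP (i : B)) =
        fun i : F => D (⊥ : Subfield k) k ((i : B) : k) := funext fun i => hbP i
    rw [← h2]
    exact h1

variable {A K : Type u} [CommRing A] [Algebra k A] [CommRing K] [Algebra A K]
  [Algebra k K] [IsScalarTower k A K]

theorem injective_of_eventually_injective {ι : Type*} [Preorder ι] [IsDirected ι (· ≤ ·)]
    [Nonempty ι] (kα : ι → Subfield k) (hanti : Antitone kα)
    (hint : ⨅ α, (kα α ⊔ (frobenius k p).fieldRange) = (frobenius k p).fieldRange) (α₀ : ι)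
    (h : ∀ α, α₀ ≤ α → Function.Injective ((mapBaseChange (kα α) k A).lTensor K)) :
    Function.Injective ((mapBaseChange ℤ k A).lTensor K) := by
  rw [injective_iff_map_eq_zero]
  intro ω hω
  by_contra hne
  obtain ⟨I, x, b, hb, hx⟩ := exists_basis_kaehler_int p (k := k)
  obtain ⟨F, hF⟩ := exists_finset_ne_zero (A := A) (K := K) b ω hne
  obtain ⟨α₁, hα₁⟩ := exists_isPIndependent p kα hanti hint (fun i : F => x i) (hx F)
  obtain ⟨β, hβ₀, hβ₁⟩ := exists_ge_ge α₀ α₁
  have hli : LinearIndependent k
      (fun i : F => KaehlerDifferential.map ℤ (kα β) k k (b i)) := by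
    have h1 := (Groth.Agent.S2468.result p (k := kα β) (K := k)
      (fun i : F => x i)).1.1 (hα₁ β hβ₁)
    have h2 : (fun i : F => KaehlerDifferential.map ℤ (kα β) k k (b i)) =
        fun i : F => D (kα β) k (x i) := funext fun i => by
      rw [hb, map_D]
      rfl
    rw [h2]
    exact h1
  have hnz := hF _ (KaehlerDifferential.map ℤ (kα β) k k) hli
  apply hnz
  apply h β hβ₀
  rw [map_zero, ← lTensor_square ℤ (kα β) k A K ω, hω, map_zero]

end Main

end Groth.Agent.Lib.Helper81.DescKaehler
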