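import Mathlib
import Groth.Prelude.Def_CAlgX

/-!
# Relative Jacobian criterion for adic formal smoothness, part 1 (helper81)

`Λ → A → B`, `J` an ideal of `B`, `C = B ⧸ J`. We use "bare" derivations (additive maps with the
Leibniz rule) to avoid clashes of module structures.

`ExtProp Λ A B J k`: every bare `Λ`-derivation of `A` into a `B`-module killed by `J^k` extends
to `B`.  Part 1: `ExtProp … 1` from a left inverse of `Ω_{A/Λ} ⊗_A C → Ω_{B/Λ} ⊗_B C`.
-/

set_option autoImplicit false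
universe u

open scoped TensorProduct
open KaehlerDifferential

namespace Groth.Agent.Lib.Helper81.RelJac

variable (Λ A B : Type u) [CommRing Λ] [CommRing A] [CommRing B] [Algebra Λ A] [Algebra A B]
  [Algebra Λ B] [IsScalarTower Λ A B] (J : Ideal B)

/-- extension property for bare derivations into modules killed by `J^k` -/
def ExtProp (k : ℕ) : Prop :=
  ∀ (M : Type u) [AddCommGroup M] [Module B M], (∀ x ∈ J ^ k, ∀ m : M, x • m = 0) →
    ∀ d : A →+ M, (∀ a a', d (a * a') = algebraMap A B a • d a' + algebraMap A B a' • d a) →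
      (∀ l : Λ, d (algebraMap Λ A l) = 0) →
        ∃ D : B →+ M, (∀ b b', D (b * b') = b • D b' + b' • D b) ∧
          ∀ a, D (algebraMap A B a) = d a

variable {Λ A B}

/-- a left inverse of `Ω_{A/Λ} ⊗_A C → Ω_{B/Λ} ⊗_B C` gives the extension property for modules
killed by `J` -/
theorem extProp_one_of_leftInverse
    (r : (B ⧸ J) ⊗[B] Ω[B⁄Λ] →ₗ[B] (B ⧸ J) ⊗[B] (B ⊗[A] Ω[A⁄Λ]))
    (hr : ∀ x, r ((mapBaseChange Λ A B).lTensor (B ⧸ J) x) = x) : ExtProp Λ A B J 1 := by
  intro M _ _ hM d hd hdΛ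
  letI modA : Module A M := Module.compHom M (algebraMap A B)
  haveI towAB : IsScalarTower A B M := ⟨fun a b m => by
    change (a • b) • m = algebraMap A B a • b • m
    rw [Algebra.smul_def, mul_smul]⟩
  letI modΛ : Module Λ M := Module.compHom M (algebraMap Λ A)
  haveI towΛA : IsScalarTower Λ A M := ⟨fun l a m => by
    change (l • a) • m = algebraMap Λ A l • a • m
    rw [Algebra.smul_def, mul_smul]⟩
  have hAsmul : ∀ (a : A) (m : M), a • m = algebraMap A B a • m := fun a m => rfl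
  have hΛsmul : ∀ (l : Λ) (m : M), l • m = algebraMap Λ A l • m := fun l m => rfl
  -- the derivation
  let dlin : A →ₗ[Λ] M :=
    { toFun := d
      map_add' := map_add d
      map_smul' := fun l a => by
        rw [Algebra.smul_def, hd, hdΛ, smul_zero, add_zero, RingHom.id_apply, hΛsmul, hAsmul] }
  let d' : Derivation Λ A M := Derivation.mk' dlin (fun a a' => by
    change d (a * a') = a • d a' + a' • d a
    rw [hd, hAsmul, hAsmul])
  have hd' : ∀ a, d' a = d a := fun a => rfl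
  let δ : Ω[A⁄Λ] →ₗ[A] M := d'.liftKaehlerDifferential
  have hδ : ∀ a, δ (D Λ A a) = d a := fun a => by
    rw [← hd']; exact Derivation.liftKaehlerDifferential_comp_D d' a
  let δB : B ⊗[A] Ω[A⁄Λ] →ₗ[B] M := LinearMap.liftBaseChange B δ
  have hδB : ∀ (b : B) (ω : Ω[A⁄Λ]), δB (b ⊗ₜ ω) = b • δ ω := fun b ω =>
    LinearMap.liftBaseChange_tmul B δ b ω
  -- the `C`-module structure
  have htors : Module.IsTorsionBySet B M (J : Set B) := fun m x => hM x.1 (by
    rw [pow_one]; exact x.2) m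
  letI modC : Module (B ⧸ J) M := htors.module
  haveI towBC : IsScalarTower B (B ⧸ J) M := htors.isScalarTower
  let δC : (B ⧸ J) ⊗[B] (B ⊗[A] Ω[A⁄Λ]) →ₗ[B ⧸ J] M := LinearMap.liftBaseChange (B ⧸ J) δB
  have hδC : ∀ (c : B ⧸ J) (y : B ⊗[A] Ω[A⁄Λ]), δC (c ⊗ₜ y) = c • δB y := fun c y =>
    LinearMap.liftBaseChange_tmul (B ⧸ J) δB c y
  have hδCsmul : ∀ (b : B) (y : (B ⧸ J) ⊗[B] (B ⊗[A] Ω[A⁄Λ])), δC (b • y) = b • δC y :=
    fun b y => LinearMap.map_smul_of_tower δC b y
  let Dfun : B →+ M :=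
    { toFun := fun b => δC (r ((1 : B ⧸ J) ⊗ₜ[B] D Λ B b))
      map_zero' := by
        rw [map_zero, TensorProduct.tmul_zero, map_zero, map_zero]
      map_add' := fun b b' => by
        rw [map_add, TensorProduct.tmul_add, map_add, map_add] }
  have hDfun : ∀ b, Dfun b = δC (r ((1 : B ⧸ J) ⊗ₜ[B] D Λ B b)) := fun b => rfl
  refine ⟨Dfun, fun b b' => ?_, fun a => ?_⟩
  · rw [hDfun, hDfun, hDfun, Derivation.leibniz, TensorProduct.tmul_add, TensorProduct.tmul_smul,
      TensorProduct.tmul_smul, map_add, map_smul, map_smul, map_add, hδCsmul, hδCsmul]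
  · have h1 : (1 : B ⧸ J) ⊗ₜ[B] D Λ B (algebraMap A B a) =
        (mapBaseChange Λ A B).lTensor (B ⧸ J) ((1 : B ⧸ J) ⊗ₜ[B] ((1 : B) ⊗ₜ[A] D Λ A a)) := by
      rw [LinearMap.lTensor_tmul, mapBaseChange_tmul, one_smul, map_D]
    rw [hDfun, h1, hr, hδC, hδB, one_smul, one_smul, hδ]

end Groth.Agent.Lib.Helper81.RelJac
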