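import Mathlib
import Groth.Prelude.Def_CAlgX
import Groth.Agent.Lib.Helper81.RelJac1

/-!
# Relative Jacobian criterion for adic formal smoothness, part 4 (helper81)

If `B` is formally smooth over `A` for the `J`-adic topology, then every (bare) derivation of `A`
into a `B`-module killed by a power of `J` extends to `B`.
-/

set_option autoImplicit false
universe u

open scoped TensorProduct
open KaehlerDifferential TrivSqZeroExt

namespace Groth.Agent.Lib.Helper81.RelJac

variable {Λ A B : Type u} [CommRing Λ] [CommRing A] [CommRing B] [Algebra Λ A] [Algebra A B]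
  [Algebra Λ B] [IsScalarTower Λ A B] {J : Ideal B}

theorem extProp_of_isAdicFormallySmooth (hB : CAlgX.IsAdicFormallySmooth A B J) (k : ℕ) :
    ExtProp Λ A B J k := by
  intro M _ _ hM d hd _
  classical
  have htors : Module.IsTorsionBySet B M ((J ^ k : Ideal B) : Set B) := fun m a => hM a.1 a.2 m
  let R := B ⧸ J ^ k
  let q : B →+* R := Ideal.Quotient.mk (J ^ k)
  letI modR : Module R M := htors.module
  letI modRop : Module Rᵐᵒᵖ M := Module.compHom _ ((RingHom.id R).fromOpposite mul_comm)
  haveI : IsCentralScalar R M := ⟨fun r m => rfl⟩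
  have hq : ∀ (b : B) (m : M), q b • m = b • m := fun b m => rfl
  have hd1 : d 1 = 0 := by
    have := hd 1 1
    rw [mul_one, (algebraMap A B).map_one, one_smul] at this
    exact add_eq_left.1 this.symm
  let ρ : A →+* TrivSqZeroExt R M :=
    { toFun := fun a => inl (q (algebraMap A B a)) + inr (d a)
      map_one' := by
        ext
        · simp
        · simp [hd1]
      map_mul' := fun a a' => by
        ext
        · simp
        · simp only [snd_add, snd_inl, snd_inr, zero_add, snd_mul, fst_add, fst_inl, fst_inr,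
            add_zero, op_smul_eq_smul, hq, hd]
      map_zero' := by
        ext
        · simp
        · simp
      map_add' := fun a a' => by
        ext
        · simp only [map_add, fst_add, fst_inl, fst_inr, add_zero]
        · simp only [map_add, snd_add, snd_inl, snd_inr, zero_add] }
  have hρ : ∀ a, ρ a = inl (q (algebraMap A B a)) + inr (d a) := fun a => rfl
  letI algAE : Algebra A (TrivSqZeroExt R M) := ρ.toAlgebra
  have halg : ∀ a : A, algebraMap A (TrivSqZeroExt R M) a = ρ a := fun a => rfl
  let N' : Ideal (TrivSqZeroExt R M) := RingHom.ker (fstHom R R M).toRingHom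
  have hN'mem : ∀ x, x ∈ N' ↔ x.fst = 0 := fun x => RingHom.mem_ker
  have hN' : N' ^ 2 = ⊥ := by
    rw [pow_two, eq_bot_iff, Ideal.mul_le]
    intro x hx y hy
    rw [hN'mem] at hx hy
    rw [Ideal.mem_bot]
    ext
    · simp [hx]
    · simp [hx, hy]
  let ψ : B →ₐ[A] TrivSqZeroExt R M ⧸ N' :=
    { (Ideal.Quotient.mk N').comp ((inlHom R M).comp q) with
      commutes' := fun a => by
        change Ideal.Quotient.mk N' (inl (q (algebraMap A B a))) =
          Ideal.Quotient.mk N' (algebraMap A (TrivSqZeroExt R M) a)
        rw [halg, hρ, Ideal.Quotient.eq, hN'mem]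
        simp }
  have hψ : ∀ b, ψ b = Ideal.Quotient.mk N' (inl (q b)) := fun b => rfl
  obtain ⟨χ, hχ⟩ := hB (TrivSqZeroExt R M) N' hN' ψ ⟨k, fun x hx => by
    rw [hψ, show q x = 0 from Ideal.Quotient.eq_zero_iff_mem.2 hx, inl_zero, map_zero]⟩
  have hfst : ∀ b, (χ b).fst = q b := by
    intro b
    have h1 : Ideal.Quotient.mk N' (χ b) = Ideal.Quotient.mk N' (inl (q b)) :=
      AlgHom.congr_fun hχ b
    rw [Ideal.Quotient.eq, hN'mem, fst_sub, fst_inl, sub_eq_zero] at h1
    exact h1
  let D : B →+ M :=
    { toFun := fun b => (χ b).snd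
      map_zero' := by rw [map_zero, snd_zero]
      map_add' := fun b b' => by rw [map_add, snd_add] }
  have hD : ∀ b, D b = (χ b).snd := fun b => rfl
  refine ⟨D, fun b b' => ?_, fun a => ?_⟩
  · rw [hD, hD, hD, map_mul, snd_mul, hfst, hfst, op_smul_eq_smul, hq, hq]
  · rw [hD, AlgHom.commutes, halg, hρ, snd_add, snd_inl, snd_inr, zero_add]

end Groth.Agent.Lib.Helper81.RelJac
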