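import Mathlib
import Groth.Prelude.Def_CAlgX
import Groth.Agent.Lib.Helper62.AdicDerivation
import Groth.Agent.Lib.Helper81.RelJac1
import Groth.Agent.Lib.Helper81.RelJac4

/-!
# Relative Jacobian criterion for adic formal smoothness, part 6 (helper81)

Consequences of adic formal smoothness of `B` over `A` (`J`-adic), `C = B ⧸ J`:
* `projective_tensor_kaehler`: `C ⊗_B Ω_{B/A}` is projective over `C`;
* `injective_lTensor_mapBaseChange`: `C ⊗_B (B ⊗_A Ω_{A/Λ}) → C ⊗_B Ω_{B/Λ}` is (split) injective.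
-/

set_option autoImplicit false
universe u

open scoped TensorProduct
open KaehlerDifferential

namespace Groth.Agent.Lib.Helper81.RelJac

variable {Λ A B : Type u} [CommRing Λ] [CommRing A] [CommRing B] [Algebra Λ A] [Algebra A B]
  [Algebra Λ B] [IsScalarTower Λ A B] {J : Ideal B}

theorem projective_tensor_kaehler (hB : CAlgX.IsAdicFormallySmooth A B J) :
    Module.Projective (B ⧸ J) ((B ⧸ J) ⊗[B] Ω[B⁄A]) := by
  apply Module.Projective.of_lifting_property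
  intro M N _ _ _ _ f g hf
  letI modBM : Module B M := Module.compHom M (algebraMap B (B ⧸ J))
  haveI towBCM : IsScalarTower B (B ⧸ J) M := ⟨fun b c m => by
    change (b • c) • m = algebraMap B (B ⧸ J) b • c • m
    rw [Algebra.smul_def, mul_smul]⟩
  letI modAM : Module A M := Module.compHom M (algebraMap A B)
  haveI towABM : IsScalarTower A B M := ⟨fun a b m => by
    change (a • b) • m = algebraMap A B a • b • m
    rw [Algebra.smul_def, mul_smul]⟩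
  letI modBN : Module B N := Module.compHom N (algebraMap B (B ⧸ J))
  haveI towBCN : IsScalarTower B (B ⧸ J) N := ⟨fun b c m => by
    change (b • c) • m = algebraMap B (B ⧸ J) b • c • m
    rw [Algebra.smul_def, mul_smul]⟩
  letI modAN : Module A N := Module.compHom N (algebraMap A B)
  haveI towABN : IsScalarTower A B N := ⟨fun a b m => by
    change (a • b) • m = algebraMap A B a • b • m
    rw [Algebra.smul_def, mul_smul]⟩
  let g₀ : Ω[B⁄A] →ₗ[B] N := (g.restrictScalars B) ∘ₗ (TensorProduct.mk B (B ⧸ J) Ω[B⁄A] 1)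
  have hg₀ : ∀ ω, g₀ ω = g (1 ⊗ₜ ω) := fun ω => rfl
  let D'' : Derivation A B N := g₀.compDer (D A B)
  have hD'' : ∀ b, D'' b = g (1 ⊗ₜ D A B b) := fun b => rfl
  have hk : ∀ x ∈ J ^ 1, ∀ m : M, x • m = 0 := by
    intro x hx m
    rw [pow_one] at hx
    change algebraMap B (B ⧸ J) x • m = 0
    rw [Ideal.Quotient.algebraMap_eq, Ideal.Quotient.eq_zero_iff_mem.2 hx, zero_smul]
  obtain ⟨D', hD'⟩ := Groth.Agent.Lib.Helper62.AdicDerivation.exists_derivation_lift hB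
    (f.restrictScalars B) hf 1 hk D''
  have hD'f : ∀ b, f (D' b) = g (1 ⊗ₜ D A B b) := fun b => by
    rw [← hD'']; exact hD' b
  let h₀ : Ω[B⁄A] →ₗ[B] M := D'.liftKaehlerDifferential
  have hh₀ : ∀ b, h₀ (D A B b) = D' b := fun b => Derivation.liftKaehlerDifferential_comp_D D' b
  have hfh₀ : (f.restrictScalars B) ∘ₗ h₀ = g₀ := by
    apply Derivation.liftKaehlerDifferential_unique
    ext b
    change f (h₀ (D A B b)) = g₀ (D A B b)
    rw [hh₀, hD'f, hg₀]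
  let h : (B ⧸ J) ⊗[B] Ω[B⁄A] →ₗ[B ⧸ J] M := LinearMap.liftBaseChange (B ⧸ J) h₀
  have hh : ∀ (c : B ⧸ J) (ω : Ω[B⁄A]), h (c ⊗ₜ ω) = c • h₀ ω := fun c ω =>
    LinearMap.liftBaseChange_tmul (B ⧸ J) h₀ c ω
  refine ⟨h, LinearMap.ext fun x => ?_⟩
  induction x using TensorProduct.induction_on with
  | zero => rw [map_zero, map_zero]
  | tmul c ω =>
    have h1 : f (h₀ ω) = g₀ ω := LinearMap.congr_fun hfh₀ ω
    have h2 : c ⊗ₜ[B] ω = c • ((1 : B ⧸ J) ⊗ₜ[B] ω) := by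
      rw [TensorProduct.smul_tmul', smul_eq_mul, mul_one]
    rw [LinearMap.comp_apply, hh, map_smul, h1, hg₀, h2, map_smul]
  | add x y hx hy => rw [map_add, map_add, hx, hy]

theorem smul_tensor_eq_zero {x : B} (hx : x ∈ J) {Y : Type u} [AddCommGroup Y] [Module B Y]
    (m : (B ⧸ J) ⊗[B] Y) : x • m = 0 := by
  induction m using TensorProduct.induction_on with
  | zero => rw [smul_zero]
  | tmul c y =>
    rw [TensorProduct.smul_tmul', Algebra.smul_def, Ideal.Quotient.algebraMap_eq,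
      Ideal.Quotient.eq_zero_iff_mem.2 hx, zero_mul, TensorProduct.zero_tmul]
  | add y z hy hz => rw [smul_add, hy, hz, add_zero]

theorem exists_leftInverse_of_isAdicFormallySmooth (hB : CAlgX.IsAdicFormallySmooth A B J) :
    ∃ r : (B ⧸ J) ⊗[B] Ω[B⁄Λ] →ₗ[B ⧸ J] (B ⧸ J) ⊗[B] (B ⊗[A] Ω[A⁄Λ]),
      ∀ x, r ((mapBaseChange Λ A B).lTensor (B ⧸ J) x) = x := by
  let ι₁ : Ω[A⁄Λ] →ₗ[A] B ⊗[A] Ω[A⁄Λ] := TensorProduct.mk A B Ω[A⁄Λ] 1
  let ι₂ : B ⊗[A] Ω[A⁄Λ] →ₗ[B] (B ⧸ J) ⊗[B] (B ⊗[A] Ω[A⁄Λ]) :=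
    TensorProduct.mk B (B ⧸ J) (B ⊗[A] Ω[A⁄Λ]) 1
  let ι : Ω[A⁄Λ] →ₗ[A] (B ⧸ J) ⊗[B] (B ⊗[A] Ω[A⁄Λ]) := (ι₂.restrictScalars A) ∘ₗ ι₁
  have hι : ∀ ω, ι ω = (1 : B ⧸ J) ⊗ₜ[B] ((1 : B) ⊗ₜ[A] ω) := fun ω => rfl
  have hι₂ : ∀ y, ι₂ y = (1 : B ⧸ J) ⊗ₜ[B] y := fun y => rfl
  let d : Derivation Λ A ((B ⧸ J) ⊗[B] (B ⊗[A] Ω[A⁄Λ])) := ι.compDer (D Λ A)
  have hd : ∀ a, d a = ι (D Λ A a) := fun a => rfl
  have hM : ∀ x ∈ J ^ 1, ∀ m : (B ⧸ J) ⊗[B] (B ⊗[A] Ω[A⁄Λ]), x • m = 0 := by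
    intro x hx m
    rw [pow_one] at hx
    exact smul_tensor_eq_zero hx m
  obtain ⟨D₀, hD₀, hD₀'⟩ := extProp_of_isAdicFormallySmooth (Λ := Λ) hB 1
    ((B ⧸ J) ⊗[B] (B ⊗[A] Ω[A⁄Λ])) hM d.toLinearMap.toAddMonoidHom
    (fun a a' => by
      change d (a * a') = algebraMap A B a • d a' + algebraMap A B a' • d a
      rw [d.leibniz, algebraMap_smul, algebraMap_smul])
    (fun l => d.map_algebraMap l)
  have hD₀d : ∀ a, D₀ (algebraMap A B a) = d a := fun a => hD₀' a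
  let Dlin : B →ₗ[Λ] (B ⧸ J) ⊗[B] (B ⊗[A] Ω[A⁄Λ]) :=
    { toFun := D₀
      map_add' := map_add D₀
      map_smul' := fun l b => by
        rw [Algebra.smul_def, hD₀, IsScalarTower.algebraMap_apply Λ A B, hD₀d, d.map_algebraMap,
          smul_zero, add_zero, RingHom.id_apply, ← IsScalarTower.algebraMap_apply Λ A B,
          algebraMap_smul] }
  let D' : Derivation Λ B ((B ⧸ J) ⊗[B] (B ⊗[A] Ω[A⁄Λ])) := Derivation.mk' Dlin hD₀
  have hD' : ∀ b, D' b = D₀ b := fun b => rfl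
  let r₀ : Ω[B⁄Λ] →ₗ[B] (B ⧸ J) ⊗[B] (B ⊗[A] Ω[A⁄Λ]) := D'.liftKaehlerDifferential
  have hr₀ : ∀ b, r₀ (D Λ B b) = D₀ b := fun b => by
    rw [← hD']; exact Derivation.liftKaehlerDifferential_comp_D D' b
  let r : (B ⧸ J) ⊗[B] Ω[B⁄Λ] →ₗ[B ⧸ J] (B ⧸ J) ⊗[B] (B ⊗[A] Ω[A⁄Λ]) :=
    LinearMap.liftBaseChange (B ⧸ J) r₀
  have hr : ∀ (c : B ⧸ J) (ω : Ω[B⁄Λ]), r (c ⊗ₜ ω) = c • r₀ ω := fun c ω =>
    LinearMap.liftBaseChange_tmul (B ⧸ J) r₀ c ω
  -- level 3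
  have h3 : (r₀.restrictScalars A) ∘ₗ (KaehlerDifferential.map Λ Λ A B) = ι := by
    apply Derivation.liftKaehlerDifferential_unique
    ext a
    change r₀ (KaehlerDifferential.map Λ Λ A B (D Λ A a)) = ι (D Λ A a)
    rw [map_D, hr₀, hD₀d, hd]
  have h3' : ∀ ω, r₀ (KaehlerDifferential.map Λ Λ A B ω) = ι ω := fun ω =>
    LinearMap.congr_fun h3 ω
  -- level 2
  have h2 : ∀ y : B ⊗[A] Ω[A⁄Λ], r₀ (mapBaseChange Λ A B y) = ι₂ y := by
    intro y
    induction y using TensorProduct.induction_on with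
    | zero => rw [map_zero, map_zero, map_zero]
    | tmul b ω =>
      have hb : b ⊗ₜ[A] ω = b • ((1 : B) ⊗ₜ[A] ω) := by
        rw [TensorProduct.smul_tmul', smul_eq_mul, mul_one]
      rw [mapBaseChange_tmul, map_smul, h3', hι, hb, map_smul, hι₂]
    | add y z hy hz => rw [map_add, map_add, map_add, hy, hz]
  refine ⟨r, fun x => ?_⟩
  induction x using TensorProduct.induction_on with
  | zero => rw [map_zero, map_zero]
  | tmul c y =>
    rw [LinearMap.lTensor_tmul, hr, h2, hι₂, TensorProduct.smul_tmul', smul_eq_mul, mul_one]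
  | add y z hy hz => rw [map_add, map_add, hy, hz]

theorem injective_lTensor_mapBaseChange (hB : CAlgX.IsAdicFormallySmooth A B J) :
    Function.Injective ((mapBaseChange Λ A B).lTensor (B ⧸ J)) := by
  obtain ⟨r, hr⟩ := exists_leftInverse_of_isAdicFormallySmooth (Λ := Λ) hB
  exact Function.LeftInverse.injective hr

end Groth.Agent.Lib.Helper81.RelJac
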