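import Mathlib
import Groth.Prelude.Def_CAlgX
import Groth.Agent.Lib.Helper62.AdicDerivation
import Groth.Agent.Lib.Helper81.RelJac1

/-!
# Relative Jacobian criterion for adic formal smoothness, part 2 (helper81)

Dévissage: `ExtProp … 1` and adic formal smoothness of `B` over `Λ` give `ExtProp … k` for all `k`.
-/

set_option autoImplicit false
universe u

open scoped TensorProduct
open KaehlerDifferential

namespace Groth.Agent.Lib.Helper81.RelJac

variable {Λ A B : Type u} [CommRing Λ] [CommRing A] [CommRing B] [Algebra Λ A] [Algebra A B]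
  [Algebra Λ B] [IsScalarTower Λ A B] {J : Ideal B}

/-- lifting bare `Λ`-derivations along quotients of modules killed by a power of `J` -/
theorem exists_bare_lift (hΛ : CAlgX.IsAdicFormallySmooth Λ B J) (M : Type u) [AddCommGroup M]
    [Module B M] (M' : Submodule B M) (k : ℕ) (hk : ∀ x ∈ J ^ k, ∀ m : M, x • m = 0)
    (Dbar : B →+ M ⧸ M') (hD : ∀ b b', Dbar (b * b') = b • Dbar b' + b' • Dbar b)
    (hDΛ : ∀ l : Λ, Dbar (algebraMap Λ B l) = 0) :
    ∃ D₁ : B →+ M, (∀ b b', D₁ (b * b') = b • D₁ b' + b' • D₁ b) ∧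
      (∀ l : Λ, D₁ (algebraMap Λ B l) = 0) ∧ ∀ b, Submodule.Quotient.mk (D₁ b) = Dbar b := by
  letI modΛ : Module Λ M := Module.compHom M (algebraMap Λ B)
  haveI towΛB : IsScalarTower Λ B M := ⟨fun l b m => by
    change (l • b) • m = algebraMap Λ B l • b • m
    rw [Algebra.smul_def, mul_smul]⟩
  have hΛsmul : ∀ (l : Λ) (m : M ⧸ M'), l • m = algebraMap Λ B l • m := fun l m => by
    rw [algebraMap_smul]
  let dlin : B →ₗ[Λ] M ⧸ M' :=
    { toFun := Dbar
      map_add' := map_add Dbar
      map_smul' := fun l b => by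
        rw [Algebra.smul_def, hD, hDΛ, smul_zero, add_zero, RingHom.id_apply, hΛsmul] }
  let D'' : Derivation Λ B (M ⧸ M') := Derivation.mk' dlin (fun b b' => hD b b')
  obtain ⟨D, hDlift⟩ := Groth.Agent.Lib.Helper62.AdicDerivation.exists_derivation_lift hΛ
    M'.mkQ (Submodule.mkQ_surjective M') k hk D''
  refine ⟨D.toLinearMap.toAddMonoidHom, fun b b' => D.leibniz b b', fun l => ?_, fun b => ?_⟩
  · exact D.map_algebraMap l
  · exact hDlift b

/-- the dévissage step -/
theorem extProp_succ (hΛ : CAlgX.IsAdicFormallySmooth Λ B J) (h1 : ExtProp Λ A B J 1) (k : ℕ)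
    (hk : ExtProp Λ A B J k) : ExtProp Λ A B J (k + 1) := by
  intro M _ _ hM d hd hdΛ
  let M' : Submodule B M := (J ^ k) • (⊤ : Submodule B M)
  have hQ : ∀ x ∈ J ^ k, ∀ m : M ⧸ M', x • m = 0 := by
    intro x hx m
    obtain ⟨m, rfl⟩ := Submodule.Quotient.mk_surjective _ m
    rw [← Submodule.Quotient.mk_smul, Submodule.Quotient.mk_eq_zero]
    exact Submodule.smul_mem_smul hx Submodule.mem_top
  have hkill : ∀ x ∈ J, ∀ y ∈ M', x • y = 0 := by
    intro x hx y hy
    refine Submodule.smul_induction_on hy (fun r hr n _ => ?_) (fun y z hy hz => ?_)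
    · rw [smul_smul]
      exact hM _ (by rw [pow_succ']; exact Ideal.mul_mem_mul hx hr) n
    · rw [smul_add, hy, hz, add_zero]
  have hM' : ∀ x ∈ J ^ 1, ∀ m : M', x • m = 0 := by
    intro x hx m
    apply Subtype.ext
    rw [Submodule.coe_smul, Submodule.coe_zero]
    exact hkill x (by rwa [pow_one] at hx) m.1 m.2
  let dbar : A →+ M ⧸ M' := M'.mkQ.toAddMonoidHom.comp d
  have hdbar : ∀ a, dbar a = Submodule.Quotient.mk (d a) := fun a => rfl
  obtain ⟨Dbar, hDbar, hDbar'⟩ := hk (M ⧸ M') hQ dbar (fun a a' => by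
    rw [hdbar, hdbar, hdbar, hd, Submodule.Quotient.mk_add, Submodule.Quotient.mk_smul,
      Submodule.Quotient.mk_smul]) (fun l => by rw [hdbar, hdΛ, Submodule.Quotient.mk_zero])
  obtain ⟨D₁, hD₁, hD₁Λ, hD₁lift⟩ := exists_bare_lift hΛ M M' (k + 1) hM Dbar hDbar (fun l => by
    rw [IsScalarTower.algebraMap_apply Λ A B, hDbar', hdbar, hdΛ, Submodule.Quotient.mk_zero])
  have hmem : ∀ a, d a - D₁ (algebraMap A B a) ∈ M' := by
    intro a
    rw [← Submodule.Quotient.mk_eq_zero, Submodule.Quotient.mk_sub, hD₁lift, hDbar', hdbar,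
      sub_self]
  let d₂ : A →+ M' :=
    { toFun := fun a => ⟨d a - D₁ (algebraMap A B a), hmem a⟩
      map_zero' := by
        apply Subtype.ext
        change d 0 - D₁ (algebraMap A B 0) = 0
        rw [map_zero, map_zero, map_zero, sub_zero]
      map_add' := fun a a' => by
        apply Subtype.ext
        change d (a + a') - D₁ (algebraMap A B (a + a')) =
          (d a - D₁ (algebraMap A B a)) + (d a' - D₁ (algebraMap A B a'))
        rw [map_add, map_add, map_add]
        abel }
  have hd₂ : ∀ a, ((d₂ a : M') : M) = d a - D₁ (algebraMap A B a) := fun a => rfl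
  obtain ⟨D₂, hD₂, hD₂'⟩ := h1 M' hM' d₂ (fun a a' => by
    apply Subtype.ext
    rw [Submodule.coe_add, Submodule.coe_smul, Submodule.coe_smul, hd₂, hd₂, hd₂, hd, map_mul,
      hD₁, smul_sub, smul_sub]
    abel) (fun l => by
    apply Subtype.ext
    rw [hd₂, hdΛ, ← IsScalarTower.algebraMap_apply Λ A B, hD₁Λ, sub_zero, Submodule.coe_zero])
  refine ⟨D₁ + M'.subtype.toAddMonoidHom.comp D₂, fun b b' => ?_, fun a => ?_⟩
  · change D₁ (b * b') + ((D₂ (b * b') : M') : M) =
      b • (D₁ b' + ((D₂ b' : M') : M)) + b' • (D₁ b + ((D₂ b : M') : M))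
    rw [hD₁, hD₂, Submodule.coe_add, Submodule.coe_smul, Submodule.coe_smul, smul_add, smul_add]
    abel
  · change D₁ (algebraMap A B a) + ((D₂ (algebraMap A B a) : M') : M) = d a
    rw [hD₂', hd₂]
    abel

/-- the extension property for all `k` -/
theorem extProp_all (hΛ : CAlgX.IsAdicFormallySmooth Λ B J) (h1 : ExtProp Λ A B J 1) :
    ∀ k, ExtProp Λ A B J k := by
  intro k
  induction k with
  | zero =>
    intro M _ _ hM d hd hdΛ
    have h0 : ∀ m : M, m = 0 := fun m => by
      have := hM 1 (by rw [pow_zero, Ideal.one_eq_top]; trivial) m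
      rwa [one_smul] at this
    exact ⟨0, fun b b' => by rw [h0 (_ + _)]; rfl, fun a => by rw [h0 (d a)]; rfl⟩
  | succ k ih => exact extProp_succ hΛ h1 k ih

end Groth.Agent.Lib.Helper81.RelJac
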