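import Mathlib
import Groth.Prelude.Def_CAlgX
import Groth.Agent.Lib.Helper81.RelJac1
import Groth.Agent.Lib.Helper81.RelJac2

/-!
# Relative Jacobian criterion for adic formal smoothness, part 3 (helper81)

If `B` is formally smooth over `Λ` for the `J`-adic topology and bare `Λ`-derivations of `A`
extend to `B`, then `B` is formally smooth over `A` for the `J`-adic topology.
Also: composition of formal smoothness.
-/

set_option autoImplicit false
universe u

open scoped TensorProduct
open KaehlerDifferential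

namespace Groth.Agent.Lib.Helper81.RelJac

variable {Λ A B : Type u} [CommRing Λ] [CommRing A] [CommRing B] [Algebra Λ A] [Algebra A B]
  [Algebra Λ B] [IsScalarTower Λ A B] {J : Ideal B}

theorem isAdicFormallySmooth_of_extProp (hΛ : CAlgX.IsAdicFormallySmooth Λ B J)
    (hExt : ∀ k, ExtProp Λ A B J k) : CAlgX.IsAdicFormallySmooth A B J := by
  intro E _ _ N hN ψ ⟨k, hk⟩
  letI algΛE : Algebra Λ E := ((algebraMap A E).comp (algebraMap Λ A)).toAlgebra
  haveI towΛAE : IsScalarTower Λ A E := IsScalarTower.of_algebraMap_eq fun _ => rfl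
  let ψΛ : B →ₐ[Λ] E ⧸ N := ψ.restrictScalars Λ
  obtain ⟨χ₀, hχ₀⟩ := hΛ E N hN ψΛ ⟨k, fun x hx => hk x hx⟩
  have hχ₀' : ∀ b, Ideal.Quotient.mk N (χ₀ b) = ψ b := fun b => AlgHom.congr_fun hχ₀ b
  have hsq : ∀ n n' : E, n ∈ N → n' ∈ N → n * n' = 0 := by
    intro n n' hn hn'
    have : n * n' ∈ N ^ 2 := by rw [pow_two]; exact Ideal.mul_mem_mul hn hn'
    rwa [hN] at this
  letI modB : Module B N := Module.compHom N χ₀.toRingHom
  have hBsmul : ∀ (b : B) (n : N), ((b • n : N) : E) = χ₀ b * n := fun b n => rfl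
  have hM : ∀ x ∈ J ^ k, ∀ n : N, x • n = 0 := by
    intro x hx n
    apply Subtype.ext
    rw [hBsmul, Submodule.coe_zero]
    apply hsq _ _ _ n.2
    rw [← Ideal.Quotient.eq_zero_iff_mem, hχ₀', hk x hx]
  have hdmem : ∀ a : A, χ₀ (algebraMap A B a) - algebraMap A E a ∈ N := by
    intro a
    rw [← Ideal.Quotient.eq_zero_iff_mem, map_sub, hχ₀', AlgHom.commutes, sub_eq_zero]
    rfl
  let d : A →+ N :=
    { toFun := fun a => ⟨_, hdmem a⟩
      map_zero' := by
        apply Subtype.ext
        change χ₀ (algebraMap A B 0) - algebraMap A E 0 = 0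
        rw [map_zero, map_zero, map_zero, sub_zero]
      map_add' := fun a a' => by
        apply Subtype.ext
        change χ₀ (algebraMap A B (a + a')) - algebraMap A E (a + a') =
          (χ₀ (algebraMap A B a) - algebraMap A E a) + (χ₀ (algebraMap A B a') - algebraMap A E a')
        rw [map_add, map_add, map_add]
        ring }
  have hd : ∀ a, ((d a : N) : E) = χ₀ (algebraMap A B a) - algebraMap A E a := fun a => rfl
  obtain ⟨D, hD, hD'⟩ := hExt k N hM d (fun a a' => by
    apply Subtype.ext
    have h := hsq _ _ (hdmem a) (hdmem a')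
    rw [Submodule.coe_add, hBsmul, hBsmul, hd, hd, hd, map_mul, map_mul, map_mul]
    linear_combination (-1 : E) * h) (fun l => by
    apply Subtype.ext
    rw [hd, ← IsScalarTower.algebraMap_apply Λ A B, AlgHom.commutes, Submodule.coe_zero,
      sub_eq_zero]
    rfl)
  have hD1 : D 1 = 0 := by
    have := hD 1 1
    rw [mul_one, one_smul] at this
    exact add_eq_left.1 this.symm
  let χ : B →ₐ[A] E :=
    { toFun := fun b => χ₀ b - (D b : E)
      map_one' := by rw [map_one, hD1, Submodule.coe_zero, sub_zero]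
      map_mul' := fun b b' => by
        have h := hsq (D b) (D b') (D b).2 (D b').2
        rw [map_mul, hD, Submodule.coe_add, hBsmul, hBsmul]
        linear_combination (-1 : E) * h
      map_zero' := by rw [map_zero, map_zero, Submodule.coe_zero, sub_zero]
      map_add' := fun b b' => by
        rw [map_add, map_add, Submodule.coe_add]
        ring
      commutes' := fun a => by
        rw [hD', hd]
        ring }
  refine ⟨χ, ?_⟩
  ext b
  change Ideal.Quotient.mk N (χ₀ b - (D b : E)) = ψ b
  rw [map_sub, hχ₀', Ideal.Quotient.eq_zero_iff_mem.2 (D b).2, sub_zero]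

/-- composition: `A` formally smooth over `Λ` (discrete) and `B` formally smooth over `A`
(`J`-adic) imply `B` formally smooth over `Λ` (`J`-adic). -/
theorem isAdicFormallySmooth_comp [Algebra.FormallySmooth Λ A]
    (hB : CAlgX.IsAdicFormallySmooth A B J) : CAlgX.IsAdicFormallySmooth Λ B J := by
  intro E _ _ N hN ψ ⟨k, hk⟩
  let g : A →ₐ[Λ] E ⧸ N := ψ.comp (IsScalarTower.toAlgHom Λ A B)
  have hg : ∀ a, g a = ψ (algebraMap A B a) := fun a => rfl
  let g' : A →ₐ[Λ] E := Algebra.FormallySmooth.lift N ⟨2, hN⟩ g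
  have hg' : ∀ a, Ideal.Quotient.mk N (g' a) = g a :=
    Algebra.FormallySmooth.mk_lift N ⟨2, hN⟩ g
  letI algAE : Algebra A E := g'.toRingHom.toAlgebra
  haveI : IsScalarTower Λ A E := IsScalarTower.of_algebraMap_eq fun l => (g'.commutes l).symm
  have halg : ∀ a : A, algebraMap A (E ⧸ N) a = Ideal.Quotient.mk N (g' a) := fun a => rfl
  let ψA : B →ₐ[A] E ⧸ N :=
    { ψ.toRingHom with
      commutes' := fun a => by
        change ψ (algebraMap A B a) = _
        rw [halg, hg', hg] }
  have hψA : ∀ b, ψA b = ψ b := fun b => rfl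
  obtain ⟨χ, hχ⟩ := hB E N hN ψA ⟨k, fun x hx => by rw [hψA]; exact hk x hx⟩
  refine ⟨χ.restrictScalars Λ, ?_⟩
  ext b
  exact AlgHom.congr_fun hχ b

end Groth.Agent.Lib.Helper81.RelJac
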