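import Mathlib
import Groth.Prelude.Def_CAlgX
import Groth.Agent.Lib.Helper62.AdicDerivation
import Groth.Agent.Lib.Helper81.RelJac1
import Groth.Agent.Lib.Helper81.RelJac2
import Groth.Agent.Lib.Helper81.RelJac3
import Groth.Agent.Lib.Helper81.RelJac4

/-!
# Relative Jacobian criterion for adic formal smoothness, part 5 (helper81)

`Λ → A → B`, `J ⊆ B`, `C = B ⧸ J`.
* `exists_leftInverse`: injectivity of `Ω_{A/Λ} ⊗_A C → Ω_{B/Λ} ⊗_B C` and projectivity of
  `Ω_{B/A} ⊗_B C` give a left inverse.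
* `isAdicFormallySmooth_of_leftInverse`: the criterion.
* conversely, `projective_tensor_kaehler`, `injective_lTensor_mapBaseChange`.
-/

set_option autoImplicit false
universe u

open scoped TensorProduct
open KaehlerDifferential

namespace Groth.Agent.Lib.Helper81.RelJac

variable {Λ A B : Type u} [CommRing Λ] [CommRing A] [CommRing B] [Algebra Λ A] [Algebra A B]
  [Algebra Λ B] [IsScalarTower Λ A B] {J : Ideal B}

/-- split injectivity from injectivity and projectivity of the cokernel -/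
theorem exists_leftInverse
    (hγ : Function.Injective ((mapBaseChange Λ A B).lTensor (B ⧸ J)))
    (hδ : Module.Projective (B ⧸ J) ((B ⧸ J) ⊗[B] Ω[B⁄A])) :
    ∃ r : (B ⧸ J) ⊗[B] Ω[B⁄Λ] →ₗ[B] (B ⧸ J) ⊗[B] (B ⊗[A] Ω[A⁄Λ]),
      ∀ x, r ((mapBaseChange Λ A B).lTensor (B ⧸ J) x) = x := by
  have hex : Function.Exact ((mapBaseChange Λ A B).lTensor (B ⧸ J))
      ((KaehlerDifferential.map Λ A B B).lTensor (B ⧸ J)) :=
    lTensor_exact (B ⧸ J) (exact_mapBaseChange_map Λ A B) (map_surjective Λ A B)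
  have hsurj : Function.Surjective ((KaehlerDifferential.map Λ A B B).baseChange (B ⧸ J)) :=
    LinearMap.lTensor_surjective (B ⧸ J) (map_surjective Λ A B)
  obtain ⟨s, hs⟩ := Module.projective_lifting_property
    ((KaehlerDifferential.map Λ A B B).baseChange (B ⧸ J)) LinearMap.id hsurj
  have hl : (KaehlerDifferential.map Λ A B B).lTensor (B ⧸ J) ∘ₗ s.restrictScalars B =
      LinearMap.id := LinearMap.ext fun x => LinearMap.congr_fun hs x
  have h01 : (Function.Injective ((mapBaseChange Λ A B).lTensor (B ⧸ J)) ∧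
      ∃ l, (KaehlerDifferential.map Λ A B B).lTensor (B ⧸ J) ∘ₗ l = LinearMap.id) →
      (Function.Surjective ((KaehlerDifferential.map Λ A B B).lTensor (B ⧸ J)) ∧
      ∃ l, l ∘ₗ (mapBaseChange Λ A B).lTensor (B ⧸ J) = LinearMap.id) :=
    (hex.split_tfae'.out 0 1).1
  obtain ⟨-, r, hr⟩ := h01 ⟨hγ, s.restrictScalars B, hl⟩
  exact ⟨r, fun x => LinearMap.congr_fun hr x⟩

/-- **Relative Jacobian criterion** (EGA 0_IV 20.7.8-type, discrete base): if `B` is formally
smooth over `Λ` for the `J`-adic topology and `Ω_{A/Λ} ⊗_A C → Ω_{B/Λ} ⊗_B C` has a left inverse,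
then `B` is formally smooth over `A` for the `J`-adic topology. -/
theorem isAdicFormallySmooth_of_leftInverse (hΛ : CAlgX.IsAdicFormallySmooth Λ B J)
    (r : (B ⧸ J) ⊗[B] Ω[B⁄Λ] →ₗ[B] (B ⧸ J) ⊗[B] (B ⊗[A] Ω[A⁄Λ]))
    (hr : ∀ x, r ((mapBaseChange Λ A B).lTensor (B ⧸ J) x) = x) :
    CAlgX.IsAdicFormallySmooth A B J :=
  isAdicFormallySmooth_of_extProp hΛ (extProp_all hΛ (extProp_one_of_leftInverse J r hr))

end Groth.Agent.Lib.Helper81.RelJac
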