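import Mathlib
import Groth.Prelude.Def_PP16
import Groth.Prelude.Def_CAlgX
import Groth.Agent.Lib.Helper81.SymPow
import Groth.Agent.Lib.Helper81.SymPowInd
import Groth.Agent.Lib.Helper81.SymGr

/-!
# Formal smoothness and the graded ring, converse (helper81)

EGA 0_IV 19.5.4 (b) ⇒ (a): if `B ⧸ 𝔍` is formally smooth over `A`, `𝔍/𝔍²` is projective and
`Sym(𝔍/𝔍²) → gr_𝔍 B` is bijective, then `B` is formally smooth over `A` for the `𝔍`-adic
topology. Part 1: the symmetric algebra lifts, and maps to `B ⧸ 𝔍^m`.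
-/

set_option autoImplicit false
universe u

open scoped TensorProduct

namespace Groth.Agent.Lib.Helper81.SymGrConv

open Groth.Agent.Lib.Helper81.SymPow Groth.Agent.Lib.Helper81.SymGr

section LiftX

variable {A C : Type u} [CommRing A] [CommRing C] [Algebra A C] {P : Type u} [AddCommGroup P]
  [Module C P] {X : Type u} [CommRing X] [Algebra C X] [Algebra A X] [IsScalarTower A C X]
  {ιX : P →ₗ[C] X}

/-- The symmetric algebra of a projective module over a formally smooth algebra lifts along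
nilpotent surjections. -/
theorem exists_lift_symm (hX : IsSymmetricAlgebra ιX) [Algebra.FormallySmooth A C]
    [Module.Projective C P] {E E' : Type u} [CommRing E] [CommRing E'] [Algebra A E] [Algebra A E']
    (g : E →ₐ[A] E') (hg : Function.Surjective g)
    (hker : IsNilpotent (RingHom.ker (g : E →+* E'))) (u : X →ₐ[A] E') :
    ∃ ũ : X →ₐ[A] E, g.comp ũ = u := by
  let s : C →ₐ[A] E :=
    Algebra.FormallySmooth.liftOfSurjective (u.comp (IsScalarTower.toAlgHom A C X)) g hg hker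
  have hs : ∀ c, g (s c) = u (algebraMap C X c) := fun c =>
    Algebra.FormallySmooth.liftOfSurjective_apply _ g hg hker c
  letI algE : Algebra C E := s.toRingHom.toAlgebra
  letI algE' : Algebra C E' := (g.comp s).toRingHom.toAlgebra
  haveI : IsScalarTower A C E := IsScalarTower.of_algebraMap_eq (fun a => (s.commutes a).symm)
  let gC : E →ₐ[C] E' := { g with commutes' := fun c => rfl }
  let uC : X →ₐ[C] E' := { u with commutes' := fun c => (hs c).symm }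
  have hgC : Function.Surjective gC.toLinearMap := hg
  obtain ⟨l, hl⟩ := Module.projective_lifting_property gC.toLinearMap (uC.toLinearMap ∘ₗ ιX) hgC
  have hcomp : gC.comp (hX.lift l) = uC := by
    apply hX.algHom_ext
    ext p
    have := LinearMap.congr_fun hl p
    simpa using this
  refine ⟨(hX.lift l).restrictScalars A, ?_⟩
  ext z
  exact AlgHom.congr_fun hcomp z

end LiftX

section W

variable {A B : Type u} [CommRing A] [CommRing B] [Algebra A B] (𝔍 : Ideal B)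
  {X : Type u} [CommRing X] [Algebra (B ⧸ 𝔍) X] [Algebra A X] [IsScalarTower A (B ⧸ 𝔍) X]
  {ιX : 𝔍.Cotangent →ₗ[B ⧸ 𝔍] X}

theorem pow_le_self' {m : ℕ} (hm : 2 ≤ m) : 𝔍 ^ m ≤ 𝔍 := Ideal.pow_le_self (by omega)

/-- the symmetric algebra maps to `B ⧸ 𝔍^m`, compatibly with `B ⧸ 𝔍` and `𝔍/𝔍²` -/
theorem exists_w (hX : IsSymmetricAlgebra ιX) [Algebra.FormallySmooth A (B ⧸ 𝔍)]
    [Module.Projective (B ⧸ 𝔍) 𝔍.Cotangent] (m : ℕ) (hm : 2 ≤ m) :
    ∃ w : X →ₐ[A] B ⧸ 𝔍 ^ m,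
      (∀ c : B ⧸ 𝔍, Ideal.Quotient.factor (pow_le_self' 𝔍 hm)
        (w (algebraMap (B ⧸ 𝔍) X c)) = c) ∧
      (∀ x : ↥𝔍, w (ιX (𝔍.toCotangent x)) - Ideal.Quotient.mk (𝔍 ^ m) x ∈
        (𝔍 ^ 2).map (Ideal.Quotient.mk (𝔍 ^ m))) := by
  have hle : 𝔍 ^ m ≤ 𝔍 := pow_le_self' 𝔍 hm
  have hle2 : 𝔍 ^ m ≤ 𝔍 ^ 2 := Ideal.pow_le_pow_right hm
  have hle21 : 𝔍 ^ 2 ≤ 𝔍 := Ideal.pow_le_self two_ne_zero
  -- the projections
  let fm : B ⧸ 𝔍 ^ m →ₐ[A] B ⧸ 𝔍 := Ideal.Quotient.factorₐ A hle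
  let f2 : B ⧸ 𝔍 ^ m →ₐ[A] B ⧸ 𝔍 ^ 2 := Ideal.Quotient.factorₐ A hle2
  have hfm : ∀ b : B, fm (Ideal.Quotient.mk _ b) = Ideal.Quotient.mk _ b := fun b => rfl
  have hf2 : ∀ b : B, f2 (Ideal.Quotient.mk _ b) = Ideal.Quotient.mk _ b := fun b => rfl
  have hfmsurj : Function.Surjective fm := Ideal.Quotient.factor_surjective hle
  have hf2surj : Function.Surjective f2 := Ideal.Quotient.factor_surjective hle2
  have hfmker : RingHom.ker (fm : B ⧸ 𝔍 ^ m →+* B ⧸ 𝔍) ≤ 𝔍.map (Ideal.Quotient.mk (𝔍 ^ m)) := by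
    intro y hy
    obtain ⟨b, rfl⟩ := Ideal.Quotient.mk_surjective y
    rw [RingHom.mem_ker] at hy
    change fm (Ideal.Quotient.mk _ b) = 0 at hy
    rw [hfm, Ideal.Quotient.eq_zero_iff_mem] at hy
    exact Ideal.mem_map_of_mem _ hy
  have hfmnil : IsNilpotent (RingHom.ker (fm : B ⧸ 𝔍 ^ m →+* B ⧸ 𝔍)) := by
    refine ⟨m, ?_⟩
    rw [Ideal.zero_eq_bot, eq_bot_iff]
    refine (Ideal.pow_right_mono hfmker m).trans ?_
    rw [← Ideal.map_pow, Ideal.map_quotient_self]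
  -- the section
  let σ : B ⧸ 𝔍 →ₐ[A] B ⧸ 𝔍 ^ m :=
    Algebra.FormallySmooth.liftOfSurjective (AlgHom.id A _) fm hfmsurj hfmnil
  have hσ : ∀ c, fm (σ c) = c := fun c =>
    Algebra.FormallySmooth.liftOfSurjective_apply _ fm hfmsurj hfmnil c
  letI algm : Algebra (B ⧸ 𝔍) (B ⧸ 𝔍 ^ m) := σ.toRingHom.toAlgebra
  letI alg2 : Algebra (B ⧸ 𝔍) (B ⧸ 𝔍 ^ 2) := (f2.comp σ).toRingHom.toAlgebra
  haveI : IsScalarTower A (B ⧸ 𝔍) (B ⧸ 𝔍 ^ m) :=
    IsScalarTower.of_algebraMap_eq (fun a => (σ.commutes a).symm)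
  have halgm : ∀ c : B ⧸ 𝔍, algebraMap (B ⧸ 𝔍) (B ⧸ 𝔍 ^ m) c = σ c := fun c => rfl
  have halg2 : ∀ c : B ⧸ 𝔍, algebraMap (B ⧸ 𝔍) (B ⧸ 𝔍 ^ 2) c = f2 (σ c) := fun c => rfl
  let fC : (B ⧸ 𝔍 ^ m) →ₗ[B ⧸ 𝔍] (B ⧸ 𝔍 ^ 2) :=
    { toFun := f2
      map_add' := map_add f2
      map_smul' := fun c y => by
        rw [Algebra.smul_def, Algebra.smul_def, map_mul, halgm, halg2, RingHom.id_apply] }
  have hfC : Function.Surjective fC := hf2surj
  -- the inclusion of the cotangent module is linear for the new structure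
  have hsq : ∀ y y' : B ⧸ 𝔍 ^ 2, y ∈ 𝔍.cotangentIdeal → y' ∈ 𝔍.cotangentIdeal → y * y' = 0 := by
    intro y y' hy hy'
    have : y * y' ∈ 𝔍.cotangentIdeal * 𝔍.cotangentIdeal := Ideal.mul_mem_mul hy hy'
    rw [← pow_two 𝔍.cotangentIdeal, 𝔍.cotangentIdeal_square] at this
    exact this
  have hc2qmem : ∀ p : 𝔍.Cotangent, 𝔍.cotangentToQuotientSquare p ∈ 𝔍.cotangentIdeal := by
    intro p
    obtain ⟨x, rfl⟩ := 𝔍.toCotangent_surjective p
    rw [Ideal.toCotangent_to_quotient_square]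
    exact Ideal.mk_mem_cotangentIdeal.2 x.2
  have hdiff : ∀ b : B, f2 (σ (Ideal.Quotient.mk 𝔍 b)) - Ideal.Quotient.mk (𝔍 ^ 2) b ∈
      𝔍.cotangentIdeal := by
    intro b
    obtain ⟨q, hq⟩ := Ideal.Quotient.mk_surjective (σ (Ideal.Quotient.mk 𝔍 b))
    have h1 := hσ (Ideal.Quotient.mk 𝔍 b)
    rw [← hq, hfm, Ideal.Quotient.eq] at h1
    rw [← hq, hf2, ← map_sub]
    exact Ideal.mk_mem_cotangentIdeal.2 h1
  let gC : 𝔍.Cotangent →ₗ[B ⧸ 𝔍] (B ⧸ 𝔍 ^ 2) :=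
    { toFun := 𝔍.cotangentToQuotientSquare
      map_add' := map_add _
      map_smul' := fun c p => by
        obtain ⟨b, rfl⟩ := Ideal.Quotient.mk_surjective c
        have h1 : (Ideal.Quotient.mk 𝔍 b) • p = b • p := by
          rw [← Ideal.Quotient.algebraMap_eq, algebraMap_smul]
        rw [h1, map_smul, RingHom.id_apply, Algebra.smul_def (Ideal.Quotient.mk 𝔍 b), halg2,
          Algebra.smul_def]
        have h2 := hsq _ _ (hdiff b) (hc2qmem p)
        have h3 : algebraMap B (B ⧸ 𝔍 ^ 2) b = Ideal.Quotient.mk (𝔍 ^ 2) b := rfl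
        rw [h3]
        linear_combination -h2 }
  obtain ⟨l, hl⟩ := Module.projective_lifting_property fC gC hfC
  have hl' : ∀ p, f2 (l p) = 𝔍.cotangentToQuotientSquare p := fun p => LinearMap.congr_fun hl p
  refine ⟨(hX.lift l).restrictScalars A, fun c => ?_, fun x => ?_⟩
  · change fm (hX.lift l (algebraMap (B ⧸ 𝔍) X c)) = c
    rw [AlgHom.commutes, halgm, hσ]
  · change hX.lift l (ιX (𝔍.toCotangent x)) - _ ∈ _
    rw [hX.lift_eq]
    obtain ⟨q, hq⟩ := Ideal.Quotient.mk_surjective (l (𝔍.toCotangent x))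
    have h1 := hl' (𝔍.toCotangent x)
    rw [← hq, hf2, Ideal.toCotangent_to_quotient_square] at h1
    change Ideal.Quotient.mk (𝔍 ^ 2) q = Ideal.Quotient.mk (𝔍 ^ 2) (x : B) at h1
    rw [Ideal.Quotient.eq] at h1
    rw [← hq, ← map_sub]
    exact Ideal.mem_map_of_mem _ h1

end W

end Groth.Agent.Lib.Helper81.SymGrConv
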