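import Mathlib
import Groth.Prelude.Def_PP16
import Groth.Prelude.Def_CAlgX
import Groth.Agent.Lib.Helper81.SymPow
import Groth.Agent.Lib.Helper81.SymPowInd
import Groth.Agent.Lib.Helper81.SymGr

/-!
# Formal smoothness and the graded ring, converse, part 2 (helper81)

Structure of the powers of the augmentation ideal of a symmetric algebra, and comparison of a map
`w : X → B ⧸ 𝔍^m` on graded pieces.
-/

set_option autoImplicit false
universe u

open scoped TensorProduct Pointwise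

namespace Groth.Agent.Lib.Helper81.SymGrConv

open Groth.Agent.Lib.Helper81.SymPow Groth.Agent.Lib.Helper81.SymGr

section Struct

variable {B : Type u} [CommRing B] (𝔍 : Ideal B)
  {X : Type u} [CommRing X] [Algebra (B ⧸ 𝔍) X] [Algebra B X] [IsScalarTower B (B ⧸ 𝔍) X]
  (ιX : 𝔍.Cotangent →ₗ[B ⧸ 𝔍] X)

/-- the augmentation ideal -/
def augIdeal : Ideal X := Ideal.span (Set.range ιX)

theorem ιX_mem_augIdeal (p : 𝔍.Cotangent) : ιX p ∈ augIdeal 𝔍 ιX := Ideal.subset_span ⟨p, rfl⟩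

/-- the product map `Sym^ι(P) → X` -/
noncomputable def tau (ι : Type u) [Fintype ι] : Sym[B] ι 𝔍.Cotangent →ₗ[B] X :=
  SymPow.lift ((MultilinearMap.mkPiAlgebra B ι X).compLinearMap
    (fun _ => ιX.restrictScalars B)) (fun e f => by
      simp only [MultilinearMap.compLinearMap_apply, MultilinearMap.mkPiAlgebra_apply,
        LinearMap.restrictScalars_apply]
      exact Equiv.prod_comp e (fun i => ιX (f i)))

theorem tau_tprod (ι : Type u) [Fintype ι] (p : ι → 𝔍.Cotangent) :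
    tau 𝔍 ιX ι (SymmetricPower.tprod B p) = ∏ i, ιX (p i) := by
  rw [tau, SymPow.lift_tprod]
  simp only [MultilinearMap.compLinearMap_apply, MultilinearMap.mkPiAlgebra_apply,
    LinearMap.restrictScalars_apply]

theorem tau_mem (ι : Type u) [Fintype ι] [Nonempty ι] (t : Sym[B] ι 𝔍.Cotangent) :
    tau 𝔍 ιX ι t ∈ augIdeal 𝔍 ιX ^ Fintype.card ι := by
  induction t using SymPow.induction_add with
  | tprod p =>
    rw [tau_tprod]
    simpa using prod_mem_pow_card (augIdeal 𝔍 ιX) Finset.univ (fun i => ιX (p i))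
      (fun i _ => ιX_mem_augIdeal 𝔍 ιX (p i))
  | zero => rw [map_zero]; exact zero_mem _
  | add a b ha hb => rw [map_add]; exact add_mem ha hb

variable {ιX}

theorem exists_sub_algebraMap_mem (hX : IsSymmetricAlgebra ιX) (z : X) :
    ∃ c : B ⧸ 𝔍, z - algebraMap (B ⧸ 𝔍) X c ∈ augIdeal 𝔍 ιX := by
  induction z using hX.induction with
  | algebraMap r => exact ⟨r, by rw [sub_self]; exact zero_mem _⟩
  | ι p => exact ⟨0, by rw [map_zero, sub_zero]; exact ιX_mem_augIdeal 𝔍 ιX p⟩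
  | mul a b ha hb =>
    obtain ⟨ca, hca⟩ := ha
    obtain ⟨cb, hcb⟩ := hb
    refine ⟨ca * cb, ?_⟩
    have : a * b - algebraMap (B ⧸ 𝔍) X (ca * cb) =
        (a - algebraMap (B ⧸ 𝔍) X ca) * b + algebraMap (B ⧸ 𝔍) X ca *
          (b - algebraMap (B ⧸ 𝔍) X cb) := by
      rw [map_mul]; ring
    rw [this]
    exact add_mem (Ideal.mul_mem_right _ _ hca) (Ideal.mul_mem_left _ _ hcb)
  | add a b ha hb =>
    obtain ⟨ca, hca⟩ := ha
    obtain ⟨cb, hcb⟩ := hb
    refine ⟨ca + cb, ?_⟩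
    have : a + b - algebraMap (B ⧸ 𝔍) X (ca + cb) =
        (a - algebraMap (B ⧸ 𝔍) X ca) + (b - algebraMap (B ⧸ 𝔍) X cb) := by
      rw [map_add]; ring
    rw [this]
    exact add_mem hca hcb

/-- `I^n = τ(Sym^n P) + I^(n+1)` -/
theorem exists_tau_sub_mem (hX : IsSymmetricAlgebra ιX) (ι : Type u) [Fintype ι] [Nonempty ι]
    (z : X) (hz : z ∈ augIdeal 𝔍 ιX ^ Fintype.card ι) :
    ∃ t : Sym[B] ι 𝔍.Cotangent, z - tau 𝔍 ιX ι t ∈ augIdeal 𝔍 ιX ^ (Fintype.card ι + 1) := by
  classical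
  have hz' : z ∈ Submodule.span X ((Set.range ιX) ^ Fintype.card ι) := by
    rw [← Submodule.span_pow]
    exact hz
  induction hz' using Submodule.span_induction with
  | mem y hy =>
    obtain ⟨f, hf⟩ := Set.mem_pow.1 hy
    rw [List.prod_ofFn] at hf
    choose p hp using fun i => (f i).2
    let e : ι ≃ Fin (Fintype.card ι) := Fintype.equivFin ι
    refine ⟨SymmetricPower.tprod B (fun k => p (e k)), ?_⟩
    rw [tau_tprod]
    have : (∏ k, ιX (p (e k))) = y := by
      rw [← hf]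
      rw [Equiv.prod_comp e (fun i => ιX (p i))]
      exact Finset.prod_congr rfl fun i _ => hp i
    rw [this, sub_self]
    exact zero_mem _
  | zero => exact ⟨0, by rw [map_zero, sub_zero]; exact zero_mem _⟩
  | add a b ha hb iha ihb =>
    have ha' : a ∈ augIdeal 𝔍 ιX ^ Fintype.card ι := by
      change a ∈ (Submodule.span X (Set.range ιX)) ^ _
      rw [Submodule.span_pow]; exact ha
    have hb' : b ∈ augIdeal 𝔍 ιX ^ Fintype.card ι := by
      change b ∈ (Submodule.span X (Set.range ιX)) ^ _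
      rw [Submodule.span_pow]; exact hb
    obtain ⟨ta, hta⟩ := iha ha'
    obtain ⟨tb, htb⟩ := ihb hb'
    refine ⟨ta + tb, ?_⟩
    have : a + b - tau 𝔍 ιX ι (ta + tb) = (a - tau 𝔍 ιX ι ta) + (b - tau 𝔍 ιX ι tb) := by
      rw [map_add]; ring
    rw [this]
    exact add_mem hta htb
  | smul r a ha iha =>
    have ha' : a ∈ augIdeal 𝔍 ιX ^ Fintype.card ι := by
      change a ∈ (Submodule.span X (Set.range ιX)) ^ _
      rw [Submodule.span_pow]; exact ha
    obtain ⟨ta, hta⟩ := iha ha'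
    obtain ⟨c, hc⟩ := exists_sub_algebraMap_mem 𝔍 hX r
    obtain ⟨b, rfl⟩ := Ideal.Quotient.mk_surjective c
    refine ⟨b • ta, ?_⟩
    have h1 : tau 𝔍 ιX ι (b • ta) = algebraMap (B ⧸ 𝔍) X (Ideal.Quotient.mk 𝔍 b) *
        tau 𝔍 ιX ι ta := by
      rw [map_smul, Algebra.smul_def, IsScalarTower.algebraMap_apply B (B ⧸ 𝔍) X]
      rfl
    have h2 : r • a - tau 𝔍 ιX ι (b • ta) =
        algebraMap (B ⧸ 𝔍) X (Ideal.Quotient.mk 𝔍 b) * (a - tau 𝔍 ιX ι ta) +
          (r - algebraMap (B ⧸ 𝔍) X (Ideal.Quotient.mk 𝔍 b)) * a := by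
      rw [h1, smul_eq_mul]; ring
    rw [h2]
    refine add_mem (Ideal.mul_mem_left _ _ hta) ?_
    rw [pow_succ']
    exact Ideal.mul_mem_mul hc ha'

end Struct

end Groth.Agent.Lib.Helper81.SymGrConv
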