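import Mathlib
import Groth.Prelude.Def_PP16
import Groth.Prelude.Def_CAlgX
import Groth.Agent.Lib.Helper81.SymPow
import Groth.Agent.Lib.Helper81.SymPowInd
import Groth.Agent.Lib.Helper81.SymGr
import Groth.Agent.Lib.Helper81.SymGrConv2

/-!
# Formal smoothness and the graded ring, converse, part 3 (helper81)

A map `w : Sym(P) → B ⧸ 𝔍^m` compatible with `B ⧸ 𝔍` and `𝔍/𝔍²` is surjective with kernel
contained in `I^m` when `Sym(𝔍/𝔍²) → gr_𝔍 B` is injective.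
-/

set_option autoImplicit false
universe u

open scoped TensorProduct Pointwise

namespace Groth.Agent.Lib.Helper81.SymGrConv

open Groth.Agent.Lib.Helper81.SymPow Groth.Agent.Lib.Helper81.SymGr

section Compare

variable {B : Type u} [CommRing B] (𝔍 : Ideal B)
  {X : Type u} [CommRing X] [Algebra (B ⧸ 𝔍) X] [Algebra B X] [IsScalarTower B (B ⧸ 𝔍) X]
  {ιX : 𝔍.Cotangent →ₗ[B ⧸ 𝔍] X} {m : ℕ} (w : X →+* B ⧸ 𝔍 ^ m)
  (h2 : ∀ x : ↥𝔍, w (ιX (𝔍.toCotangent x)) - Ideal.Quotient.mk (𝔍 ^ m) x ∈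
    (𝔍 ^ 2).map (Ideal.Quotient.mk (𝔍 ^ m)))

include h2

theorem w_ιX_mem (p : 𝔍.Cotangent) : w (ιX p) ∈ 𝔍.map (Ideal.Quotient.mk (𝔍 ^ m)) := by
  obtain ⟨x, rfl⟩ := 𝔍.toCotangent_surjective p
  have h := h2 x
  have h3 : (𝔍 ^ 2).map (Ideal.Quotient.mk (𝔍 ^ m)) ≤ 𝔍.map (Ideal.Quotient.mk (𝔍 ^ m)) :=
    Ideal.map_mono (Ideal.pow_le_self two_ne_zero)
  have h4 : Ideal.Quotient.mk (𝔍 ^ m) (x : B) ∈ 𝔍.map (Ideal.Quotient.mk (𝔍 ^ m)) :=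
    Ideal.mem_map_of_mem _ x.2
  have := add_mem (h3 h) h4
  rwa [sub_add_cancel] at this

theorem w_aug_pow_mem (i : ℕ) (z : X) (hz : z ∈ augIdeal 𝔍 ιX ^ i) :
    w z ∈ (𝔍 ^ i).map (Ideal.Quotient.mk (𝔍 ^ m)) := by
  have h1 : augIdeal 𝔍 ιX ≤ (𝔍.map (Ideal.Quotient.mk (𝔍 ^ m))).comap w := by
    unfold augIdeal
    rw [Ideal.span_le]
    rintro _ ⟨p, rfl⟩
    exact w_ιX_mem 𝔍 w h2 p
  have h3 := Ideal.le_comap_pow w i (Ideal.pow_right_mono h1 i hz)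
  rw [Ideal.mem_comap, ← Ideal.map_pow] at h3
  exact h3

/-- comparison of `w ∘ τ` with the canonical map on representatives -/
theorem exists_rep (ι : Type u) [Fintype ι] [Nonempty ι] (t : Sym[B] ι 𝔍.Cotangent) :
    ∃ (y : B) (hy : y ∈ 𝔍 ^ Fintype.card ι),
      canon 𝔍 ι t = Submodule.Quotient.mk ⟨y, hy⟩ ∧
        w (tau 𝔍 ιX ι t) - Ideal.Quotient.mk (𝔍 ^ m) y ∈
          (𝔍 ^ (Fintype.card ι + 1)).map (Ideal.Quotient.mk (𝔍 ^ m)) := by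
  induction t using SymPow.induction_add with
  | tprod p =>
    have hp : p = fun i => 𝔍.toCotangent (sec 𝔍 (p i)) := by
      funext i
      rw [toCotangent_sec]
    refine ⟨∏ i, ((sec 𝔍 (p i) : ↥𝔍) : B), ?_, ?_, ?_⟩
    · simpa using prod_mem_pow_card 𝔍 Finset.univ (fun i => ((sec 𝔍 (p i) : ↥𝔍) : B))
        (fun i _ => (sec 𝔍 (p i)).2)
    · conv_lhs => rw [hp]
      rw [canon_tprod]
      rfl
    · rw [tau_tprod, map_prod, map_prod]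
      have h := prod_sub_prod_mem (𝔍.map (Ideal.Quotient.mk (𝔍 ^ m))) Finset.univ
        (fun i => w (ιX (p i))) (fun i => Ideal.Quotient.mk (𝔍 ^ m) ((sec 𝔍 (p i) : ↥𝔍) : B))
        (fun i _ => w_ιX_mem 𝔍 w h2 (p i))
        (fun i _ => Ideal.mem_map_of_mem _ (sec 𝔍 (p i)).2)
        (fun i _ => by
          have := h2 (sec 𝔍 (p i))
          rw [toCotangent_sec] at this
          rw [← Ideal.map_pow]
          exact this)
      rw [Finset.card_univ, ← Ideal.map_pow] at h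
      exact h
  | zero =>
    refine ⟨0, zero_mem _, ?_, ?_⟩
    · rw [map_zero]
      rfl
    · rw [map_zero, map_zero, map_zero, sub_zero]
      exact zero_mem _
  | add a b ha hb =>
    obtain ⟨ya, hya, h1a, h2a⟩ := ha
    obtain ⟨yb, hyb, h1b, h2b⟩ := hb
    refine ⟨ya + yb, add_mem hya hyb, ?_, ?_⟩
    · rw [map_add, h1a, h1b]
      rfl
    · have : w (tau 𝔍 ιX ι (a + b)) - Ideal.Quotient.mk (𝔍 ^ m) (ya + yb) =
          (w (tau 𝔍 ιX ι a) - Ideal.Quotient.mk (𝔍 ^ m) ya) +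
            (w (tau 𝔍 ιX ι b) - Ideal.Quotient.mk (𝔍 ^ m) yb) := by
        rw [map_add, map_add, map_add]; ring
      rw [this]
      exact add_mem h2a h2b

omit h2 in
theorem mk_mem_map_pow {i : ℕ} (hi : i ≤ m) {y : B}
    (hy : Ideal.Quotient.mk (𝔍 ^ m) y ∈ (𝔍 ^ i).map (Ideal.Quotient.mk (𝔍 ^ m))) : y ∈ 𝔍 ^ i := by
  obtain ⟨y', hy', hyy'⟩ := (Ideal.mem_map_iff_of_surjective _ Ideal.Quotient.mk_surjective).1 hy
  have h1 : y' - y ∈ 𝔍 ^ m := Ideal.Quotient.eq.1 hyy'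
  have h2' : y' - y ∈ 𝔍 ^ i := Ideal.pow_le_pow_right hi h1
  have : y = y' - (y' - y) := by ring
  rw [this]
  exact sub_mem hy' h2'

theorem canon_eq_zero_of_mem (ι : Type u) [Fintype ι] [Nonempty ι] (hι : Fintype.card ι + 1 ≤ m)
    (t : Sym[B] ι 𝔍.Cotangent)
    (ht : w (tau 𝔍 ιX ι t) ∈ (𝔍 ^ (Fintype.card ι + 1)).map (Ideal.Quotient.mk (𝔍 ^ m))) :
    canon 𝔍 ι t = 0 := by
  obtain ⟨y, hy, h1, h3⟩ := exists_rep 𝔍 w h2 ι t
  have h4 : Ideal.Quotient.mk (𝔍 ^ m) y ∈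
      (𝔍 ^ (Fintype.card ι + 1)).map (Ideal.Quotient.mk (𝔍 ^ m)) := by
    have := sub_mem ht h3
    rwa [sub_sub_cancel] at this
  have h5 : y ∈ 𝔍 ^ (Fintype.card ι + 1) := mk_mem_map_pow 𝔍 hι h4
  rw [h1, Submodule.Quotient.mk_eq_zero]
  exact h5

theorem exists_tau_approx (ι : Type u) [Fintype ι] [Nonempty ι] (y : B)
    (hy : y ∈ 𝔍 ^ Fintype.card ι) :
    ∃ t : Sym[B] ι 𝔍.Cotangent, Ideal.Quotient.mk (𝔍 ^ m) y - w (tau 𝔍 ιX ι t) ∈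
      (𝔍 ^ (Fintype.card ι + 1)).map (Ideal.Quotient.mk (𝔍 ^ m)) := by
  obtain ⟨t, ht⟩ := canon_surjective 𝔍 ι (Submodule.Quotient.mk ⟨y, hy⟩)
  obtain ⟨y', hy', h1, h3⟩ := exists_rep 𝔍 w h2 ι t
  refine ⟨t, ?_⟩
  rw [h1] at ht
  have h4 : y' - y ∈ 𝔍 ^ (Fintype.card ι + 1) := by
    have := (Submodule.Quotient.eq _).1 ht
    exact this
  have : Ideal.Quotient.mk (𝔍 ^ m) y - w (tau 𝔍 ιX ι t) =
      -(w (tau 𝔍 ιX ι t) - Ideal.Quotient.mk (𝔍 ^ m) y') -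
        Ideal.Quotient.mk (𝔍 ^ m) (y' - y) := by
    rw [map_sub]; ring
  rw [this]
  exact sub_mem (neg_mem h3) (Ideal.mem_map_of_mem _ h4)

end Compare

end Groth.Agent.Lib.Helper81.SymGrConv
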