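import Mathlib
import Groth.Prelude.Def_PP16
import Groth.Prelude.Def_CAlgX
import Groth.Agent.Lib.Helper81.SymPow
import Groth.Agent.Lib.Helper81.SymPowInd
import Groth.Agent.Lib.Helper81.SymGr
import Groth.Agent.Lib.Helper81.SymGrConv
import Groth.Agent.Lib.Helper81.SymGrConv2
import Groth.Agent.Lib.Helper81.SymGrConv3

/-!
# Formal smoothness and the graded ring, converse, part 4 (helper81)

EGA 0_IV 19.5.4 (b) ⇒ (a).
-/

set_option autoImplicit false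
universe u

open scoped TensorProduct Pointwise

namespace Groth.Agent.Lib.Helper81.SymGrConv

open Groth.Agent.Lib.Helper81.SymPow Groth.Agent.Lib.Helper81.SymGr

section KerSurj

variable {B : Type u} [CommRing B] (𝔍 : Ideal B)
  {X : Type u} [CommRing X] [Algebra (B ⧸ 𝔍) X] [Algebra B X] [IsScalarTower B (B ⧸ 𝔍) X]
  {ιX : 𝔍.Cotangent →ₗ[B ⧸ 𝔍] X} (hX : IsSymmetricAlgebra ιX) {m : ℕ} (w : X →+* B ⧸ 𝔍 ^ m)
  (fm : B ⧸ 𝔍 ^ m →+* B ⧸ 𝔍)
  (hfm : ∀ b : B, fm (Ideal.Quotient.mk _ b) = Ideal.Quotient.mk _ b)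
  (h1 : ∀ c : B ⧸ 𝔍, fm (w (algebraMap (B ⧸ 𝔍) X c)) = c)
  (h2 : ∀ x : ↥𝔍, w (ιX (𝔍.toCotangent x)) - Ideal.Quotient.mk (𝔍 ^ m) x ∈
    (𝔍 ^ 2).map (Ideal.Quotient.mk (𝔍 ^ m)))

include hfm in
theorem fm_eq_zero_of_mem (y : B ⧸ 𝔍 ^ m) (hy : y ∈ 𝔍.map (Ideal.Quotient.mk (𝔍 ^ m))) :
    fm y = 0 := by
  obtain ⟨b, hb, rfl⟩ := (Ideal.mem_map_iff_of_surjective _ Ideal.Quotient.mk_surjective).1 hy
  rw [hfm, Ideal.Quotient.eq_zero_iff_mem]
  exact hb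

include hX hfm h1 h2 in
theorem mem_aug_pow_of_w_eq_zero
    (hinj : ∀ (ι : Type u) [Fintype ι] [Nonempty ι], Function.Injective (canon 𝔍 ι))
    (z : X) (hz : w z = 0) : ∀ i ≤ m, z ∈ augIdeal 𝔍 ιX ^ i := by
  intro i
  induction i with
  | zero =>
    intro _
    rw [pow_zero, Ideal.one_eq_top]
    trivial
  | succ i ih =>
    intro hi
    have hzi := ih (by omega)
    rcases Nat.eq_zero_or_pos i with rfl | hipos
    · obtain ⟨c, hc⟩ := exists_sub_algebraMap_mem 𝔍 hX z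
      have h3 : w (z - algebraMap (B ⧸ 𝔍) X c) ∈ 𝔍.map (Ideal.Quotient.mk (𝔍 ^ m)) := by
        have := w_aug_pow_mem 𝔍 w h2 1 _ (by rwa [pow_one])
        rwa [pow_one] at this
      have h4 := fm_eq_zero_of_mem 𝔍 fm hfm _ h3
      rw [map_sub, hz, zero_sub, map_neg, h1, neg_eq_zero] at h4
      rw [h4, map_zero, sub_zero] at hc
      rwa [zero_add, pow_one]
    · let ι := ULift.{u} (Fin i)
      haveI : Nonempty ι := ⟨⟨⟨0, hipos⟩⟩⟩
      have hcard : Fintype.card ι = i := by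
        rw [Fintype.card_ulift, Fintype.card_fin]
      have hzi' : z ∈ augIdeal 𝔍 ιX ^ Fintype.card ι := by rw [hcard]; exact hzi
      obtain ⟨t, ht⟩ := exists_tau_sub_mem 𝔍 hX ι z hzi'
      have h3 := w_aug_pow_mem 𝔍 w h2 _ _ ht
      rw [map_sub, hz, zero_sub] at h3
      have h4 : w (tau 𝔍 ιX ι t) ∈
          (𝔍 ^ (Fintype.card ι + 1)).map (Ideal.Quotient.mk (𝔍 ^ m)) := by
        have := neg_mem h3
        rwa [neg_neg] at this
      have h5 := canon_eq_zero_of_mem 𝔍 w h2 ι (by rw [hcard]; exact hi) t h4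
      have h6 : t = 0 := hinj ι (by rw [h5, map_zero])
      rw [h6, map_zero, sub_zero, hcard] at ht
      exact ht

include h2 in
theorem mk_mem_range : ∀ d i : ℕ, i + d = m → 1 ≤ i → ∀ y ∈ 𝔍 ^ i,
    Ideal.Quotient.mk (𝔍 ^ m) y ∈ w.range := by
  intro d
  induction d with
  | zero =>
    intro i hi _ y hy
    have : i = m := by omega
    subst this
    rw [Ideal.Quotient.eq_zero_iff_mem.2 hy]
    exact zero_mem _
  | succ d ih =>
    intro i hi hi1 y hy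
    let ι := ULift.{u} (Fin i)
    haveI : Nonempty ι := ⟨⟨⟨0, hi1⟩⟩⟩
    have hcard : Fintype.card ι = i := by
      rw [Fintype.card_ulift, Fintype.card_fin]
    have hy' : y ∈ 𝔍 ^ Fintype.card ι := by rw [hcard]; exact hy
    obtain ⟨t, ht⟩ := exists_tau_approx 𝔍 w h2 ι y hy'
    obtain ⟨y'', hy'', hyy⟩ :=
      (Ideal.mem_map_iff_of_surjective _ Ideal.Quotient.mk_surjective).1 ht
    rw [hcard] at hy''
    have h3 := ih (i + 1) (by omega) (by omega) y'' hy''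
    have : Ideal.Quotient.mk (𝔍 ^ m) y = w (tau 𝔍 ιX ι t) + Ideal.Quotient.mk (𝔍 ^ m) y'' := by
      rw [hyy]; ring
    rw [this]
    exact add_mem ⟨_, rfl⟩ h3

include hfm h1 h2 in
theorem w_surjective (hm : 1 ≤ m) : Function.Surjective w := by
  intro y
  obtain ⟨b, rfl⟩ := Ideal.Quotient.mk_surjective y
  have h3 : Ideal.Quotient.mk (𝔍 ^ m) b - w (algebraMap (B ⧸ 𝔍) X (Ideal.Quotient.mk 𝔍 b)) ∈
      𝔍.map (Ideal.Quotient.mk (𝔍 ^ m)) := by
    obtain ⟨q, hq⟩ := Ideal.Quotient.mk_surjective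
      (Ideal.Quotient.mk (𝔍 ^ m) b - w (algebraMap (B ⧸ 𝔍) X (Ideal.Quotient.mk 𝔍 b)))
    have : fm (Ideal.Quotient.mk (𝔍 ^ m) q) = 0 := by
      rw [hq, map_sub, hfm, h1, sub_self]
    rw [hfm, Ideal.Quotient.eq_zero_iff_mem] at this
    rw [← hq]
    exact Ideal.mem_map_of_mem _ this
  obtain ⟨y', hy', hyy⟩ :=
    (Ideal.mem_map_iff_of_surjective _ Ideal.Quotient.mk_surjective).1 h3
  have h4 := mk_mem_range 𝔍 w h2 (m - 1) 1 (by omega) le_rfl y' (by rwa [pow_one])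
  have : Ideal.Quotient.mk (𝔍 ^ m) b =
      w (algebraMap (B ⧸ 𝔍) X (Ideal.Quotient.mk 𝔍 b)) + Ideal.Quotient.mk (𝔍 ^ m) y' := by
    rw [hyy]; ring
  rw [← RingHom.mem_range, this]
  exact add_mem ⟨_, rfl⟩ h4

end KerSurj

end Groth.Agent.Lib.Helper81.SymGrConv
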