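import Mathlib
import Groth.Prelude.Def_PP16
import Groth.Prelude.Def_CAlgX
import Groth.Agent.Lib.Helper81.SymPow
import Groth.Agent.Lib.Helper81.SymPowInd
import Groth.Agent.Lib.Helper81.SymGr
import Groth.Agent.Lib.Helper81.SymGrConv
import Groth.Agent.Lib.Helper81.SymGrConv2
import Groth.Agent.Lib.Helper81.SymGrConv3
import Groth.Agent.Lib.Helper81.SymGrConv4

/-!
# Formal smoothness and the graded ring, converse, part 5 (helper81)

EGA 0_IV 19.5.4 (b) ⇒ (a): the final statement.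
-/

set_option autoImplicit false
universe u

open scoped TensorProduct Pointwise

namespace Groth.Agent.Lib.Helper81.SymGrConv

open Groth.Agent.Lib.Helper81.SymPow Groth.Agent.Lib.Helper81.SymGr

section Descend

variable {A : Type u} [CommRing A] {X Q E : Type u} [CommRing X] [CommRing Q] [CommRing E]
  [Algebra A X] [Algebra A Q] [Algebra A E]

/-- descending a lift along a surjection -/
theorem exists_descend (N : Ideal E) (w : X →ₐ[A] Q) (hw : Function.Surjective w)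
    (ψ' : Q →ₐ[A] E ⧸ N) (ũ : X →ₐ[A] E)
    (hũ : (Ideal.Quotient.mkₐ A N).comp ũ = ψ'.comp w)
    (hker : ∀ z, w z = 0 → ũ z = 0) :
    ∃ χ' : Q →ₐ[A] E, (Ideal.Quotient.mkₐ A N).comp χ' = ψ' := by
  have hk : RingHom.ker w.toRingHom ≤ RingHom.ker ũ.toRingHom := by
    intro z hz
    rw [RingHom.mem_ker] at hz ⊢
    exact hker z hz
  refine ⟨AlgHom.liftOfSurjective w hw ũ hk, ?_⟩
  ext y
  obtain ⟨z, rfl⟩ := hw y
  rw [AlgHom.comp_apply, AlgHom.liftOfSurjective_apply]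
  exact AlgHom.congr_fun hũ z

end Descend

section Kill

variable {X E : Type u} [CommRing X] [CommRing E]

/-- a ring map sending `I^k` into a square-zero ideal kills `I^(2k)` -/
theorem eq_zero_of_mem_pow_two_mul (N : Ideal E) (hN : N ^ 2 = ⊥) (ũ : X →+* E) (I : Ideal X)
    (k : ℕ) (h : ∀ z ∈ I ^ k, ũ z ∈ N) (z : X) (hz : z ∈ I ^ (2 * k)) : ũ z = 0 := by
  have h1 : I ^ k ≤ N.comap ũ := fun z hz => Ideal.mem_comap.2 (h z hz)
  have h2 : I ^ (2 * k) ≤ (N ^ 2).comap ũ := by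
    rw [mul_comm, pow_mul]
    exact (Ideal.pow_right_mono h1 2).trans (Ideal.le_comap_pow ũ 2)
  have h3 := h2 hz
  rw [hN, Ideal.mem_comap, Ideal.mem_bot] at h3
  exact h3

end Kill

section Main

variable {A B : Type u} [CommRing A] [CommRing B] [Algebra A B] (𝔍 : Ideal B)

theorem isAdicFormallySmooth_of_symGr_aux {X : Type u} [CommRing X] [Algebra (B ⧸ 𝔍) X]
    [Algebra A X] [IsScalarTower A (B ⧸ 𝔍) X] [Algebra B X] [IsScalarTower B (B ⧸ 𝔍) X]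
    {ιX : 𝔍.Cotangent →ₗ[B ⧸ 𝔍] X} (hX : IsSymmetricAlgebra ιX)
    [Algebra.FormallySmooth A (B ⧸ 𝔍)] [Module.Projective (B ⧸ 𝔍) 𝔍.Cotangent]
    (hinj : ∀ (ι : Type u) [Fintype ι] [Nonempty ι], Function.Injective (canon 𝔍 ι)) :
    CAlgX.IsAdicFormallySmooth A B 𝔍 := by
  intro E _ _ N hN ψ ⟨k, hk⟩
  have hm2 : 2 ≤ 2 * (k + 1) := by omega
  obtain ⟨w, hw1, hw2⟩ := exists_w (A := A) 𝔍 hX (2 * (k + 1)) hm2
  have hwsurj : Function.Surjective w :=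
    w_surjective 𝔍 w.toRingHom (Ideal.Quotient.factor (pow_le_self' 𝔍 hm2)) (fun b => rfl)
      hw1 hw2 (by omega)
  have hψ : ∀ x ∈ 𝔍 ^ (2 * (k + 1)), ψ x = 0 :=
    fun x hx => hk x (Ideal.pow_le_pow_right (by omega) hx)
  let ψ' : B ⧸ 𝔍 ^ (2 * (k + 1)) →ₐ[A] E ⧸ N := Ideal.Quotient.liftₐ _ ψ hψ
  have hψ' : ∀ b, ψ' (Ideal.Quotient.mk _ b) = ψ b := fun b => rfl
  have hnil : IsNilpotent (RingHom.ker (Ideal.Quotient.mkₐ A N).toRingHom) := by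
    refine ⟨2, ?_⟩
    have : RingHom.ker (Ideal.Quotient.mkₐ A N).toRingHom = N := Ideal.mk_ker
    rw [this, hN]; rfl
  obtain ⟨ũ, hũ⟩ := exists_lift_symm hX (Ideal.Quotient.mkₐ A N)
    (Ideal.Quotient.mkₐ_surjective A N) hnil (ψ'.comp w)
  have h3 : ∀ z ∈ augIdeal 𝔍 ιX ^ (k + 1), ũ.toRingHom z ∈ N := by
    intro z hz
    have h4 := w_aug_pow_mem 𝔍 w.toRingHom hw2 (k + 1) z hz
    obtain ⟨y, hy, hyz⟩ := (Ideal.mem_map_iff_of_surjective _ Ideal.Quotient.mk_surjective).1 h4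
    have h5 : Ideal.Quotient.mk N (ũ z) = ψ' (w z) := AlgHom.congr_fun hũ z
    have h6 : w z = Ideal.Quotient.mk _ y := hyz.symm
    change ũ z ∈ N
    rw [← Ideal.Quotient.eq_zero_iff_mem, h5, h6, hψ']
    exact hk y (Ideal.pow_le_pow_right (by omega) hy)
  have hker : ∀ z, w z = 0 → ũ z = 0 := by
    intro z hz
    have h6 := mem_aug_pow_of_w_eq_zero 𝔍 hX w.toRingHom
      (Ideal.Quotient.factor (pow_le_self' 𝔍 hm2)) (fun b => rfl) hw1 hw2 hinj z hz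
      (2 * (k + 1)) le_rfl
    exact eq_zero_of_mem_pow_two_mul N hN ũ.toRingHom (augIdeal 𝔍 ιX) (k + 1) h3 z h6
  obtain ⟨χ', hχ'⟩ := exists_descend N w hwsurj ψ' ũ hũ hker
  refine ⟨χ'.comp (Ideal.Quotient.mkₐ A (𝔍 ^ (2 * (k + 1)))), ?_⟩
  ext b
  exact AlgHom.congr_fun hχ' (Ideal.Quotient.mk _ b)

/-- **EGA 0_IV 19.5.4 (b) ⇒ (a)** -/
theorem isAdicFormallySmooth_of_symGr [Algebra.FormallySmooth A (B ⧸ 𝔍)]
    (hproj : Module.Projective (B ⧸ 𝔍) 𝔍.Cotangent) (hsym : PP16.SymGrBijective B 𝔍) :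
    CAlgX.IsAdicFormallySmooth A B 𝔍 := by
  have hinj := (symGrBijective_iff 𝔍).1 hsym
  haveI := hproj
  letI algAX : Algebra A (SymmetricAlgebra (B ⧸ 𝔍) 𝔍.Cotangent) :=
    ((algebraMap (B ⧸ 𝔍) (SymmetricAlgebra (B ⧸ 𝔍) 𝔍.Cotangent)).comp
      (algebraMap A (B ⧸ 𝔍))).toAlgebra
  haveI : IsScalarTower A (B ⧸ 𝔍) (SymmetricAlgebra (B ⧸ 𝔍) 𝔍.Cotangent) :=
    IsScalarTower.of_algebraMap_eq fun _ => rfl
  exact isAdicFormallySmooth_of_symGr_aux 𝔍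
    (ιX := SymmetricAlgebra.ι (B ⧸ 𝔍) 𝔍.Cotangent) SymmetricAlgebra.isSymmetricAlgebra_ι hinj

end Main

end Groth.Agent.Lib.Helper81.SymGrConv
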