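import Mathlib
import Groth.Prelude.Def_PP16
import Groth.Prelude.Def_CAlgX
import Groth.Agent.Lib.Helper81.GenFibreDer
import Groth.Agent.Lib.Helper81.SymGrSmooth3
import Groth.Agent.Lib.Helper90.SmoothRegular2
import Groth.Agent.Lib.Helper90.CoeffField
import Groth.Agent.S2451
import Groth.Agent.S4616

/-!
# Formal smoothness of the generic formal fibres, characteristic `p` (helper81)

EGA 0_IV 22.3.2 (ii), the case `B = A`.
-/

set_option autoImplicit false
set_option linter.style.haveILetI false
universe u
open IsLocalRing TensorProduct

namespace Groth.Agent.Lib.Helper81.GenFibreSmooth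

open Groth.Agent.Lib.Helper81.DerExtend Groth.Agent.Lib.Helper81.GenFibreDer

section Field

variable {K M : Type*} [Field K] [AddCommGroup M] [Module K M]

/-- two "derivations" of a fraction field agreeing on the ring agree -/
theorem eq_of_eq_on' {A : Type*} [CommRing A] [Algebra A K] [IsFractionRing A K]
    (f g : K → M) (hf : ∀ x y, f (x * y) = x • f y + y • f x)
    (hg : ∀ x y, g (x * y) = x • g y + y • g x)
    (h : ∀ a : A, f (algebraMap A K a) = g (algebraMap A K a)) (x : K) :
    f x = g x := by
  obtain ⟨a, b, hb, rfl⟩ := IsFractionRing.div_surjective (A := A) x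
  have hb' : algebraMap A K b ≠ 0 := by
    intro h0
    have h1 : b = 0 := IsFractionRing.injective A K (by rw [h0, map_zero])
    subst h1
    have h2 : (1 : A) = 0 := by simpa using hb.1 1
    have h3 : (1 : K) = 0 := by rw [← map_one (algebraMap A K), h2, map_zero]
    exact one_ne_zero h3
  have hx : algebraMap A K a / algebraMap A K b * algebraMap A K b = algebraMap A K a :=
    div_mul_cancel₀ _ hb'
  have h1 := hf (algebraMap A K a / algebraMap A K b) (algebraMap A K b)
  have h2 := hg (algebraMap A K a / algebraMap A K b) (algebraMap A K b)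
  rw [hx] at h1 h2
  have h3 : algebraMap A K b • f (algebraMap A K a / algebraMap A K b) =
      algebraMap A K b • g (algebraMap A K a / algebraMap A K b) := by
    have e1 : algebraMap A K b • f (algebraMap A K a / algebraMap A K b) =
        f (algebraMap A K a) - (algebraMap A K a / algebraMap A K b) • f (algebraMap A K b) := by
      rw [h1]; abel
    have e2 : algebraMap A K b • g (algebraMap A K a / algebraMap A K b) =
        g (algebraMap A K a) - (algebraMap A K a / algebraMap A K b) • g (algebraMap A K b) := by
      rw [h2]; abel
    rw [e1, e2, h, h]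
  exact smul_right_injective M hb' h3

end Field

/-- a regular local ring containing a field has bijective `Sym → gr` -/
theorem symGrBijective_of_regular {K E : Type u} [Field K] [CommRing E] [IsRegularLocalRing E]
    [Algebra K E] : PP16.SymGrBijective E (maximalIdeal E) := by
  haveI : Algebra.FormallySmooth (⊥ : Subfield K) (ResidueField E) :=
    Groth.Agent.Lib.Helper90.CoeffField.formallySmooth_bot
  haveI : Algebra.IsGeometricallyReduced (⊥ : Subfield K) (ResidueField E) :=
    Groth.Agent.S2451.result.mp inferInstance
  have hP : CAlgX.IsAdicFormallySmooth (⊥ : Subfield K) E (maximalIdeal E) :=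
    Groth.Agent.Lib.Helper90.SmoothRegular.smooth_of_regular
  haveI : Algebra.FormallySmooth (⊥ : Subfield K) (E ⧸ maximalIdeal E) :=
    Groth.Agent.Lib.Helper90.CoeffField.formallySmooth_bot (K := ResidueField E)
  exact (Groth.Agent.Lib.Helper81.SymGrSmooth.symGrBijective_of_isAdicFormallySmooth
    (maximalIdeal E) hP).2

set_option synthInstance.maxHeartbeats 200000 in
set_option maxHeartbeats 1000000 in
/-- function version of `GenFibreDer.exists_extend` (no module structure over `A` needed) -/
theorem exists_extend' {A : Type u} [CommRing A] [IsNoetherianRing A]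
    (S : Type u) [CommRing S] [Algebra S A] [IsNoetherianRing S] [Module.Finite S A]
    (m : Ideal A) [m.IsPrime]
    (P₀ : Ideal (Cpl m)) [P₀.IsPrime]
    (N : Type u) [AddCommGroup N] [Module (Localization.AtPrime P₀) N]
    (δ₀ : A → N) (hadd : ∀ x y, δ₀ (x + y) = δ₀ x + δ₀ y)
    (hleib : ∀ x y, δ₀ (x * y) = can m P₀ x • δ₀ y + can m P₀ y • δ₀ x)
    (hkill : ∀ s : S, δ₀ (algebraMap S A s) = 0) :
    ∃ D : Localization.AtPrime P₀ → N, (∀ x y, D (x + y) = D x + D y) ∧
      (∀ x y, D (x * y) = x • D y + y • D x) ∧
      ∀ a, D (can m P₀ a) = δ₀ a := by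
  letI modA : Module A N := Module.compHom N (can m P₀)
  letI modS : Module S N := Module.compHom N (algebraMap S A)
  haveI : IsScalarTower S A N := ⟨fun s a x => by
    change (s • a) • x = (algebraMap S A s) • (a • x)
    rw [Algebra.smul_def, mul_smul]⟩
  have hN : ∀ (a : A) (x : N), a • x = can m P₀ a • x := by
    intro a x
    rfl
  let δ : Derivation S A N := ofFun (R := S) (B := A) δ₀ hadd
    (fun x y => by rw [hleib, hN, hN]) hkill
  obtain ⟨D, h1, h2, h3⟩ := exists_extend S m P₀ N hN δ
  exact ⟨D, h1, h2, fun a => by rw [h3]; rfl⟩

set_option synthInstance.maxHeartbeats 200000 in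
set_option maxHeartbeats 1000000 in
/-- per-index injectivity: derivations of `K` over a subfield containing a finite-index Noetherian
subring of `A` extend to the localized completion. -/
theorem injective_index {A : Type u} [CommRing A] [IsNoetherianRing A]
    (S : Subring A) [IsNoetherianRing S] [Module.Finite S A]
    (m : Ideal A) [m.IsPrime] (P₀ : Ideal (Cpl m)) [P₀.IsPrime]
    (K : Type u) [Field K] [Algebra A K] [IsFractionRing A K]
    [Algebra K (Localization.AtPrime P₀)]
    (hK : ∀ a, algebraMap K (Localization.AtPrime P₀) (algebraMap A K a) = can m P₀ a)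
    (F : Subfield K) (hF : ∀ s : S, algebraMap A K s ∈ F) :
    Function.Injective ((KaehlerDifferential.mapBaseChange F K (Localization.AtPrime P₀)).lTensor
      (ResidueField (Localization.AtPrime P₀))) := by
  apply injective_of_extend
  intro D
  have hKA : ∀ (a : A) (x : ResidueField (Localization.AtPrime P₀)),
      algebraMap A K a • x = can m P₀ a • x := by
    intro a x
    rw [← hK, algebraMap_smul (Localization.AtPrime P₀) (algebraMap A K a) x]
  have hkill : ∀ s : S, D (algebraMap A K s) = 0 := by
    intro s
    have := D.map_algebraMap (⟨algebraMap A K s, hF s⟩ : F)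
    exact this
  obtain ⟨D', hadd, hleib, hext⟩ := exists_extend' S m P₀
    (ResidueField (Localization.AtPrime P₀)) (fun a => D (algebraMap A K a))
    (fun x y => by simp only [map_add])
    (fun x y => by simp only [map_mul, Derivation.leibniz, hKA])
    (fun r => hkill r)
  have hfg : ∀ x : K, D' (algebraMap K (Localization.AtPrime P₀) x) = D x := by
    apply eq_of_eq_on' (A := A) (fun x : K => D' (algebraMap K (Localization.AtPrime P₀) x)) D
    · intro x y
      simp only [map_mul, hleib, algebraMap_smul]
    · intro x y
      exact D.leibniz x y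
    · intro a
      change D' (algebraMap K (Localization.AtPrime P₀) (algebraMap A K a)) = D (algebraMap A K a)
      rw [hK, hext]
  refine ⟨ofFun (R := F) (B := Localization.AtPrime P₀) D' hadd hleib (fun r => ?_), fun c => ?_⟩
  · rw [IsScalarTower.algebraMap_apply F K (Localization.AtPrime P₀), hfg]
    exact D.map_algebraMap r
  · rw [ofFun_apply, hfg]

end Groth.Agent.Lib.Helper81.GenFibreSmooth
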