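import Mathlib
import Groth.Prelude.Def_EGA41
import Groth.Agent.Lib.Helper81.PBasis
import Groth.Agent.Lib.Helper81.PBasisEGA
import Groth.Agent.Lib.Helper81.PBasisTransfer

/-!
# `p`-bases in towers (helper81)

EGA 0_IV 21.1.10: for `B^p ⊆ A ⊆ C ⊆ B`, systems of `p`-generators compose, and over a `p`-basis
of `C / A`, `p`-independence over `C` is `p`-independence of the combined family over `A`.
-/

set_option autoImplicit false
universe u

open Groth.Agent.Lib.Helper81.PBasis

namespace Groth.Agent.Lib.Helper81.PBasisTower

section General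

variable {R S M : Type*} [Semiring R] [Semiring S] [AddCommMonoid M] [Module R S] [Module S M]
  [Module R M] [IsScalarTower R S M]

/-- Converse of `linearIndependent_smul` when `b` spans. -/
theorem linearIndependent_of_smul {ι ι' : Type*} {b : ι → S} {c : ι' → M}
    (hb : Submodule.span R (Set.range b) = ⊤)
    (h : LinearIndependent R fun p : ι × ι' => b p.1 • c p.2) : LinearIndependent S c := by
  rw [← linearIndependent_equiv' (Equiv.prodComm ι' ι) (g := fun p : ι' × ι ↦ b p.2 • c p.1) rfl,
    LinearIndependent, Finsupp.linearCombination_smul] at h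
  have hsurj : Function.Surjective ((Finsupp.mapRange.linearMap (α := ι')
      (Finsupp.linearCombination R b)) ∘ₗ (Finsupp.curryLinearEquiv R).toLinearMap) := by
    have h1 : Function.Surjective (Finsupp.linearCombination R b) := by
      rw [← LinearMap.range_eq_top, Finsupp.range_linearCombination]
      exact hb
    exact (Finsupp.mapRange_surjective _ (map_zero _) h1).comp (Finsupp.curryLinearEquiv R).surjective
  intro l₁ l₂ hl
  obtain ⟨m₁, rfl⟩ := hsurj l₁
  obtain ⟨m₂, rfl⟩ := hsurj l₂
  have : m₁ = m₂ := h (by simpa using hl)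
  rw [this]

end General

section Quot

variable {R R' M : Type*} [CommRing R] [CommRing R'] [Algebra R R'] [AddCommGroup M] [Module R M]
  [Module R' M] [IsScalarTower R R' M]

theorem linearIndependent_quotient_iff (hsurj : Function.Surjective (algebraMap R R'))
    {ι : Type*} (v : ι → M) :
    LinearIndependent R' v ↔ ∀ (s : Finset ι) (g : ι → R), ∑ i ∈ s, g i • v i = 0 →
      ∀ i ∈ s, algebraMap R R' (g i) = 0 := by
  rw [linearIndependent_iff']
  constructor
  · intro h s g hg
    apply h s (fun i => algebraMap R R' (g i))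
    simpa only [algebraMap_smul] using hg
  · intro h s g' hg' i hi
    choose g hg using fun i => hsurj (g' i)
    have := h s g (by
      rw [← hg']
      refine Finset.sum_congr rfl fun j _ => ?_
      rw [← hg j, algebraMap_smul]) i hi
    rw [← hg i]
    exact this

theorem span_quotient_eq_top_iff (hsurj : Function.Surjective (algebraMap R R')) (s : Set M) :
    Submodule.span R' s = ⊤ ↔ Submodule.span R s = ⊤ := by
  rw [← Submodule.restrictScalars_span R R' hsurj, Submodule.restrictScalars_eq_top_iff]

end Quot

section Red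

variable {ι κ : Type*} (n : ℕ)

/-- Truncated exponent vectors on a disjoint union. -/
noncomputable def redSumEquiv : Red (ι ⊕ κ) n ≃ Red ι n × Red κ n where
  toFun g := (⟨(Finsupp.sumFinsuppEquivProdFinsupp g.1).1, fun i => g.2 (Sum.inl i)⟩,
    ⟨(Finsupp.sumFinsuppEquivProdFinsupp g.1).2, fun i => g.2 (Sum.inr i)⟩)
  invFun q := ⟨Finsupp.sumElim q.1.1 q.2.1, fun s => by
    rcases s with i | j
    · exact q.1.2 i
    · exact q.2.2 j⟩
  left_inv g := by
    apply Subtype.ext
    exact Finsupp.sumFinsuppEquivProdFinsupp.left_inv g.1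
  right_inv q := by
    have := Finsupp.sumFinsuppEquivProdFinsupp.right_inv (q.1.1, q.2.1)
    apply Prod.ext
    · apply Subtype.ext
      exact congrArg Prod.fst this
    · apply Subtype.ext
      exact congrArg Prod.snd this

theorem redMon_sumElim {B : Type*} [CommRing B] (u : ι → B) (v : κ → B) (q : Red ι n × Red κ n) :
    redMon n (Sum.elim u v) ((redSumEquiv n).symm q) = redMon n u q.1 * redMon n v q.2 := by
  change (Finsupp.sumElim q.1.1 q.2.1).prod _ = _
  rw [Finsupp.prod_sumElim]
  rfl

end Red

section Tower

open Groth.Agent.Lib.Helper81.PBasisEGA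

variable {p : ℕ} {A C B : Type u} [CommRing A] [CommRing C] [CommRing B] [Algebra A C]
  [Algebra C B] [Algebra A B] [IsScalarTower A C B]

theorem redMon_sumElim_algebraMap {ι κ : Type u} (x : ι → C) (y : κ → B)
    (q : Red ι p × Red κ p) :
    redMon p (Sum.elim (fun i => algebraMap C B (x i)) y) ((redSumEquiv p).symm q) =
      redMon p x q.1 • redMon p y q.2 := by
  rw [redMon_sumElim, Algebra.smul_def, map_redMon]

theorem pow_mem_range_mid (hpow : ∀ b : B, b ^ p ∈ Set.range (algebraMap A B)) :
    ∀ b : B, b ^ p ∈ Set.range (algebraMap C B) := by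
  intro b
  obtain ⟨a, ha⟩ := hpow b
  exact ⟨algebraMap A C a, by rw [← IsScalarTower.algebraMap_apply, ha]⟩

theorem pow_mem_range_bot (hinj : Function.Injective (algebraMap C B))
    (hpow : ∀ b : B, b ^ p ∈ Set.range (algebraMap A B)) :
    ∀ c : C, c ^ p ∈ Set.range (algebraMap A C) := by
  intro c
  obtain ⟨a, ha⟩ := hpow (algebraMap C B c)
  refine ⟨a, hinj ?_⟩
  rw [← IsScalarTower.algebraMap_apply, ha, map_pow]

/-- EGA 0_IV 21.1.10 (i). -/
theorem isPGenerating_sumElim (hinj : Function.Injective (algebraMap C B))
    (hpow : ∀ b : B, b ^ p ∈ Set.range (algebraMap A B)) {ι κ : Type u} (x : ι → C) (y : κ → B)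
    (hx : EGA41.IsPGenerating p A x) (hy : EGA41.IsPGenerating p C y) :
    EGA41.IsPGenerating p A (Sum.elim (fun i => algebraMap C B (x i)) y) := by
  have h1 := span_eq_top_of_isPGenerating (pow_mem_range_bot hinj hpow) x hx
  have h2 := span_eq_top_of_isPGenerating (pow_mem_range_mid (A := A) hpow) y hy
  have h3 := Submodule.span_smul_of_span_eq_top h1 (Set.range (redMon p y))
  rw [h2, Submodule.restrictScalars_top, Set.range_smul_range] at h3
  rw [isPGenerating_iff, span_quotient_eq_top_iff (algebraMap_pPower_surjective hpow), ← h3]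
  congr 1
  rw [← (redSumEquiv p).symm.surjective.range_comp]
  congr 1
  funext q
  exact redMon_sumElim_algebraMap x y q

theorem algebraMap_pPower_eq_zero_iff (hinj : Function.Injective (algebraMap C B)) (a : A) :
    algebraMap A (EGA41.pPowerSubalgebra p A C) a = 0 ↔
      algebraMap A (EGA41.pPowerSubalgebra p A B) a = 0 := by
  rw [← Subtype.coe_inj, ← Subtype.coe_inj (a := algebraMap A (EGA41.pPowerSubalgebra p A B) a)]
  change algebraMap A C a = 0 ↔ algebraMap A B a = 0
  rw [IsScalarTower.algebraMap_apply A C B, map_eq_zero_iff _ hinj]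

/-- EGA 0_IV 21.1.10 (ii). -/
theorem isPIndependent_sumElim_iff (hinj : Function.Injective (algebraMap C B))
    (hpow : ∀ b : B, b ^ p ∈ Set.range (algebraMap A B)) {ι κ : Type u} (x : ι → C) (y : κ → B)
    (hx : EGA41.IsPBasis p A x) :
    EGA41.IsPIndependent p C y ↔
      EGA41.IsPIndependent p A (Sum.elim (fun i => algebraMap C B (x i)) y) := by
  have hxT : LinearIndependent (EGA41.pPowerSubalgebra p A C) (redMon p x) := hx.1
  have hxs : Submodule.span (EGA41.pPowerSubalgebra p A C) (Set.range (redMon p x)) = ⊤ := hx.2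
  have key : LinearIndependent C (redMon p y) ↔
      LinearIndependent (EGA41.pPowerSubalgebra p A C)
        (fun q : Red ι p × Red κ p => redMon p x q.1 • redMon p y q.2) :=
    ⟨fun h => linearIndependent_smul hxT h, fun h => linearIndependent_of_smul hxs h⟩
  have h1 : EGA41.IsPIndependent p C y ↔ LinearIndependent C (redMon p y) :=
    ⟨linearIndependent_of_isPIndependent hinj y,
      isPIndependent_of_linearIndependent (pow_mem_range_mid (A := A) hpow) y⟩
  rw [h1, key, isPIndependent_iff, ← linearIndependent_equiv (redSumEquiv p).symm,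
    linearIndependent_quotient_iff (algebraMap_pPower_surjective (pow_mem_range_bot hinj hpow)),
    linearIndependent_quotient_iff (algebraMap_pPower_surjective hpow)]
  simp only [Function.comp_apply, redMon_sumElim_algebraMap, algebraMap_pPower_eq_zero_iff hinj]

end Tower

end Groth.Agent.Lib.Helper81.PBasisTower
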