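import Mathlib
import Groth.Prelude.Def_EGA41
import Groth.Agent.Lib.Helper81.PBasisEGA
import Groth.Agent.Lib.Helper81.PBasisTower
import Groth.Agent.Lib.Helper81.DescPIndep
import Groth.Agent.Lib.Helper81.FieldSmooth

/-!
# The family of subrings `k^p(x_λ, λ ∉ F)` attached to a `p`-basis (helper81)

For a field `k` of characteristic `p` with `p`-basis `(x_λ)`, and `F` a finite set of indices,
`L_F := k^p(x_λ : λ ∉ F)`.  Then `k` is finite free over `L_F` (basis: reduced monomials in the
`x_λ`, `λ ∈ F`), the family is decreasing, and `⋂_F L_F = k^p`.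
-/

set_option autoImplicit false
universe u

namespace Groth.Agent.Lib.Helper81.PBasisFamily

open Groth.Agent.Lib.Helper81.PBasis

section General

variable {R k : Type*} [CommRing R] [CommRing k] [Algebra R k] {I : Type*} (x : I → k) (p : ℕ)

/-- monomial in the `x i` -/
noncomputable def mon (e : I →₀ ℕ) : k := e.prod fun i n => x i ^ n

theorem mon_zero : mon x 0 = 1 := Finsupp.prod_zero_index

theorem mon_add (e e' : I →₀ ℕ) : mon x (e + e') = mon x e * mon x e' :=
  Finsupp.prod_add_index' (fun _ => pow_zero _) (fun _ _ _ => pow_add _ _ _)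

theorem mon_nsmul (n : ℕ) (e : I →₀ ℕ) : mon x (n • e) = mon x e ^ n := by
  induction n with
  | zero => rw [zero_smul, mon_zero, pow_zero]
  | succ n ih => rw [succ_nsmul, mon_add, ih, pow_succ]

theorem redMon_eq_mon (e : Red I p) : redMon p x e = mon x e.1 := rfl

/-- reduced exponents vanishing on `F` -/
abbrev Off (F : Finset I) : Type _ := {e : I →₀ ℕ // (∀ i, e i < p) ∧ ∀ i ∈ F, e i = 0}

/-- reduced exponents supported in `F` -/
abbrev On (F : Finset I) : Type _ := {e : I →₀ ℕ // (∀ i, e i < p) ∧ ∀ i, i ∉ F → e i = 0}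

theorem finite_on (F : Finset I) : Finite (On p F) := by
  have : Function.Injective (fun e : On p F => fun i : F => (⟨e.1 i, e.2.1 i⟩ : Fin p)) := by
    intro e e' h
    apply Subtype.ext
    ext i
    by_cases hi : i ∈ F
    · exact congrArg Fin.val (congrFun h ⟨i, hi⟩)
    · rw [e.2.2 i hi, e'.2.2 i hi]
  exact Finite.of_injective _ this

/-- glue an exponent off `F` and one on `F` -/
noncomputable def glue (F : Finset I) (q : Off p F × On p F) : Red I p :=
  ⟨q.1.1 + q.2.1, fun i => by
    classical
    by_cases hi : i ∈ F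
    · rw [Finsupp.add_apply, q.1.2.2 i hi, zero_add]; exact q.2.2.1 i
    · rw [Finsupp.add_apply, q.2.2.2 i hi, add_zero]; exact q.1.2.1 i⟩

theorem glue_injective (F : Finset I) : Function.Injective (glue p F) := by
  classical
  rintro ⟨a, b⟩ ⟨a', b'⟩ h
  have h' : ∀ i, a.1 i + b.1 i = a'.1 i + b'.1 i := fun i => by
    have := congrArg (fun e : Red I p => e.1 i) h
    simpa [glue] using this
  have ha : a = a' := by
    apply Subtype.ext
    ext i
    by_cases hi : i ∈ F
    · rw [a.2.2 i hi, a'.2.2 i hi]
    · have := h' i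
      rwa [b.2.2 i hi, b'.2.2 i hi, add_zero, add_zero] at this
  have hb : b = b' := by
    apply Subtype.ext
    ext i
    by_cases hi : i ∈ F
    · have := h' i
      rwa [a.2.2 i hi, a'.2.2 i hi, zero_add, zero_add] at this
    · rw [b.2.2 i hi, b'.2.2 i hi]
  rw [ha, hb]

theorem glue_surjective (F : Finset I) : Function.Surjective (glue p F) := by
  classical
  intro e
  refine ⟨(⟨e.1.filter (fun i => i ∉ F), fun i => ?_, fun i hi => ?_⟩,
    ⟨e.1.filter (fun i => i ∈ F), fun i => ?_, fun i hi => ?_⟩), ?_⟩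
  · have h0 : 0 < p := lt_of_le_of_lt (Nat.zero_le _) (e.2 i)
    rw [Finsupp.filter_apply]; split_ifs <;> first | exact e.2 i | exact h0
  · rw [Finsupp.filter_apply, if_neg (not_not.2 hi)]
  · have h0 : 0 < p := lt_of_le_of_lt (Nat.zero_le _) (e.2 i)
    rw [Finsupp.filter_apply]; split_ifs <;> first | exact e.2 i | exact h0
  · rw [Finsupp.filter_apply, if_neg hi]
  · apply Subtype.ext
    change e.1.filter (fun i => i ∉ F) + e.1.filter (fun i => i ∈ F) = e.1
    rw [add_comm]
    exact Finsupp.filter_pos_add_filter_neg e.1 (fun i => i ∈ F)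

theorem redMon_glue (F : Finset I) (q : Off p F × On p F) :
    redMon p x (glue p F q) = mon x q.1.1 * mon x q.2.1 := by
  rw [redMon_eq_mon]
  exact mon_add x _ _

variable (hpow : ∀ b : k, b ^ p ∈ Set.range (algebraMap R k)) (hp : 0 < p)

include hpow hp in
theorem mon_mem_span (F : Finset I) (e : I →₀ ℕ) (he : ∀ i ∈ F, e i = 0) :
    mon x e ∈ Submodule.span R (Set.range fun e : Off p F => mon x e.1) := by
  have h : e = p • e.mapRange (· / p) (Nat.zero_div p) + e.mapRange (· % p) (Nat.zero_mod p) := by
    ext i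
    simp only [Finsupp.add_apply, Finsupp.smul_apply, Finsupp.mapRange_apply, smul_eq_mul]
    exact (Nat.div_add_mod _ _).symm
  rw [h, mon_add, mon_nsmul]
  obtain ⟨a, ha⟩ := hpow (mon x (e.mapRange (· / p) (Nat.zero_div p)))
  rw [← ha, ← Algebra.smul_def]
  refine Submodule.smul_mem _ _ (Submodule.subset_span
    ⟨⟨e.mapRange (· % p) (Nat.zero_mod p), fun i => ?_, fun i hi => ?_⟩, rfl⟩)
  · rw [Finsupp.mapRange_apply]; exact Nat.mod_lt _ hp
  · rw [Finsupp.mapRange_apply, he i hi]; exact Nat.zero_mod p

/-- `L_F`: the span of the reduced monomials off `F`, as a subalgebra. -/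
noncomputable def LF (F : Finset I) : Subalgebra R k :=
  (Submodule.span R (Set.range fun e : Off p F => mon x e.1)).toSubalgebra
    (Submodule.subset_span ⟨⟨0, fun _ => hp, fun _ _ => rfl⟩, mon_zero x⟩)
    (by
      intro a b ha hb
      have := Submodule.mul_mem_mul ha hb
      rw [Submodule.span_mul_span] at this
      refine Submodule.span_le.2 ?_ this
      rintro _ ⟨_, ⟨e, rfl⟩, _, ⟨e', rfl⟩, rfl⟩
      change mon x e.1 * mon x e'.1 ∈ _
      rw [← mon_add]
      exact mon_mem_span x p hpow hp F _ (fun i hi => by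
        rw [Finsupp.add_apply, e.2.2 i hi, e'.2.2 i hi]))

theorem mem_LF (F : Finset I) (z : k) : z ∈ LF x p hpow hp F ↔
    z ∈ Submodule.span R (Set.range fun e : Off p F => mon x e.1) := Iff.rfl

theorem mon_mem_LF (F : Finset I) (e : Off p F) : mon x e.1 ∈ LF x p hpow hp F :=
  Submodule.subset_span ⟨e, rfl⟩

theorem LF_anti {F G : Finset I} (h : F ⊆ G) : LF x p hpow hp G ≤ LF x p hpow hp F := by
  intro z hz
  rw [mem_LF] at hz ⊢
  refine Submodule.span_mono ?_ hz
  rintro _ ⟨e, rfl⟩
  exact ⟨⟨e.1, e.2.1, fun i hi => e.2.2 i (h hi)⟩, rfl⟩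

theorem linearIndependent_on (hind : LinearIndependent R (redMon p x)) (F : Finset I) :
    LinearIndependent (LF x p hpow hp F) (fun e : On p F => mon x e.1) := by
  refine PBasisTower.linearIndependent_of_smul (R := R)
    (b := fun e : Off p F => (⟨mon x e.1, mon_mem_LF x p hpow hp F e⟩ : LF x p hpow hp F)) ?_ ?_
  · rw [eq_top_iff]
    rintro ⟨z, hz⟩ -
    have key : ∀ w (hw : w ∈ Submodule.span R (Set.range fun e : Off p F => mon x e.1)),
        (⟨w, hw⟩ : LF x p hpow hp F) ∈ Submodule.span R (Set.range
          (fun e : Off p F => (⟨mon x e.1, mon_mem_LF x p hpow hp F e⟩ : LF x p hpow hp F))) := by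
      intro w hw
      induction hw using Submodule.span_induction with
      | mem w hw =>
        obtain ⟨e, rfl⟩ := hw
        exact Submodule.subset_span ⟨e, rfl⟩
      | zero => exact Submodule.zero_mem _
      | add a b ha hb iha ihb => exact Submodule.add_mem _ iha ihb
      | smul r a ha iha => exact Submodule.smul_mem _ r iha
    exact key z hz
  · have := hind.comp (glue p F) (glue_injective p F)
    have hfun : (fun q : Off p F × On p F =>
        (⟨mon x q.1.1, mon_mem_LF x p hpow hp F q.1⟩ : LF x p hpow hp F) • mon x q.2.1) =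
        redMon p x ∘ glue p F := funext fun q => by
      rw [Function.comp_apply, redMon_glue]
      rfl
    rw [hfun]
    exact this

theorem span_on (hgen : Submodule.span R (Set.range (redMon p x)) = ⊤) (F : Finset I) :
    Submodule.span (LF x p hpow hp F) (Set.range fun e : On p F => mon x e.1) = ⊤ := by
  rw [eq_top_iff]
  intro z hz'
  clear hz'
  have hz : z ∈ Submodule.span R (Set.range (redMon p x)) := by rw [hgen]; trivial
  induction hz using Submodule.span_induction with
  | mem z hz =>
    obtain ⟨e, rfl⟩ := hz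
    obtain ⟨q, rfl⟩ := glue_surjective p F e
    rw [redMon_glue]
    have : mon x q.1.1 * mon x q.2.1 =
        (⟨mon x q.1.1, mon_mem_LF x p hpow hp F q.1⟩ : LF x p hpow hp F) • mon x q.2.1 := rfl
    rw [this]
    exact Submodule.smul_mem _ _ (Submodule.subset_span ⟨q.2, rfl⟩)
  | zero => exact Submodule.zero_mem _
  | add a b _ _ iha ihb => exact Submodule.add_mem _ iha ihb
  | smul r a _ iha =>
    rw [← algebraMap_smul (LF x p hpow hp F) r a]
    exact Submodule.smul_mem _ _ iha

theorem mem_range_of_forall_mem (hind : LinearIndependent R (redMon p x))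
    (hgen : Submodule.span R (Set.range (redMon p x)) = ⊤) (z : k)
    (hz : ∀ F : Finset I, z ∈ LF x p hpow hp F) : z ∈ Set.range (algebraMap R k) := by
  classical
  let bas : Module.Basis (Red I p) R k := Module.Basis.mk hind (by rw [hgen])
  have hbas : ∀ e, bas e = redMon p x e := fun e => by rw [Module.Basis.mk_apply]
  have key : ∀ e : Red I p, e.1 ≠ 0 → bas.repr z e = 0 := by
    intro e he
    obtain ⟨i, hi⟩ : ∃ i, e.1 i ≠ 0 := by
      by_contra h
      push Not at h
      exact he (Finsupp.ext h)
    have hzF := hz {i}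
    rw [mem_LF] at hzF
    have : ∀ w ∈ Submodule.span R (Set.range fun e : Off p {i} => mon x e.1),
        bas.repr w e = 0 := by
      intro w hw
      induction hw using Submodule.span_induction with
      | mem w hw =>
        obtain ⟨e', rfl⟩ := hw
        have h1 : mon x e'.1 = bas ⟨e'.1, e'.2.1⟩ := by rw [hbas]; rfl
        change (bas.repr (mon x e'.1)) e = 0
        rw [h1, Module.Basis.repr_self, Finsupp.single_apply, if_neg]
        intro h
        apply hi
        rw [← h]
        exact e'.2.2 i (Finset.mem_singleton_self i)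
      | zero => rw [map_zero, Finsupp.zero_apply]
      | add a b _ _ ha hb => rw [map_add, Finsupp.add_apply, ha, hb, add_zero]
      | smul r a _ ha => rw [map_smul, Finsupp.smul_apply, ha, smul_zero]
    exact this z hzF
  have h0 : bas.repr z = Finsupp.single (⟨0, fun _ => hp⟩ : Red I p)
      (bas.repr z ⟨0, fun _ => hp⟩) := by
    ext e
    rw [Finsupp.single_apply]
    split_ifs with h
    · rw [h]
    · apply key
      intro h'
      apply h
      exact Subtype.ext h'.symm
  refine ⟨bas.repr z ⟨0, fun _ => hp⟩, ?_⟩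
  have := bas.linearCombination_repr z
  rw [h0, Finsupp.linearCombination_single, hbas, redMon_eq_mon] at this
  rw [Algebra.algebraMap_eq_smul_one]
  refine Eq.trans ?_ this
  congr 1

end General

open Groth.Agent.Lib.Helper81.PBasisEGA in
/-- The family of subrings attached to a `p`-basis of a field of characteristic `p`. -/
theorem exists_family (p : ℕ) [Fact p.Prime] (k : Type u) [Field k] [CharP k p] :
    ∃ (I : Type u) (L : Finset I → Subring k),
      (∀ F (y : k), y ^ p ∈ L F) ∧ (∀ F G, F ⊆ G → L G ≤ L F) ∧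
      (∀ F, ∃ (J : Type u) (_ : Fintype J) (u : J → k) (j₀ : J), u j₀ = 1 ∧
        (∀ c : J → k, (∀ j, c j ∈ L F) → ∑ j, c j * u j = 0 → ∀ j, c j = 0) ∧
        (∀ z : k, ∃ c : J → k, (∀ j, c j ∈ L F) ∧ z = ∑ j, c j * u j)) ∧
      (∀ z : k, (∀ F, z ∈ L F) → ∃ w : k, z = w ^ p) := by
  classical
  have hp : p.Prime := Fact.out
  obtain ⟨B, hB⟩ := FieldSmooth.exists_pBasis p (k := (frobenius k p).fieldRange) (K := k)
  have hpow : ∀ b : k, b ^ p ∈ Set.range (algebraMap (frobenius k p).fieldRange k) := by
    intro b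
    exact ⟨⟨b ^ p, ⟨b, rfl⟩⟩, rfl⟩
  have hinj : Function.Injective (algebraMap (frobenius k p).fieldRange k) :=
    Subtype.val_injective
  have hind := linearIndependent_of_isPIndependent hinj _ hB.1
  have hgen := span_eq_top_of_isPGenerating hpow _ hB.2
  refine ⟨B, fun F => (LF (Subtype.val : B → k) p hpow hp.pos F).toSubring,
    fun F y => ?_, fun F G h => ?_, fun F => ?_, fun z hz => ?_⟩
  · obtain ⟨a, ha⟩ := hpow y
    rw [← ha]
    exact Subalgebra.algebraMap_mem _ a
  · exact LF_anti _ p hpow hp.pos h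
  · haveI := finite_on p F
    letI : Fintype (On p F) := Fintype.ofFinite _
    refine ⟨On p F, inferInstance, fun e => mon (Subtype.val : B → k) e.1,
      ⟨0, fun _ => hp.pos, fun _ _ => rfl⟩, mon_zero _, ?_, ?_⟩
    · intro c hc hsum j
      have h1 := (DescIndep.linearIndependent_subalgebra_iff
        (LF (Subtype.val : B → k) p hpow hp.pos F) (fun e : On p F => mon (Subtype.val : B → k) e.1)).1
        (linearIndependent_on _ p hpow hp.pos hind F) Finset.univ c hc hsum j (Finset.mem_univ j)
      exact h1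
    · intro z
      have hz : z ∈ Submodule.span (LF (Subtype.val : B → k) p hpow hp.pos F)
          (Set.range fun e : On p F => mon (Subtype.val : B → k) e.1) := by
        rw [span_on _ p hpow hp.pos hgen F]; trivial
      obtain ⟨c, hc⟩ := (Submodule.mem_span_range_iff_exists_fun _).1 hz
      exact ⟨fun j => (c j : k), fun j => (c j).2, hc.symm⟩
  · obtain ⟨a, ha⟩ := mem_range_of_forall_mem _ p hpow hp.pos hind hgen z hz
    obtain ⟨w, hw⟩ := a.2
    refine ⟨w, ?_⟩
    rw [← ha]
    exact hw.symm

end Groth.Agent.Lib.Helper81.PBasisFamily
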