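import Mathlib

/-!
# The subrings `L[[T^p]]` of `k[[T]]` (helper81)

For a subring `L` of a field `k` of characteristic `p` over which `k` is finite free with a basis
`(u_j)`, the ring `k[[T_1..T_r]]` is finite free over `L[[T_1^p..T_r^p]]` with basis `u_j T^e`
(`0 ≤ e_i < p`).
-/

set_option autoImplicit false

namespace Groth.Agent.Lib.Helper81.PowerSeriesPSub

open MvPowerSeries

section Def

variable {k : Type*} [Field k] (p : ℕ) {σ : Type*}

/-- `L[[T^p]]` as a subring of `k[[T]]` -/
def SL (L : Subring k) : Subring (MvPowerSeries σ k) where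
  carrier := {f | ∀ n, coeff n f ∈ L ∧ ((∃ i, ¬ p ∣ n i) → coeff n f = 0)}
  zero_mem' := fun n => ⟨by rw [map_zero]; exact L.zero_mem, fun _ => map_zero _⟩
  one_mem' := by
    classical
    intro n
    rw [coeff_one]
    split_ifs with h
    · refine ⟨L.one_mem, ?_⟩
      rintro ⟨i, hi⟩
      exfalso
      apply hi
      rw [h]
      exact dvd_zero p
    · exact ⟨L.zero_mem, fun _ => rfl⟩
  add_mem' := by
    intro f g hf hg n
    rw [map_add]
    exact ⟨L.add_mem (hf n).1 (hg n).1, fun h => by rw [(hf n).2 h, (hg n).2 h, add_zero]⟩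
  neg_mem' := by
    intro f hf n
    rw [map_neg]
    exact ⟨L.neg_mem (hf n).1, fun h => by rw [(hf n).2 h, neg_zero]⟩
  mul_mem' := by
    classical
    intro f g hf hg n
    rw [coeff_mul]
    constructor
    · exact Subring.sum_mem _ fun q _ => L.mul_mem (hf q.1).1 (hg q.2).1
    · rintro ⟨i, hi⟩
      apply Finset.sum_eq_zero
      intro q hq
      replace hq : q.1 + q.2 = n := Finset.HasAntidiagonal.mem_antidiagonal.1 hq
      by_cases h1 : p ∣ q.1 i
      · have h2 : ¬ p ∣ q.2 i := by
          intro h2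
          apply hi
          rw [← hq, Finsupp.add_apply]
          exact dvd_add h1 h2
        rw [(hg q.2).2 ⟨i, h2⟩, mul_zero]
      · rw [(hf q.1).2 ⟨i, h1⟩, zero_mul]

theorem mem_SL (L : Subring k) (f : MvPowerSeries σ k) :
    f ∈ SL p L ↔ ∀ n, coeff n f ∈ L ∧ ((∃ i, ¬ p ∣ n i) → coeff n f = 0) := Iff.rfl

theorem SL_mono {L L' : Subring k} (h : L ≤ L') : SL p (σ := σ) L ≤ SL p L' :=
  fun _ hf n => ⟨h (hf n).1, (hf n).2⟩

end Def

section Basis

variable {k : Type*} [Field k] (p : ℕ) {σ : Type*} [Fintype σ] [DecidableEq σ] (hp : 0 < p)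

/-- exponent in `[0,p)^σ` as a finsupp -/
noncomputable def hat (e : σ → Fin p) : σ →₀ ℕ := Finsupp.equivFunOnFinite.symm (fun i => (e i : ℕ))

theorem hat_apply (e : σ → Fin p) (i : σ) : hat p e i = e i := rfl

/-- the residue of an exponent mod `p` -/
def rem (n : σ →₀ ℕ) : σ → Fin p := fun i => ⟨n i % p, Nat.mod_lt _ hp⟩

theorem hat_rem_le (n : σ →₀ ℕ) : hat p (rem p hp n) ≤ n := fun i => Nat.mod_le _ _

theorem coeff_mul_monomial_hat {L : Subring k} {f : MvPowerSeries σ k} (hf : f ∈ SL p L)
    (e : σ → Fin p) (c : k) (n : σ →₀ ℕ) :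
    coeff n (f * monomial (hat p e) c) =
      if rem p hp n = e then coeff (n - hat p e) f * c else 0 := by
  rw [coeff_mul_monomial]
  by_cases h : rem p hp n = e
  · rw [if_pos h, if_pos]
    rw [← h]
    exact hat_rem_le p hp n
  · rw [if_neg h]
    split_ifs with hle
    · obtain ⟨i, hi⟩ : ∃ i, rem p hp n i ≠ e i := by
        by_contra h'
        push Not at h'
        exact h (funext h')
      rw [(hf (n - hat p e)).2 ⟨i, ?_⟩, zero_mul]
      intro hdvd
      apply hi
      apply Fin.ext
      change n i % p = e i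
      rw [Finsupp.tsub_apply, hat_apply] at hdvd
      have hle' : (e i : ℕ) ≤ n i := hle i
      obtain ⟨t, ht⟩ := hdvd
      have : n i = p * t + e i := by omega
      rw [this, Nat.mul_add_mod, Nat.mod_eq_of_lt (e i).2]
    · rfl

theorem coeff_sum {L : Subring k} {J : Type*} [Fintype J] (u : J → k)
    (g : J × (σ → Fin p) → SL p (σ := σ) L) (n : σ →₀ ℕ) :
    coeff n (∑ q, (g q : MvPowerSeries σ k) * monomial (hat p q.2) (u q.1)) =
      ∑ j, coeff (n - hat p (rem p hp n)) (g (j, rem p hp n) : MvPowerSeries σ k) * u j := by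
  rw [map_sum, Fintype.sum_prod_type]
  refine Finset.sum_congr rfl fun j _ => ?_
  rw [Finset.sum_eq_single (rem p hp n)]
  · rw [coeff_mul_monomial_hat p hp (g (j, _)).2, if_pos rfl]
  · intro e _ he
    rw [coeff_mul_monomial_hat p hp (g (j, e)).2, if_neg (Ne.symm he)]
  · intro h
    exact absurd (Finset.mem_univ _) h

theorem exists_basis (L : Subring k) {J : Type*} [Fintype J] (u : J → k) (j₀ : J)
    (hj₀ : u j₀ = 1)
    (hind : ∀ c : J → k, (∀ j, c j ∈ L) → ∑ j, c j * u j = 0 → ∀ j, c j = 0)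
    (hspn : ∀ z : k, ∃ c : J → k, (∀ j, c j ∈ L) ∧ z = ∑ j, c j * u j) :
    ∃ b : Module.Basis (J × (σ → Fin p)) (SL p (σ := σ) L) (MvPowerSeries σ k),
      b (j₀, fun _ => ⟨0, hp⟩) = 1 := by
  classical
  let β : J × (σ → Fin p) → MvPowerSeries σ k := fun q => monomial (hat p q.2) (u q.1)
  have hsmul : ∀ (s : SL p (σ := σ) L) (f : MvPowerSeries σ k),
      s • f = (s : MvPowerSeries σ k) * f := fun s f => rfl
  have hli : LinearIndependent (SL p (σ := σ) L) β := by
    rw [Fintype.linearIndependent_iff]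
    intro g hg q
    obtain ⟨j, e⟩ := q
    apply Subtype.ext
    ext n
    rw [ZeroMemClass.coe_zero, map_zero]
    by_cases hn : ∃ i, ¬ p ∣ n i
    · exact ((g (j, e)).2 n).2 hn
    · push Not at hn
      have h1 := congrArg (coeff (n + hat p e)) hg
      simp only [hsmul] at h1
      rw [coeff_sum p hp u g, map_zero] at h1
      have hrem : rem p hp (n + hat p e) = e := by
        funext i
        apply Fin.ext
        change (n i + e i) % p = e i
        obtain ⟨t, ht⟩ := hn i
        rw [ht, Nat.mul_add_mod, Nat.mod_eq_of_lt (e i).2]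
      rw [hrem, add_tsub_cancel_right] at h1
      exact hind (fun j => coeff n (g (j, e) : MvPowerSeries σ k))
        (fun j => ((g (j, e)).2 n).1) h1 j
  have hsp : ⊤ ≤ Submodule.span (SL p (σ := σ) L) (Set.range β) := by
    intro f _
    choose rep hrepL hrep using hspn
    let G : J × (σ → Fin p) → MvPowerSeries σ k := fun q n =>
      if (∀ i, p ∣ n i) then rep (coeff (n + hat p q.2) f) q.1 else 0
    have hGdef : ∀ q n, coeff n (G q) =
        if (∀ i, p ∣ n i) then rep (coeff (n + hat p q.2) f) q.1 else 0 := fun q n => rfl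
    have hG : ∀ q, G q ∈ SL p L := by
      intro q n
      rw [hGdef]
      split_ifs with h
      · exact ⟨hrepL _ _, fun ⟨i, hi⟩ => absurd (h i) hi⟩
      · exact ⟨L.zero_mem, fun _ => rfl⟩
    have hf : f = ∑ q, (⟨G q, hG q⟩ : SL p (σ := σ) L) • β q := by
      ext n
      simp only [hsmul]
      rw [coeff_sum p hp u (fun q => ⟨G q, hG q⟩) n]
      have hdvd : ∀ i, p ∣ (n - hat p (rem p hp n)) i := by
        intro i
        rw [Finsupp.tsub_apply]
        change p ∣ n i - n i % p
        exact Nat.dvd_sub_mod _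
      have : ∀ j, coeff (n - hat p (rem p hp n)) (G (j, rem p hp n)) = rep (coeff n f) j := by
        intro j
        rw [hGdef, if_pos hdvd, tsub_add_cancel_of_le (hat_rem_le p hp n)]
      simp only [this]
      exact hrep _
    rw [hf]
    exact Submodule.sum_mem _ fun q _ =>
      Submodule.smul_mem _ _ (Submodule.subset_span ⟨q, rfl⟩)
  refine ⟨Module.Basis.mk hli hsp, ?_⟩
  rw [Module.Basis.mk_apply]
  change monomial (hat p fun _ => ⟨0, hp⟩) (u j₀) = 1
  rw [hj₀]
  have : hat p (fun _ : σ => (⟨0, hp⟩ : Fin p)) = 0 := by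
    ext i
    rfl
  rw [this]
  rfl

end Basis

section Generic

theorem mem_of_mul_mem {A : Type*} [CommRing A] [IsDomain A] (S : Subring A) {ι : Type*}
    (b : Module.Basis ι S A) (i₀ : ι) (hb : b i₀ = 1) (c : A) (s t : S) (ht : t ≠ 0)
    (h : (t : A) * c = s) : c ∈ S := by
  classical
  have h1 : b.repr ((t : A) * c) = t • b.repr c := by
    rw [← map_smul]
    rfl
  have h2 : b.repr (s : A) = Finsupp.single i₀ s := by
    have : (s : A) = s • b i₀ := by
      rw [hb]
      exact (mul_one _).symm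
    rw [this, map_smul, Module.Basis.repr_self, Finsupp.smul_single, smul_eq_mul, mul_one]
  have h3 : ∀ i, i ≠ i₀ → b.repr c i = 0 := by
    intro i hi
    have := congrArg (fun l => l i) (h1.symm.trans ((congrArg b.repr h).trans h2))
    simp only [Finsupp.smul_apply, Finsupp.single_apply, if_neg hi.symm, smul_eq_mul] at this
    exact (mul_eq_zero.1 this).resolve_left ht
  have h4 : b.repr c = Finsupp.single i₀ (b.repr c i₀) := by
    ext i
    rw [Finsupp.single_apply]
    split_ifs with hi
    · rw [hi]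
    · rw [h3 i (Ne.symm hi)]
  have := b.linearCombination_repr c
  rw [h4, Finsupp.linearCombination_single, hb] at this
  rw [← this]
  change ((b.repr c i₀ : S) : A) * 1 ∈ S
  rw [mul_one]
  exact (b.repr c i₀).2

theorem isNoetherianRing_of_free {A : Type*} [CommRing A] [IsNoetherianRing A] [Nontrivial A]
    (S : Subring A) [Module.Free S A] : IsNoetherianRing S := by
  have h : IsNoetherian A (TensorProduct S A S) :=
    isNoetherian_of_linearEquiv (TensorProduct.AlgebraTensorModule.rid S A A).symm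
  exact Submodule.IsNoetherian.of_isNoetherian_tensorProduct_of_faithfullyFlat (A := A) h

end Generic

section Frob

variable {k : Type*} [Field k] (p : ℕ) [Fact p.Prime] [CharP k p] {σ : Type*}

theorem pow_mem_SL (L : Subring k) (hL : ∀ y : k, y ^ p ∈ L) (f : MvPowerSeries σ k) :
    f ^ p ∈ SL p L := by
  have hp0 : p ≠ 0 := (Fact.out : p.Prime).ne_zero
  haveI : ExpChar k p := ExpChar.prime Fact.out
  rw [← map_frobenius_expand p hp0]
  intro n
  rw [coeff_map, frobenius_def]
  refine ⟨hL _, ?_⟩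
  rintro ⟨i, hi⟩
  rw [coeff_expand_of_not_dvd p hp0 f hi, zero_pow hp0]

theorem exists_pow_eq (f : MvPowerSeries σ k)
    (h1 : ∀ n, ∃ w : k, coeff n f = w ^ p) (h2 : ∀ n, (∃ i, ¬ p ∣ n i) → coeff n f = 0) :
    ∃ g : MvPowerSeries σ k, f = g ^ p := by
  have hp0 : p ≠ 0 := (Fact.out : p.Prime).ne_zero
  haveI : ExpChar k p := ExpChar.prime Fact.out
  choose w hw using h1
  refine ⟨fun m => w (p • m), ?_⟩
  rw [← map_frobenius_expand p hp0]
  ext n
  rw [coeff_map, frobenius_def]
  by_cases hn : ∃ i, ¬ p ∣ n i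
  · obtain ⟨i, hi⟩ := hn
    rw [h2 n ⟨i, hi⟩, coeff_expand_of_not_dvd p hp0 _ hi, zero_pow hp0]
  · push Not at hn
    obtain ⟨m, rfl⟩ : ∃ m, n = p • m := by
      refine ⟨n.mapRange (· / p) (Nat.zero_div p), ?_⟩
      ext i
      rw [Finsupp.smul_apply, Finsupp.mapRange_apply, smul_eq_mul]
      exact (Nat.mul_div_cancel' (hn i)).symm
    rw [coeff_expand_smul, hw]
    rfl

end Frob

end Groth.Agent.Lib.Helper81.PowerSeriesPSub
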