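import Mathlib
import Groth.Prelude.Def_PP16
import Groth.Prelude.Def_CAlgX
import Groth.Agent.Lib.Helper81.GenFibreSmooth
import Groth.Agent.Lib.Helper81.PBasisFamily
import Groth.Agent.Lib.Helper81.PowerSeriesPSub
import Groth.Agent.Lib.Helper73.RegularCompletion
import Groth.Agent.Lib.Helper73.RegularLocalization
import Groth.Agent.S4616

/-!
# Formal smoothness of the generic formal fibres of `k[[X]]_m`, characteristic `p` (helper81)

EGA 0_IV 22.3.2 (ii), the case `B = A = k[[X_1..X_n]]`.
-/

set_option autoImplicit false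
set_option linter.style.haveILetI false
universe u
open IsLocalRing TensorProduct

namespace Groth.Agent.Lib.Helper81.GenFibreSmoothP

open Groth.Agent.Lib.Helper81.DerExtend Groth.Agent.Lib.Helper81.GenFibreDer
  Groth.Agent.Lib.Helper81.GenFibreSmooth Groth.Agent.Lib.Helper81.PowerSeriesPSub

/-- membership of `algebraMap c` in the subfield generated by a subring with a basis containing 1 -/
theorem mem_of_mem_closure {A : Type*} [CommRing A] [Nontrivial A] [NoZeroDivisors A]
    (S : Subring A) {ι : Type*}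
    (b : Module.Basis ι S A) (i₀ : ι) (hb : b i₀ = 1) (c : A)
    (hc : algebraMap A (FractionRing A) c ∈
      Subfield.closure (algebraMap A (FractionRing A) '' (S : Set A))) : c ∈ S := by
  haveI : IsDomain A := NoZeroDivisors.to_isDomain A
  have hcl : Subring.closure (algebraMap A (FractionRing A) '' (S : Set A)) =
      S.map (algebraMap A (FractionRing A)) := by
    rw [← Subring.coe_map]
    exact Subring.closure_eq _
  obtain ⟨y, hy, t, ht, hyt⟩ := Subfield.mem_closure_iff.1 hc
  rw [hcl] at hy ht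
  obtain ⟨s, hs, rfl⟩ := hy
  obtain ⟨t', ht', rfl⟩ := ht
  have hinj : Function.Injective (algebraMap A (FractionRing A)) :=
    IsFractionRing.injective A (FractionRing A)
  by_cases h0 : t' = 0
  · rw [h0, map_zero, div_zero] at hyt
    have : c = 0 := hinj (by rw [map_zero]; exact hyt.symm)
    rw [this]
    exact S.zero_mem
  · have h0' : algebraMap A (FractionRing A) t' ≠ 0 := fun h => h0 (hinj (by rw [h, map_zero]))
    rw [div_eq_iff h0', ← map_mul] at hyt
    have h1 : t' * c = s := by
      rw [mul_comm]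
      exact (hinj hyt).symm
    exact mem_of_mul_mem S b i₀ hb c ⟨s, hs⟩ ⟨t', ht'⟩
      (fun h => h0 (congrArg Subtype.val h)) h1

section

variable (p : ℕ) [Fact p.Prime] (k : Type u) [Field k] [CharP k p] (n : ℕ)

local notation "A₀" => MvPowerSeries (Fin n) k

local instance instDomPS : IsDomain (MvPowerSeries (Fin n) k) := NoZeroDivisors.to_isDomain _

local notation "K₀" => FractionRing (MvPowerSeries (Fin n) k)

/-- the family of subfields -/
noncomputable def kα {I : Type u} (L : Finset I → Subring k) (F : Finset I) : Subfield K₀ :=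
  Subfield.closure (algebraMap A₀ K₀ '' (SL p (σ := Fin n) (L F) : Set A₀))

set_option maxHeartbeats 1000000 in
theorem mem_iInf_kα_iff {I : Type u} (L : Finset I → Subring k)
    (hpow : ∀ F (y : k), y ^ p ∈ L F)
    (hbasis : ∀ F, ∃ (J : Type u) (_ : Fintype J) (u : J → k) (j₀ : J), u j₀ = 1 ∧
        (∀ c : J → k, (∀ j, c j ∈ L F) → ∑ j, c j * u j = 0 → ∀ j, c j = 0) ∧
        (∀ z : k, ∃ c : J → k, (∀ j, c j ∈ L F) ∧ z = ∑ j, c j * u j))
    (hint : ∀ z : k, (∀ F, z ∈ L F) → ∃ w : k, z = w ^ p) (z : K₀) :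
    (∀ F, z ∈ kα p k n L F) ↔ ∃ w : K₀, w ^ p = z := by
  classical
  have hp : p.Prime := Fact.out
  have hbas : ∀ F : Finset I, ∃ (ι : Type u)
      (b : Module.Basis ι (SL p (σ := Fin n) (L F)) A₀) (i₀ : ι), Finite ι ∧ b i₀ = 1 := by
    intro F
    obtain ⟨J, _, u, j₀, hj₀, hind, hspn⟩ := hbasis F
    obtain ⟨b, hb⟩ := exists_basis p hp.pos (σ := Fin n) (L F) u j₀ hj₀ hind hspn
    exact ⟨_, b, _, inferInstance, hb⟩
  constructor
  · intro hz
    obtain ⟨a, b, hb0, rfl⟩ := IsFractionRing.div_surjective (A := A₀) z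
    have hb0' : algebraMap A₀ K₀ b ≠ 0 :=
      IsFractionRing.to_map_ne_zero_of_mem_nonZeroDivisors hb0
    obtain ⟨m, hm⟩ : ∃ m, p = m + 1 := ⟨p - 1, (Nat.sub_add_cancel hp.one_le).symm⟩
    have hc : ∀ F : Finset I, a * b ^ m ∈ SL p (σ := Fin n) (L F) := by
      intro F
      obtain ⟨ι, bb, i₀, hfin, hbb⟩ := hbas F
      apply mem_of_mem_closure _ bb i₀ hbb
      have h1 := hz F
      have h2 : algebraMap A₀ K₀ (b ^ p) ∈ kα p k n L F :=
        Subfield.subset_closure ⟨b ^ p, pow_mem_SL p (L F) (hpow F) b, rfl⟩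
      have h3 := Subfield.mul_mem _ h1 h2
      have h4 : algebraMap A₀ K₀ a / algebraMap A₀ K₀ b * algebraMap A₀ K₀ (b ^ p) =
          algebraMap A₀ K₀ (a * b ^ m) := by
        rw [hm, map_mul, map_pow, map_pow, pow_succ]
        field_simp
      rw [h4] at h3
      exact h3
    obtain ⟨g, hg⟩ := exists_pow_eq p (a * b ^ m)
      (fun n => hint _ (fun F => (hc F n).1)) (fun n => (hc ∅ n).2)
    refine ⟨algebraMap A₀ K₀ g / algebraMap A₀ K₀ b, ?_⟩
    rw [div_pow, ← map_pow, ← hg, map_mul, map_pow, hm, pow_succ]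
    field_simp
  · rintro ⟨w, rfl⟩ F
    obtain ⟨a, b, hb0, rfl⟩ := IsFractionRing.div_surjective (A := A₀) w
    rw [div_pow, ← map_pow, ← map_pow]
    exact Subfield.div_mem _
      (Subfield.subset_closure ⟨a ^ p, pow_mem_SL p (L F) (hpow F) a, rfl⟩)
      (Subfield.subset_closure ⟨b ^ p, pow_mem_SL p (L F) (hpow F) b, rfl⟩)

include p in
set_option synthInstance.maxHeartbeats 200000 in
set_option maxHeartbeats 1000000 in
/-- EGA 0_IV 22.3.2 (ii) for `B = A = k[[X]]`: the local rings of the generic formal fibre of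
`k[[X]]_m` are formally smooth over the fraction field. -/
theorem isAdicFormallySmooth_generic
    (m : Ideal A₀) [m.IsPrime] (P₀ : Ideal (Cpl m)) [P₀.IsPrime]
    [Algebra K₀ (Localization.AtPrime P₀)]
    (hK : ∀ a : A₀, algebraMap K₀ (Localization.AtPrime P₀) (algebraMap A₀ K₀ a) = can m P₀ a) :
    CAlgX.IsAdicFormallySmooth K₀ (Localization.AtPrime P₀)
      (maximalIdeal (Localization.AtPrime P₀)) := by
  classical
  have hp : p.Prime := Fact.out
  haveI : CharP K₀ p := by
    have hinj : Function.Injective ((algebraMap A₀ K₀).comp (MvPowerSeries.C (σ := Fin n) (R := k))) :=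
      (IsFractionRing.injective A₀ K₀).comp (MvPowerSeries.C_injective (σ := Fin n) (R := k))
    exact charP_of_injective_ringHom hinj p
  obtain ⟨I, L, hpow, hmono, hbasis, hint⟩ :=
    Groth.Agent.Lib.Helper81.PBasisFamily.exists_family p k
  have hiff := mem_iInf_kα_iff p k n L hpow hbasis hint
  have hanti : Antitone (kα p k n L) := by
    intro F G hFG
    exact Subfield.closure_mono (Set.image_mono (SL_mono p (hmono F G hFG)))
  have hfrob : ∀ F, (frobenius K₀ p).fieldRange ≤ kα p k n L F := by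
    rintro F _ ⟨w, rfl⟩
    exact (hiff _).2 ⟨w, rfl⟩ F
  have hint' : ⨅ F, (kα p k n L F ⊔ (frobenius K₀ p).fieldRange) = (frobenius K₀ p).fieldRange := by
    apply le_antisymm
    · intro z hz
      rw [Subfield.mem_iInf] at hz
      have hz' : ∀ F, z ∈ kα p k n L F := by
        intro F
        have := hz F
        rwa [sup_eq_left.2 (hfrob F)] at this
      obtain ⟨w, hw⟩ := (hiff z).1 hz'
      exact ⟨w, hw⟩
    · exact le_iInf fun F => le_sup_right
  -- regularity
  haveI : IsRegularRing A₀ := Groth.Agent.Lib.Helper73.RegularRing.isRegularRing_mvPowerSeries k n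
  haveI : IsNoetherianRing A₀ := inferInstance
  haveI : IsRegularRing (Localization.AtPrime m) :=
    Groth.Agent.Lib.Helper73.RegularRing.isRegularRing_of_isLocalization m.primeCompl _
  haveI : IsRegularRing (Cpl m) :=
    Groth.Agent.Lib.Helper73.RegularRing.isRegularRing_adicCompletion _ _
  haveI : IsRegularRing (Localization.AtPrime P₀) :=
    Groth.Agent.Lib.Helper73.RegularRing.isRegularRing_of_isLocalization P₀.primeCompl _
  haveI : IsRegularLocalRing (Localization.AtPrime P₀) :=
    IsRegularLocalRing.of_isRegularRing_of_isLocalRing _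
  have hsym : PP16.SymGrBijective (Localization.AtPrime P₀)
      (maximalIdeal (Localization.AtPrime P₀)) := symGrBijective_of_regular (K := K₀)
  refine (Groth.Agent.S4616.result p (kα p k n L) hanti hint').2 ⟨hsym, ∅, fun F _ => ?_⟩
  obtain ⟨J, _, u, j₀, hj₀, hind, hspn⟩ := hbasis F
  obtain ⟨b, hb⟩ := exists_basis p hp.pos (σ := Fin n) (L F) u j₀ hj₀ hind hspn
  haveI : Module.Free (SL p (σ := Fin n) (L F)) A₀ := Module.Free.of_basis b
  haveI : Module.Finite (SL p (σ := Fin n) (L F)) A₀ := Module.Finite.of_basis b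
  haveI : IsNoetherianRing (SL p (σ := Fin n) (L F)) := isNoetherianRing_of_free _
  exact injective_index (SL p (σ := Fin n) (L F)) m P₀ K₀ hK (kα p k n L F)
    (fun s => Subfield.subset_closure ⟨s, s.2, rfl⟩)

end

end Groth.Agent.Lib.Helper81.GenFibreSmoothP
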