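import Mathlib
import Groth.Prelude.Def_CAlgX
import Groth.Agent.Lib.Helper81.GenFibreSmoothP
import Groth.Agent.Lib.Helper81.FSTransfer

/-!
# Formal smoothness of generic formal fibres of finite domains over `k[[X]]`, char. `p` (helper81)

EGA 0_IV 22.3.2 (ii)/22.3.3 in characteristic `p`.
-/

set_option autoImplicit false
set_option linter.style.haveILetI false
universe u
open IsLocalRing TensorProduct

namespace Groth.Agent.Lib.Helper81.GenFibreFinite

open Groth.Agent.H8.FinCompl Groth.Agent.Lib.Helper81.DerExtend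
  Groth.Agent.Lib.Helper81.GenFibreDer Groth.Agent.Lib.Helper81.GenFibreSmoothP
  Groth.Agent.Lib.Helper81.FSTransfer

set_option synthInstance.maxHeartbeats 200000 in
set_option maxHeartbeats 1000000 in
/-- the formally étale map `Λ_S ⊗_S A → (A_m)^_{P₀}` -/
theorem exists_tensorMap {A : Type u} [CommRing A] [IsNoetherianRing A]
    (S : Type u) [CommRing S] [Algebra S A] [IsNoetherianRing S] [Module.Finite S A]
    (m : Ideal A) [m.IsPrime] (P₀ : Ideal (Cpl m)) [P₀.IsPrime] :
    ∃ ψ : TT S m →+* Localization.AtPrime P₀,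
      @Algebra.FormallyEtale _ (Localization.AtPrime P₀) _ _ ψ.toAlgebra ∧
      ∀ a : A, ψ (1 ⊗ₜ a) = can m P₀ a := by
  haveI hlo : m.LiesOver (mS S m) := ⟨rfl⟩
  obtain ⟨θ, hθ⟩ := exists_cplEquiv_tensor S A (mS S m) m
  let ψ : TT S m →+* Localization.AtPrime P₀ :=
    (algebraMap (Cpl m) (Localization.AtPrime P₀)).comp (θ.symm.toRingHom.comp
      (algebraMap (TT S m) (Localization.AtPrime (maxOver S A (mS S m) m))))
  have hψ1 : ∀ a : A, ψ (1 ⊗ₜ a) = can m P₀ a := by
    intro a
    change algebraMap (Cpl m) (Localization.AtPrime P₀) (θ.symm (algebraMap (TT S m)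
      (Localization.AtPrime (maxOver S A (mS S m) m)) (1 ⊗ₜ a))) = _
    rw [← hθ a, RingEquiv.symm_apply_apply]
    rfl
  have hψ : @Algebra.FormallyEtale _ (Localization.AtPrime P₀) _ _ ψ.toAlgebra := by
    letI algTE : Algebra (TT S m) (Localization.AtPrime P₀) := ψ.toAlgebra
    letI algTΛ : Algebra (TT S m) (Cpl m) :=
      (θ.symm.toRingHom.comp
        (algebraMap (TT S m) (Localization.AtPrime (maxOver S A (mS S m) m)))).toAlgebra
    haveI : @IsScalarTower (TT S m) (Cpl m) (Localization.AtPrime P₀) Algebra.toSMul Algebra.toSMul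
        Algebra.toSMul := IsScalarTower.of_algebraMap_eq (fun _ => rfl)
    let e : @AlgEquiv (TT S m) (Localization.AtPrime (maxOver S A (mS S m) m)) (Cpl m)
        CommRing.toCommSemiring CommRing.toCommSemiring.toSemiring
        CommRing.toCommSemiring.toSemiring _ algTΛ :=
      { θ.symm with commutes' := fun _ => rfl }
    haveI : Algebra.FormallyEtale (TT S m) (Cpl m) := Algebra.FormallyEtale.of_equiv
      (A := Localization.AtPrime (maxOver S A (mS S m) m)) e
    haveI : Algebra.FormallyEtale (Cpl m) (Localization.AtPrime P₀) :=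
      Algebra.FormallyEtale.of_isLocalization (Rₘ := Localization.AtPrime P₀) P₀.primeCompl
    exact Algebra.FormallyEtale.comp (TT S m) (Cpl m) (Localization.AtPrime P₀)
  exact ⟨ψ, hψ, hψ1⟩

section

variable (p : ℕ) [Fact p.Prime] (k : Type u) [Field k] [CharP k p] (n : ℕ)

local notation "A₀" => MvPowerSeries (Fin n) k

local instance instDomPS' : IsDomain (MvPowerSeries (Fin n) k) := NoZeroDivisors.to_isDomain _

local notation "K₀" => FractionRing (MvPowerSeries (Fin n) k)

include p in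
set_option synthInstance.maxHeartbeats 200000 in
set_option maxHeartbeats 2000000 in
/-- EGA 0_IV 22.3.2 (ii) in characteristic `p`: `B` a domain finite over `k[[X]]`, `𝔫` a prime
of `B`, `q` a prime of `(B_𝔫)^` over `0`; then `(B_𝔫)^_q` is formally smooth over `Frac B`. -/
theorem smooth_charP {B : Type u} [CommRing B] [IsDomain B] [Algebra A₀ B] [Module.Finite A₀ B]
    (hinj : Function.Injective (algebraMap A₀ B)) (𝔫 : Ideal B) [𝔫.IsPrime]
    (q : Ideal (Cpl 𝔫)) [q.IsPrime]
    [Algebra (FractionRing B) (Localization.AtPrime q)]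
    (hL : ∀ b : B, algebraMap (FractionRing B) (Localization.AtPrime q)
      (algebraMap B (FractionRing B) b) = can 𝔫 q b) :
    CAlgX.IsAdicFormallySmooth (FractionRing B) (Localization.AtPrime q)
      (maximalIdeal (Localization.AtPrime q)) := by
  classical
  haveI : IsNoetherianRing A₀ := inferInstance
  haveI : IsNoetherianRing B := IsNoetherianRing.of_finite A₀ B
  obtain ⟨ψT, hψ, hψ1⟩ := exists_tensorMap A₀ 𝔫 q
  let jΛ : CplS A₀ 𝔫 →+* Localization.AtPrime q :=
    ψT.comp (Algebra.TensorProduct.includeLeftRingHom)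
  have hjΛ : ∀ l, jΛ l = ψT (l ⊗ₜ 1) := fun _ => rfl
  let P₀ : Ideal (Cpl (mS A₀ 𝔫)) := (maximalIdeal (Localization.AtPrime q)).comap jΛ
  haveI hP₀ : P₀.IsPrime := Ideal.comap_isPrime jΛ _
  have hunit : ∀ s : P₀.primeCompl, IsUnit (jΛ s) := by
    intro s
    have h1 : (s : Cpl (mS A₀ 𝔫)) ∉ P₀ := s.2
    have h2 : jΛ s ∉ maximalIdeal (Localization.AtPrime q) := fun h => h1 h
    rwa [mem_maximalIdeal, mem_nonunits_iff, not_not] at h2
  let φ : Localization.AtPrime P₀ →+* Localization.AtPrime q := IsLocalization.lift hunit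
  have h2 : ∀ l, φ (algebraMap (Cpl (mS A₀ 𝔫)) (Localization.AtPrime P₀) l) = ψT (l ⊗ₜ 1) :=
    fun l => IsLocalization.lift_eq hunit l
  have h𝔫 : ∀ x ∈ maximalIdeal (Localization.AtPrime P₀),
      φ x ∈ maximalIdeal (Localization.AtPrime q) := by
    intro x hx
    obtain ⟨l, s, rfl⟩ := IsLocalization.exists_mk'_eq P₀.primeCompl x
    have h3 : algebraMap (Cpl (mS A₀ 𝔫)) (Localization.AtPrime P₀) l ∈
        maximalIdeal (Localization.AtPrime P₀) := by
      rw [← IsLocalization.mk'_spec (Localization.AtPrime P₀) l s]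
      exact Ideal.mul_mem_right _ _ hx
    rw [IsLocalization.AtPrime.to_map_mem_maximal_iff (Localization.AtPrime P₀) P₀] at h3
    have h4 : φ (IsLocalization.mk' (Localization.AtPrime P₀) l s) * jΛ s = jΛ l := by
      rw [hjΛ, hjΛ, ← h2, ← h2, ← map_mul, IsLocalization.mk'_spec]
    have h5 : jΛ l ∈ maximalIdeal (Localization.AtPrime q) := h3
    rw [← h4] at h5
    rcases (Ideal.IsPrime.mem_or_mem (inferInstance : (maximalIdeal
      (Localization.AtPrime q)).IsPrime) h5) with h6 | h6
    · exact h6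
    · exfalso
      rw [mem_maximalIdeal, mem_nonunits_iff] at h6
      exact h6 (hunit s)
  -- the algebra structure over `K₀`
  have hjA : ∀ a₀ : A₀, jΛ (algebraMap A₀ (Cpl (mS A₀ 𝔫)) a₀) =
      algebraMap (FractionRing B) (Localization.AtPrime q)
        (algebraMap B (FractionRing B) (algebraMap A₀ B a₀)) := by
    intro a₀
    rw [hjΛ, hL, ← hψ1]
    congr 1
    rw [Algebra.algebraMap_eq_smul_one, TensorProduct.smul_tmul, ← Algebra.algebraMap_eq_smul_one]
  have hA₀unit : ∀ a₀ : nonZeroDivisors A₀, IsUnit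
      (((algebraMap (Cpl (mS A₀ 𝔫)) (Localization.AtPrime P₀)).comp
        (algebraMap A₀ (Cpl (mS A₀ 𝔫)))) a₀) := by
    intro a₀
    have h3 : algebraMap A₀ (Cpl (mS A₀ 𝔫)) a₀ ∉ P₀ := by
      intro h
      have h4 : jΛ (algebraMap A₀ (Cpl (mS A₀ 𝔫)) a₀) ∈ maximalIdeal (Localization.AtPrime q) := h
      rw [hjA, mem_maximalIdeal, mem_nonunits_iff] at h4
      apply h4
      apply IsUnit.map
      rw [isUnit_iff_ne_zero]
      intro h0
      have h5 : algebraMap A₀ B a₀ = 0 :=
        IsFractionRing.injective B (FractionRing B) (by rw [h0, map_zero])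
      have h6 : (a₀ : A₀) = 0 := hinj (by rw [h5, map_zero])
      exact nonZeroDivisors.ne_zero a₀.2 h6
    exact IsLocalization.map_units (Localization.AtPrime P₀)
      (⟨algebraMap A₀ (Cpl (mS A₀ 𝔫)) a₀, h3⟩ : P₀.primeCompl)
  letI algKE₀ : Algebra K₀ (Localization.AtPrime P₀) := (IsLocalization.lift hA₀unit).toAlgebra
  have hK : ∀ a : A₀, algebraMap K₀ (Localization.AtPrime P₀) (algebraMap A₀ K₀ a) =
      can (mS A₀ 𝔫) P₀ a := fun a => IsLocalization.lift_eq hA₀unit a
  have hsm := isAdicFormallySmooth_generic p k n (mS A₀ 𝔫) P₀ hK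
  have hinj' : Function.Injective ((algebraMap B (FractionRing B)).comp (algebraMap A₀ B)) :=
    (IsFractionRing.injective B (FractionRing B)).comp hinj
  letI algKL : Algebra K₀ (FractionRing B) := (IsFractionRing.lift hinj').toAlgebra
  have hKL : ∀ a₀ : A₀, algebraMap K₀ (FractionRing B) (algebraMap A₀ K₀ a₀) =
      algebraMap B (FractionRing B) (algebraMap A₀ B a₀) :=
    fun a₀ => IsFractionRing.lift_algebraMap hinj' a₀
  exact transfer (A := B) (L := FractionRing B) (Λ := Cpl (mS A₀ 𝔫))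
    (E₀ := Localization.AtPrime P₀) (E := Localization.AtPrime q) hKL
    (algebraMap (Cpl (mS A₀ 𝔫)) (Localization.AtPrime P₀)) (fun a₀ => hK a₀) ψT hψ φ h2
    (fun b => by rw [hψ1, hL]) _ _ h𝔫 hsm

end

end Groth.Agent.Lib.Helper81.GenFibreFinite
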