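import Mathlib
import Groth.Prelude.Def_CAlgX
import Groth.Prelude.Def_Found
import Groth.Agent.Lib.Helper81.FSTransfer
import Groth.Agent.Lib.Helper90.SmoothRegular3

/-!
# Geometric regularity of a generic fibre from formal smoothness of its local rings (helper81)

`B` a domain with fraction field `K`, `S` a Noetherian `B`-algebra.  If for every prime `q'` of `S`
lying over `0`, the local ring `S_{q'}` is formally smooth over `K` for its adic topology, then
`K ⊗_B S` is geometrically regular over `K`.
-/

set_option autoImplicit false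
set_option linter.style.haveILetI false
universe u
open IsLocalRing TensorProduct

namespace Groth.Agent.Lib.Helper81.GenFibreGeomReg

open Groth.Agent.Lib.Helper81.FSTransfer

set_option synthInstance.maxHeartbeats 200000 in
set_option maxHeartbeats 2000000 in
theorem isGeometricallyRegular_fibre_of_local_smooth
    {B S K : Type u} [CommRing B] [IsDomain B] [CommRing S] [IsNoetherianRing S] [Algebra B S]
    [Field K] [Algebra B K] [IsFractionRing B K]
    (H : ∀ (q' : Ideal S) [q'.IsPrime], q'.comap (algebraMap B S) = ⊥ →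
      ∀ [Algebra K (Localization.AtPrime q')],
        (∀ b : B, algebraMap K (Localization.AtPrime q') (algebraMap B K b) =
          algebraMap S (Localization.AtPrime q') (algebraMap B S b)) →
        CAlgX.IsAdicFormallySmooth K (Localization.AtPrime q')
          (maximalIdeal (Localization.AtPrime q'))) :
    CAlg.IsGeometricallyRegular K (K ⊗[B] S) := by
  classical
  intro k' _ _ hfin
  haveI := hfin
  letI algBk' : Algebra B k' := ((algebraMap K k').comp (algebraMap B K)).toAlgebra
  haveI : IsScalarTower B K k' := IsScalarTower.of_algebraMap_eq (fun _ => rfl)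
  -- Noetherianity
  haveI hN1 : IsNoetherianRing (S ⊗[B] K) :=
    IsLocalization.isNoetherianRing (Algebra.algebraMapSubmonoid S (nonZeroDivisors B)) _
      inferInstance
  haveI hN2 : IsNoetherianRing (K ⊗[B] S) :=
    isNoetherianRing_of_ringEquiv _ (Algebra.TensorProduct.comm B S K).toRingEquiv
  haveI hN3 : IsNoetherianRing (k' ⊗[K] (K ⊗[B] S)) := by
    letI : Algebra (K ⊗[B] S) (k' ⊗[K] (K ⊗[B] S)) := Algebra.TensorProduct.rightAlgebra
    haveI : Module.Finite (K ⊗[B] S) (k' ⊗[K] (K ⊗[B] S)) :=
      Module.Finite.equiv (Algebra.TensorProduct.commRight K (K ⊗[B] S) k').toLinearEquiv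
    exact IsNoetherianRing.of_finite (K ⊗[B] S) _
  rw [isRegularRing_iff]
  intro Q' _
  -- the canonical map `S → T`
  let j : S →+* k' ⊗[K] (K ⊗[B] S) :=
    (Algebra.TensorProduct.includeRight : (K ⊗[B] S) →ₐ[K] k' ⊗[K] (K ⊗[B] S)).toRingHom.comp
      (Algebra.TensorProduct.includeRight : S →ₐ[B] K ⊗[B] S).toRingHom
  have hj : ∀ s : S, j s = (1 : k') ⊗ₜ[K] ((1 : K) ⊗ₜ[B] s) := fun _ => rfl
  have hjB : ∀ b : B, j (algebraMap B S b) =
      algebraMap k' (k' ⊗[K] (K ⊗[B] S)) (algebraMap K k' (algebraMap B K b)) := by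
    intro b
    have h1 : ((1 : K) ⊗ₜ[B] (algebraMap B S b) : K ⊗[B] S) =
        (algebraMap B K b) • ((1 : K) ⊗ₜ[B] (1 : S)) := by
      rw [TensorProduct.smul_tmul', smul_eq_mul, mul_one,
        Algebra.algebraMap_eq_smul_one (R := B) (A := S), TensorProduct.tmul_smul,
        TensorProduct.smul_tmul', ← Algebra.algebraMap_eq_smul_one]
    rw [hj, h1, ← TensorProduct.smul_tmul, Algebra.TensorProduct.algebraMap_apply,
      Algebra.algebraMap_self, RingHom.id_apply, Algebra.smul_def, mul_one,
      Algebra.TensorProduct.one_def]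
  let q' : Ideal S := Q'.comap j
  haveI : q'.IsPrime := Ideal.comap_isPrime j Q'
  have hq' : q'.comap (algebraMap B S) = ⊥ := by
    rw [eq_bot_iff]
    intro b hb
    rw [Ideal.mem_bot]
    by_contra hb0
    have h1 : j (algebraMap B S b) ∈ Q' := hb
    rw [hjB] at h1
    have h2 : algebraMap K k' (algebraMap B K b) ≠ 0 := by
      intro h0
      have h3 : algebraMap B K b = 0 := (algebraMap K k').injective (by rw [h0, map_zero])
      exact hb0 (IsFractionRing.injective B K (by rw [h3, map_zero]))
    have h4 : IsUnit (algebraMap k' (k' ⊗[K] (K ⊗[B] S)) (algebraMap K k' (algebraMap B K b))) :=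
      (isUnit_iff_ne_zero.2 h2).map _
    exact (Ideal.IsPrime.ne_top inferInstance) (Ideal.eq_top_of_isUnit_mem _ h1 h4)
  -- the algebra structure of `S_{q'}` over `K`
  have hBunit : ∀ b : nonZeroDivisors B, IsUnit
      (((algebraMap S (Localization.AtPrime q')).comp (algebraMap B S)) b) := by
    intro b
    have h3 : algebraMap B S b ∉ q' := by
      intro h
      have h4 : (b : B) ∈ q'.comap (algebraMap B S) := h
      rw [hq', Ideal.mem_bot] at h4
      exact nonZeroDivisors.ne_zero b.2 h4
    exact IsLocalization.map_units (Localization.AtPrime q')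
      (⟨algebraMap B S b, h3⟩ : q'.primeCompl)
  letI algKE₀ : Algebra K (Localization.AtPrime q') := (IsLocalization.lift hBunit).toAlgebra
  have hK : ∀ b : B, algebraMap K (Localization.AtPrime q') (algebraMap B K b) =
      algebraMap S (Localization.AtPrime q') (algebraMap B S b) :=
    fun b => IsLocalization.lift_eq hBunit b
  have hsm := H q' hq' hK
  -- the map `S_{q'} → T_{Q'}`
  have hunit : ∀ s : q'.primeCompl, IsUnit
      (((algebraMap (k' ⊗[K] (K ⊗[B] S)) (Localization.AtPrime Q')).comp j) s) := by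
    intro s
    have h1 : j s ∉ Q' := s.2
    exact IsLocalization.map_units (Localization.AtPrime Q') (⟨j s, h1⟩ : Q'.primeCompl)
  let φ : Localization.AtPrime q' →+* Localization.AtPrime Q' := IsLocalization.lift hunit
  have hφ : ∀ s : S, φ (algebraMap S (Localization.AtPrime q') s) =
      algebraMap (k' ⊗[K] (K ⊗[B] S)) (Localization.AtPrime Q') (j s) :=
    fun s => IsLocalization.lift_eq hunit s
  have h𝔫 : ∀ x ∈ maximalIdeal (Localization.AtPrime q'),
      φ x ∈ maximalIdeal (Localization.AtPrime Q') := by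
    intro x hx
    obtain ⟨l, s, rfl⟩ := IsLocalization.exists_mk'_eq q'.primeCompl x
    have h3 : algebraMap S (Localization.AtPrime q') l ∈
        maximalIdeal (Localization.AtPrime q') := by
      rw [← IsLocalization.mk'_spec (Localization.AtPrime q') l s]
      exact Ideal.mul_mem_right _ _ hx
    rw [IsLocalization.AtPrime.to_map_mem_maximal_iff (Localization.AtPrime q') q'] at h3
    have h4 : φ (IsLocalization.mk' (Localization.AtPrime q') l s) *
        algebraMap (k' ⊗[K] (K ⊗[B] S)) (Localization.AtPrime Q') (j s) =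
        algebraMap (k' ⊗[K] (K ⊗[B] S)) (Localization.AtPrime Q') (j l) := by
      rw [← hφ, ← hφ, ← map_mul, IsLocalization.mk'_spec]
    have h5 : algebraMap (k' ⊗[K] (K ⊗[B] S)) (Localization.AtPrime Q') (j l) ∈
        maximalIdeal (Localization.AtPrime Q') := by
      rw [IsLocalization.AtPrime.to_map_mem_maximal_iff (Localization.AtPrime Q') Q']
      exact h3
    rw [← h4] at h5
    rcases (Ideal.IsPrime.mem_or_mem (inferInstance : (maximalIdeal
      (Localization.AtPrime Q')).IsPrime) h5) with h6 | h6
    · exact h6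
    · exfalso
      rw [mem_maximalIdeal, mem_nonunits_iff] at h6
      exact h6 (hunit s)
  -- the formally étale map out of `S ⊗_B k'`
  let e : S ⊗[B] k' ≃+* k' ⊗[K] (K ⊗[B] S) :=
    (Algebra.TensorProduct.comm B S k').toRingEquiv.trans
      (Algebra.TensorProduct.cancelBaseChange B K K k' S).symm.toRingEquiv
  have he : ∀ (s : S) (c : k'), e (s ⊗ₜ c) = c ⊗ₜ[K] ((1 : K) ⊗ₜ[B] s) := by
    intro s c
    change (Algebra.TensorProduct.cancelBaseChange B K K k' S).symm
      (Algebra.TensorProduct.comm B S k' (s ⊗ₜ c)) = _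
    rw [Algebra.TensorProduct.comm_tmul, Algebra.TensorProduct.cancelBaseChange_symm_tmul]
  let ψT : S ⊗[B] k' →+* Localization.AtPrime Q' :=
    (algebraMap (k' ⊗[K] (K ⊗[B] S)) (Localization.AtPrime Q')).comp e.toRingHom
  have hψT : ∀ t, ψT t = algebraMap (k' ⊗[K] (K ⊗[B] S)) (Localization.AtPrime Q') (e t) :=
    fun _ => rfl
  have hψ : @Algebra.FormallyEtale _ (Localization.AtPrime Q') _ _ ψT.toAlgebra := by
    letI algTE : Algebra (S ⊗[B] k') (Localization.AtPrime Q') := ψT.toAlgebra
    letI algTT : Algebra (S ⊗[B] k') (k' ⊗[K] (K ⊗[B] S)) := e.toRingHom.toAlgebra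
    haveI : @IsScalarTower (S ⊗[B] k') (k' ⊗[K] (K ⊗[B] S)) (Localization.AtPrime Q')
        Algebra.toSMul Algebra.toSMul Algebra.toSMul :=
      IsScalarTower.of_algebraMap_eq (fun _ => rfl)
    let e' : (S ⊗[B] k') ≃ₐ[S ⊗[B] k'] (k' ⊗[K] (K ⊗[B] S)) :=
      { e with commutes' := fun _ => rfl }
    haveI : Algebra.FormallyEtale (S ⊗[B] k') (k' ⊗[K] (K ⊗[B] S)) :=
      Algebra.FormallyEtale.of_equiv e'
    haveI : Algebra.FormallyEtale (k' ⊗[K] (K ⊗[B] S)) (Localization.AtPrime Q') :=
      Algebra.FormallyEtale.of_isLocalization (Rₘ := Localization.AtPrime Q') Q'.primeCompl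
    exact Algebra.FormallyEtale.comp (S ⊗[B] k') (k' ⊗[K] (K ⊗[B] S)) (Localization.AtPrime Q')
  have hfs : CAlgX.IsAdicFormallySmooth k' (Localization.AtPrime Q')
      (maximalIdeal (Localization.AtPrime Q')) := by
    refine transfer (A₀ := B) (A := k') (L := k') (Λ := S) (E₀ := Localization.AtPrime q')
      (E := Localization.AtPrime Q') (K₀ := K) (fun _ => rfl)
      (algebraMap S (Localization.AtPrime q')) (fun b => hK b) ψT hψ φ ?_ ?_ _ _ h𝔫 hsm
    · intro s
      rw [hφ, hψT, he, hj]
    · intro c
      rw [hψT, he, Algebra.algebraMap_self, RingHom.id_apply,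
        IsScalarTower.algebraMap_apply k' (k' ⊗[K] (K ⊗[B] S)) (Localization.AtPrime Q'),
        Algebra.TensorProduct.algebraMap_apply, Algebra.algebraMap_self, RingHom.id_apply]
      rfl
  haveI : IsNoetherianRing (Localization.AtPrime Q') :=
    IsLocalization.isNoetherianRing Q'.primeCompl _ inferInstance
  exact Groth.Agent.Lib.Helper90.SmoothRegular.regular_of_smooth_general hfs

end Groth.Agent.Lib.Helper81.GenFibreGeomReg
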