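import Mathlib
import Groth.Prelude.Def_EGA41

/-!
# Formal smoothness of the closed fibre (helper81)

`fibre_formallySmooth`: `A → A₀` a surjection of local rings, `B₀` a formally smooth `A₀`-algebra
(adic topologies of the maximal ideals), `B` a local `A`-algebra with a surjection `p : B → B₀`
over `A → A₀` whose kernel lies in `𝔪_A B`.  Then `B / 𝔪_A B` is formally smooth over `A / 𝔪_A`
(discrete base, `𝔪_B`-adic topology).
-/

set_option autoImplicit false
universe u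

open IsLocalRing

namespace Groth.Agent.Lib.Helper81.FibreFS

theorem fibre_formallySmooth {A A₀ B B₀ : Type u} [CommRing A] [IsLocalRing A] [CommRing A₀]
    [IsLocalRing A₀] (s : A →+* A₀) (hs : Function.Surjective s)
    [CommRing B₀] [IsLocalRing B₀] [Algebra A₀ B₀]
    (hfs : EGA41.IsFormallySmoothAdic A₀ (maximalIdeal A₀) B₀ (maximalIdeal B₀))
    [CommRing B] [IsLocalRing B] [Algebra A B]
    (p : B →+* B₀) (hp : Function.Surjective p)
    (hcompat : ∀ a, p (algebraMap A B a) = algebraMap A₀ B₀ (s a))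
    (hker : RingHom.ker p ≤ (maximalIdeal A).map (algebraMap A B)) :
    EGA41.IsFormallySmoothAdic (A ⧸ maximalIdeal A) ⊥
      (B ⧸ (maximalIdeal A).map (algebraMap A B))
      ((maximalIdeal B).map (Ideal.Quotient.mk ((maximalIdeal A).map (algebraMap A B)))) := by
  classical
  intro C _ _ N hN _ u hu
  obtain ⟨m, hm⟩ := hu
  set 𝔪B : Ideal B := (maximalIdeal A).map (algebraMap A B) with h𝔪B
  have hkers : RingHom.ker s ≤ maximalIdeal A := IsLocalRing.le_maximalIdeal (RingHom.ker_ne_top s)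
  let sbar : A₀ →+* A ⧸ maximalIdeal A := RingHom.liftOfSurjective s hs
    ⟨Ideal.Quotient.mk (maximalIdeal A), by rw [Ideal.mk_ker]; exact hkers⟩
  have hsbar : ∀ a, sbar (s a) = Ideal.Quotient.mk (maximalIdeal A) a := fun a =>
    RingHom.liftOfRightInverse_comp_apply _ _ _ _ a
  letI algA₀C : Algebra A₀ C := ((algebraMap (A ⧸ maximalIdeal A) C).comp sbar).toAlgebra
  have halg : ∀ a : A, algebraMap A₀ C (s a) =
      algebraMap (A ⧸ maximalIdeal A) C (Ideal.Quotient.mk (maximalIdeal A) a) := by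
    intro a
    change algebraMap (A ⧸ maximalIdeal A) C (sbar (s a)) = _
    rw [hsbar]
  have halg0 : ∀ a ∈ maximalIdeal A, algebraMap A₀ C (s a) = 0 := by
    intro a ha
    rw [halg, Ideal.Quotient.eq_zero_iff_mem.mpr ha, map_zero]
  have h1 : ∃ k : ℕ, ((maximalIdeal A₀) ^ k).map (algebraMap A₀ C) = ⊥ := by
    refine ⟨1, ?_⟩
    rw [pow_one, ← map_maximalIdeal_of_surjective s hs, Ideal.map_map, eq_bot_iff,
      Ideal.map_le_iff_le_comap]
    intro a ha
    rw [Ideal.mem_comap, Ideal.mem_bot, RingHom.comp_apply]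
    exact halg0 a ha
  -- the map `B₀ → C ⧸ N`
  let g : B →+* C ⧸ N := u.toRingHom.comp (Ideal.Quotient.mk 𝔪B)
  have hg : RingHom.ker p ≤ RingHom.ker g := by
    intro x hx
    rw [RingHom.mem_ker, RingHom.comp_apply, Ideal.Quotient.eq_zero_iff_mem.mpr (hker hx), map_zero]
  let u₀r : B₀ →+* C ⧸ N := RingHom.liftOfSurjective p hp ⟨g, hg⟩
  have hu₀r : ∀ b, u₀r (p b) = u (Ideal.Quotient.mk 𝔪B b) := fun b =>
    RingHom.liftOfRightInverse_comp_apply _ _ _ ⟨g, hg⟩ b
  have hmkalg : ∀ a : A, Ideal.Quotient.mk 𝔪B (algebraMap A B a) =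
      algebraMap (A ⧸ maximalIdeal A) (B ⧸ 𝔪B) (Ideal.Quotient.mk (maximalIdeal A) a) := fun a => rfl
  let u₀ : B₀ →ₐ[A₀] C ⧸ N :=
    { u₀r with
      commutes' := fun r => by
        obtain ⟨a, rfl⟩ := hs r
        change u₀r (algebraMap A₀ B₀ (s a)) = _
        rw [← hcompat, hu₀r, hmkalg, u.commutes]
        change _ = Ideal.Quotient.mk N (algebraMap A₀ C (s a))
        rw [halg]
        rfl }
  have hu₀ : ∀ b, u₀ (p b) = u (Ideal.Quotient.mk 𝔪B b) := hu₀r
  have hkill : ∃ k : ℕ, ∀ x ∈ (maximalIdeal B₀) ^ k, u₀ x = 0 := by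
    refine ⟨m, fun x hx => ?_⟩
    rw [← map_maximalIdeal_of_surjective p hp, ← Ideal.map_pow] at hx
    obtain ⟨y, hy, rfl⟩ := (Ideal.mem_map_iff_of_surjective p hp).mp hx
    rw [hu₀]
    apply hm
    rw [← Ideal.map_pow]
    exact Ideal.mem_map_of_mem _ hy
  obtain ⟨v₀, hv₀⟩ := hfs C N hN h1 u₀ hkill
  have hv₀alg : ∀ a : A, v₀ (p (algebraMap A B a)) =
      algebraMap (A ⧸ maximalIdeal A) C (Ideal.Quotient.mk (maximalIdeal A) a) := by
    intro a
    rw [hcompat, v₀.commutes, halg]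
  have hvkill : ∀ x ∈ 𝔪B, (v₀.toRingHom.comp p) x = 0 := by
    have : 𝔪B ≤ RingHom.ker (v₀.toRingHom.comp p) := by
      rw [h𝔪B, Ideal.map_le_iff_le_comap]
      intro a ha
      rw [Ideal.mem_comap, RingHom.mem_ker, RingHom.comp_apply]
      change v₀ (p (algebraMap A B a)) = 0
      rw [hv₀alg, Ideal.Quotient.eq_zero_iff_mem.mpr ha, map_zero]
    exact fun x hx => this hx
  let vr : B ⧸ 𝔪B →+* C := Ideal.Quotient.lift 𝔪B (v₀.toRingHom.comp p) hvkill
  have hvr : ∀ b, vr (Ideal.Quotient.mk 𝔪B b) = v₀ (p b) := fun b => rfl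
  let v : B ⧸ 𝔪B →ₐ[A ⧸ maximalIdeal A] C :=
    { vr with
      commutes' := fun r => by
        obtain ⟨a, rfl⟩ := Ideal.Quotient.mk_surjective r
        change vr (algebraMap (A ⧸ maximalIdeal A) (B ⧸ 𝔪B) (Ideal.Quotient.mk _ a)) = _
        rw [← hmkalg, hvr, hv₀alg] }
  refine ⟨v, ?_⟩
  ext x
  obtain ⟨b, rfl⟩ := Ideal.Quotient.mk_surjective x
  change Ideal.Quotient.mk N (vr (Ideal.Quotient.mk 𝔪B b)) = _
  rw [hvr, ← hu₀]
  exact AlgHom.congr_fun hv₀ (p b)

end Groth.Agent.Lib.Helper81.FibreFS
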