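import Mathlib

/-!
# From a surjection with kernel `J B` to an isomorphism `(A/J) ⊗_A B ≃ B₀` (helper81)
-/

set_option autoImplicit false

open TensorProduct

namespace Groth.Agent.Lib.Helper81.FibreTensor

theorem nonempty_tensor_algEquiv {A : Type*} [CommRing A] (k' : Type*) [CommRing k'] [Algebra A k']
    (hsurj : Function.Surjective (algebraMap A k'))
    {B : Type*} [CommRing B] [Algebra A B] {B₀ : Type*} [CommRing B₀] [Algebra k' B₀]
    [Algebra A B₀] [IsScalarTower A k' B₀]
    (π : B →ₐ[A] B₀) (hπ : Function.Surjective π)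
    (hker : ∀ b : B, π b = 0 → b ∈ (RingHom.ker (algebraMap A k')).map (algebraMap A B)) :
    Nonempty (k' ⊗[A] B ≃ₐ[k'] B₀) := by
  let Φ : k' ⊗[A] B →ₐ[k'] B₀ :=
    Algebra.TensorProduct.lift (Algebra.ofId k' B₀) π (fun _ _ => Commute.all _ _)
  have hΦ : ∀ (c : k') (b : B), Φ (c ⊗ₜ b) = algebraMap k' B₀ c * π b := fun c b => by
    simp [Φ, Algebra.ofId_apply]
  have hrep : ∀ x : k' ⊗[A] B, ∃ b : B, x = (1 : k') ⊗ₜ[A] b := by
    intro x
    induction x with
    | zero => exact ⟨0, by simp⟩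
    | tmul c b =>
      obtain ⟨a, rfl⟩ := hsurj c
      refine ⟨a • b, ?_⟩
      rw [TensorProduct.tmul_smul, TensorProduct.smul_tmul', Algebra.smul_def, mul_one]
    | add x y hx hy =>
      obtain ⟨b, rfl⟩ := hx
      obtain ⟨b', rfl⟩ := hy
      exact ⟨b + b', by rw [TensorProduct.tmul_add]⟩
  have hzero : ∀ b ∈ (RingHom.ker (algebraMap A k')).map (algebraMap A B),
      (1 : k') ⊗ₜ[A] b = 0 := by
    intro b hb
    have hb' : b ∈ (RingHom.ker (algebraMap A k')) • (⊤ : Submodule A B) := by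
      rw [Ideal.smul_top_eq_map]
      exact hb
    refine Submodule.smul_induction_on hb' ?_ ?_
    · intro a ha c _
      rw [TensorProduct.tmul_smul, TensorProduct.smul_tmul', Algebra.smul_def, mul_one,
        (RingHom.mem_ker).mp ha, TensorProduct.zero_tmul]
    · intro x y hx hy
      rw [TensorProduct.tmul_add, hx, hy, add_zero]
  have hinj : Function.Injective Φ := by
    rw [injective_iff_map_eq_zero]
    intro x hx
    obtain ⟨b, rfl⟩ := hrep x
    rw [hΦ, map_one, one_mul] at hx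
    exact hzero b (hker b hx)
  have hsur : Function.Surjective Φ := by
    intro y
    obtain ⟨b, rfl⟩ := hπ y
    exact ⟨1 ⊗ₜ b, by rw [hΦ, map_one, one_mul]⟩
  exact ⟨AlgEquiv.ofBijective Φ ⟨hinj, hsur⟩⟩

end Groth.Agent.Lib.Helper81.FibreTensor
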