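import Mathlib

/-!
# Completeness for a smaller ideal (helper81)

* `isAdicComplete_of_le`: a Noetherian ring complete for `J` is complete for every `I ≤ J`.
-/

set_option autoImplicit false

namespace Groth.Agent.Lib.Helper81.CompleteLe

theorem isAdicComplete_of_le {R : Type*} [CommRing R] [IsNoetherianRing R] (I J : Ideal R)
    [IsAdicComplete J R] (hIJ : I ≤ J) : IsAdicComplete I R := by
  have hJrad : J ≤ Ideal.jacobson ⊥ := IsAdicComplete.le_jacobson_bot J
  have hH : IsHausdorff I R := IsHausdorff.of_le_jacobson I R (hIJ.trans hJrad)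
  have hP : IsPrecomplete I R := by
    refine ⟨fun f hf => ?_⟩
    have hfJ : ∀ {m n}, m ≤ n → f m ≡ f n [SMOD (J ^ m • ⊤ : Submodule R R)] := fun h =>
      SModEq.mono (Submodule.smul_mono_left (Ideal.pow_right_mono hIJ _)) (hf h)
    obtain ⟨L, hL⟩ := IsPrecomplete.prec (inferInstance : IsPrecomplete J R) hfJ
    refine ⟨L, fun n => ?_⟩
    have hH' : IsHausdorff J (R ⧸ I ^ n) := IsHausdorff.of_le_jacobson J _ hJrad
    rw [SModEq.sub_mem, smul_eq_mul, Ideal.mul_top, ← Ideal.Quotient.eq_zero_iff_mem]
    apply IsHausdorff.haus hH'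
    intro m
    rw [SModEq.zero]
    have h1 : f n - f (max n m) ∈ I ^ n := by
      have := hf (le_max_left n m)
      rwa [SModEq.sub_mem, smul_eq_mul, Ideal.mul_top] at this
    have h2 : f (max n m) - L ∈ J ^ m := by
      have := hL (max n m)
      rw [SModEq.sub_mem, smul_eq_mul, Ideal.mul_top] at this
      exact Ideal.pow_le_pow_right (le_max_right n m) this
    have h3 : f n - L = (f n - f (max n m)) + (f (max n m) - L) := by ring
    rw [h3, map_add, Ideal.Quotient.eq_zero_iff_mem.mpr h1, zero_add]
    have h4 : (Ideal.Quotient.mk (I ^ n)) (f (max n m) - L) =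
        (f (max n m) - L) • (1 : R ⧸ I ^ n) := by
      rw [Algebra.smul_def, mul_one]; rfl
    rw [h4]
    exact Submodule.smul_mem_smul h2 Submodule.mem_top
  exact { toIsHausdorff := hH, toIsPrecomplete := hP }

end Groth.Agent.Lib.Helper81.CompleteLe
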