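import Mathlib
import Groth.Prelude.Def_Found
import Groth.Agent.S9444
import Groth.Agent.Lib.Helper81.CohenRing
import Groth.Agent.Lib.Helper81.CohenLift
import Groth.Agent.Lib.Helper81.CompleteLe
import Groth.Agent.Lib.Helper58.MvPSComplete

/-!
# Lifting a complete regular local `k`-algebra over a coefficient ring (helper81)

`exists_coeff_lift`: let `Λ` be a field or a Cohen ring with a surjection `ι : Λ → k` onto a field,
and `B₀` a complete regular local `k`-algebra.  Then there are a complete Noetherian local ring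
`B''`, a flat ring map `ψ : Λ → B''` and a surjection `q : B'' → B₀` with kernel `(ker ι) B''`
such that `q ∘ ψ = (k → B₀) ∘ ι`.
-/

set_option autoImplicit false
universe u

open IsLocalRing

namespace Groth.Agent.Lib.Helper81.CoeffLift

section PS

variable {σ : Type*} {R S : Type*} [CommRing R] [CommRing S]

theorem map_surjective (f : R →+* S) (hf : Function.Surjective f) :
    Function.Surjective (MvPowerSeries.map (σ := σ) f) := by
  intro g
  refine ⟨fun n => Classical.choose (hf (MvPowerSeries.coeff n g)), ?_⟩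
  ext n
  rw [MvPowerSeries.coeff_map, MvPowerSeries.coeff_apply]
  exact Classical.choose_spec (hf (MvPowerSeries.coeff n g))

theorem ker_map_eq_span (f : R →+* S) (π : R) (hker : RingHom.ker f = Ideal.span {π}) :
    RingHom.ker (MvPowerSeries.map (σ := σ) f) = Ideal.span {MvPowerSeries.C (σ := σ) π} := by
  apply le_antisymm
  · intro g hg
    rw [RingHom.mem_ker] at hg
    have h1 : ∀ n, ∃ c : R, MvPowerSeries.coeff n g = π * c := by
      intro n
      have h2 : MvPowerSeries.coeff n g ∈ RingHom.ker f := by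
        rw [RingHom.mem_ker, ← MvPowerSeries.coeff_map, hg, map_zero]
      rw [hker, Ideal.mem_span_singleton] at h2
      exact h2
    rw [Ideal.mem_span_singleton]
    refine ⟨fun n => Classical.choose (h1 n), ?_⟩
    ext n
    rw [MvPowerSeries.coeff_C_mul, MvPowerSeries.coeff_apply]
    exact Classical.choose_spec (h1 n)
  · rw [Ideal.span_le, Set.singleton_subset_iff, SetLike.mem_coe, RingHom.mem_ker,
      MvPowerSeries.map_C]
    have : π ∈ RingHom.ker f := by rw [hker]; exact Ideal.subset_span rfl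
    rw [(RingHom.mem_ker).mp this, map_zero]

end PS

theorem exists_coeff_lift_field {Λ k : Type u} [CommRing Λ] [Field k] (ι : Λ →+* k)
    (hΛ : IsField Λ)
    (B₀ : Type u) [CommRing B₀] [IsRegularLocalRing B₀] [IsAdicComplete (maximalIdeal B₀) B₀]
    [Algebra k B₀] :
    ∃ (B'' : Type u) (_ : CommRing B'') (_ : IsLocalRing B'') (_ : IsNoetherianRing B'')
      (ψ : Λ →+* B'') (q : B'' →+* B₀),
      IsAdicComplete (maximalIdeal B'') B'' ∧ ψ.Flat ∧ Function.Surjective q ∧
      RingHom.ker q = (RingHom.ker ι).map ψ ∧ q.comp ψ = (algebraMap k B₀).comp ι := by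
  refine ⟨B₀, inferInstance, inferInstance, inferInstance, (algebraMap k B₀).comp ι,
    RingHom.id B₀, inferInstance, RingHom.Flat.of_isField hΛ _, Function.surjective_id, ?_, rfl⟩
  letI := hΛ.toField
  have : RingHom.ker ι = ⊥ := (RingHom.injective_iff_ker_eq_bot ι).mp ι.injective
  rw [this, Ideal.map_bot]
  exact (RingHom.injective_iff_ker_eq_bot _).mp Function.injective_id

theorem exists_coeff_lift_cohen {Λ k : Type u} [CommRing Λ] [Field k] (ι : Λ →+* k)
    (hι : Function.Surjective ι) (hΛ : CAlg.IsCohenRing Λ)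
    (B₀ : Type u) [CommRing B₀] [IsRegularLocalRing B₀] [IsAdicComplete (maximalIdeal B₀) B₀]
    [Algebra k B₀] :
    ∃ (B'' : Type u) (_ : CommRing B'') (_ : IsLocalRing B'') (_ : IsNoetherianRing B'')
      (ψ : Λ →+* B'') (q : B'' →+* B₀),
      IsAdicComplete (maximalIdeal B'') B'' ∧ ψ.Flat ∧ Function.Surjective q ∧
      RingHom.ker q = (RingHom.ker ι).map ψ ∧ q.comp ψ = (algebraMap k B₀).comp ι := by
  classical
  obtain ⟨hdom, hdvr, hcomp, p, hp, hm⟩ := hΛ
  haveI : Fact p.Prime := ⟨hp⟩
  have hkerι : RingHom.ker ι = maximalIdeal Λ := by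
    haveI := RingHom.ker_isMaximal_of_surjective ι hι
    exact IsLocalRing.eq_maximalIdeal inferInstance
  have hpk : (p : k) = 0 := by
    have h1 : (p : Λ) ∈ RingHom.ker ι := by rw [hkerι, hm]; exact Ideal.subset_span rfl
    rw [RingHom.mem_ker, map_natCast] at h1
    exact h1
  have hpK : (p : ResidueField B₀) = 0 := by
    have := congrArg ((residue B₀).comp (algebraMap k B₀)) hpk
    rwa [map_natCast, map_zero] at this
  haveI : CharP (ResidueField B₀) p := (CharP.charP_iff_prime_eq_zero hp).mpr hpK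
  obtain ⟨d, ⟨e⟩⟩ := Groth.Agent.S9444.result B₀ k
  obtain ⟨ΛK, _, _, _, _, hcompK, hmK, ⟨eK⟩⟩ := CohenRing.exists_cohenRing p (ResidueField B₀)
  let q₀ : ΛK →+* ResidueField B₀ := eK.toRingHom.comp (residue ΛK)
  have hq₀ : Function.Surjective q₀ := eK.surjective.comp residue_surjective
  have hkerq₀ : RingHom.ker q₀ = Ideal.span {(p : ΛK)} := by
    rw [← hmK]
    ext x
    rw [RingHom.mem_ker]
    change eK (residue ΛK x) = 0 ↔ _
    rw [map_eq_zero_iff eK eK.injective, residue_eq_zero_iff]
  let q : MvPowerSeries (Fin d) ΛK →+* B₀ := e.symm.toRingHom.comp (MvPowerSeries.map q₀)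
  have hq : Function.Surjective q := e.symm.surjective.comp (map_surjective q₀ hq₀)
  have hpC : (p : MvPowerSeries (Fin d) ΛK) = MvPowerSeries.C (σ := Fin d) (p : ΛK) := by
    rw [map_natCast]
  have hkerq : RingHom.ker q = Ideal.span {(p : MvPowerSeries (Fin d) ΛK)} := by
    have h1 : RingHom.ker q = RingHom.ker (MvPowerSeries.map (σ := Fin d) q₀) := by
      ext x
      rw [RingHom.mem_ker, RingHom.mem_ker]
      change e.symm (MvPowerSeries.map q₀ x) = 0 ↔ _
      rw [map_eq_zero_iff e.symm e.symm.injective]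
    rw [h1, ker_map_eq_span q₀ (p : ΛK) hkerq₀, hpC]
  haveI hcompB : IsAdicComplete (maximalIdeal (MvPowerSeries (Fin d) ΛK))
      (MvPowerSeries (Fin d) ΛK) := Groth.Agent.Lib.Helper58.MvPSComplete.isAdicComplete
  have hkerle : RingHom.ker q ≤ maximalIdeal (MvPowerSeries (Fin d) ΛK) := by
    apply IsLocalRing.le_maximalIdeal
    intro h
    have : (1 : MvPowerSeries (Fin d) ΛK) ∈ RingHom.ker q := by rw [h]; trivial
    rw [RingHom.mem_ker, map_one] at this
    exact one_ne_zero this
  haveI : IsAdicComplete (RingHom.ker q) (MvPowerSeries (Fin d) ΛK) :=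
    CompleteLe.isAdicComplete_of_le _ _ hkerle
  have hpker : ((p : ℕ) : MvPowerSeries (Fin d) ΛK) ∈ RingHom.ker q := by
    rw [hkerq]; exact Ideal.subset_span rfl
  let eq := RingHom.quotientKerEquivOfSurjective hq
  let u : Λ →+* MvPowerSeries (Fin d) ΛK ⧸ RingHom.ker q :=
    (eq.symm.toRingHom.comp (algebraMap k B₀)).comp ι
  obtain ⟨ψ, hψ⟩ := CohenLift.exists_lift_complete hp hm (RingHom.ker q) hpker u
  have hqψ : q.comp ψ = (algebraMap k B₀).comp ι := by
    ext x
    have h1 := congrArg (fun g => eq (g x)) hψ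
    simp only [RingHom.comp_apply] at h1
    have h2 : eq (Ideal.Quotient.mk (RingHom.ker q) (ψ x)) = q (ψ x) :=
      RingHom.quotientKerEquivOfSurjective_apply_mk hq (ψ x)
    rw [h2] at h1
    rw [RingHom.comp_apply, h1]
    change eq (eq.symm _) = _
    rw [RingEquiv.apply_symm_apply]
    rfl
  have hpne : (p : ΛK) ≠ 0 := by
    intro h0
    apply IsDiscreteValuationRing.not_a_field ΛK
    rw [hmK, h0]
    exact Ideal.span_singleton_eq_bot.mpr rfl
  have hpBne : (p : MvPowerSeries (Fin d) ΛK) ≠ 0 := by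
    rw [hpC]
    intro h0
    apply hpne
    have := congrArg (MvPowerSeries.constantCoeff (σ := Fin d) (R := ΛK)) h0
    simpa using this
  have hirr : Irreducible (p : Λ) :=
    (IsDiscreteValuationRing.irreducible_iff_uniformizer _).mpr hm
  have hψinj : Function.Injective ψ := by
    rw [injective_iff_map_eq_zero]
    intro x hx
    by_contra hx0
    obtain ⟨n, u, hxu⟩ := IsDiscreteValuationRing.eq_unit_mul_pow_irreducible hx0 hirr
    rw [hxu, map_mul, map_pow, map_natCast] at hx
    have hu : IsUnit (ψ (u : Λ)) := (u.isUnit).map ψ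
    have := (hu.mul_right_eq_zero).mp hx
    exact pow_ne_zero n hpBne this
  have hflat : ψ.Flat := by
    letI : Algebra Λ (MvPowerSeries (Fin d) ΛK) := ψ.toAlgebra
    change Module.Flat Λ (MvPowerSeries (Fin d) ΛK)
    rw [Module.Flat.flat_iff_torsion_eq_bot_of_isBezout, Submodule.eq_bot_iff]
    intro x hx
    obtain ⟨a, ha⟩ := (Submodule.mem_torsion_iff x).mp hx
    have ha' : ψ (a : Λ) * x = 0 := ha
    have hane : ψ (a : Λ) ≠ 0 := by
      intro h0
      exact (nonZeroDivisors.ne_zero a.2) (hψinj (by rw [h0, map_zero]))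
    exact (mul_eq_zero.mp ha').resolve_left hane
  refine ⟨MvPowerSeries (Fin d) ΛK, inferInstance, inferInstance, inferInstance, ψ, q, hcompB,
    hflat, hq, ?_, hqψ⟩
  rw [hkerq, hkerι, hm, Ideal.map_span, Set.image_singleton, map_natCast]

end Groth.Agent.Lib.Helper81.CoeffLift
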