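import Mathlib
import Groth.Agent.Lib.Helper44.AdicQuot

/-!
# Assembling a flat lift from a presentation (helper81)

`exists_lift_of_presentation`: `ρ : R → A` a surjection of local rings, `τ : R → S` flat with `S`
complete Noetherian local, `π_S : S → B₀` surjective with kernel `𝔪_R S`, compatible with the
residue field of `A`.  Then `B = S / (ker ρ) S` is a flat complete Noetherian local `A`-algebra with
a surjection `π : B → B₀` of kernel `𝔪_A B`.
-/

set_option autoImplicit false
universe u

open IsLocalRing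

namespace Groth.Agent.Lib.Helper81.FlatLift

theorem exists_lift_of_presentation {A R S B₀ : Type u} [CommRing A] [IsLocalRing A]
    [CommRing R] [IsLocalRing R] [CommRing S] [IsLocalRing S] [IsNoetherianRing S]
    [IsAdicComplete (maximalIdeal S) S] [CommRing B₀] [Nontrivial B₀]
    [Algebra (ResidueField A) B₀]
    (ρ : R →+* A) (hρ : Function.Surjective ρ) (τ : R →+* S) (hτ : τ.Flat)
    (πS : S →+* B₀) (hπS : Function.Surjective πS)
    (hker : RingHom.ker πS = (maximalIdeal R).map τ)
    (hcompat : ∀ f : R, πS (τ f) = algebraMap (ResidueField A) B₀ (residue A (ρ f))) :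
    ∃ (B : Type u) (_ : CommRing B) (_ : IsLocalRing B) (_ : IsNoetherianRing B)
      (φ : A →+* B) (π : B →+* B₀),
      IsAdicComplete (maximalIdeal B) B ∧ φ.Flat ∧ Function.Surjective π ∧
      RingHom.ker π = (maximalIdeal A).map φ ∧
      π.comp φ = (algebraMap (ResidueField A) B₀).comp (residue A) := by
  classical
  haveI hρloc : IsLocalHom ρ := IsLocalHom.of_surjective ρ hρ
  set 𝔞 : Ideal R := RingHom.ker ρ with h𝔞
  have h𝔞le : 𝔞 ≤ maximalIdeal R := by
    apply IsLocalRing.le_maximalIdeal
    exact RingHom.ker_ne_top ρ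
  set J : Ideal S := 𝔞.map τ with hJ
  have hJle : J ≤ RingHom.ker πS := by
    rw [hker]; exact Ideal.map_mono h𝔞le
  have hkerne : RingHom.ker πS ≠ ⊤ := RingHom.ker_ne_top πS
  have hJne : J ≠ ⊤ := fun h => hkerne (top_le_iff.mp (h ▸ hJle))
  haveI : Nontrivial (S ⧸ J) := Ideal.Quotient.nontrivial_iff.mpr hJne
  haveI : IsLocalRing (S ⧸ J) :=
    IsLocalRing.of_surjective' (Ideal.Quotient.mk J) Ideal.Quotient.mk_surjective
  -- completeness
  have hcompl : IsAdicComplete (maximalIdeal (S ⧸ J)) (S ⧸ J) := by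
    have h1 := Groth.Agent.Lib.Helper44.isAdicComplete_quotient_ring (maximalIdeal S) J
    have h2 : (maximalIdeal S).map (algebraMap S (S ⧸ J)) = maximalIdeal (S ⧸ J) :=
      map_maximalIdeal_of_surjective (Ideal.Quotient.mk J) Ideal.Quotient.mk_surjective
    rwa [h2] at h1
  -- the maps
  let g : R →+* S ⧸ J := (Ideal.Quotient.mk J).comp τ
  have hg : RingHom.ker ρ ≤ RingHom.ker g := by
    intro f hf
    rw [RingHom.mem_ker, RingHom.comp_apply, Ideal.Quotient.eq_zero_iff_mem]
    exact Ideal.mem_map_of_mem τ hf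
  let φ : A →+* S ⧸ J := RingHom.liftOfSurjective ρ hρ ⟨g, hg⟩
  have hφ : ∀ f : R, φ (ρ f) = Ideal.Quotient.mk J (τ f) := fun f =>
    RingHom.liftOfRightInverse_comp_apply _ _ _ ⟨g, hg⟩ f
  let π : S ⧸ J →+* B₀ := Ideal.Quotient.lift J πS (fun s hs => hJle hs)
  have hπ : ∀ s : S, π (Ideal.Quotient.mk J s) = πS s := fun s => Ideal.Quotient.lift_mk J πS _
  have hπsurj : Function.Surjective π := by
    intro y
    obtain ⟨s, rfl⟩ := hπS y
    exact ⟨Ideal.Quotient.mk J s, hπ s⟩
  have hcomp : π.comp φ = (algebraMap (ResidueField A) B₀).comp (residue A) := by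
    ext a
    obtain ⟨f, rfl⟩ := hρ a
    rw [RingHom.comp_apply, hφ, hπ, hcompat]
    rfl
  -- flatness
  have hflat : φ.Flat := by
    letI : Algebra R S := τ.toAlgebra
    haveI : Module.Flat R S := hτ
    have h1 : Module.Flat (R ⧸ 𝔞) (S ⧸ 𝔞.map (algebraMap R S)) :=
      Module.Flat.of_linearEquiv
        (Algebra.TensorProduct.quotIdealMapEquivQuotTensor S 𝔞).toLinearEquiv
    have h2 : (algebraMap (R ⧸ 𝔞) (S ⧸ 𝔞.map (algebraMap R S))).Flat :=
      RingHom.flat_algebraMap_iff.mpr h1
    let e := RingHom.quotientKerEquivOfSurjective hρ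
    have h3 : φ = (algebraMap (R ⧸ 𝔞) (S ⧸ 𝔞.map (algebraMap R S))).comp e.symm.toRingHom := by
      ext a
      obtain ⟨f, rfl⟩ := hρ a
      rw [hφ, RingHom.comp_apply]
      have : e.symm.toRingHom (ρ f) = Ideal.Quotient.mk 𝔞 f := by
        change e.symm (ρ f) = _
        rw [RingEquiv.symm_apply_eq]
        exact (RingHom.quotientKerEquivOfSurjective_apply_mk hρ f).symm
      rw [this]
      rfl
    rw [h3]
    exact (RingHom.Flat.of_bijective (f := e.symm.toRingHom) e.symm.bijective).comp h2
  -- kernel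
  have hkerπ : RingHom.ker π = (maximalIdeal A).map φ := by
    apply le_antisymm
    · intro b hb
      obtain ⟨s, rfl⟩ := Ideal.Quotient.mk_surjective b
      rw [RingHom.mem_ker, hπ] at hb
      have hs : s ∈ (maximalIdeal R).map τ := by rw [← hker]; exact hb
      have h1 : Ideal.Quotient.mk J s ∈ ((maximalIdeal R).map τ).map (Ideal.Quotient.mk J) :=
        Ideal.mem_map_of_mem _ hs
      rw [Ideal.map_map] at h1
      have h2 : (Ideal.Quotient.mk J).comp τ = φ.comp ρ := by
        ext f
        rw [RingHom.comp_apply, RingHom.comp_apply, hφ]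
      rw [h2, ← Ideal.map_map, map_maximalIdeal_of_surjective ρ hρ] at h1
      exact h1
    · rw [Ideal.map_le_iff_le_comap]
      intro a ha
      rw [Ideal.mem_comap, RingHom.mem_ker]
      have := congrArg (fun h => h a) hcomp
      simp only [RingHom.comp_apply] at this
      rw [this, (residue_eq_zero_iff a).mpr ha, map_zero]
  exact ⟨S ⧸ J, inferInstance, inferInstance, inferInstance, φ, π, hcompl, hflat, hπsurj, hkerπ,
    hcomp⟩

end Groth.Agent.Lib.Helper81.FlatLift
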