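import Mathlib
import Groth.Agent.Lib.Helper71.FlatCompletion

/-!
# Flatness of the map of power series rings induced by a flat ring map (helper81)

* `flat_map`: for a flat map `ψ : Λ → C` of Noetherian rings, `MvPowerSeries.map ψ :
  Λ[[X_1..X_n]] → C[[X_1..X_n]]` is flat.
-/

set_option autoImplicit false
universe u

namespace Groth.Agent.Lib.Helper81.PSFlat

open MvPowerSeries

attribute [local instance] MvPolynomial.algebraMvPolynomial

theorem coe_map {σ : Type*} {Λ C : Type*} [CommRing Λ] [CommRing C] (ψ : Λ →+* C)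
    (q : MvPolynomial σ Λ) :
    MvPowerSeries.map ψ (q : MvPowerSeries σ Λ) = ((MvPolynomial.map ψ q : MvPolynomial σ C) :
      MvPowerSeries σ C) := by
  ext n
  rw [MvPowerSeries.coeff_map, MvPolynomial.coeff_coe, MvPolynomial.coeff_coe,
    MvPolynomial.coeff_map]

theorem flat_polynomial_map {σ : Type} {Λ C : Type u} [CommRing Λ] [CommRing C]
    (ψ : Λ →+* C) (hψ : ψ.Flat) : (MvPolynomial.map (σ := σ) ψ).Flat := by
  letI : Algebra Λ C := ψ.toAlgebra
  haveI : Module.Flat Λ C := hψ
  have h : Algebra.IsPushout Λ (MvPolynomial σ Λ) C (MvPolynomial σ C) := inferInstance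
  have := Module.Flat.isBaseChange Λ (MvPolynomial σ Λ) C (MvPolynomial σ C) h.out
  exact this

theorem flat_map {σ : Type} [Finite σ] {Λ C : Type u} [CommRing Λ] [CommRing C]
    [IsNoetherianRing Λ] [IsNoetherianRing C] (ψ : Λ →+* C) (hψ : ψ.Flat) :
    (MvPowerSeries.map (σ := σ) ψ).Flat := by
  cases nonempty_fintype σ
  set g : MvPolynomial σ Λ →+* MvPolynomial σ C := MvPolynomial.map ψ with hg
  have hgflat : g.Flat := flat_polynomial_map ψ hψ
  set eΛ := MvPowerSeries.toAdicCompletionAlgEquiv σ Λ with heΛ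
  set eC := MvPowerSeries.toAdicCompletionAlgEquiv σ C with heC
  set ψ' : AdicCompletion (MvPolynomial.idealOfVars σ Λ) (MvPolynomial σ Λ) →+*
      AdicCompletion (MvPolynomial.idealOfVars σ C) (MvPolynomial σ C) :=
    (eC.toRingEquiv.toRingHom.comp (MvPowerSeries.map ψ)).comp eΛ.symm.toRingEquiv.toRingHom
    with hψ'
  have hle : (MvPolynomial.idealOfVars σ Λ).map g ≤ MvPolynomial.idealOfVars σ C := by
    rw [Ideal.map_span, Ideal.span_le]
    rintro _ ⟨_, ⟨i, rfl⟩, rfl⟩
    rw [hg, MvPolynomial.map_X]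
    exact Ideal.subset_span ⟨i, rfl⟩
  have hcomp : ψ'.comp (algebraMap (MvPolynomial σ Λ)
      (AdicCompletion (MvPolynomial.idealOfVars σ Λ) (MvPolynomial σ Λ))) =
      (algebraMap (MvPolynomial σ C)
        (AdicCompletion (MvPolynomial.idealOfVars σ C) (MvPolynomial σ C))).comp g := by
    refine RingHom.ext fun q => ?_
    have h1 : eΛ.symm (algebraMap (MvPolynomial σ Λ)
        (AdicCompletion (MvPolynomial.idealOfVars σ Λ) (MvPolynomial σ Λ)) q) =
        (q : MvPowerSeries σ Λ) := by
      rw [eΛ.symm.commutes, MvPowerSeries.algebraMap_apply']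
      simp
    have h2 : eC ((MvPolynomial.map ψ q : MvPolynomial σ C) : MvPowerSeries σ C) =
        algebraMap (MvPolynomial σ C)
          (AdicCompletion (MvPolynomial.idealOfVars σ C) (MvPolynomial σ C))
          (MvPolynomial.map ψ q) := by
      rw [← eC.commutes, MvPowerSeries.algebraMap_apply']
      simp
    change eC (MvPowerSeries.map ψ (eΛ.symm _)) = _
    rw [h1, coe_map, h2]
    rfl
  have hflat' : ψ'.Flat :=
    Groth.Agent.Lib.Helper71.FlatCompletion.flat_of_completion_map
      (MvPolynomial.idealOfVars σ Λ) (MvPolynomial.idealOfVars σ C) g hgflat hle ψ' hcomp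
  have heq : MvPowerSeries.map (σ := σ) ψ =
      (eC.symm.toRingEquiv.toRingHom.comp ψ').comp eΛ.toRingEquiv.toRingHom := by
    ext1 f
    simp [hψ']
  rw [heq]
  exact ((RingHom.Flat.of_bijective (f := eΛ.toRingEquiv.toRingHom) eΛ.bijective).comp hflat').comp
    (RingHom.Flat.of_bijective (f := eC.symm.toRingEquiv.toRingHom) eC.symm.bijective)

end Groth.Agent.Lib.Helper81.PSFlat
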