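import Mathlib
import Groth.Agent.S0580
import Groth.Agent.S0542
import Groth.Agent.Lib.Helper81.PSFlat
import Groth.Agent.Lib.Helper81.CoeffLift
import Groth.Agent.Lib.Helper81.FlatLift
import Groth.Agent.Lib.Helper21.PowerSeriesAdic
import Groth.Agent.Lib.Helper58.MvPSComplete

/-!
# Flat lifts of complete regular local algebras over the residue field (helper81)

EGA 0_IV 19.7.2-type existence: for a Noetherian local ring `A` with residue field `k` and a complete
regular local `k`-algebra `B₀` there is a flat complete Noetherian local `A`-algebra `B` with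
`B / 𝔪_A B ≃ B₀`.
-/

set_option autoImplicit false
universe u

open IsLocalRing

namespace Groth.Agent.Lib.Helper81.FlatLiftRegular

open Groth.Agent.Lib.Helper21.PSAdic in
theorem ker_comp_constantCoeff {Λ C' B₀ : Type*} [CommRing Λ] [IsLocalRing Λ] [CommRing C']
    [CommRing B₀] (r : ℕ) (ψ : Λ →+* C') (q : C' →+* B₀)
    (hkerq : RingHom.ker q = (maximalIdeal Λ).map ψ) :
    RingHom.ker (q.comp (MvPowerSeries.constantCoeff (σ := Fin r) (R := C'))) =
      (maximalIdeal (MvPowerSeries (Fin r) Λ)).map (MvPowerSeries.map ψ) := by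
  apply le_antisymm
  · intro g hg
    rw [RingHom.mem_ker, RingHom.comp_apply] at hg
    have hg0 : MvPowerSeries.constantCoeff g ∈ (maximalIdeal Λ).map ψ := by
      rw [← hkerq]; exact hg
    rw [eq_C_add_sum g]
    refine Ideal.add_mem _ ?_ (Ideal.sum_mem _ fun i _ => ?_)
    · have h1 : MvPowerSeries.C (σ := Fin r) (MvPowerSeries.constantCoeff g) ∈
          ((maximalIdeal Λ).map ψ).map (MvPowerSeries.C (σ := Fin r) (R := C')) :=
        Ideal.mem_map_of_mem _ hg0
      rw [Ideal.map_map] at h1
      have h2 : (MvPowerSeries.C (σ := Fin r) (R := C')).comp ψ =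
          (MvPowerSeries.map ψ).comp (MvPowerSeries.C (σ := Fin r) (R := Λ)) := by
        ext x : 1
        rw [RingHom.comp_apply, RingHom.comp_apply, MvPowerSeries.map_C]
      rw [h2, ← Ideal.map_map] at h1
      refine Ideal.map_mono ?_ h1
      rw [Ideal.map_le_iff_le_comap]
      intro x hx
      rw [Ideal.mem_comap, Groth.Agent.Lib.Helper58.MvPSComplete.mem_maximalIdeal_iff,
        MvPowerSeries.constantCoeff_C]
      exact hx
    · apply Ideal.mul_mem_right
      have h1 : (MvPowerSeries.X i : MvPowerSeries (Fin r) C') =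
          MvPowerSeries.map ψ (MvPowerSeries.X i) := by
        rw [MvPowerSeries.map_X]
      rw [h1]
      apply Ideal.mem_map_of_mem
      rw [Groth.Agent.Lib.Helper58.MvPSComplete.mem_maximalIdeal_iff,
        MvPowerSeries.constantCoeff_X]
      exact zero_mem _
  · rw [Ideal.map_le_iff_le_comap]
    intro f hf
    rw [Ideal.mem_comap, RingHom.mem_ker, RingHom.comp_apply, MvPowerSeries.constantCoeff_map,
      ← RingHom.mem_ker, hkerq]
    apply Ideal.mem_map_of_mem
    exact (Groth.Agent.Lib.Helper58.MvPSComplete.mem_maximalIdeal_iff f).mp hf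

/-- The complete case. -/
theorem exists_flatLift_complete {A : Type u} [CommRing A] [IsLocalRing A] [IsNoetherianRing A]
    [IsAdicComplete (maximalIdeal A) A]
    (B₀ : Type u) [CommRing B₀] [IsRegularLocalRing B₀] [IsAdicComplete (maximalIdeal B₀) B₀]
    [Algebra (ResidueField A) B₀] :
    ∃ (B : Type u) (_ : CommRing B) (_ : IsLocalRing B) (_ : IsNoetherianRing B)
      (φ : A →+* B) (π : B →+* B₀),
      IsAdicComplete (maximalIdeal B) B ∧ φ.Flat ∧ Function.Surjective π ∧
      RingHom.ker π = (maximalIdeal A).map φ ∧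
      π.comp φ = (algebraMap (ResidueField A) B₀).comp (residue A) := by
  classical
  obtain ⟨Λ, _, r, ρ, hΛ, hρ⟩ := Groth.Agent.S0580.result A (IsNoetherian.noetherian _)
  have hΛloc : IsLocalRing Λ := by
    rcases hΛ with h | ⟨_, hd, _⟩
    · letI := h.toField
      infer_instance
    · infer_instance
  have hΛn : IsNoetherianRing Λ := by
    rcases hΛ with h | ⟨_, hd, _⟩
    · letI := h.toField
      infer_instance
    · infer_instance
  let ι : Λ →+* ResidueField A := (residue A).comp (ρ.comp MvPowerSeries.C)
  have hres : ∀ f : MvPowerSeries (Fin r) Λ,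
      residue A (ρ f) = ι (MvPowerSeries.constantCoeff f) := by
    intro f
    have h1 : f - MvPowerSeries.C (MvPowerSeries.constantCoeff f) ∈
        maximalIdeal (MvPowerSeries (Fin r) Λ) := by
      apply Groth.Agent.Lib.Helper58.MvPSComplete.ker_constantCoeff_le
      rw [RingHom.mem_ker, map_sub, MvPowerSeries.constantCoeff_C, sub_self]
    have h2 : ρ (f - MvPowerSeries.C (MvPowerSeries.constantCoeff f)) ∈ maximalIdeal A := by
      rw [← map_maximalIdeal_of_surjective ρ hρ]
      exact Ideal.mem_map_of_mem ρ h1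
    have h3 := (residue_eq_zero_iff _).mpr h2
    rw [map_sub, map_sub, sub_eq_zero] at h3
    exact h3
  have hι : Function.Surjective ι := by
    intro x
    obtain ⟨a, rfl⟩ := residue_surjective x
    obtain ⟨f, rfl⟩ := hρ a
    exact ⟨MvPowerSeries.constantCoeff f, (hres f).symm⟩
  have hkerι : RingHom.ker ι = maximalIdeal Λ := by
    haveI := RingHom.ker_isMaximal_of_surjective ι hι
    exact IsLocalRing.eq_maximalIdeal inferInstance
  obtain ⟨B'', _, _, _, ψ, q, hcomp, hψ, hq, hkerq, hqψ⟩ :
      ∃ (B'' : Type u) (_ : CommRing B'') (_ : IsLocalRing B'') (_ : IsNoetherianRing B'')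
      (ψ : Λ →+* B'') (q : B'' →+* B₀),
      IsAdicComplete (maximalIdeal B'') B'' ∧ ψ.Flat ∧ Function.Surjective q ∧
      RingHom.ker q = (RingHom.ker ι).map ψ ∧
        q.comp ψ = (algebraMap (ResidueField A) B₀).comp ι := by
    rcases hΛ with h | h
    · exact CoeffLift.exists_coeff_lift_field ι h B₀
    · exact CoeffLift.exists_coeff_lift_cohen ι hι h B₀
  rw [hkerι] at hkerq
  haveI : IsAdicComplete (maximalIdeal (MvPowerSeries (Fin r) B''))
      (MvPowerSeries (Fin r) B'') := Groth.Agent.Lib.Helper58.MvPSComplete.isAdicComplete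
  refine FlatLift.exists_lift_of_presentation ρ hρ (MvPowerSeries.map ψ)
    (PSFlat.flat_map ψ hψ) (q.comp (MvPowerSeries.constantCoeff (σ := Fin r) (R := B''))) ?_
    (ker_comp_constantCoeff r ψ q hkerq) ?_
  · intro y
    obtain ⟨c, rfl⟩ := hq y
    exact ⟨MvPowerSeries.C c, by rw [RingHom.comp_apply, MvPowerSeries.constantCoeff_C]⟩
  · intro f
    rw [RingHom.comp_apply, MvPowerSeries.constantCoeff_map, hres]
    have := congrArg (fun h => h (MvPowerSeries.constantCoeff f)) hqψ
    simpa only [RingHom.comp_apply] using this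

/-- The general case: `A` a Noetherian local ring. -/
theorem exists_flatLift {A : Type u} [CommRing A] [IsLocalRing A] [IsNoetherianRing A]
    (B₀ : Type u) [CommRing B₀] [IsRegularLocalRing B₀] [IsAdicComplete (maximalIdeal B₀) B₀]
    [Algebra (ResidueField A) B₀] :
    ∃ (B : Type u) (_ : CommRing B) (_ : IsLocalRing B) (_ : IsNoetherianRing B)
      (φ : A →+* B) (π : B →+* B₀),
      IsAdicComplete (maximalIdeal B) B ∧ φ.Flat ∧ Function.Surjective π ∧
      RingHom.ker π = (maximalIdeal A).map φ ∧
      π.comp φ = (algebraMap (ResidueField A) B₀).comp (residue A) := by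
  classical
  have fg : (maximalIdeal A).FG := IsNoetherian.noetherian _
  haveI : IsNoetherianRing (AdicCompletion (maximalIdeal A) A) :=
    Groth.Agent.S0542.result A (maximalIdeal A) fg
  let eκ : ResidueField A ≃+* ResidueField (AdicCompletion (maximalIdeal A) A) :=
    RingEquiv.ofBijective
      (ResidueField.map (algebraMap A (AdicCompletion (maximalIdeal A) A)))
      (AdicCompletion.residueField_map_bijective_of_fg fg)
  letI : Algebra (ResidueField (AdicCompletion (maximalIdeal A) A)) B₀ :=
    ((algebraMap (ResidueField A) B₀).comp eκ.symm.toRingHom).toAlgebra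
  obtain ⟨B, _, _, _, φ', π, hcomp, hflat, hπ, hker, hcompat⟩ :=
    exists_flatLift_complete (A := AdicCompletion (maximalIdeal A) A) B₀
  refine ⟨B, inferInstance, inferInstance, inferInstance,
    φ'.comp (algebraMap A (AdicCompletion (maximalIdeal A) A)), π, hcomp, ?_, hπ, ?_, ?_⟩
  · exact RingHom.Flat.comp (RingHom.flat_algebraMap_iff.mpr inferInstance) hflat
  · rw [hker, AdicCompletion.maximalIdeal_eq_map, Ideal.map_map]
  · ext a
    have h1 := congrArg (fun h => h (algebraMap A (AdicCompletion (maximalIdeal A) A) a)) hcompat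
    simp only [RingHom.comp_apply] at h1
    rw [RingHom.comp_apply, RingHom.comp_apply, h1, RingHom.comp_apply]
    change (algebraMap (ResidueField A) B₀) (eκ.symm _) = _
    congr 1
    rw [RingEquiv.symm_apply_eq]
    rfl

end Groth.Agent.Lib.Helper81.FlatLiftRegular
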