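import Mathlib
import Groth.Prelude.Def_EGA41
import Groth.Agent.S4543
import Groth.Agent.Lib.Helper47.AdicLiftComplete
import Groth.Agent.Lib.Helper81.CompleteLe

/-!
# Isomorphisms of complete local algebras from a common quotient (helper81)

EGA 0_IV 19.7.1.5-type statement, for the maximal-adic topologies: `B` formally smooth over `A`
(adic topologies of the maximal ideals), `B'` flat over `A`, both complete Noetherian local, with
surjections `p : B → Q`, `p' : B' → Q` of kernels `J B`, `J B'`.  Then there is an `A`-isomorphism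
`v : B ≃ B'` with `p' ∘ v = p`.
-/

set_option autoImplicit false
universe u

open IsLocalRing

namespace Groth.Agent.Lib.Helper81.LiftIso

theorem exists_algEquiv_of_common_quotient {A B B' Q : Type u} [CommRing A] [IsLocalRing A]
    (J : Ideal A)
    [CommRing B] [IsLocalRing B] [IsNoetherianRing B] [Algebra A B] [IsLocalHom (algebraMap A B)]
    [CommRing B'] [IsLocalRing B'] [IsNoetherianRing B'] [Algebra A B']
    [IsLocalHom (algebraMap A B')]
    [CommRing Q] [Nontrivial Q] [Algebra A Q]
    [IsAdicComplete (maximalIdeal B) B] [IsAdicComplete (maximalIdeal B') B']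
    (hfs : EGA41.IsFormallySmoothAdic A (maximalIdeal A) B (maximalIdeal B)) [Module.Flat A B']
    (p : B →ₐ[A] Q) (p' : B' →ₐ[A] Q) (hp : Function.Surjective p) (hp' : Function.Surjective p')
    (hkp : RingHom.ker p = J.map (algebraMap A B))
    (hkp' : RingHom.ker p' = J.map (algebraMap A B')) :
    ∃ v : B ≃ₐ[A] B', p'.comp (v : B →ₐ[A] B') = p := by
  classical
  set 𝔟 : Ideal B := J.map (algebraMap A B) with h𝔟
  set 𝔠 : Ideal B' := J.map (algebraMap A B') with h𝔠
  have h𝔟le : 𝔟 ≤ maximalIdeal B := by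
    rw [← hkp]; exact IsLocalRing.le_maximalIdeal (RingHom.ker_ne_top _)
  set Jc : Ideal B' := RingHom.ker p' with hJc
  have h𝔠ne : Jc ≠ ⊤ := RingHom.ker_ne_top _
  have h𝔠le : 𝔠 ≤ maximalIdeal B' := by
    rw [← hkp']; exact IsLocalRing.le_maximalIdeal h𝔠ne
  let e' : (B' ⧸ Jc) ≃ₐ[A] Q := Ideal.quotientKerAlgEquivOfSurjective hp'
  let u₁ : B →ₐ[A] B' ⧸ Jc := (e'.symm : Q →ₐ[A] _).comp p
  have hu₁surj : Function.Surjective u₁ := e'.symm.surjective.comp hp
  haveI : Nontrivial (B' ⧸ Jc) := Ideal.Quotient.nontrivial_iff.mpr h𝔠ne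
  haveI : IsLocalRing (B' ⧸ Jc) :=
    IsLocalRing.of_surjective' (Ideal.Quotient.mk Jc) Ideal.Quotient.mk_surjective
  have hu : (maximalIdeal B).map u₁.toRingHom ≤
      (maximalIdeal B').map (Ideal.Quotient.mk Jc) := by
    rw [map_maximalIdeal_of_surjective (Ideal.Quotient.mk Jc)
      Ideal.Quotient.mk_surjective]
    exact (map_maximalIdeal_of_surjective u₁.toRingHom hu₁surj).le
  have hA : (maximalIdeal A).map (algebraMap A B') ≤ maximalIdeal B' :=
    IsLocalRing.map_maximalIdeal_le (algebraMap A B')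
  obtain ⟨v, -, hv⟩ := Groth.Agent.Lib.Helper47.exists_lift_complete_local (maximalIdeal B)
    Jc h𝔠ne u₁ hu (maximalIdeal A) hfs hA
  have hpv : ∀ b, p' (v b) = p b := by
    intro b
    have h1 : Ideal.Quotient.mk Jc (v b) = u₁ b := AlgHom.congr_fun hv b
    have h2 : e' (Ideal.Quotient.mk Jc (v b)) = p' (v b) :=
      Ideal.quotientKerAlgEquivOfSurjective_mk hp' (v b)
    rw [← h2, h1]
    change e' (e'.symm (p b)) = p b
    rw [AlgEquiv.apply_symm_apply]
  have hmap : 𝔟.map v.toRingHom = 𝔠 := by
    rw [h𝔟, Ideal.map_map]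
    congr 1
    exact v.comp_algebraMap
  -- surjectivity
  haveI : IsAdicComplete 𝔟 B := CompleteLe.isAdicComplete_of_le 𝔟 (maximalIdeal B) h𝔟le
  have hsurj : Function.Surjective v := by
    haveI : IsHausdorff (𝔟.map v.toRingHom) B' := by
      rw [hmap]
      exact IsHausdorff.of_isLocalRing 𝔠 B' (fun h => by
        rw [h] at h𝔠le
        exact (maximalIdeal.isMaximal B').ne_top (top_le_iff.mp h𝔠le))
    apply surjective_of_mk_map_comp_surjective (I := 𝔟) v.toRingHom
    intro y
    obtain ⟨y, rfl⟩ := Ideal.Quotient.mk_surjective y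
    obtain ⟨b, hb⟩ := hp (p' y)
    refine ⟨b, ?_⟩
    change Ideal.Quotient.mk _ (v b) = Ideal.Quotient.mk _ y
    rw [Ideal.Quotient.eq, hmap, ← hkp', RingHom.mem_ker, map_sub, hpv, hb, sub_self]
  -- injectivity
  have hinj : Function.Injective v := by
    rw [injective_iff_map_eq_zero]
    let K : Ideal B := RingHom.ker v.toRingHom
    have hK : K = ⊥ := by
      apply Submodule.eq_bot_of_le_smul_of_le_jacobson_bot 𝔟 K (IsNoetherian.noetherian K)
      · intro x hx
        have hx0 : v x = 0 := hx
        have hx𝔟 : x ∈ 𝔟 := by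
          rw [← hkp, RingHom.mem_ker, ← hpv, hx0, map_zero]
        have hx' : x ∈ (J • ⊤ : Submodule A B) := by
          rw [Ideal.smul_top_eq_map]
          exact hx𝔟
        have h3 := Groth.Agent.S4543.mem_smul_top_of_flat_quotient v.toLinearMap hsurj J
          ⟨x, hx0⟩ hx'
        have h4 : ∀ y : LinearMap.ker v.toLinearMap,
            y ∈ (J • ⊤ : Submodule A (LinearMap.ker v.toLinearMap)) → (y : B) ∈ 𝔟 • K := by
          intro y hy
          refine Submodule.smul_induction_on hy ?_ ?_
          · intro a ha k _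
            change a • (k : B) ∈ 𝔟 • K
            rw [← algebraMap_smul B a (k : B)]
            have hk : (k : B) ∈ K := k.2
            exact Submodule.smul_mem_smul (Ideal.mem_map_of_mem (algebraMap A B) ha) hk
          · intro y z hy hz
            exact add_mem hy hz
        exact h4 ⟨x, hx0⟩ h3
      · rw [IsLocalRing.jacobson_eq_maximalIdeal (⊥ : Ideal B) bot_ne_top]
        exact h𝔟le
    intro x hx
    have : x ∈ K := hx
    rw [hK] at this
    exact this
  refine ⟨AlgEquiv.ofBijective v ⟨hinj, hsurj⟩, ?_⟩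
  ext b
  exact hpv b

end Groth.Agent.Lib.Helper81.LiftIso
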