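import Mathlib
import Groth.Prelude.Def_EGA41
import Groth.Agent.S2471
import Groth.Agent.Lib.Helper44.AdicQuot
import Groth.Agent.Lib.Helper47.FlatFibreSmooth
import Groth.Agent.Lib.Helper81.LiftIso
import Groth.Agent.Lib.Helper81.FibreFS
import Groth.Agent.Lib.Helper81.FibreTensor
import Groth.Agent.Lib.Helper81.FlatLiftRegular

/-!
# Existence of flat complete lifts of a formally smooth algebra (helper81)

EGA 0_IV 19.7.2, existence part.
-/

set_option autoImplicit false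
universe u

open IsLocalRing TensorProduct

namespace Groth.Agent.Lib.Helper81.FlatLiftExists

theorem quotient_local_complete {S : Type*} [CommRing S] [IsLocalRing S] [IsNoetherianRing S]
    [IsAdicComplete (maximalIdeal S) S] (I : Ideal S) (hI : I ≠ ⊤) :
    ∃ (_ : IsLocalRing (S ⧸ I)), IsAdicComplete (maximalIdeal (S ⧸ I)) (S ⧸ I) := by
  haveI : Nontrivial (S ⧸ I) := Ideal.Quotient.nontrivial_iff.mpr hI
  haveI : IsLocalRing (S ⧸ I) :=
    IsLocalRing.of_surjective' (Ideal.Quotient.mk I) Ideal.Quotient.mk_surjective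
  refine ⟨inferInstance, ?_⟩
  have h1 := Groth.Agent.Lib.Helper44.isAdicComplete_quotient_ring (maximalIdeal S) I
  have h2 : (maximalIdeal S).map (algebraMap S (S ⧸ I)) = maximalIdeal (S ⧸ I) :=
    map_maximalIdeal_of_surjective (Ideal.Quotient.mk I) Ideal.Quotient.mk_surjective
  rwa [h2] at h1

theorem exists_lift {A : Type u} [CommRing A] [IsLocalRing A] [IsNoetherianRing A]
    (J : Ideal A) (hJ : J ≤ maximalIdeal A) [IsLocalRing (A ⧸ J)]
    (B₀ : Type u) [CommRing B₀] [IsLocalRing B₀] [IsNoetherianRing B₀]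
    [IsAdicComplete (maximalIdeal B₀) B₀]
    [Algebra (A ⧸ J) B₀] [IsLocalHom (algebraMap (A ⧸ J) B₀)]
    (hfs : EGA41.IsFormallySmoothAdic (A ⧸ J) (maximalIdeal (A ⧸ J)) B₀ (maximalIdeal B₀)) :
    ∃ (B : Type u) (_ : CommRing B) (_ : IsLocalRing B) (_ : IsNoetherianRing B)
      (_ : Algebra A B) (_ : IsLocalHom (algebraMap A B)),
      IsAdicComplete (maximalIdeal B) B ∧ Module.Flat A B ∧
        Nonempty ((A ⧸ J) ⊗[A] B ≃ₐ[A ⧸ J] B₀) := by
  classical
  letI algAB₀ : Algebra A B₀ := ((algebraMap (A ⧸ J) B₀).comp (Ideal.Quotient.mk J)).toAlgebra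
  haveI : IsScalarTower A (A ⧸ J) B₀ := IsScalarTower.of_algebraMap_eq (fun _ => rfl)
  have hmk𝔪 : (maximalIdeal A).map (Ideal.Quotient.mk J) = maximalIdeal (A ⧸ J) :=
    map_maximalIdeal_of_surjective _ Ideal.Quotient.mk_surjective
  set 𝔫 : Ideal B₀ := (maximalIdeal A).map (algebraMap A B₀) with h𝔫
  have h𝔫' : 𝔫 = (maximalIdeal (A ⧸ J)).map (algebraMap (A ⧸ J) B₀) := by
    rw [← hmk𝔪, Ideal.map_map]; rfl
  have h𝔫le : 𝔫 ≤ maximalIdeal B₀ := by
    rw [h𝔫']; exact IsLocalRing.map_maximalIdeal_le _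
  have h𝔫ne : 𝔫 ≠ ⊤ := fun h =>
    (maximalIdeal.isMaximal B₀).ne_top (top_le_iff.mp (h ▸ h𝔫le))
  obtain ⟨hK₀loc, hK₀comp⟩ := quotient_local_complete 𝔫 h𝔫ne
  -- formal smoothness and regularity of the closed fibre
  have hFSK : EGA41.IsFormallySmoothAdic (A ⧸ maximalIdeal A) ⊥ (B₀ ⧸ 𝔫)
      ((maximalIdeal B₀).map (Ideal.Quotient.mk 𝔫)) :=
    FibreFS.fibre_formallySmooth (Ideal.Quotient.mk J) Ideal.Quotient.mk_surjective hfs
      (RingHom.id B₀) Function.surjective_id (fun a => rfl)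
      (by
        have : RingHom.ker (RingHom.id B₀) = ⊥ :=
          (RingHom.injective_iff_ker_eq_bot _).mp Function.injective_id
        rw [this]; exact bot_le)
  have hm𝔫 : (maximalIdeal B₀).map (Ideal.Quotient.mk 𝔫) = maximalIdeal (B₀ ⧸ 𝔫) :=
    map_maximalIdeal_of_surjective _ Ideal.Quotient.mk_surjective
  rw [hm𝔫] at hFSK
  letI : Field (A ⧸ maximalIdeal A) := Ideal.Quotient.field _
  have hAFS : CAlgX.IsAdicFormallySmooth (A ⧸ maximalIdeal A) (B₀ ⧸ 𝔫)
      (maximalIdeal (B₀ ⧸ 𝔫)) :=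
    Groth.Agent.Lib.Helper47.isAdicFormallySmooth_of_isFormallySmoothAdic ⊥ _
      (by rw [Ideal.map_bot]; exact bot_le) hFSK
  haveI hreg : IsRegularLocalRing (B₀ ⧸ 𝔫) := ((Groth.Agent.S2471.result).mp hAFS).1
  letI : Algebra (ResidueField A) (B₀ ⧸ 𝔫) :=
    (show Algebra (A ⧸ maximalIdeal A) (B₀ ⧸ 𝔫) from inferInstance)
  obtain ⟨B, _, _, _, φ, π, hcomp, hflat, hπ, hkerπ, hcompat⟩ :=
    FlatLiftRegular.exists_flatLift (A := A) (B₀ ⧸ 𝔫)
  letI : Algebra A B := φ.toAlgebra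
  have hloc : IsLocalHom (algebraMap A B) := by
    apply ((IsLocalRing.local_hom_TFAE (algebraMap A B)).out 0 2).mpr
    change (maximalIdeal A).map φ ≤ maximalIdeal B
    rw [← hkerπ]
    exact IsLocalRing.le_maximalIdeal (RingHom.ker_ne_top π)
  haveI : Module.Flat A B := hflat
  have hπφ : ∀ a : A, π (algebraMap A B a) = Ideal.Quotient.mk 𝔫 (algebraMap A B₀ a) := by
    intro a
    have := congrArg (fun h => h a) hcompat
    simp only [RingHom.comp_apply] at this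
    exact this
  set JB : Ideal B := J.map (algebraMap A B) with hJB
  have hJBle : JB ≤ RingHom.ker π := by
    rw [hkerπ]; exact Ideal.map_mono hJ
  have hJBne : JB ≠ ⊤ := fun h => (RingHom.ker_ne_top π) (top_le_iff.mp (h ▸ hJBle))
  obtain ⟨hB₁loc, hB₁comp⟩ := quotient_local_complete JB hJBne
  haveI hB₁flat : Module.Flat (A ⧸ J) (B ⧸ JB) :=
    Module.Flat.of_linearEquiv (Algebra.TensorProduct.quotIdealMapEquivQuotTensor B J).toLinearEquiv
  have hcompmk : (algebraMap (A ⧸ J) (B ⧸ JB)).comp (Ideal.Quotient.mk J) =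
      (Ideal.Quotient.mk JB).comp (algebraMap A B) := rfl
  have hB₁lochom : IsLocalHom (algebraMap (A ⧸ J) (B ⧸ JB)) := by
    apply ((IsLocalRing.local_hom_TFAE _).out 0 2).mpr
    rw [← hmk𝔪, Ideal.map_map, hcompmk, ← Ideal.map_map]
    calc ((maximalIdeal A).map (algebraMap A B)).map (Ideal.Quotient.mk JB)
        ≤ (maximalIdeal B).map (Ideal.Quotient.mk JB) :=
          Ideal.map_mono (IsLocalRing.map_maximalIdeal_le _)
      _ = maximalIdeal (B ⧸ JB) :=
          map_maximalIdeal_of_surjective _ Ideal.Quotient.mk_surjective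
  let p : B₀ →ₐ[A ⧸ J] (B₀ ⧸ 𝔫) := Ideal.Quotient.mkₐ (A ⧸ J) 𝔫
  have hp : Function.Surjective p := Ideal.Quotient.mkₐ_surjective _ _
  have hkp : RingHom.ker p = (maximalIdeal (A ⧸ J)).map (algebraMap (A ⧸ J) B₀) := by
    rw [← h𝔫']
    exact Ideal.Quotient.mkₐ_ker (A ⧸ J) 𝔫
  let p'r : B ⧸ JB →+* B₀ ⧸ 𝔫 := Ideal.Quotient.lift JB π (fun x hx => hJBle hx)
  have hp'r : ∀ b, p'r (Ideal.Quotient.mk JB b) = π b := fun b => rfl
  let p' : B ⧸ JB →ₐ[A ⧸ J] (B₀ ⧸ 𝔫) :=
    { p'r with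
      commutes' := fun r => by
        obtain ⟨a, rfl⟩ := Ideal.Quotient.mk_surjective r
        change p'r (Ideal.Quotient.mk JB (algebraMap A B a)) = _
        rw [hp'r, hπφ]
        rfl }
  have hp'mk : ∀ b, p' (Ideal.Quotient.mk JB b) = π b := fun b => rfl
  have hp' : Function.Surjective p' := by
    intro y
    obtain ⟨b, rfl⟩ := hπ y
    exact ⟨Ideal.Quotient.mk JB b, rfl⟩
  have hkp' : RingHom.ker p' = (maximalIdeal (A ⧸ J)).map (algebraMap (A ⧸ J) (B ⧸ JB)) := by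
    rw [← hmk𝔪, Ideal.map_map, hcompmk, ← Ideal.map_map]
    apply le_antisymm
    · intro x hx
      obtain ⟨b, rfl⟩ := Ideal.Quotient.mk_surjective x
      rw [RingHom.mem_ker, hp'mk] at hx
      have hb : b ∈ (maximalIdeal A).map (algebraMap A B) := by
        change b ∈ (maximalIdeal A).map φ
        rw [← hkerπ]; exact hx
      exact Ideal.mem_map_of_mem _ hb
    · rw [Ideal.map_le_iff_le_comap]
      intro b hb
      rw [Ideal.mem_comap, RingHom.mem_ker, hp'mk, ← RingHom.mem_ker, hkerπ]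
      exact hb
  obtain ⟨v, hv⟩ := LiftIso.exists_algEquiv_of_common_quotient (maximalIdeal (A ⧸ J)) hfs
    p p' hp hp' hkp hkp'
  haveI : IsScalarTower A (A ⧸ J) (B ⧸ JB) := IsScalarTower.of_algebraMap_eq (fun _ => rfl)
  let πtot : B →ₐ[A] B₀ := ((v.symm : (B ⧸ JB) →ₐ[A ⧸ J] B₀).restrictScalars A).comp
    (Ideal.Quotient.mkₐ A JB)
  have hπtot : ∀ b, πtot b = v.symm (Ideal.Quotient.mk JB b) := fun b => rfl
  refine ⟨B, inferInstance, inferInstance, inferInstance, inferInstance, hloc, hcomp, hflat, ?_⟩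
  refine FibreTensor.nonempty_tensor_algEquiv (A ⧸ J) Ideal.Quotient.mk_surjective πtot ?_ ?_
  · intro y
    obtain ⟨b, hb⟩ := Ideal.Quotient.mk_surjective (v y)
    refine ⟨b, ?_⟩
    rw [hπtot, hb, AlgEquiv.symm_apply_apply]
  · intro b hb
    rw [hπtot, map_eq_zero_iff v.symm v.symm.injective, Ideal.Quotient.eq_zero_iff_mem] at hb
    have hk : RingHom.ker (algebraMap A (A ⧸ J)) = J := by
      rw [Ideal.Quotient.algebraMap_eq, Ideal.mk_ker]
    rw [hk]
    exact hb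

end Groth.Agent.Lib.Helper81.FlatLiftExists
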