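import Mathlib
import Groth.Prelude.Def_EGA41
import Groth.Prelude.Def_CAlgX
import Groth.Agent.S2471
import Groth.Agent.S2035
import Groth.Agent.S0564
import Groth.Agent.Lib.Helper47.FlatFibreSmooth
import Groth.Agent.Lib.Helper47.SmoothFlat
import Groth.Agent.Lib.Helper47.RegularLocalFlat2
import Groth.Agent.Lib.Helper81.FibreFS
import Groth.Agent.Lib.Helper81.FlatLiftExists

/-!
# Localization of formal smoothness over a regular base, characteristic zero (helper81)
-/

set_option autoImplicit false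
set_option linter.style.haveILetI false
universe u

open IsLocalRing TensorProduct

namespace Groth.Agent.Lib.Helper81.LfsBase

/-- a Noetherian local ring formally smooth over a regular local ring is regular -/
theorem isRegularLocalRing_of_smooth {A₀ B₀ : Type u} [CommRing A₀] [IsRegularLocalRing A₀]
    [CommRing B₀] [IsLocalRing B₀] [IsNoetherianRing B₀] [Algebra A₀ B₀]
    [IsLocalHom (algebraMap A₀ B₀)]
    (hfs : CAlgX.IsAdicFormallySmooth A₀ B₀ (maximalIdeal B₀)) : IsRegularLocalRing B₀ := by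
  haveI : Module.Flat A₀ B₀ := Groth.Agent.Lib.Helper47.SmoothFlat.flat_of_isAdicFormallySmooth hfs
  set 𝔫 : Ideal B₀ := (maximalIdeal A₀).map (algebraMap A₀ B₀) with h𝔫
  have h𝔫le : 𝔫 ≤ maximalIdeal B₀ := IsLocalRing.map_maximalIdeal_le (algebraMap A₀ B₀)
  have h𝔫ne : 𝔫 ≠ ⊤ := fun h =>
    (maximalIdeal.isMaximal B₀).ne_top (top_le_iff.mp (h ▸ h𝔫le))
  haveI : Nontrivial (B₀ ⧸ 𝔫) := Ideal.Quotient.nontrivial_iff.mpr h𝔫ne
  haveI : IsLocalRing (B₀ ⧸ 𝔫) :=
    IsLocalRing.of_surjective' (Ideal.Quotient.mk 𝔫) Ideal.Quotient.mk_surjective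
  have hfs' : EGA41.IsFormallySmoothAdic A₀ (maximalIdeal A₀) B₀ (maximalIdeal B₀) :=
    Groth.Agent.Lib.Helper47.isFormallySmoothAdic_of_isAdicFormallySmooth _ _ hfs
  have hFSK : EGA41.IsFormallySmoothAdic (A₀ ⧸ maximalIdeal A₀) ⊥ (B₀ ⧸ 𝔫)
      ((maximalIdeal B₀).map (Ideal.Quotient.mk 𝔫)) :=
    FibreFS.fibre_formallySmooth (RingHom.id A₀) Function.surjective_id hfs'
      (RingHom.id B₀) Function.surjective_id (fun a => rfl)
      (by
        have : RingHom.ker (RingHom.id B₀) = ⊥ :=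
          (RingHom.injective_iff_ker_eq_bot _).mp Function.injective_id
        rw [this]; exact bot_le)
  have hm𝔫 : (maximalIdeal B₀).map (Ideal.Quotient.mk 𝔫) = maximalIdeal (B₀ ⧸ 𝔫) :=
    map_maximalIdeal_of_surjective _ Ideal.Quotient.mk_surjective
  rw [hm𝔫] at hFSK
  letI : Field (A₀ ⧸ maximalIdeal A₀) := Ideal.Quotient.field _
  have hAFS : CAlgX.IsAdicFormallySmooth (A₀ ⧸ maximalIdeal A₀) (B₀ ⧸ 𝔫)
      (maximalIdeal (B₀ ⧸ 𝔫)) :=
    Groth.Agent.Lib.Helper47.isAdicFormallySmooth_of_isFormallySmoothAdic ⊥ _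
      (by rw [Ideal.map_bot]; exact bot_le) hFSK
  have hreg : IsRegularLocalRing (B₀ ⧸ 𝔫) := ((Groth.Agent.S2471.result).mp hAFS).1
  exact Groth.Agent.Lib.Helper47.isRegularLocalRing_of_flat_of_isRegularLocalRing_quotient hreg

/-- characteristic zero: the local rings of the generic fibre are formally smooth -/
theorem smooth_char0 {A₀ B₀ K₀ : Type u} [CommRing A₀] [IsRegularLocalRing A₀] [CharZero A₀]
    [CommRing B₀] [IsLocalRing B₀] [IsNoetherianRing B₀] [Algebra A₀ B₀]
    [IsLocalHom (algebraMap A₀ B₀)]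
    (hfs : CAlgX.IsAdicFormallySmooth A₀ B₀ (maximalIdeal B₀))
    [Field K₀] [Algebra A₀ K₀] [IsFractionRing A₀ K₀]
    (Q₀ : Ideal B₀) [Q₀.IsPrime] [Algebra K₀ (Localization.AtPrime Q₀)] :
    CAlgX.IsAdicFormallySmooth K₀ (Localization.AtPrime Q₀)
      (maximalIdeal (Localization.AtPrime Q₀)) := by
  haveI : IsRegularLocalRing B₀ := isRegularLocalRing_of_smooth hfs
  haveI : IsRegularLocalRing (Localization.AtPrime Q₀) := Groth.Agent.S0564.result B₀ Q₀
  haveI : CharZero K₀ := by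
    have hinj : Function.Injective (algebraMap A₀ K₀) := IsFractionRing.injective A₀ K₀
    exact charZero_of_injective_algebraMap hinj
  exact (Groth.Agent.S2035.result).mp inferInstance

end Groth.Agent.Lib.Helper81.LfsBase
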