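import Mathlib
import Groth.Agent.Lib.Helper47.DualComplete
import Groth.Agent.Lib.Helper47.AdicLiftComplete
import Groth.Agent.Lib.Helper21.AdicSmooth

/-!
# Lifting derivations through an adically formally smooth algebra into a complete local ring
(helper81)

`A → B` formally smooth for the `𝔪_B`-adic topology, `π : B → C` a local homomorphism to a complete
Noetherian local ring, `δ : A → C` a derivation over `π ∘ (A → B)`.  Then `δ` extends to a derivation
`B → C` over `π`.
-/

set_option autoImplicit false
universe u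

namespace Groth.Agent.Lib.Helper81.LfsDerLift

open IsLocalRing Groth.Agent.Lib.Helper47

section

variable {A B C : Type u} [CommRing A] [CommRing B] [Algebra A B] [CommRing C]

/-- `a ↦ π a + δ(a) ε` as a ring map `A → C[ε]`. -/
def twist (π : B →+* C) (δ : A → C) (hadd : ∀ x y, δ (x + y) = δ x + δ y)
    (hleib : ∀ x y, δ (x * y) = π (algebraMap A B x) * δ y + π (algebraMap A B y) * δ x) :
    A →+* TwDual C where
  toFun a := TwDual.inl (π (algebraMap A B a)) + TwDual.inr (δ a)
  map_one' := by
    have h1 : δ 1 = 0 := by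
      have := hleib 1 1
      rw [mul_one, map_one, map_one, one_mul] at this
      have h2 : δ 1 + 0 = δ 1 + δ 1 := by rw [add_zero]; exact this
      exact (add_left_cancel h2).symm
    apply TwDual.ext
    · simp [map_add]
    · simp [TwDual.snd_add, h1]
      rfl
  map_mul' x y := by
    apply TwDual.ext
    · simp [map_add, map_mul]
    · simp only [TwDual.snd_add, TwDual.snd_mul, map_add, TwDual.fst_inl, TwDual.fst_inr,
        TwDual.snd_inl, TwDual.snd_inr, hleib, map_mul]
      ring
  map_zero' := by
    have h1 : δ 0 = 0 := by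
      have := hadd 0 0
      rw [add_zero] at this
      have h2 : δ 0 + 0 = δ 0 + δ 0 := by rw [add_zero]; exact this
      exact (add_left_cancel h2).symm
    apply TwDual.ext
    · simp [map_add]
    · simp [TwDual.snd_add, h1]
      rfl
  map_add' x y := by
    apply TwDual.ext
    · simp [map_add]
    · simp [TwDual.snd_add, hadd]

theorem fst_twist (π : B →+* C) (δ : A → C) (hadd : ∀ x y, δ (x + y) = δ x + δ y)
    (hleib : ∀ x y, δ (x * y) = π (algebraMap A B x) * δ y + π (algebraMap A B y) * δ x) (a : A) :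
    TwDual.fst (twist π δ hadd hleib a) = π (algebraMap A B a) := by
  simp [twist, map_add]

theorem snd_twist (π : B →+* C) (δ : A → C) (hadd : ∀ x y, δ (x + y) = δ x + δ y)
    (hleib : ∀ x y, δ (x * y) = π (algebraMap A B x) * δ y + π (algebraMap A B y) * δ x) (a : A) :
    TwDual.snd (twist π δ hadd hleib a) = δ a := by
  simp [twist, TwDual.snd_add]

end

theorem exists_derivation_lift {A B C : Type u} [CommRing A] [CommRing B] [IsLocalRing B]
    [Algebra A B] [CommRing C] [IsLocalRing C] [IsNoetherianRing C]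
    [IsAdicComplete (maximalIdeal C) C]
    (hfs : CAlgX.IsAdicFormallySmooth A B (maximalIdeal B))
    (π : B →+* C) (hπ : ∀ b ∈ maximalIdeal B, π b ∈ maximalIdeal C)
    (δ : A → C) (hadd : ∀ x y, δ (x + y) = δ x + δ y)
    (hleib : ∀ x y, δ (x * y) = π (algebraMap A B x) * δ y + π (algebraMap A B y) * δ x) :
    ∃ D : B → C, (∀ x y, D (x + y) = D x + D y) ∧ (∀ x y, D (x * y) = π x * D y + π y * D x) ∧
      ∀ a, D (algebraMap A B a) = δ a := by
  letI algAT : Algebra A (TwDual C) := (twist π δ hadd hleib).toAlgebra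
  letI algAC : Algebra A C := (π.comp (algebraMap A B)).toAlgebra
  have halg : ∀ a : A, algebraMap A (TwDual C) a = twist π δ hadd hleib a := fun _ => rfl
  have halgC : ∀ a : A, algebraMap A C a = π (algebraMap A B a) := fun _ => rfl
  haveI : IsAdicComplete (maximalIdeal (TwDual C)) (TwDual C) := TwDual.isAdicComplete
  let πₐ : B →ₐ[A] C := { π with commutes' := fun a => rfl }
  let fstₐ : TwDual C →ₐ[A] C :=
    { (TwDual.fst : TwDual C →+* C) with
      commutes' := fun a => by
        change TwDual.fst (algebraMap A (TwDual C) a) = _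
        rw [halg, fst_twist, halgC] }
  have hfstₐ : ∀ x, fstₐ x = TwDual.fst x := fun _ => rfl
  have hsurj : Function.Surjective fstₐ := fun b => ⟨TwDual.inl b, rfl⟩
  let e : (TwDual C ⧸ RingHom.ker fstₐ) ≃ₐ[A] C := Ideal.quotientKerAlgEquivOfSurjective hsurj
  have hJ : RingHom.ker fstₐ ≠ ⊤ := by
    intro h
    have h1 : (1 : TwDual C) ∈ RingHom.ker fstₐ := h ▸ Submodule.mem_top
    rw [RingHom.mem_ker, map_one] at h1
    exact one_ne_zero h1
  let u : B →ₐ[A] TwDual C ⧸ RingHom.ker fstₐ := (e.symm : C →ₐ[A] _).comp πₐ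
  have hu_apply : ∀ b : B, u b = Ideal.Quotient.mk _ (TwDual.inl (π b)) := by
    intro b
    change e.symm (π b) = _
    rw [AlgEquiv.symm_apply_eq]
    rfl
  have hu : (maximalIdeal B).map u.toRingHom ≤
      (maximalIdeal (TwDual C)).map (Ideal.Quotient.mk (RingHom.ker fstₐ)) := by
    rw [Ideal.map_le_iff_le_comap]
    intro b hb
    rw [Ideal.mem_comap]
    change u b ∈ _
    rw [hu_apply]
    exact Ideal.mem_map_of_mem _ (TwDual.mem_maximalIdeal_iff.mpr (hπ b hb))
  have hB : EGA41.IsFormallySmoothAdic A ⊥ B (maximalIdeal B) :=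
    (Groth.Agent.Lib.Helper21.isAdicFormallySmooth_iff_isFormallySmoothAdic_bot _).mp hfs
  have hA : (⊥ : Ideal A).map (algebraMap A (TwDual C)) ≤ maximalIdeal (TwDual C) := by
    rw [Ideal.map_bot]; exact bot_le
  obtain ⟨v, -, hv⟩ := exists_lift_complete_local (maximalIdeal B) (RingHom.ker fstₐ) hJ u hu ⊥ hB hA
  have hfst : ∀ b : B, TwDual.fst (v b) = π b := by
    intro b
    have h1 := congrArg (fun g : B →ₐ[A] TwDual C ⧸ RingHom.ker fstₐ => e (g b)) hv
    simp only [AlgHom.comp_apply] at h1
    have h2 : e (u b) = π b := e.apply_symm_apply (π b)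
    rw [h2] at h1
    exact h1
  refine ⟨fun b => TwDual.snd (v b), fun x y => ?_, fun x y => ?_, fun a => ?_⟩
  · change TwDual.snd (v (x + y)) = _
    rw [map_add, TwDual.snd_add]
  · change TwDual.snd (v (x * y)) = _
    rw [map_mul, TwDual.snd_mul, hfst, hfst]
  · change TwDual.snd (v (algebraMap A B a)) = _
    rw [v.commutes, halg, snd_twist]

end Groth.Agent.Lib.Helper81.LfsDerLift
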