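import Mathlib
import Groth.Prelude.Def_PP16
import Groth.Prelude.Def_CAlgX
import Groth.Agent.Lib.Helper81.DerExtend
import Groth.Agent.Lib.Helper81.GenFibreSmooth
import Groth.Agent.Lib.Helper81.LfsDerLift
import Groth.Agent.Lib.Helper81.FlatLiftExists

/-!
# Localization of formal smoothness over `k[[X]]`, characteristic `p`: the index step (helper81)
-/

set_option autoImplicit false
set_option linter.style.haveILetI false
universe u

open IsLocalRing TensorProduct

namespace Groth.Agent.Lib.Helper81.LfsBaseP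

open Groth.Agent.Lib.Helper81.DerExtend Groth.Agent.Lib.Helper81.GenFibreSmooth

/-- function version of extension of derivations along a formally étale map -/
theorem exists_extend_fun {S T N : Type*} [CommRing S] [CommRing T] [Algebra S T]
    [Algebra.FormallyEtale S T] [AddCommGroup N] [Module T N] [Module S N] [IsScalarTower S T N]
    (D₀ : S → N) (hadd : ∀ x y, D₀ (x + y) = D₀ x + D₀ y)
    (hleib : ∀ x y, D₀ (x * y) = x • D₀ y + y • D₀ x) :
    ∃ D : T → N, (∀ x y, D (x + y) = D x + D y) ∧ (∀ x y, D (x * y) = x • D y + y • D x) ∧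
      ∀ s, D (algebraMap S T s) = D₀ s := by
  let D₂d : Derivation ℤ S N :=
    Derivation.mk' (AddMonoidHom.mk' D₀ hadd).toIntLinearMap hleib
  obtain ⟨D', hD'⟩ := exists_extend_of_formallyEtale ℤ S T N D₂d
  exact ⟨D', fun x y => map_add D' x y, fun x y => D'.leibniz x y, fun s => hD' s⟩

set_option synthInstance.maxHeartbeats 200000 in
set_option maxHeartbeats 2000000 in
/-- derivations of `K = Frac A₀` over a subfield containing a finite-index subring of `A₀`, with
values in the residue field of `(B₀)_{Q₀}`, extend to `(B₀)_{Q₀}`, when `B₀` is complete local and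
formally smooth over `A₀`. -/
theorem exists_extend {A₀ B₀ : Type u} [CommRing A₀] [CommRing B₀] [IsLocalRing B₀]
    [IsNoetherianRing B₀] [IsAdicComplete (maximalIdeal B₀) B₀] [Algebra A₀ B₀]
    (hfs : CAlgX.IsAdicFormallySmooth A₀ B₀ (maximalIdeal B₀))
    (S : Subring A₀) [Module.Finite S A₀]
    (Q₀ : Ideal B₀) [Q₀.IsPrime]
    (δ₀ : A₀ → Q₀.ResidueField) (hadd : ∀ x y, δ₀ (x + y) = δ₀ x + δ₀ y)
    (hleib : ∀ x y, δ₀ (x * y) = algebraMap B₀ Q₀.ResidueField (algebraMap A₀ B₀ x) * δ₀ y +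
      algebraMap B₀ Q₀.ResidueField (algebraMap A₀ B₀ y) * δ₀ x)
    (hkill : ∀ s : S, δ₀ s = 0) :
    ∃ D : Localization.AtPrime Q₀ → Q₀.ResidueField, (∀ x y, D (x + y) = D x + D y) ∧
      (∀ x y, D (x * y) = x • D y + y • D x) ∧
      ∀ a, D (algebraMap B₀ (Localization.AtPrime Q₀) (algebraMap A₀ B₀ a)) = δ₀ a := by
  classical
  have hQne : Q₀ ≠ ⊤ := Ideal.IsPrime.ne_top inferInstance
  obtain ⟨hCloc, hCcomp⟩ := FlatLiftExists.quotient_local_complete Q₀ hQne
  set ι : (B₀ ⧸ Q₀) →+* Q₀.ResidueField := algebraMap (B₀ ⧸ Q₀) Q₀.ResidueField with hι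
  have hιinj : Function.Injective ι := Ideal.injective_algebraMap_quotient_residueField Q₀
  have hιmk : ∀ b : B₀, ι (Ideal.Quotient.mk Q₀ b) = algebraMap B₀ Q₀.ResidueField b := fun _ => rfl
  -- `S`-linearity of `δ₀`
  have hSlin : ∀ (s : S) (a : A₀), δ₀ (s • a) =
      algebraMap B₀ Q₀.ResidueField (algebraMap A₀ B₀ s) * δ₀ a := by
    intro s a
    rw [Subring.smul_def, smul_eq_mul, hleib, hkill, mul_zero, add_zero]
  -- generators
  obtain ⟨n, g, hg⟩ := Module.Finite.exists_fin (R := S) (M := A₀)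
  obtain ⟨d, hd⟩ := IsLocalization.exist_integer_multiples_of_finite (nonZeroDivisors (B₀ ⧸ Q₀))
    (fun i : Fin n => δ₀ (g i))
  have hdne : ι d ≠ 0 := by
    intro h
    have : (d : B₀ ⧸ Q₀) = 0 := hιinj (by rw [h, map_zero])
    exact nonZeroDivisors.ne_zero d.2 this
  have hint : ∀ a : A₀, ∃ c : B₀ ⧸ Q₀, ι c = ι d * δ₀ a := by
    intro a
    have ha : a ∈ Submodule.span S (Set.range g) := by rw [hg]; exact Submodule.mem_top
    induction ha using Submodule.span_induction with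
    | mem x hx =>
      obtain ⟨i, rfl⟩ := hx
      obtain ⟨c, hc⟩ := hd i
      refine ⟨c, ?_⟩
      rw [hc]
      exact Algebra.smul_def (d : B₀ ⧸ Q₀) (δ₀ (g i))
    | zero =>
      refine ⟨0, ?_⟩
      have h0 : δ₀ 0 = 0 := by
        have := hadd 0 0
        rw [add_zero] at this
        have h2 : δ₀ 0 + 0 = δ₀ 0 + δ₀ 0 := by rw [add_zero]; exact this
        exact (add_left_cancel h2).symm
      rw [map_zero, h0, mul_zero]
    | add x y _ _ hx hy =>
      obtain ⟨c₁, h₁⟩ := hx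
      obtain ⟨c₂, h₂⟩ := hy
      exact ⟨c₁ + c₂, by rw [map_add, h₁, h₂, hadd, mul_add]⟩
    | smul s x _ hx =>
      obtain ⟨c, hc⟩ := hx
      refine ⟨Ideal.Quotient.mk Q₀ (algebraMap A₀ B₀ s) * c, ?_⟩
      rw [map_mul, hc, hιmk, hSlin]
      ring
  choose δ₁ hδ₁ using hint
  let π : B₀ →+* (B₀ ⧸ Q₀) := Ideal.Quotient.mk Q₀
  have hπ : ∀ b ∈ maximalIdeal B₀, π b ∈ maximalIdeal (B₀ ⧸ Q₀) := by
    intro b hb
    rw [← map_maximalIdeal_of_surjective (Ideal.Quotient.mk Q₀) Ideal.Quotient.mk_surjective]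
    exact Ideal.mem_map_of_mem _ hb
  have hadd₁ : ∀ x y, δ₁ (x + y) = δ₁ x + δ₁ y := by
    intro x y
    apply hιinj
    rw [map_add, hδ₁, hδ₁, hδ₁, hadd, mul_add]
  have hleib₁ : ∀ x y, δ₁ (x * y) = π (algebraMap A₀ B₀ x) * δ₁ y + π (algebraMap A₀ B₀ y) * δ₁ x := by
    intro x y
    apply hιinj
    rw [map_add, map_mul, map_mul, hδ₁, hδ₁, hδ₁, hleib, hιmk, hιmk]
    ring
  obtain ⟨D₁, hD₁add, hD₁leib, hD₁ext⟩ :=
    LfsDerLift.exists_derivation_lift hfs π hπ δ₁ hadd₁ hleib₁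
  -- back to the residue field
  let D₂ : B₀ → Q₀.ResidueField := fun b => (ι d)⁻¹ * ι (D₁ b)
  have hD₂add : ∀ x y, D₂ (x + y) = D₂ x + D₂ y := by
    intro x y
    change (ι d)⁻¹ * ι (D₁ (x + y)) = (ι d)⁻¹ * ι (D₁ x) + (ι d)⁻¹ * ι (D₁ y)
    rw [hD₁add, map_add, mul_add]
  have hD₂leib : ∀ x y, D₂ (x * y) = x • D₂ y + y • D₂ x := by
    intro x y
    change (ι d)⁻¹ * ι (D₁ (x * y)) = x • ((ι d)⁻¹ * ι (D₁ y)) + y • ((ι d)⁻¹ * ι (D₁ x))
    rw [hD₁leib, map_add, map_mul, map_mul, hιmk, hιmk, Algebra.smul_def, Algebra.smul_def]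
    ring
  have hD₂ext : ∀ a, D₂ (algebraMap A₀ B₀ a) = δ₀ a := by
    intro a
    change (ι d)⁻¹ * ι (D₁ (algebraMap A₀ B₀ a)) = δ₀ a
    rw [hD₁ext, hδ₁, ← mul_assoc, inv_mul_cancel₀ hdne, one_mul]
  haveI : Algebra.FormallyEtale B₀ (Localization.AtPrime Q₀) :=
    Algebra.FormallyEtale.of_isLocalization (Rₘ := Localization.AtPrime Q₀) Q₀.primeCompl
  obtain ⟨D', hD'add, hD'leib, hD'⟩ := exists_extend_fun (S := B₀) (T := Localization.AtPrime Q₀)
    (N := Q₀.ResidueField) D₂ hD₂add hD₂leib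
  exact ⟨D', hD'add, hD'leib, fun a => by rw [hD', hD₂ext]⟩

set_option synthInstance.maxHeartbeats 200000 in
set_option maxHeartbeats 2000000 in
/-- per-index injectivity -/
theorem injective_index {A₀ B₀ : Type u} [CommRing A₀] [CommRing B₀] [IsLocalRing B₀]
    [IsNoetherianRing B₀] [IsAdicComplete (maximalIdeal B₀) B₀] [Algebra A₀ B₀]
    (hfs : CAlgX.IsAdicFormallySmooth A₀ B₀ (maximalIdeal B₀))
    (S : Subring A₀) [Module.Finite S A₀]
    (Q₀ : Ideal B₀) [Q₀.IsPrime]
    (K : Type u) [Field K] [Algebra A₀ K] [IsFractionRing A₀ K]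
    [Algebra K (Localization.AtPrime Q₀)]
    (hK : ∀ a, algebraMap K (Localization.AtPrime Q₀) (algebraMap A₀ K a) =
      algebraMap B₀ (Localization.AtPrime Q₀) (algebraMap A₀ B₀ a))
    (F : Subfield K) (hF : ∀ s : S, algebraMap A₀ K s ∈ F) :
    Function.Injective ((KaehlerDifferential.mapBaseChange F K (Localization.AtPrime Q₀)).lTensor
      (ResidueField (Localization.AtPrime Q₀))) := by
  apply injective_of_extend
  intro D
  have hKA : ∀ (a : A₀) (x : ResidueField (Localization.AtPrime Q₀)),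
      algebraMap A₀ K a • x = algebraMap B₀ Q₀.ResidueField (algebraMap A₀ B₀ a) * x := by
    intro a x
    rw [← algebraMap_smul (Localization.AtPrime Q₀) (algebraMap A₀ K a) x, hK, algebraMap_smul,
      Algebra.smul_def]
  have hkill : ∀ s : S, D (algebraMap A₀ K s) = 0 := fun s =>
    D.map_algebraMap (⟨algebraMap A₀ K s, hF s⟩ : F)
  obtain ⟨D', hadd, hleib, hext⟩ := exists_extend hfs S Q₀ (fun a => D (algebraMap A₀ K a))
    (fun x y => by simp only [map_add])
    (fun x y => by simp only [map_mul, Derivation.leibniz, hKA])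
    (fun s => hkill s)
  have hfg : ∀ x : K, D' (algebraMap K (Localization.AtPrime Q₀) x) = D x := by
    apply eq_of_eq_on' (A := A₀) (fun x : K => D' (algebraMap K (Localization.AtPrime Q₀) x)) D
    · intro x y
      simp only [map_mul, hleib, algebraMap_smul]
    · intro x y
      exact D.leibniz x y
    · intro a
      change D' (algebraMap K (Localization.AtPrime Q₀) (algebraMap A₀ K a)) = D (algebraMap A₀ K a)
      rw [hK, hext]
  refine ⟨ofFun (R := F) (B := Localization.AtPrime Q₀) D' hadd hleib (fun r => ?_), fun c => ?_⟩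
  · rw [IsScalarTower.algebraMap_apply F K (Localization.AtPrime Q₀), hfg]
    exact D.map_algebraMap r
  · rw [ofFun_apply, hfg]

end Groth.Agent.Lib.Helper81.LfsBaseP
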