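import Mathlib
import Groth.Prelude.Def_PP16
import Groth.Prelude.Def_CAlgX
import Groth.Agent.Lib.Helper81.GenFibreSmoothP
import Groth.Agent.Lib.Helper81.LfsBaseP
import Groth.Agent.Lib.Helper81.LfsBase
import Groth.Agent.S4616
import Groth.Agent.S0564

/-!
# Localization of formal smoothness over `k[[X]]`, characteristic `p` (helper81)
-/

set_option autoImplicit false
set_option linter.style.haveILetI false
universe u

open IsLocalRing TensorProduct

namespace Groth.Agent.Lib.Helper81.LfsBaseP

open Groth.Agent.Lib.Helper81.DerExtend Groth.Agent.Lib.Helper81.GenFibreSmooth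
  Groth.Agent.Lib.Helper81.GenFibreSmoothP Groth.Agent.Lib.Helper81.PowerSeriesPSub

section

variable (p : ℕ) [Fact p.Prime] (k : Type u) [Field k] [CharP k p] (n : ℕ)

local instance instDomPS' : IsDomain (MvPowerSeries (Fin n) k) := NoZeroDivisors.to_isDomain _

include p in
set_option synthInstance.maxHeartbeats 200000 in
set_option maxHeartbeats 2000000 in
/-- the local rings of the generic fibre of a complete local ring formally smooth over `k[[X]]`
are formally smooth over `Frac k[[X]]` -/
theorem smooth_charP {B₀ : Type u} [CommRing B₀] [IsLocalRing B₀] [IsNoetherianRing B₀]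
    [IsAdicComplete (maximalIdeal B₀) B₀] [Algebra (MvPowerSeries (Fin n) k) B₀]
    [IsLocalHom (algebraMap (MvPowerSeries (Fin n) k) B₀)]
    (hfs : CAlgX.IsAdicFormallySmooth (MvPowerSeries (Fin n) k) B₀ (maximalIdeal B₀))
    (Q₀ : Ideal B₀) [Q₀.IsPrime]
    [Algebra (FractionRing (MvPowerSeries (Fin n) k)) (Localization.AtPrime Q₀)]
    (hK : ∀ a : MvPowerSeries (Fin n) k,
      algebraMap (FractionRing (MvPowerSeries (Fin n) k)) (Localization.AtPrime Q₀)
        (algebraMap (MvPowerSeries (Fin n) k) (FractionRing (MvPowerSeries (Fin n) k)) a) =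
      algebraMap B₀ (Localization.AtPrime Q₀) (algebraMap (MvPowerSeries (Fin n) k) B₀ a)) :
    CAlgX.IsAdicFormallySmooth (FractionRing (MvPowerSeries (Fin n) k)) (Localization.AtPrime Q₀)
      (maximalIdeal (Localization.AtPrime Q₀)) := by
  classical
  have hp : p.Prime := Fact.out
  haveI : CharP (FractionRing (MvPowerSeries (Fin n) k)) p := by
    have hinj : Function.Injective ((algebraMap (MvPowerSeries (Fin n) k)
        (FractionRing (MvPowerSeries (Fin n) k))).comp
        (MvPowerSeries.C (σ := Fin n) (R := k))) :=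
      (IsFractionRing.injective (MvPowerSeries (Fin n) k)
        (FractionRing (MvPowerSeries (Fin n) k))).comp
        (MvPowerSeries.C_injective (σ := Fin n) (R := k))
    exact charP_of_injective_ringHom hinj p
  obtain ⟨I, L, hpow, hmono, hbasis, hint⟩ :=
    Groth.Agent.Lib.Helper81.PBasisFamily.exists_family p k
  have hiff := mem_iInf_kα_iff p k n L hpow hbasis hint
  have hanti : Antitone (kα p k n L) := by
    intro F G hFG
    exact Subfield.closure_mono (Set.image_mono (SL_mono p (hmono F G hFG)))
  have hfrob : ∀ F, (frobenius (FractionRing (MvPowerSeries (Fin n) k)) p).fieldRange ≤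
      kα p k n L F := by
    rintro F _ ⟨w, rfl⟩
    exact (hiff _).2 ⟨w, rfl⟩ F
  have hint' : ⨅ F, (kα p k n L F ⊔
      (frobenius (FractionRing (MvPowerSeries (Fin n) k)) p).fieldRange) =
      (frobenius (FractionRing (MvPowerSeries (Fin n) k)) p).fieldRange := by
    apply le_antisymm
    · intro z hz
      rw [Subfield.mem_iInf] at hz
      have hz' : ∀ F, z ∈ kα p k n L F := by
        intro F
        have := hz F
        rwa [sup_eq_left.2 (hfrob F)] at this
      obtain ⟨w, hw⟩ := (hiff z).1 hz'
      exact ⟨w, hw⟩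
    · exact le_iInf fun F => le_sup_right
  -- regularity
  haveI : IsRegularRing (MvPowerSeries (Fin n) k) :=
    Groth.Agent.Lib.Helper73.RegularRing.isRegularRing_mvPowerSeries k n
  haveI : IsRegularLocalRing (MvPowerSeries (Fin n) k) :=
    IsRegularLocalRing.of_isRegularRing_of_isLocalRing _
  haveI : IsRegularLocalRing B₀ := LfsBase.isRegularLocalRing_of_smooth hfs
  haveI : IsRegularLocalRing (Localization.AtPrime Q₀) := Groth.Agent.S0564.result B₀ Q₀
  have hsym : PP16.SymGrBijective (Localization.AtPrime Q₀)
      (maximalIdeal (Localization.AtPrime Q₀)) :=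
    symGrBijective_of_regular (K := FractionRing (MvPowerSeries (Fin n) k))
  refine (Groth.Agent.S4616.result p (kα p k n L) hanti hint').2 ⟨hsym, ∅, fun F _ => ?_⟩
  obtain ⟨J, _, u, j₀, hj₀, hind, hspn⟩ := hbasis F
  obtain ⟨b, hb⟩ := exists_basis p hp.pos (σ := Fin n) (L F) u j₀ hj₀ hind hspn
  haveI : Module.Finite (SL p (σ := Fin n) (L F)) (MvPowerSeries (Fin n) k) :=
    Module.Finite.of_basis b
  exact injective_index hfs (SL p (σ := Fin n) (L F)) Q₀
    (FractionRing (MvPowerSeries (Fin n) k)) hK (kα p k n L F)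
    (fun s => Subfield.subset_closure ⟨s, s.2, rfl⟩)

end

end Groth.Agent.Lib.Helper81.LfsBaseP
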