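import Mathlib
import Groth.Agent.Lib.Helper73.RedFibre3
import Groth.Agent.Lib.Helper44.RigPoint

/-!
# Local rings from quotients by ideals in the Jacobson radical; completeness of finite local
algebras over complete local rings (helper81)
-/

set_option autoImplicit false
universe u

namespace Groth.Agent.Lib.Helper81.LfsLocal

open IsLocalRing

theorem isLocalHom_of_ker_le_jacobson {T F : Type*} [CommRing T] [CommRing F]
    (p : T →+* F) (hp : Function.Surjective p) (hk : RingHom.ker p ≤ Ideal.jacobson ⊥) :
    IsLocalHom p := by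
  constructor
  intro a ha
  obtain ⟨b', hb⟩ := isUnit_iff_exists_inv.mp ha
  obtain ⟨b, rfl⟩ := hp b'
  have h1 : a * b - 1 ∈ Ideal.jacobson (⊥ : Ideal T) := by
    apply hk
    rw [RingHom.mem_ker, map_sub, map_mul, map_one, hb, sub_self]
  have h2 : IsUnit (a * b) := Ideal.isUnit_of_sub_one_mem_jacobson_bot _ h1
  exact isUnit_of_mul_isUnit_left h2

theorem isLocalRing_of_surjective_of_ker_le_jacobson {T F : Type*} [CommRing T] [CommRing F]
    [IsLocalRing F] (p : T →+* F) (hp : Function.Surjective p)
    (hk : RingHom.ker p ≤ Ideal.jacobson ⊥) : IsLocalRing T := by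
  haveI := isLocalHom_of_ker_le_jacobson p hp hk
  haveI : Nontrivial T := by
    refine ⟨⟨0, 1, fun h => ?_⟩⟩
    have := congrArg p h
    rw [map_zero, map_one] at this
    exact zero_ne_one this
  apply IsLocalRing.of_isUnit_or_isUnit_one_sub_self
  intro a
  rcases IsLocalRing.isUnit_or_isUnit_one_sub_self (p a) with h | h
  · exact Or.inl (isUnit_of_map_unit p _ h)
  · right
    rw [← map_one p, ← map_sub] at h
    exact isUnit_of_map_unit p _ h

/-- a local ring finite over a complete Noetherian local ring is complete -/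
theorem isAdicComplete_of_finite_of_isLocalRing (R T : Type u) [CommRing R] [IsNoetherianRing R]
    [IsLocalRing R] [IsAdicComplete (maximalIdeal R) R] [CommRing T] [Algebra R T]
    [Module.Finite R T] [IsLocalRing T] : IsAdicComplete (maximalIdeal T) T := by
  haveI := Groth.Agent.Lib.Helper73.RedFibre.isAdicComplete_map_of_finite R T
  set I : Ideal T := (maximalIdeal R).map (algebraMap R T) with hI
  have hjac : I ≤ Ideal.jacobson ⊥ := IsAdicComplete.le_jacobson_bot _
  have hle : I ≤ maximalIdeal T := by
    rwa [IsLocalRing.jacobson_eq_maximalIdeal ⊥ bot_ne_top] at hjac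
  have hne : I ≠ ⊤ := fun h => (maximalIdeal.isMaximal T).ne_top (top_le_iff.mp (h ▸ hle))
  haveI hart := Groth.Agent.Lib.Helper73.RedFibre.isArtinianRing_quotient_map R T
  haveI : Nontrivial (T ⧸ I) := Ideal.Quotient.nontrivial_iff.mpr hne
  haveI : IsLocalRing (T ⧸ I) :=
    IsLocalRing.of_surjective' (Ideal.Quotient.mk _) Ideal.Quotient.mk_surjective
  obtain ⟨r, hr⟩ := (isArtinianRing_iff_isNilpotent_maximalIdeal _).mp hart
  have h1 : (maximalIdeal T).map (Ideal.Quotient.mk I) ≤ maximalIdeal _ := by
    rw [Ideal.map_le_iff_le_comap]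
    intro x hx
    rw [Ideal.mem_comap, IsLocalRing.mem_maximalIdeal, mem_nonunits_iff]
    intro hu
    haveI := isLocalHom_of_le_jacobson_bot _ hjac
    exact hx (isUnit_of_map_unit _ _ hu)
  have h2 : (maximalIdeal T ^ r).map (Ideal.Quotient.mk I) = ⊥ := by
    rw [Ideal.map_pow, eq_bot_iff, ← Ideal.zero_eq_bot, ← hr]
    exact Ideal.pow_right_mono h1 r
  have h3 : maximalIdeal T ^ r ≤ I := by
    intro x hx
    have := Ideal.mem_map_of_mem (Ideal.Quotient.mk I) hx
    rw [h2, Ideal.mem_bot, Ideal.Quotient.eq_zero_iff_mem] at this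
    exact this
  exact Groth.Agent.Lib.Helper44.isAdicComplete_of_le_of_pow_le _ _ hle r h3

end Groth.Agent.Lib.Helper81.LfsLocal
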