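import Mathlib
import Groth.Prelude.Def_EGA41
import Groth.Prelude.Def_CAlgX
import Groth.Agent.S2471
import Groth.Agent.Lib.Helper47.FlatFibreSmooth
import Groth.Agent.Lib.Helper47.SmoothFlat
import Groth.Agent.Lib.Helper81.LiftIso
import Groth.Agent.Lib.Helper81.FibreFS
import Groth.Agent.Lib.Helper81.FlatLiftRegular
import Groth.Agent.Lib.Helper81.FlatLiftExists
import Groth.Agent.Lib.Helper81.LfsLocal
import Groth.Agent.Lib.Helper73.RedFibre3

/-!
# Deforming a formally smooth complete local algebra to a finite "Cohen" subring (helper81)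

`A₀ → A` a finite local homomorphism of Noetherian local rings (`A` a domain) inducing an
isomorphism on residue fields, `B` a complete Noetherian local `A`-algebra formally smooth over
`A`.  Then `B ≃ A ⊗_{A₀} B₀` for a complete Noetherian local `A₀`-algebra `B₀` formally smooth
over `A₀`.
-/

set_option autoImplicit false
set_option linter.style.haveILetI false
universe u

open IsLocalRing TensorProduct

namespace Groth.Agent.Lib.Helper81.LfsDeform

set_option synthInstance.maxHeartbeats 200000 in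
set_option maxHeartbeats 2000000 in
theorem exists_deformation {A₀ A B : Type u} [CommRing A₀] [IsLocalRing A₀] [IsNoetherianRing A₀]
    [IsAdicComplete (maximalIdeal A₀) A₀]
    [CommRing A] [IsDomain A] [IsLocalRing A] [IsNoetherianRing A]
    [Algebra A₀ A] [Module.Finite A₀ A] [IsLocalHom (algebraMap A₀ A)]
    (hres : Function.Surjective ((residue A).comp (algebraMap A₀ A)))
    [CommRing B] [IsLocalRing B] [IsNoetherianRing B] [IsAdicComplete (maximalIdeal B) B]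
    [Algebra A B] [IsLocalHom (algebraMap A B)]
    (hfs : CAlgX.IsAdicFormallySmooth A B (maximalIdeal B)) :
    ∃ (B₀ : Type u) (_ : CommRing B₀) (_ : IsLocalRing B₀) (_ : IsNoetherianRing B₀)
      (_ : Algebra A₀ B₀), IsLocalHom (algebraMap A₀ B₀) ∧ IsAdicComplete (maximalIdeal B₀) B₀ ∧
        CAlgX.IsAdicFormallySmooth A₀ B₀ (maximalIdeal B₀) ∧ Nonempty (B ≃ₐ[A] A ⊗[A₀] B₀) := by
  classical
  letI algA₀B : Algebra A₀ B := ((algebraMap A B).comp (algebraMap A₀ A)).toAlgebra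
  haveI towA₀AB : IsScalarTower A₀ A B := IsScalarTower.of_algebraMap_eq (fun _ => rfl)
  -- the closed fibre
  set 𝔫 : Ideal B := (maximalIdeal A).map (algebraMap A B) with h𝔫
  have h𝔫le : 𝔫 ≤ maximalIdeal B := IsLocalRing.map_maximalIdeal_le (algebraMap A B)
  have h𝔫ne : 𝔫 ≠ ⊤ := fun h =>
    (maximalIdeal.isMaximal B).ne_top (top_le_iff.mp (h ▸ h𝔫le))
  obtain ⟨hFloc, hFcomp⟩ := FlatLiftExists.quotient_local_complete 𝔫 h𝔫ne
  have hfs' : EGA41.IsFormallySmoothAdic A (maximalIdeal A) B (maximalIdeal B) :=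
    Groth.Agent.Lib.Helper47.isFormallySmoothAdic_of_isAdicFormallySmooth _ _ hfs
  have hFSK : EGA41.IsFormallySmoothAdic (A ⧸ maximalIdeal A) ⊥ (B ⧸ 𝔫)
      ((maximalIdeal B).map (Ideal.Quotient.mk 𝔫)) :=
    FibreFS.fibre_formallySmooth (RingHom.id A) Function.surjective_id hfs'
      (RingHom.id B) Function.surjective_id (fun a => rfl)
      (by
        have : RingHom.ker (RingHom.id B) = ⊥ :=
          (RingHom.injective_iff_ker_eq_bot _).mp Function.injective_id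
        rw [this]; exact bot_le)
  have hm𝔫 : (maximalIdeal B).map (Ideal.Quotient.mk 𝔫) = maximalIdeal (B ⧸ 𝔫) :=
    map_maximalIdeal_of_surjective _ Ideal.Quotient.mk_surjective
  rw [hm𝔫] at hFSK
  letI : Field (A ⧸ maximalIdeal A) := Ideal.Quotient.field _
  have hAFS : CAlgX.IsAdicFormallySmooth (A ⧸ maximalIdeal A) (B ⧸ 𝔫)
      (maximalIdeal (B ⧸ 𝔫)) :=
    Groth.Agent.Lib.Helper47.isAdicFormallySmooth_of_isFormallySmoothAdic ⊥ _
      (by rw [Ideal.map_bot]; exact bot_le) hFSK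
  haveI hreg : IsRegularLocalRing (B ⧸ 𝔫) := ((Groth.Agent.S2471.result).mp hAFS).1
  -- the residue field of `A₀` acts on the closed fibre
  let ρ : ResidueField A₀ →+* (B ⧸ 𝔫) :=
    (algebraMap (A ⧸ maximalIdeal A) (B ⧸ 𝔫)).comp (ResidueField.map (algebraMap A₀ A))
  letI algkF : Algebra (ResidueField A₀) (B ⧸ 𝔫) := ρ.toAlgebra
  obtain ⟨B₀, instB₀, instB₀loc, instB₀noeth, φ, π, hcomp, hflat, hπ, hkerπ, hcompat⟩ :=
    FlatLiftRegular.exists_flatLift (A := A₀) (B ⧸ 𝔫)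
  letI algA₀B₀ : Algebra A₀ B₀ := φ.toAlgebra
  have hloc : IsLocalHom (algebraMap A₀ B₀) := by
    apply ((IsLocalRing.local_hom_TFAE (algebraMap A₀ B₀)).out 0 2).mpr
    change (maximalIdeal A₀).map φ ≤ maximalIdeal B₀
    rw [← hkerπ]
    exact IsLocalRing.le_maximalIdeal (RingHom.ker_ne_top π)
  haveI : Module.Flat A₀ B₀ := hflat
  have hπφ : ∀ a₀ : A₀, π (algebraMap A₀ B₀ a₀) =
      Ideal.Quotient.mk 𝔫 (algebraMap A B (algebraMap A₀ A a₀)) := by
    intro a₀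
    have := congrArg (fun h => h a₀) hcompat
    simp only [RingHom.comp_apply] at this
    rw [show algebraMap A₀ B₀ a₀ = φ a₀ from rfl, this]
    change ρ (residue A₀ a₀) = _
    change algebraMap (A ⧸ maximalIdeal A) (B ⧸ 𝔫)
      (ResidueField.map (algebraMap A₀ A) (residue A₀ a₀)) = _
    rw [ResidueField.map_residue]
    rfl
  -- `B₀` is formally smooth over `A₀`
  let σr : (A₀ ⧸ maximalIdeal A₀) →+* (A ⧸ maximalIdeal A) := ResidueField.map (algebraMap A₀ A)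
  have hσr : ∀ a₀ : A₀, σr (Ideal.Quotient.mk _ a₀) = Ideal.Quotient.mk _ (algebraMap A₀ A a₀) :=
    fun _ => rfl
  have hσsurj : Function.Surjective σr := by
    intro y
    obtain ⟨a, rfl⟩ := Ideal.Quotient.mk_surjective y
    obtain ⟨a₀, ha₀⟩ := hres (residue A a)
    exact ⟨Ideal.Quotient.mk _ a₀, ha₀⟩
  letI : Field (A₀ ⧸ maximalIdeal A₀) := Ideal.Quotient.field _
  let σ' : (A₀ ⧸ maximalIdeal A₀) ≃+* (A ⧸ maximalIdeal A) :=
    RingEquiv.ofBijective σr ⟨RingHom.injective _, hσsurj⟩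
  have hσ' : ∀ x, σ' x = σr x := fun _ => rfl
  set 𝔫₀ : Ideal B₀ := (maximalIdeal A₀).map (algebraMap A₀ B₀) with h𝔫₀
  have h𝔫₀ker : RingHom.ker π = 𝔫₀ := hkerπ
  have h𝔫₀ne : 𝔫₀ ≠ ⊤ := by rw [← h𝔫₀ker]; exact RingHom.ker_ne_top π
  obtain ⟨hF₀loc, hF₀comp⟩ := FlatLiftExists.quotient_local_complete 𝔫₀ h𝔫₀ne
  let e' : (B₀ ⧸ 𝔫₀) ≃+* (B ⧸ 𝔫) :=
    (Ideal.quotEquivOfEq h𝔫₀ker.symm).trans (RingHom.quotientKerEquivOfSurjective hπ)
  have he'mk : ∀ b₀ : B₀, e' (Ideal.Quotient.mk 𝔫₀ b₀) = π b₀ := fun b₀ => rfl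
  have hfibre : CAlgX.IsAdicFormallySmooth (A₀ ⧸ maximalIdeal A₀) (B₀ ⧸ 𝔫₀)
      ((maximalIdeal B₀).map (Ideal.Quotient.mk 𝔫₀)) := by
    refine Groth.Agent.Lib.Helper47.SmoothFlat.isAdicFormallySmooth_of_ringEquiv
      (k₁ := A ⧸ maximalIdeal A) (k₂ := A₀ ⧸ maximalIdeal A₀) σ'.symm e'.symm ?_
      (maximalIdeal (B ⧸ 𝔫)) _ ?_ hAFS
    · intro x
      obtain ⟨y, rfl⟩ := σ'.surjective x
      rw [RingEquiv.symm_apply_apply, RingEquiv.symm_apply_eq]
      obtain ⟨a₀, rfl⟩ := Ideal.Quotient.mk_surjective y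
      change _ = e' (Ideal.Quotient.mk 𝔫₀ (algebraMap A₀ B₀ a₀))
      rw [he'mk, hπφ, hσ', hσr]
      rfl
    · rw [map_maximalIdeal_of_surjective _ Ideal.Quotient.mk_surjective, Ideal.map_le_iff_le_comap]
      intro x hx
      rw [Ideal.mem_comap, mem_maximalIdeal, mem_nonunits_iff]
      intro hu
      rw [mem_maximalIdeal, mem_nonunits_iff] at hx
      apply hx
      have := hu.map e'
      simpa using this
  have hB₀fs : CAlgX.IsAdicFormallySmooth A₀ B₀ (maximalIdeal B₀) :=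
    Groth.Agent.Lib.Helper47.isAdicFormallySmooth_of_flat_of_fibre hfibre
  -- the base change `T = A ⊗ B₀`
  letI algB₀T : Algebra B₀ (A ⊗[A₀] B₀) := Algebra.TensorProduct.rightAlgebra
  haveI hfinT : Module.Finite B₀ (A ⊗[A₀] B₀) :=
    Module.Finite.equiv (Algebra.TensorProduct.commRight A₀ B₀ A).toLinearEquiv
  haveI hTnoeth : IsNoetherianRing (A ⊗[A₀] B₀) := IsNoetherianRing.of_finite B₀ _
  haveI hTflat : Module.Flat A (A ⊗[A₀] B₀) := inferInstance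
  let πₐ : B₀ →ₐ[A₀] (B ⧸ 𝔫) :=
    { π with
      commutes' := fun a₀ => by
        change π (algebraMap A₀ B₀ a₀) = _
        rw [hπφ]
        rfl }
  have hπₐ : ∀ b₀, πₐ b₀ = π b₀ := fun _ => rfl
  let p' : (A ⊗[A₀] B₀) →ₐ[A] (B ⧸ 𝔫) :=
    Algebra.TensorProduct.lift (Algebra.ofId A (B ⧸ 𝔫)) πₐ (fun _ _ => Commute.all _ _)
  have hp'tmul : ∀ (a : A) (b₀ : B₀), p' (a ⊗ₜ b₀) = algebraMap A (B ⧸ 𝔫) a * π b₀ := by
    intro a b₀
    change Algebra.TensorProduct.lift (Algebra.ofId A (B ⧸ 𝔫)) πₐ (fun _ _ => Commute.all _ _)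
      (a ⊗ₜ b₀) = _
    rw [Algebra.TensorProduct.lift_tmul]
    rfl
  have hp' : Function.Surjective p' := by
    intro y
    obtain ⟨b₀, rfl⟩ := hπ y
    exact ⟨1 ⊗ₜ b₀, by rw [hp'tmul, map_one, one_mul]⟩
  have hmapA : ∀ a ∈ maximalIdeal A, algebraMap A (B ⧸ 𝔫) a = 0 := by
    intro a ha
    rw [IsScalarTower.algebraMap_apply A B (B ⧸ 𝔫)]
    exact Ideal.Quotient.eq_zero_iff_mem.mpr (Ideal.mem_map_of_mem _ ha)
  have hle1 : (maximalIdeal A).map (algebraMap A (A ⊗[A₀] B₀)) ≤ RingHom.ker p' := by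
    rw [Ideal.map_le_iff_le_comap]
    intro a ha
    rw [Ideal.mem_comap, RingHom.mem_ker, Algebra.TensorProduct.algebraMap_apply,
      Algebra.algebraMap_self, RingHom.id_apply, hp'tmul, hmapA a ha, zero_mul]
  have hloc₀ : (maximalIdeal A₀).map (algebraMap A₀ A) ≤ maximalIdeal A :=
    IsLocalRing.map_maximalIdeal_le (algebraMap A₀ A)
  have hrep : ∀ x : A ⊗[A₀] B₀, ∃ b₀ : B₀,
      x - 1 ⊗ₜ b₀ ∈ (maximalIdeal A).map (algebraMap A (A ⊗[A₀] B₀)) := by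
    intro x
    induction x using TensorProduct.induction_on with
    | zero => exact ⟨0, by rw [TensorProduct.tmul_zero, sub_zero]; exact Ideal.zero_mem _⟩
    | tmul a b =>
      obtain ⟨a₀, ha₀⟩ := hres (residue A a)
      have hm : a - algebraMap A₀ A a₀ ∈ maximalIdeal A := by
        rw [← Ideal.Quotient.eq]
        exact ha₀.symm
      refine ⟨a₀ • b, ?_⟩
      have : a ⊗ₜ[A₀] b - 1 ⊗ₜ[A₀] (a₀ • b) =
          algebraMap A (A ⊗[A₀] B₀) (a - algebraMap A₀ A a₀) * (1 ⊗ₜ b) := by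
        rw [Algebra.TensorProduct.algebraMap_apply, Algebra.algebraMap_self, RingHom.id_apply,
          Algebra.TensorProduct.tmul_mul_tmul, mul_one, one_mul, TensorProduct.sub_tmul,
          ← TensorProduct.smul_tmul, Algebra.smul_def, mul_one]
      rw [this]
      exact Ideal.mul_mem_right _ _ (Ideal.mem_map_of_mem _ hm)
    | add x y hx hy =>
      obtain ⟨b₁, h₁⟩ := hx
      obtain ⟨b₂, h₂⟩ := hy
      refine ⟨b₁ + b₂, ?_⟩
      have : x + y - 1 ⊗ₜ[A₀] (b₁ + b₂) = (x - 1 ⊗ₜ b₁) + (y - 1 ⊗ₜ b₂) := by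
        rw [TensorProduct.tmul_add]; ring
      rw [this]
      exact Ideal.add_mem _ h₁ h₂
  have htow : (algebraMap A (A ⊗[A₀] B₀)).comp (algebraMap A₀ A) =
      (algebraMap B₀ (A ⊗[A₀] B₀)).comp (algebraMap A₀ B₀) := by
    ext a₀
    change (algebraMap A₀ A a₀) ⊗ₜ[A₀] (1 : B₀) = (1 : A) ⊗ₜ[A₀] (algebraMap A₀ B₀ a₀)
    rw [Algebra.algebraMap_eq_smul_one, TensorProduct.smul_tmul, ← Algebra.algebraMap_eq_smul_one]
  have hmapB₀ : 𝔫₀.map (algebraMap B₀ (A ⊗[A₀] B₀)) ≤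
      (maximalIdeal A).map (algebraMap A (A ⊗[A₀] B₀)) := by
    rw [h𝔫₀, Ideal.map_map, ← htow, ← Ideal.map_map]
    exact Ideal.map_mono hloc₀
  have hkp' : RingHom.ker p' = (maximalIdeal A).map (algebraMap A (A ⊗[A₀] B₀)) := by
    apply le_antisymm _ hle1
    intro x hx
    obtain ⟨b₀, hb₀⟩ := hrep x
    have h1 : p' (1 ⊗ₜ b₀) = 0 := by
      have h2 : p' (x - 1 ⊗ₜ b₀) = 0 := hle1 hb₀
      rw [map_sub, (RingHom.mem_ker).mp hx, zero_sub, neg_eq_zero] at h2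
      exact h2
    rw [hp'tmul, map_one, one_mul] at h1
    have h3 : b₀ ∈ 𝔫₀ := by rw [← h𝔫₀ker]; exact h1
    have h4 : (1 : A) ⊗ₜ[A₀] b₀ ∈ (maximalIdeal A).map (algebraMap A (A ⊗[A₀] B₀)) :=
      hmapB₀ (Ideal.mem_map_of_mem (algebraMap B₀ (A ⊗[A₀] B₀)) h3)
    have : x = (x - 1 ⊗ₜ b₀) + 1 ⊗ₜ b₀ := by ring
    rw [this]
    exact Ideal.add_mem _ hb₀ h4
  -- `T` is local and complete
  haveI hcT : IsAdicComplete ((maximalIdeal B₀).map (algebraMap B₀ (A ⊗[A₀] B₀))) (A ⊗[A₀] B₀) :=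
    Groth.Agent.Lib.Helper73.RedFibre.isAdicComplete_map_of_finite B₀ (A ⊗[A₀] B₀)
  have hj0 : (maximalIdeal B₀).map (algebraMap B₀ (A ⊗[A₀] B₀)) ≤ Ideal.jacobson ⊥ :=
    IsAdicComplete.le_jacobson_bot _
  obtain ⟨-, r, hr⟩ := Groth.Agent.Lib.Helper73.RedFibre.exists_pow_maximalIdeal_le A₀ A
  have hjac : RingHom.ker p' ≤ Ideal.jacobson ⊥ := by
    rw [hkp']
    intro x hx
    refine Ideal.isRadical_jacobson ⊥ ⟨r, ?_⟩
    have h1 : x ^ r ∈ ((maximalIdeal A).map (algebraMap A (A ⊗[A₀] B₀))) ^ r :=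
      Ideal.pow_mem_pow hx r
    rw [← Ideal.map_pow] at h1
    have h2 : (maximalIdeal A ^ r).map (algebraMap A (A ⊗[A₀] B₀)) ≤
        (maximalIdeal B₀).map (algebraMap B₀ (A ⊗[A₀] B₀)) := by
      calc (maximalIdeal A ^ r).map (algebraMap A (A ⊗[A₀] B₀))
          ≤ ((maximalIdeal A₀).map (algebraMap A₀ A)).map (algebraMap A (A ⊗[A₀] B₀)) :=
            Ideal.map_mono hr
        _ = 𝔫₀.map (algebraMap B₀ (A ⊗[A₀] B₀)) := by
            rw [h𝔫₀, Ideal.map_map, Ideal.map_map, htow]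
        _ ≤ (maximalIdeal B₀).map (algebraMap B₀ (A ⊗[A₀] B₀)) :=
            Ideal.map_mono (IsLocalRing.map_maximalIdeal_le (algebraMap A₀ B₀))
    exact hj0 (h2 h1)
  haveI hTloc : IsLocalRing (A ⊗[A₀] B₀) :=
    LfsLocal.isLocalRing_of_surjective_of_ker_le_jacobson p'.toRingHom hp' hjac
  haveI hTcomp : IsAdicComplete (maximalIdeal (A ⊗[A₀] B₀)) (A ⊗[A₀] B₀) :=
    LfsLocal.isAdicComplete_of_finite_of_isLocalRing B₀ (A ⊗[A₀] B₀)
  haveI hATloc : IsLocalHom (algebraMap A (A ⊗[A₀] B₀)) := by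
    apply ((IsLocalRing.local_hom_TFAE (algebraMap A (A ⊗[A₀] B₀))).out 0 2).mpr
    rw [← hkp']
    exact IsLocalRing.le_maximalIdeal (RingHom.ker_ne_top _)
  -- the isomorphism
  let p : B →ₐ[A] (B ⧸ 𝔫) := Ideal.Quotient.mkₐ A 𝔫
  have hp : Function.Surjective p := Ideal.Quotient.mkₐ_surjective _ _
  have hkp : RingHom.ker p = (maximalIdeal A).map (algebraMap A B) := Ideal.Quotient.mkₐ_ker A 𝔫
  obtain ⟨v, -⟩ := LiftIso.exists_algEquiv_of_common_quotient (maximalIdeal A) hfs' p p' hp hp'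
    hkp hkp'
  exact ⟨B₀, instB₀, instB₀loc, instB₀noeth, algA₀B₀, hloc, hcomp, hB₀fs, ⟨v⟩⟩

end Groth.Agent.Lib.Helper81.LfsDeform
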