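import Mathlib
import Groth.Prelude.Def_CAlgX
import Groth.Agent.Lib.Helper81.LfsDeform
import Groth.Agent.Lib.Helper81.FSTransfer

/-!
# Localization of formal smoothness over a complete local domain: reduction to a Cohen subring
(helper81)
-/

set_option autoImplicit false
set_option linter.style.haveILetI false
universe u

open IsLocalRing TensorProduct

namespace Groth.Agent.Lib.Helper81.LfsDomain

set_option synthInstance.maxHeartbeats 200000 in
set_option maxHeartbeats 2000000 in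
theorem smooth_of_base {A₀ A B K E : Type u} [CommRing A₀] [IsDomain A₀] [IsLocalRing A₀]
    [IsNoetherianRing A₀] [IsAdicComplete (maximalIdeal A₀) A₀]
    [CommRing A] [IsDomain A] [IsLocalRing A] [IsNoetherianRing A]
    [Algebra A₀ A] [Module.Finite A₀ A] (hinj : Function.Injective (algebraMap A₀ A))
    (hres : Function.Surjective ((residue A).comp (algebraMap A₀ A)))
    (hbase : ∀ (B₀ : Type u) [CommRing B₀] [IsLocalRing B₀] [IsNoetherianRing B₀]
      [IsAdicComplete (maximalIdeal B₀) B₀] [Algebra A₀ B₀] [IsLocalHom (algebraMap A₀ B₀)],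
      CAlgX.IsAdicFormallySmooth A₀ B₀ (maximalIdeal B₀) →
      ∀ (Q₀ : Ideal B₀) [Q₀.IsPrime] [Algebra (FractionRing A₀) (Localization.AtPrime Q₀)],
      (∀ a, algebraMap (FractionRing A₀) (Localization.AtPrime Q₀)
          (algebraMap A₀ (FractionRing A₀) a) =
        algebraMap B₀ (Localization.AtPrime Q₀) (algebraMap A₀ B₀ a)) →
      CAlgX.IsAdicFormallySmooth (FractionRing A₀) (Localization.AtPrime Q₀)
        (maximalIdeal (Localization.AtPrime Q₀)))
    [CommRing B] [IsLocalRing B] [IsNoetherianRing B] [IsAdicComplete (maximalIdeal B) B]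
    [Algebra A B] [IsLocalHom (algebraMap A B)]
    (hfs : CAlgX.IsAdicFormallySmooth A B (maximalIdeal B))
    [Field K] [Algebra A K] [IsFractionRing A K]
    [CommRing E] [IsLocalRing E] [Algebra K E]
    (ψ : B →+* E) (hψ : @Algebra.FormallyEtale B E _ _ ψ.toAlgebra)
    (hcomp : ∀ a : A, ψ (algebraMap A B a) = algebraMap K E (algebraMap A K a)) :
    CAlgX.IsAdicFormallySmooth K E (maximalIdeal E) := by
  classical
  haveI : IsLocalHom (algebraMap A₀ A) :=
    RingHom.IsIntegral.isLocalHom (RingHom.IsIntegral.of_finite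
      (RingHom.finite_algebraMap.mpr inferInstance)) hinj
  obtain ⟨B₀, instB₀, instB₀loc, instB₀noeth, algA₀B₀, hloc, hcomp₀, hB₀fs, ⟨v⟩⟩ :=
    LfsDeform.exists_deformation hres hfs
  haveI := hloc
  haveI := hcomp₀
  -- the map `B₀ → E`
  let g : B₀ →+* E := ψ.comp (((v.symm : (A ⊗[A₀] B₀) ≃ₐ[A] B) : (A ⊗[A₀] B₀) →+* B).comp
    (Algebra.TensorProduct.includeRight : B₀ →ₐ[A₀] A ⊗[A₀] B₀).toRingHom)
  have hg : ∀ b₀, g b₀ = ψ (v.symm (1 ⊗ₜ b₀)) := fun _ => rfl
  have hvA : ∀ a : A, v.symm (a ⊗ₜ[A₀] (1 : B₀)) = algebraMap A B a := by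
    intro a
    have : a ⊗ₜ[A₀] (1 : B₀) = algebraMap A (A ⊗[A₀] B₀) a := by
      rw [Algebra.TensorProduct.algebraMap_apply, Algebra.algebraMap_self, RingHom.id_apply]
    rw [this, AlgEquiv.commutes]
  have hgA₀ : ∀ a₀ : A₀, g (algebraMap A₀ B₀ a₀) =
      algebraMap K E (algebraMap A K (algebraMap A₀ A a₀)) := by
    intro a₀
    rw [hg]
    have : (1 : A) ⊗ₜ[A₀] (algebraMap A₀ B₀ a₀) = (algebraMap A₀ A a₀) ⊗ₜ[A₀] (1 : B₀) := by
      rw [Algebra.algebraMap_eq_smul_one, ← TensorProduct.smul_tmul,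
        ← Algebra.algebraMap_eq_smul_one]
    rw [this, hvA, hcomp]
  set Q₀ : Ideal B₀ := (maximalIdeal E).comap g with hQ₀
  haveI hQ₀prime : Q₀.IsPrime := Ideal.comap_isPrime g _
  have hinjK : Function.Injective (algebraMap A K) := IsFractionRing.injective A K
  -- the `Frac A₀`-algebra structure on the localization
  have hunit : ∀ y : nonZeroDivisors A₀,
      IsUnit (((algebraMap B₀ (Localization.AtPrime Q₀)).comp (algebraMap A₀ B₀)) y) := by
    intro y
    have hy : algebraMap A₀ B₀ y ∈ Q₀.primeCompl := by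
      intro hmem
      have hmem' : g (algebraMap A₀ B₀ y) ∈ maximalIdeal E := hmem
      rw [hgA₀, mem_maximalIdeal, mem_nonunits_iff] at hmem'
      apply hmem'
      apply IsUnit.map
      rw [isUnit_iff_ne_zero]
      intro h0
      have h1 : algebraMap A₀ A y = 0 := hinjK (by rw [h0, map_zero])
      have h2 : (y : A₀) = 0 := hinj (by rw [h1, map_zero])
      exact nonZeroDivisors.ne_zero y.2 h2
    exact IsLocalization.map_units (Localization.AtPrime Q₀) ⟨algebraMap A₀ B₀ y, hy⟩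
  letI algK₀E₀ : Algebra (FractionRing A₀) (Localization.AtPrime Q₀) :=
    (IsLocalization.lift (M := nonZeroDivisors A₀) (S := FractionRing A₀) hunit).toAlgebra
  have hK₀ : ∀ a, algebraMap (FractionRing A₀) (Localization.AtPrime Q₀)
      (algebraMap A₀ (FractionRing A₀) a) =
      algebraMap B₀ (Localization.AtPrime Q₀) (algebraMap A₀ B₀ a) := fun a =>
    IsLocalization.lift_eq hunit a
  have hsm := hbase B₀ hB₀fs Q₀ hK₀
  -- `Frac A₀ → K`
  have hinj' : Function.Injective ((algebraMap A K).comp (algebraMap A₀ A)) := hinjK.comp hinj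
  letI algK₀K : Algebra (FractionRing A₀) K := (IsFractionRing.lift hinj').toAlgebra
  have hKL : ∀ a₀ : A₀, algebraMap (FractionRing A₀) K (algebraMap A₀ (FractionRing A₀) a₀) =
      algebraMap A K (algebraMap A₀ A a₀) := fun a₀ => IsFractionRing.lift_algebraMap hinj' a₀
  -- the local map `φ`
  have hunit' : ∀ y : Q₀.primeCompl, IsUnit (g y) := by
    intro y
    by_contra h
    exact y.2 (show g y ∈ maximalIdeal E from (mem_maximalIdeal _).mpr h)
  let φ : Localization.AtPrime Q₀ →+* E := IsLocalization.lift (M := Q₀.primeCompl) hunit'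
  have hφ : ∀ b₀, φ (algebraMap B₀ (Localization.AtPrime Q₀) b₀) = g b₀ := fun b₀ =>
    IsLocalization.lift_eq hunit' b₀
  have h𝔫 : ∀ x ∈ maximalIdeal (Localization.AtPrime Q₀), φ x ∈ maximalIdeal E := by
    have h1 : (maximalIdeal (Localization.AtPrime Q₀)).map φ ≤ maximalIdeal E := by
      rw [← Localization.AtPrime.map_eq_maximalIdeal, Ideal.map_map, Ideal.map_le_iff_le_comap]
      intro b hb
      rw [Ideal.mem_comap, RingHom.comp_apply, hφ]
      exact hb
    exact fun x hx => h1 (Ideal.mem_map_of_mem φ hx)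
  -- the map from the tensor product
  let ι : (B₀ ⊗[A₀] A) ≃+* B :=
    (Algebra.TensorProduct.comm A₀ B₀ A).toRingEquiv.trans (v.symm : (A ⊗[A₀] B₀) ≃ₐ[A] B).toRingEquiv
  have hι : ∀ (b₀ : B₀) (a : A), ι (b₀ ⊗ₜ a) = v.symm (a ⊗ₜ b₀) := fun _ _ => rfl
  let ψT : (B₀ ⊗[A₀] A) →+* E := ψ.comp ι.toRingHom
  have hψT : ∀ x, ψT x = ψ (ι x) := fun _ => rfl
  have hψTet : @Algebra.FormallyEtale (B₀ ⊗[A₀] A) E _ _ ψT.toAlgebra := by
    letI algTE : Algebra (B₀ ⊗[A₀] A) E := ψT.toAlgebra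
    letI algTB : Algebra (B₀ ⊗[A₀] A) B := ι.toRingHom.toAlgebra
    letI algBE : Algebra B E := ψ.toAlgebra
    haveI : @IsScalarTower (B₀ ⊗[A₀] A) B E Algebra.toSMul Algebra.toSMul Algebra.toSMul :=
      IsScalarTower.of_algebraMap_eq (fun _ => rfl)
    let e : @AlgEquiv (B₀ ⊗[A₀] A) (B₀ ⊗[A₀] A) B
        CommRing.toCommSemiring CommRing.toCommSemiring.toSemiring
        CommRing.toCommSemiring.toSemiring _ algTB :=
      { ι with commutes' := fun _ => rfl }
    haveI : Algebra.FormallyEtale (B₀ ⊗[A₀] A) B := Algebra.FormallyEtale.of_equiv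
      (A := B₀ ⊗[A₀] A) e
    haveI : Algebra.FormallyEtale B E := hψ
    exact Algebra.FormallyEtale.comp (B₀ ⊗[A₀] A) B E
  have h2 : ∀ l : B₀, φ (algebraMap B₀ (Localization.AtPrime Q₀) l) = ψT (l ⊗ₜ 1) := by
    intro l
    rw [hφ, hg, hψT, hι]
  have h3 : ∀ a : A, ψT (1 ⊗ₜ a) = algebraMap K E (algebraMap A K a) := by
    intro a
    rw [hψT, hι, hvA, hcomp]
  exact FSTransfer.transfer (A₀ := A₀) hKL (algebraMap B₀ (Localization.AtPrime Q₀)) hK₀ ψT hψTet
    φ h2 h3 (maximalIdeal (Localization.AtPrime Q₀)) (maximalIdeal E) h𝔫 hsm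

end Groth.Agent.Lib.Helper81.LfsDomain
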