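import Mathlib
import Groth.Prelude.Def_CAlgX
import Groth.Agent.S0581
import Groth.Agent.Lib.Helper58.MvPSComplete
import Groth.Agent.Lib.Helper81.LfsDomain
import Groth.Agent.Lib.Helper81.LfsBase
import Groth.Agent.Lib.Helper81.LfsBaseP2

/-!
# Localization of formal smoothness over a complete local domain (helper81)

`A` a complete Noetherian local domain with fraction field `K`, `B` a complete Noetherian local
`A`-algebra formally smooth over `A`, `E` a local `K`-algebra formally étale over `B`
(e.g. `B_Q` with `Q ∩ A = 0`).  Then `E` is formally smooth over `K`.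
-/

set_option autoImplicit false
set_option linter.style.haveILetI false
universe u

open IsLocalRing TensorProduct

namespace Groth.Agent.Lib.Helper81.LfsMain

set_option synthInstance.maxHeartbeats 200000 in
set_option maxHeartbeats 2000000 in
theorem smooth_domain {A B K E : Type u} [CommRing A] [IsDomain A] [IsLocalRing A]
    [IsNoetherianRing A] [IsAdicComplete (maximalIdeal A) A]
    [CommRing B] [IsLocalRing B] [IsNoetherianRing B] [IsAdicComplete (maximalIdeal B) B]
    [Algebra A B] [IsLocalHom (algebraMap A B)]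
    (hfs : CAlgX.IsAdicFormallySmooth A B (maximalIdeal B))
    [Field K] [Algebra A K] [IsFractionRing A K]
    [CommRing E] [IsLocalRing E] [Algebra K E]
    (ψ : B →+* E) (hψ : @Algebra.FormallyEtale B E _ _ ψ.toAlgebra)
    (hcomp : ∀ a : A, ψ (algebraMap A B a) = algebraMap K E (algebraMap A K a)) :
    CAlgX.IsAdicFormallySmooth K E (maximalIdeal E) := by
  classical
  obtain ⟨Λ, instΛ, n, f, hΛ, hfinj, hffin, hfres⟩ := Groth.Agent.S0581.result A
  obtain ⟨c, hc⟩ := CharP.exists A
  rcases CharP.char_is_prime_or_zero A c with hcp | hc0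
  · -- characteristic `c > 0`
    haveI : Fact c.Prime := ⟨hcp⟩
    haveI : CharP Λ c := RingHom.charP (f.comp (MvPowerSeries.C (σ := Fin n) (R := Λ)))
      (hfinj.comp (MvPowerSeries.C_injective (σ := Fin n) (R := Λ))) c
    have hfield : IsField Λ := by
      rcases hΛ with h | h
      · exact h
      · exfalso
        obtain ⟨_, hdvr, -, p', hp', hmax⟩ := h
        have hmem : (p' : Λ) ∈ maximalIdeal Λ := by
          rw [hmax]
          exact Ideal.mem_span_singleton_self _
        by_cases hcp' : c = p'
        · have h0 : (p' : Λ) = 0 := by rw [← hcp']; exact CharP.cast_eq_zero Λ c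
          have hbot : maximalIdeal Λ = ⊥ := by
            rw [hmax, h0]
            exact Ideal.span_singleton_eq_bot.2 rfl
          exact IsDiscreteValuationRing.not_a_field Λ hbot
        · have hcop : Nat.Coprime c p' := (Nat.coprime_primes hcp hp').2 hcp'
          have h1 : IsCoprime (c : ℤ) (p' : ℤ) := Nat.isCoprime_iff_coprime.2 hcop
          have h2 := h1.map (Int.castRingHom Λ)
          simp only [eq_intCast, Int.cast_natCast] at h2
          rw [CharP.cast_eq_zero Λ c, isCoprime_zero_left] at h2
          rw [mem_maximalIdeal, mem_nonunits_iff] at hmem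
          exact hmem h2
    obtain ⟨fld, rfl⟩ : ∃ fld : Field Λ, fld.toCommRing = instΛ := ⟨hfield.toField, rfl⟩
    letI : Algebra (MvPowerSeries (Fin n) Λ) A := f.toAlgebra
    haveI : Module.Finite (MvPowerSeries (Fin n) Λ) A := hffin
    haveI : IsDomain (MvPowerSeries (Fin n) Λ) := NoZeroDivisors.to_isDomain _
    haveI : IsAdicComplete (maximalIdeal Λ) Λ := by
      rw [IsLocalRing.maximalIdeal_eq_bot]
      infer_instance
    haveI : IsAdicComplete (maximalIdeal (MvPowerSeries (Fin n) Λ)) (MvPowerSeries (Fin n) Λ) :=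
      Groth.Agent.Lib.Helper58.MvPSComplete.isAdicComplete
    exact LfsDomain.smooth_of_base (A₀ := MvPowerSeries (Fin n) Λ) hfinj hfres
      (fun B₀ _ _ _ _ _ _ hB₀ Q₀ _ _ hK₀ => LfsBaseP.smooth_charP c Λ n hB₀ Q₀ hK₀) hfs ψ hψ hcomp
  · -- characteristic zero
    subst hc0
    haveI : CharZero A := CharP.charP_to_charZero A
    have hreg : IsRegularRing Λ := by
      rcases hΛ with hΛ | hΛ
      · let _ := hΛ.toField
        infer_instance
      · obtain ⟨_, _, _⟩ := hΛ
        infer_instance
    have hloc : IsLocalRing Λ := by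
      rcases hΛ with hΛ | hΛ
      · let _ := hΛ.toField
        infer_instance
      · obtain ⟨_, _, _⟩ := hΛ
        infer_instance
    have hcompl : IsAdicComplete (maximalIdeal Λ) Λ := by
      rcases hΛ with hΛ | hΛ
      · let _ := hΛ.toField
        rw [IsLocalRing.maximalIdeal_eq_bot]
        infer_instance
      · obtain ⟨_, _, h, -⟩ := hΛ
        exact h
    have hS : IsRegularRing (MvPowerSeries (Fin n) Λ) :=
      Groth.Agent.Lib.Helper73.RegularRing.isRegularRing_mvPowerSeries Λ n
    haveI hRLR : IsRegularLocalRing (MvPowerSeries (Fin n) Λ) :=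
      IsRegularLocalRing.of_isRegularRing_of_isLocalRing _
    haveI : CharZero (MvPowerSeries (Fin n) Λ) := RingHom.charZero f
    letI : Algebra (MvPowerSeries (Fin n) Λ) A := f.toAlgebra
    haveI : Module.Finite (MvPowerSeries (Fin n) Λ) A := hffin
    haveI : IsDomain (MvPowerSeries (Fin n) Λ) :=
      Function.Injective.isDomain f hfinj
    haveI : IsAdicComplete (maximalIdeal (MvPowerSeries (Fin n) Λ)) (MvPowerSeries (Fin n) Λ) :=
      Groth.Agent.Lib.Helper58.MvPSComplete.isAdicComplete
    exact LfsDomain.smooth_of_base (A₀ := MvPowerSeries (Fin n) Λ) hfinj hfres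
      (fun B₀ _ _ _ _ _ _ hB₀ Q₀ _ _ _ => LfsBase.smooth_char0 hB₀ Q₀) hfs ψ hψ hcomp

end Groth.Agent.Lib.Helper81.LfsMain
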