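import Mathlib
import Groth.Prelude.Def_Found
import Groth.Prelude.Def_CAlgX
import Groth.Agent.Lib.Helper81.LfsMain
import Groth.Agent.Lib.Helper81.GenFibreGeomReg
import Groth.Agent.Lib.Helper47.GeomRegTransport
import Groth.Agent.Lib.Helper47.SmoothFlat
import Groth.Agent.Lib.Helper90.SmoothRegular3

/-!
# Formally smooth local homomorphisms of complete local rings are regular (helper81)

André's theorem in the complete case (Stacks 07PM).
-/

set_option autoImplicit false
set_option linter.style.haveILetI false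
universe u

open IsLocalRing TensorProduct

namespace Groth.Agent.Lib.Helper81.LfsRegular

/-- formal smoothness passes to quotients by an ideal of the base -/
theorem smooth_quotient {A B : Type u} [CommRing A] [CommRing B] [Algebra A B] (I : Ideal B)
    (h : CAlgX.IsAdicFormallySmooth A B I) (p : Ideal A) :
    CAlgX.IsAdicFormallySmooth (A ⧸ p) (B ⧸ p.map (algebraMap A B))
      (I.map (Ideal.Quotient.mk (p.map (algebraMap A B)))) := by
  have h1 := Groth.Agent.Lib.Helper90.SmoothRegular.isAdicFormallySmooth_baseChange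
    (k' := A ⧸ p) I h
  refine Groth.Agent.Lib.Helper90.SmoothRegular.isAdicFormallySmooth_of_algEquiv
    (Algebra.TensorProduct.quotIdealMapEquivQuotTensor B p).symm _ _ ?_ h1
  intro x hx
  have hle : (I.map (Algebra.TensorProduct.includeRight : B →ₐ[A] (A ⧸ p) ⊗[A] B)).map
      ((Algebra.TensorProduct.quotIdealMapEquivQuotTensor B p).symm :
        (A ⧸ p) ⊗[A] B →+* B ⧸ p.map (algebraMap A B)) ≤
      I.map (Ideal.Quotient.mk (p.map (algebraMap A B))) := by
    rw [Ideal.map_le_iff_le_comap, Ideal.map_le_iff_le_comap]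
    intro b hb
    rw [Ideal.mem_comap, Ideal.mem_comap]
    have : (Algebra.TensorProduct.quotIdealMapEquivQuotTensor B p).symm
        ((Algebra.TensorProduct.includeRight : B →ₐ[A] (A ⧸ p) ⊗[A] B) b) =
        Ideal.Quotient.mk (p.map (algebraMap A B)) b := by
      rw [AlgEquiv.symm_apply_eq]
      rfl
    change (Algebra.TensorProduct.quotIdealMapEquivQuotTensor B p).symm
        ((Algebra.TensorProduct.includeRight : B →ₐ[A] (A ⧸ p) ⊗[A] B) b) ∈ _
    rw [this]
    exact Ideal.mem_map_of_mem _ hb
  exact hle (Ideal.mem_map_of_mem _ hx)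

set_option synthInstance.maxHeartbeats 200000 in
set_option maxHeartbeats 2000000 in
/-- **André's theorem, complete case**: a local homomorphism of complete Noetherian local rings
which is formally smooth for the adic topology is a regular homomorphism. -/
theorem isRegularHom_of_smooth {A B : Type u} [CommRing A] [CommRing B]
    [IsLocalRing A] [IsLocalRing B] [IsNoetherianRing A] [IsNoetherianRing B]
    [IsAdicComplete (maximalIdeal A) A] [IsAdicComplete (maximalIdeal B) B]
    [Algebra A B] [IsLocalHom (algebraMap A B)]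
    (hfs : CAlgX.IsAdicFormallySmooth A B (maximalIdeal B)) : CAlg.IsRegularHom A B := by
  classical
  haveI hflat : Module.Flat A B :=
    Groth.Agent.Lib.Helper47.SmoothFlat.flat_of_isAdicFormallySmooth hfs
  refine ⟨hflat, fun p _ => ?_⟩
  have hnoeth : IsNoetherianRing (p.Fiber B) := by
    have h1 : IsNoetherianRing (B ⊗[A] p.ResidueField) :=
      Algebra.EssFiniteType.isNoetherianRing B _
    exact isNoetherianRing_of_ringEquiv _
      (Algebra.TensorProduct.comm A B p.ResidueField).toRingEquiv
  refine ⟨hnoeth, ?_⟩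
  -- the quotients
  set pB : Ideal B := p.map (algebraMap A B) with hpB
  have hpne : p ≠ ⊤ := Ideal.IsPrime.ne_top inferInstance
  have hple : p ≤ maximalIdeal A := le_maximalIdeal hpne
  have hpBle : pB ≤ maximalIdeal B :=
    (Ideal.map_mono hple).trans (IsLocalRing.map_maximalIdeal_le (algebraMap A B))
  have hpBne : pB ≠ ⊤ := fun h =>
    (maximalIdeal.isMaximal B).ne_top (top_le_iff.mp (h ▸ hpBle))
  obtain ⟨hA'loc, hA'comp⟩ := FlatLiftExists.quotient_local_complete p hpne
  obtain ⟨hB'loc, hB'comp⟩ := FlatLiftExists.quotient_local_complete pB hpBne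
  haveI : IsDomain (A ⧸ p) := Ideal.Quotient.isDomain p
  have hmk𝔪 : (maximalIdeal A).map (Ideal.Quotient.mk p) = maximalIdeal (A ⧸ p) :=
    map_maximalIdeal_of_surjective _ Ideal.Quotient.mk_surjective
  have hmk𝔪B : (maximalIdeal B).map (Ideal.Quotient.mk pB) = maximalIdeal (B ⧸ pB) :=
    map_maximalIdeal_of_surjective _ Ideal.Quotient.mk_surjective
  have hcompmk : (algebraMap (A ⧸ p) (B ⧸ pB)).comp (Ideal.Quotient.mk p) =
      (Ideal.Quotient.mk pB).comp (algebraMap A B) := rfl
  haveI hlochom : IsLocalHom (algebraMap (A ⧸ p) (B ⧸ pB)) := by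
    apply ((IsLocalRing.local_hom_TFAE _).out 0 2).mpr
    rw [← hmk𝔪, Ideal.map_map, hcompmk, ← Ideal.map_map]
    calc ((maximalIdeal A).map (algebraMap A B)).map (Ideal.Quotient.mk pB)
        ≤ (maximalIdeal B).map (Ideal.Quotient.mk pB) :=
          Ideal.map_mono (IsLocalRing.map_maximalIdeal_le _)
      _ = maximalIdeal (B ⧸ pB) := hmk𝔪B
  have hfs' : CAlgX.IsAdicFormallySmooth (A ⧸ p) (B ⧸ pB) (maximalIdeal (B ⧸ pB)) := by
    rw [← hmk𝔪B]
    exact smooth_quotient (maximalIdeal B) hfs p
  -- geometric regularity of the generic fibre of the quotient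
  have hgr : CAlg.IsGeometricallyRegular p.ResidueField (p.ResidueField ⊗[A ⧸ p] (B ⧸ pB)) := by
    apply GenFibreGeomReg.isGeometricallyRegular_fibre_of_local_smooth (B := A ⧸ p) (S := B ⧸ pB)
      (K := p.ResidueField)
    intro q' _ hq' _ hK
    have halg : (algebraMap (B ⧸ pB) (Localization.AtPrime q')).toAlgebra =
        (inferInstance : Algebra (B ⧸ pB) (Localization.AtPrime q')) :=
      Algebra.algebra_ext _ _ (fun _ => rfl)
    refine LfsMain.smooth_domain hfs' (algebraMap (B ⧸ pB) (Localization.AtPrime q')) ?_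
      (fun a => (hK a).symm)
    rw [halg]
    exact Algebra.FormallyEtale.of_isLocalization (Rₘ := Localization.AtPrime q') q'.primeCompl
  -- transport to the fibre
  let e₁ : (B ⧸ pB) ≃ₐ[A ⧸ p] (A ⧸ p) ⊗[A] B := Algebra.TensorProduct.quotIdealMapEquivQuotTensor B p
  let e₂ : p.ResidueField ⊗[A ⧸ p] (B ⧸ pB) ≃ₐ[p.ResidueField]
      p.ResidueField ⊗[A ⧸ p] ((A ⧸ p) ⊗[A] B) :=
    Algebra.TensorProduct.congr AlgEquiv.refl e₁
  let e₃ : p.ResidueField ⊗[A ⧸ p] ((A ⧸ p) ⊗[A] B) ≃ₐ[p.ResidueField] p.ResidueField ⊗[A] B :=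
    Algebra.TensorProduct.cancelBaseChange A (A ⧸ p) p.ResidueField p.ResidueField B
  exact Groth.Agent.Lib.Helper47.GeomRegTransport.isGeometricallyRegular_of_semilinear
    (RingEquiv.refl p.ResidueField) (e₂.trans e₃).toRingEquiv
    (fun c => (e₂.trans e₃).commutes c) hgr

end Groth.Agent.Lib.Helper81.LfsRegular
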