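import Mathlib

/-!
# Naturality of the Jacobi–Zariski connecting map in the top algebra (helper81)

For `R → S → T → T'` the connecting maps `δ : H¹(L_{T/S}) → T ⊗_S Ω[S/R]` and
`δ' : H¹(L_{T'/S}) → T' ⊗_S Ω[S/R]` are compatible with `H¹(L_{T/S}) → H¹(L_{T'/S})`.
-/

set_option autoImplicit false

namespace Groth.Agent.Lib.Helper81.DeltaNat

open Algebra KaehlerDifferential MvPolynomial
open scoped TensorProduct

universe u₁ u₂ u₃

variable (R : Type u₁) (S : Type u₂) (T T' : Type u₃) [CommRing R] [CommRing S] [CommRing T]
  [CommRing T'] [Algebra R S] [Algebra S T] [Algebra R T] [IsScalarTower R S T]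
  [Algebra T T'] [Algebra S T'] [Algebra R T'] [IsScalarTower S T T'] [IsScalarTower R S T']

/-- the canonical map `T ⊗_S Ω[S/R] → T' ⊗_S Ω[S/R]` -/
noncomputable def tmap : T ⊗[S] Ω[S⁄R] →ₗ[S] T' ⊗[S] Ω[S⁄R] :=
  LinearMap.rTensor Ω[S⁄R] (IsScalarTower.toAlgHom S T T').toLinearMap

@[simp] theorem tmap_tmul (t : T) (ω : Ω[S⁄R]) :
    tmap R S T T' (t ⊗ₜ ω) = algebraMap T T' t ⊗ₜ ω := rfl

theorem δAux_defaultHom (y : (Generators.self S T).Ring) :
    Generators.H1Cotangent.δAux R (Generators.self S T')
      ((Generators.defaultHom (Generators.self S T) (Generators.self S T')).toAlgHom y) =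
      tmap R S T T' (Generators.H1Cotangent.δAux R (Generators.self S T) y) := by
  induction y using MvPolynomial.induction_on' with
  | monomial n r =>
    have h1 : (Generators.defaultHom (Generators.self S T) (Generators.self S T')).toAlgHom
        (monomial n r) = monomial (n.mapDomain (algebraMap T T')) r := by
      rw [← MvPolynomial.rename_monomial]
      have h2 : ((Generators.defaultHom (Generators.self S T) (Generators.self S T')).toAlgHom :
          MvPolynomial T S →ₐ[S] MvPolynomial T' S) = MvPolynomial.rename (algebraMap T T') := by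
        apply MvPolynomial.algHom_ext
        intro i
        simp [Generators.defaultHom, Generators.self, Generators.σ]
      exact DFunLike.congr_fun h2 _
    rw [h1, Generators.H1Cotangent.δAux_monomial, Generators.H1Cotangent.δAux_monomial, tmap_tmul,
      Finsupp.prod_mapDomain_index (fun _ => pow_zero _) (fun _ _ _ => pow_add _ _ _)]
    congr 1
    rw [map_finsuppProd]
    simp [Generators.self]
  | add p q hp hq => simp only [map_add, hp, hq]


/-- **Naturality of `δ` in the top algebra.** -/
theorem δ_map (x : H1Cotangent S T) :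
    H1Cotangent.δ R S T' (H1Cotangent.map S S T T' x) =
      tmap R S T T' (H1Cotangent.δ R S T x) := by
  obtain ⟨x, hx⟩ := x
  obtain ⟨⟨y, hy⟩, rfl⟩ := Extension.Cotangent.mk_surjective x
  have h1 : H1Cotangent.δ R S T ⟨Extension.Cotangent.mk ⟨y, hy⟩, hx⟩ =
      Generators.H1Cotangent.δAux R (Generators.self S T) y :=
    Generators.H1Cotangent.δ_eq_δAux (Generators.self S T) (Generators.self R S) ⟨y, hy⟩ hx
  rw [h1, ← δAux_defaultHom]
  exact Generators.H1Cotangent.δ_eq_δAux (Generators.self S T') (Generators.self R S) _ _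


/-- `δ` is injective when `H¹(L_{T/R}) = 0`. -/
theorem δ_injective [Subsingleton (H1Cotangent R T)] :
    Function.Injective (H1Cotangent.δ R S T) := by
  rw [injective_iff_map_eq_zero]
  intro x hx
  obtain ⟨z, rfl⟩ := (H1Cotangent.exact_map_δ R S T x).1 hx
  rw [Subsingleton.elim z 0, map_zero]

theorem cancelBaseChange_tmul_eq (t' : T') (z : T ⊗[S] Ω[S⁄R]) :
    TensorProduct.AlgebraTensorModule.cancelBaseChange S T T' T' Ω[S⁄R] (t' ⊗ₜ[T] z) =
      t' • tmap R S T T' z := by
  induction z using TensorProduct.induction_on with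
  | zero => simp
  | tmul t ω =>
    rw [TensorProduct.AlgebraTensorModule.cancelBaseChange_tmul, tmap_tmul,
      TensorProduct.smul_tmul', smul_eq_mul, Algebra.smul_def, mul_comm]
  | add a b ha hb => rw [TensorProduct.tmul_add, map_add, ha, hb, map_add, smul_add]

/-- **Left exactness of the Jacobi–Zariski sequence.**  If `T → T'` is flat and `H¹(L_{T/R}) = 0`
for some base `R → S`, then `T' ⊗_T H¹(L_{T/S}) → H¹(L_{T'/S})` is injective. -/
theorem liftBaseChange_map_injective [Module.Flat T T'] [Subsingleton (H1Cotangent R T)] :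
    Function.Injective ((H1Cotangent.map S S T T').liftBaseChange T') := by
  have hcomp : (H1Cotangent.δ R S T') ∘ₗ ((H1Cotangent.map S S T T').liftBaseChange T') =
      (TensorProduct.AlgebraTensorModule.cancelBaseChange S T T' T' Ω[S⁄R]).toLinearMap ∘ₗ
        ((H1Cotangent.δ R S T).baseChange T') := by
    apply TensorProduct.AlgebraTensorModule.ext
    intro t' x
    simp only [LinearMap.comp_apply, LinearMap.liftBaseChange_tmul, LinearMap.baseChange_tmul,
      LinearEquiv.coe_coe, map_smul]
    rw [δ_map, cancelBaseChange_tmul_eq]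
  have hinj : Function.Injective ((H1Cotangent.δ R S T).baseChange T') := by
    rw [LinearMap.baseChange_eq_ltensor]
    exact Module.Flat.lTensor_preserves_injective_linearMap _ (δ_injective R S T)
  have h2 : Function.Injective ((H1Cotangent.δ R S T') ∘ₗ
      ((H1Cotangent.map S S T T').liftBaseChange T')) := by
    rw [hcomp]
    exact (TensorProduct.AlgebraTensorModule.cancelBaseChange S T T' T' Ω[S⁄R]).injective.comp hinj
  rw [LinearMap.coe_comp] at h2
  exact Function.Injective.of_comp h2

end Groth.Agent.Lib.Helper81.DeltaNat
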