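import Mathlib
import Groth.Agent.S9319
import Groth.Agent.Lib.Helper81.SmoothLength

/-!
# Cartier's equality for finitely generated field extensions (helper81)

For a finitely generated field extension `L/K`:
`rank Ω[L/K] - rank H¹(L_{L/K}) = trdeg_K L` (EGA 0_IV 21.7.1 / Stacks 07E1).
-/

set_option autoImplicit false
universe u

namespace Groth.Agent.Lib.Helper81.Cartier

open Algebra KaehlerDifferential Module
open scoped TensorProduct

/-- The statement of Cartier's equality for an extension `L/K`. -/
def Good (K L : Type u) [Field K] [Field L] [Algebra K L] : Prop :=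
  Module.Finite L Ω[L⁄K] ∧ Module.Finite L (H1Cotangent K L) ∧
    ∃ n : ℕ, Algebra.trdeg K L = n ∧
      Module.finrank L Ω[L⁄K] = Module.finrank L (H1Cotangent K L) + n

section Tower

variable {K L M : Type u} [Field K] [Field L] [Field M] [Algebra K L] [Algebra L M] [Algebra K M]
  [IsScalarTower K L M]

/-- finite dimensionality from a finite kernel and a finite range -/
theorem finite_of_ker_range {F V W : Type*} [Field F] [AddCommGroup V] [Module F V]
    [AddCommGroup W] [Module F W] (g : V →ₗ[F] W) [Module.Finite F (LinearMap.ker g)]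
    [Module.Finite F (LinearMap.range g)] : Module.Finite F V := by
  haveI : Module.Finite F (V ⧸ LinearMap.ker g) :=
    Module.Finite.equiv g.quotKerEquivRange.symm
  exact Module.Finite.of_submodule_quotient (LinearMap.ker g)

/-- **Additivity of Cartier's equality in towers.** -/
theorem Good.trans (h1 : Good K L) (h2 : Good L M) : Good K M := by
  obtain ⟨hΩ1, hH1, n1, ht1, he1⟩ := h1
  obtain ⟨hΩ2, hH2, n2, ht2, he2⟩ := h2
  -- the six maps
  let f1 : M ⊗[L] H1Cotangent K L →ₗ[M] H1Cotangent K M :=
    (H1Cotangent.map K K L M).liftBaseChange M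
  let f2 : H1Cotangent K M →ₗ[M] H1Cotangent L M := H1Cotangent.map K L M M
  let f3 : H1Cotangent L M →ₗ[M] M ⊗[L] Ω[L⁄K] := H1Cotangent.δ K L M
  let f4 : M ⊗[L] Ω[L⁄K] →ₗ[M] Ω[M⁄K] := KaehlerDifferential.mapBaseChange K L M
  let f5 : Ω[M⁄K] →ₗ[M] Ω[M⁄L] := KaehlerDifferential.map K L M M
  have hinj : Function.Injective f1 := Groth.Agent.S9319.result
  have e12 : Function.Exact f1 f2 := H1Cotangent.exact_liftBaseChange_map_of_flat K L M
  have e23 : Function.Exact f2 f3 := H1Cotangent.exact_map_δ K L M
  have e34 : Function.Exact f3 f4 := H1Cotangent.exact_δ_mapBaseChange K L M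
  have e45 : Function.Exact f4 f5 := KaehlerDifferential.exact_mapBaseChange_map K L M
  have hsurj : Function.Surjective f5 := KaehlerDifferential.map_surjective K L M
  -- finiteness
  haveI : Module.Finite M (H1Cotangent K M) := by
    haveI : Module.Finite M (LinearMap.ker f2) := by
      rw [e12.linearMap_ker_eq]
      exact Module.Finite.range f1
    haveI : Module.Finite M (LinearMap.range f2) := inferInstance
    exact finite_of_ker_range f2
  haveI : Module.Finite M Ω[M⁄K] := by
    haveI : Module.Finite M (LinearMap.ker f5) := by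
      rw [e45.linearMap_ker_eq]
      exact Module.Finite.range f4
    haveI : Module.Finite M (LinearMap.range f5) := inferInstance
    exact finite_of_ker_range f5
  refine ⟨inferInstance, inferInstance, n1 + n2, ?_, ?_⟩
  · rw [← _root_.trdeg_add_eq K L (A := M), ht1, ht2, Nat.cast_add]
  · have key := Module.sum_neg_one_pow_finrank_eq_zero_of_exact_six f1 f2 f3 f4 f5 hinj e12 e23
      e34 e45 hsurj
    rw [Module.finrank_baseChange, Module.finrank_baseChange] at key
    omega

end Tower

section Simple

variable {L M : Type u} [Field L] [Field M] [Algebra L M]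

/-- the trivial extension -/
theorem Good.of_bijective (h : Function.Bijective (algebraMap L M)) : Good L M := by
  haveI : Subsingleton Ω[M⁄L] := KaehlerDifferential.subsingleton_of_surjective L M h.2
  haveI : Algebra.FormallySmooth L M :=
    Algebra.FormallySmooth.of_equiv (AlgEquiv.ofBijective (Algebra.ofId L M) h)
  haveI : Algebra.IsIntegral L M := Algebra.isIntegral_of_surjective h.2
  refine ⟨inferInstance, inferInstance, 0, ?_, ?_⟩
  · rw [_root_.trdeg_eq_zero]
    simp
  · rw [Module.finrank_zero_of_subsingleton, Module.finrank_zero_of_subsingleton]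

/-- Cartier's equality from a presentation with one generator and one relation. -/
theorem Good.of_extension (P : Extension.{u} L M) [Algebra.FormallySmooth L P.Ring]
    [IsDomain P.Ring] [Module.Finite M P.CotangentSpace]
    (hW : Module.finrank M P.CotangentSpace = 1)
    (f : P.Ring) (hker : P.ker = Ideal.span {f}) (hf : f ≠ 0) (hfu : ¬ IsUnit f)
    [Algebra.IsAlgebraic L M] : Good L M := by
  classical
  have hmem : f ∈ P.ker := hker ▸ Ideal.mem_span_singleton_self _
  let v : P.Cotangent := Extension.Cotangent.mk ⟨f, hmem⟩
  have hv : v ≠ 0 := by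
    intro h0
    have h0' : f ∈ P.ker ^ 2 := (Extension.Cotangent.mk_eq_zero_iff _).1 h0
    rw [hker, Ideal.span_singleton_pow, Ideal.mem_span_singleton] at h0'
    obtain ⟨g, hg⟩ := h0'
    have h1 : f * (1 - f * g) = 0 := by
      rw [mul_sub, mul_one, ← mul_assoc, ← pow_two, ← hg, sub_self]
    have h2 : f * g = 1 := by
      rcases mul_eq_zero.1 h1 with h | h
      · exact absurd h hf
      · exact (sub_eq_zero.1 h).symm
    exact hfu (IsUnit.of_mul_eq_one _ h2)
  have hspan : Submodule.span M {v} = ⊤ := by
    have := Extension.Cotangent.span_eq_top_of_span_eq_ker (P := P) (fun _ : Unit => f)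
      (by rw [Set.range_const, hker])
    have hr : (Set.range fun _ : Unit => (Extension.Cotangent.mk ⟨f, hmem⟩ : P.Cotangent)) = {v} :=
      Set.range_const
    rw [← hr]
    exact this
  have hV : Module.finrank M P.Cotangent = 1 := by
    rw [finrank_eq_one_iff_of_nonzero' v hv]
    intro w
    have hw : w ∈ Submodule.span M {v} := hspan ▸ Submodule.mem_top
    obtain ⟨c, hc⟩ := Submodule.mem_span_singleton.1 hw
    exact ⟨c, hc⟩
  haveI : Module.Finite M P.Cotangent := Module.finite_of_finrank_eq_succ hV
  -- rank–nullity
  have h1 := LinearMap.finrank_range_add_finrank_ker P.cotangentComplex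
  have h2 := LinearMap.finrank_range_add_finrank_ker P.toKaehler
  rw [P.exact_cotangentComplex_toKaehler.linearMap_ker_eq,
    LinearMap.range_eq_top.2 P.toKaehler_surjective, finrank_top] at h2
  haveI : Module.Finite M Ω[M⁄L] := Module.Finite.of_surjective _ P.toKaehler_surjective
  have eH : P.H1Cotangent ≃ₗ[M] H1Cotangent L M := P.equivH1CotangentOfFormallySmooth
  haveI : Module.Finite M P.H1Cotangent :=
    (inferInstance : Module.Finite M (LinearMap.ker P.cotangentComplex))
  haveI : Module.Finite M (H1Cotangent L M) := Module.Finite.equiv eH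
  have h3 : Module.finrank M (H1Cotangent L M) =
      Module.finrank M (LinearMap.ker P.cotangentComplex) := eH.symm.finrank_eq
  refine ⟨inferInstance, inferInstance, 0, ?_, ?_⟩
  · rw [_root_.trdeg_eq_zero]
    simp
  · omega

open Polynomial in
/-- a simple algebraic extension -/
theorem Good.of_simple_algebraic (x : M) (hx : IsIntegral L x)
    (hsurj : Function.Surjective (Polynomial.aeval x : L[X] →ₐ[L] M)) : Good L M := by
  classical
  let P : Extension.{u} L M := Extension.ofSurjective (Polynomial.aeval x : L[X] →ₐ[L] M) hsurj
  haveI : Algebra.FormallySmooth L P.Ring := (inferInstance : Algebra.FormallySmooth L L[X])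
  haveI : IsDomain P.Ring := (inferInstance : IsDomain L[X])
  -- the cotangent space is one-dimensional
  let e0 : Ω[P.Ring⁄L] ≃ₗ[P.Ring] P.Ring := KaehlerDifferential.polynomialEquiv L
  let eW : P.CotangentSpace ≃ₗ[M] M :=
    (LinearEquiv.baseChange P.Ring M _ _ e0) ≪≫ₗ
      (TensorProduct.AlgebraTensorModule.rid P.Ring M M)
  have hW : Module.finrank M P.CotangentSpace = 1 := by
    rw [eW.finrank_eq, Module.finrank_self]
  haveI : Module.Finite M P.CotangentSpace := Module.Finite.equiv eW.symm
  have hker : P.ker = Ideal.span {(minpoly L x : P.Ring)} := by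
    show RingHom.ker ((Polynomial.aeval x : L[X] →ₐ[L] M) : L[X] →+* M) = _
    exact minpoly.ker_aeval_eq_span_minpoly L x
  haveI : Algebra.IsIntegral L M := by
    refine ⟨fun y => ?_⟩
    obtain ⟨p, rfl⟩ := hsurj y
    refine IsIntegral.of_mem_of_fg (Algebra.adjoin L {x}) hx.fg_adjoin_singleton _ ?_
    rw [Algebra.adjoin_singleton_eq_range_aeval]
    exact ⟨p, rfl⟩
  exact Good.of_extension P hW (minpoly L x : L[X]) hker (minpoly.ne_zero hx)
    (minpoly.not_isUnit L x)

/-- a simple transcendental extension -/
theorem Good.of_simple_transcendental (x : M) (hx : Transcendental L x)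
    (htop : IntermediateField.adjoin L {x} = ⊤) : Good L M := by
  classical
  have hind : AlgebraicIndependent L (fun _ : PUnit.{u+1} => x) :=
    algebraicIndependent_unique_type_iff.2 hx
  have hrange : Set.range (fun _ : PUnit.{u+1} => x) = {x} := Set.range_const
  haveI : Algebra.FormallySmooth L M :=
    Algebra.FormallySmooth.of_algebraicIndependent hind (by rw [hrange]; exact htop)
  haveI : Algebra.EssFiniteType L M :=
    IntermediateField.fg_top_iff.1 ⟨{x}, by simpa using htop⟩
  -- Ω is spanned by `D x`
  have hspan : Submodule.span M {D L M x} = ⊤ := by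
    rw [_root_.eq_top_iff, ← KaehlerDifferential.span_range_derivation, Submodule.span_le]
    rintro _ ⟨y, rfl⟩
    have hy : y ∈ IntermediateField.adjoin L {x} := htop ▸ IntermediateField.mem_top
    induction hy using IntermediateField.adjoin_induction with
    | mem z hz =>
      rw [Set.mem_singleton_iff.1 hz]
      exact Submodule.subset_span rfl
    | algebraMap z =>
      rw [Derivation.map_algebraMap]
      exact Submodule.zero_mem _
    | add a b _ _ ha hb =>
      rw [map_add]
      exact Submodule.add_mem _ ha hb
    | inv a _ ha =>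
      rw [Derivation.leibniz_inv]
      exact Submodule.smul_mem _ _ ha
    | mul a b _ _ ha hb =>
      rw [Derivation.leibniz]
      exact Submodule.add_mem _ (Submodule.smul_mem _ _ hb) (Submodule.smul_mem _ _ ha)
  have hne : D L M x ≠ 0 := by
    intro h0
    haveI : Subsingleton Ω[M⁄L] := by
      rw [← Submodule.subsingleton_iff M, ← subsingleton_iff_bot_eq_top, ← hspan, h0]
      simp
    haveI : Algebra.FormallyUnramified L M := ⟨inferInstance⟩
    haveI : Algebra.IsSeparable L M := (Algebra.FormallyUnramified.iff_isSeparable L M).1 inferInstance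
    exact hx (Algebra.IsAlgebraic.isAlgebraic x)
  have hΩ : Module.finrank M Ω[M⁄L] = 1 := by
    rw [finrank_eq_one_iff_of_nonzero' _ hne]
    intro w
    have hw : w ∈ Submodule.span M {D L M x} := hspan ▸ Submodule.mem_top
    obtain ⟨c, hc⟩ := Submodule.mem_span_singleton.1 hw
    exact ⟨c, hc⟩
  haveI : Module.Finite M Ω[M⁄L] := Module.finite_of_finrank_eq_succ hΩ
  have hbasis : IsTranscendenceBasis L (fun _ : PUnit.{u+1} => x) := by
    rw [hind.isTranscendenceBasis_iff_isAlgebraic, hrange,
      ← IntermediateField.isAlgebraic_adjoin_iff_top]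
    refine ⟨fun y => ?_⟩
    have hy : y ∈ IntermediateField.adjoin L {x} := htop ▸ IntermediateField.mem_top
    exact isAlgebraic_algebraMap (⟨y, hy⟩ : IntermediateField.adjoin L {x})
  refine ⟨inferInstance, inferInstance, 1, ?_, ?_⟩
  · rw [← hbasis.cardinalMk_eq_trdeg]
    simp
  · rw [hΩ, Module.finrank_zero_of_subsingleton]

end Simple

section Main

open IntermediateField in
theorem adjoin_gen_eq_top {K E : Type u} [Field K] [Field E] [Algebra K E] (x : E) :
    IntermediateField.adjoin K {IntermediateField.AdjoinSimple.gen K x} =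
      (⊤ : IntermediateField K K⟮x⟯) := by
  apply IntermediateField.map_injective (K⟮x⟯.val)
  rw [IntermediateField.adjoin_map, Set.image_singleton, ← AlgHom.fieldRange_eq_map,
    IntermediateField.fieldRange_val]
  rfl

open IntermediateField Polynomial in
/-- Cartier's equality for a simple extension. -/
theorem Good.of_adjoin_simple {K E : Type u} [Field K] [Field E] [Algebra K E] (x : E) :
    Good K K⟮x⟯ := by
  by_cases hx : IsIntegral K x
  · have hg : IsIntegral K (AdjoinSimple.gen K x) := (AdjoinSimple.isIntegral_gen K x).2 hx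
    refine Good.of_simple_algebraic (AdjoinSimple.gen K x) hg ?_
    intro y
    have hy : (y : E) ∈ K⟮x⟯.toSubalgebra := y.2
    rw [adjoin_simple_toSubalgebra_of_isAlgebraic hx.isAlgebraic, Algebra.adjoin_singleton_eq_range_aeval] at hy
    obtain ⟨p, hp⟩ := hy
    refine ⟨p, Subtype.ext ?_⟩
    have := Polynomial.aeval_algHom_apply (K⟮x⟯.val) (AdjoinSimple.gen K x) p
    rw [← hp]
    exact this.symm
  · have hg : Transcendental K (AdjoinSimple.gen K x) := by
      intro h
      exact hx ((AdjoinSimple.isIntegral_gen K x).1 h.isIntegral)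
    exact Good.of_simple_transcendental _ hg (adjoin_gen_eq_top x)

open IntermediateField in
/-- **Cartier's equality** for finitely generated field extensions. -/
theorem good_of_essFiniteType (K L : Type u) [Field K] [Field L] [Algebra K L]
    [Algebra.EssFiniteType K L] : Good K L := by
  have key : ∀ E : IntermediateField K L, E.FG → Good K E := by
    intro E hE
    refine IntermediateField.induction_on_adjoin_fg (P := fun E => Good K E) ?_ ?_ E hE
    · refine Good.of_bijective ⟨(algebraMap K (⊥ : IntermediateField K L)).injective, ?_⟩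
      rintro ⟨y, hy⟩
      obtain ⟨z, rfl⟩ := IntermediateField.mem_bot.1 hy
      exact ⟨z, rfl⟩
    · intro E x hE
      have h2 : Good E E⟮x⟯ := Good.of_adjoin_simple x
      have h3 : Good K E⟮x⟯ := Good.trans hE h2
      exact h3
  have htop := key ⊤ (IntermediateField.fg_top K L)
  have h3 : Good (⊤ : IntermediateField K L) L :=
    Good.of_bijective ⟨(algebraMap (⊤ : IntermediateField K L) L).injective,
      fun y => ⟨⟨y, trivial⟩, rfl⟩⟩
  exact Good.trans htop h3

end Main

section Imperfection

universe v w

variable (k : Type v) (K : Type w) (L : Type u) [CommRing k] [CommRing K] [CommRing L]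
  [Algebra k K] [Algebra K L] [Algebra k L] [IsScalarTower k K L]

/-- the imperfection module is the image of the Jacobi–Zariski connecting map -/
theorem ker_mapBaseChange_eq_range_δ :
    LinearMap.ker (KaehlerDifferential.mapBaseChange k K L) =
      LinearMap.range (H1Cotangent.δ k K L) :=
  (H1Cotangent.exact_δ_mapBaseChange k K L).linearMap_ker_eq

theorem finite_ker_mapBaseChange [Module.Finite L (H1Cotangent K L)] :
    Module.Finite L (LinearMap.ker (KaehlerDifferential.mapBaseChange k K L)) := by
  rw [ker_mapBaseChange_eq_range_δ]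
  exact Module.Finite.range _

end Imperfection

section Imperfection2

universe v w

variable (k : Type v) (K : Type w) (L : Type u) [CommRing k] [Field K] [Field L]
  [Algebra k K] [Algebra K L] [Algebra k L] [IsScalarTower k K L]

theorem finrank_ker_mapBaseChange_le [Module.Finite L (H1Cotangent K L)] :
    Module.finrank L (LinearMap.ker (KaehlerDifferential.mapBaseChange k K L)) ≤
      Module.finrank L (H1Cotangent K L) := by
  rw [ker_mapBaseChange_eq_range_δ]
  exact LinearMap.finrank_range_le _

theorem finrank_ker_mapBaseChange_eq (h : H1Cotangent.map k K L L = 0) :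
    Module.finrank L (LinearMap.ker (KaehlerDifferential.mapBaseChange k K L)) =
      Module.finrank L (H1Cotangent K L) := by
  rw [ker_mapBaseChange_eq_range_δ]
  refine LinearMap.finrank_range_of_inj ?_
  rw [injective_iff_map_eq_zero]
  intro x hx
  obtain ⟨z, rfl⟩ := (H1Cotangent.exact_map_δ k K L x).1 hx
  rw [h, LinearMap.zero_apply]

end Imperfection2

section Factor

universe v w

variable (R : Type v) (P : Type w) (K L : Type u) [CommRing R] [CommRing P] [CommRing K]
  [CommRing L] [Algebra R P] [Algebra R K] [Algebra R L] [Algebra P K] [Algebra P L] [Algebra K L]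
  [IsScalarTower R P K] [IsScalarTower R P L] [IsScalarTower R K L] [IsScalarTower P K L]

/-- `H¹(L_{L/R}) → H¹(L_{L/K})` vanishes as soon as `H¹(L_{L/P}) = 0` for some intermediate `P`. -/
theorem h1Cotangent_map_eq_zero [Subsingleton (H1Cotangent P L)] :
    H1Cotangent.map R K L L = 0 := by
  ext x
  have h : H1Cotangent.map R K L L x =
      H1Cotangent.map P K L L (H1Cotangent.map R P L L x) := by
    rw [H1Cotangent.map, H1Cotangent.map, H1Cotangent.map,
      ← Extension.H1Cotangent.map_comp_apply]
    exact DFunLike.congr_fun (Extension.H1Cotangent.map_eq _ _) x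
  rw [h, Subsingleton.elim (H1Cotangent.map R P L L x) 0, map_zero]
  rfl

end Factor

section Prime

open Groth.Agent.Lib.Helper81.FieldSmooth

/-- `H¹(L_{L/ℤ}) → H¹(L_{L/K})` is zero for every field extension `L/K`
(it factors through `H¹` of `L` over its prime field, which vanishes). -/
theorem h1Cotangent_map_int_eq_zero (K L : Type u) [Field K] [Field L] [Algebra K L] :
    H1Cotangent.map ℤ K L L = 0 := by
  rcases CharP.exists' K with h0 | ⟨p, hp, hpk⟩
  · haveI := h0
    haveI : CharZero L := charZero_of_injective_algebraMap (algebraMap K L).injective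
    haveI : IsScalarTower ℚ K L := IsScalarTower.of_algebraMap_eq' (Subsingleton.elim _ _)
    haveI : Algebra.FormallySmooth ℚ L := formallySmooth_of_charZero'
    exact h1Cotangent_map_eq_zero ℤ ℚ K L
  · haveI := hp
    haveI := hpk
    haveI : CharP L p := charP_of_injective_algebraMap (algebraMap K L).injective p
    letI : Algebra (ZMod p) K := ZMod.algebra K p
    letI : Algebra (ZMod p) L := ZMod.algebra L p
    haveI : IsScalarTower (ZMod p) K L := IsScalarTower.of_algebraMap_eq' (Subsingleton.elim _ _)
    haveI : Algebra.FormallySmooth (ZMod p) L := formallySmooth_zmod p L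
    exact h1Cotangent_map_eq_zero ℤ (ZMod p) K L

end Prime

end Groth.Agent.Lib.Helper81.Cartier
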