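import Mathlib
import Groth.Agent.S2468
import Groth.Agent.S4521
import Groth.Agent.S2486
import Groth.Agent.Lib.Helper81.FieldSmooth
import Groth.Agent.Lib.Helper81.Cartier

/-!
# The degree `[K : K^p]` via absolute differentials (helper81)

* `finrank_frobenius_fieldRange`: `[K : K^p] = p ^ dim_K Ω[K/ℤ]` when the latter is finite.
* `kaehler_int_of_essFiniteType`: `dim_K Ω[K/ℤ] = dim_L Ω[L/ℤ] + trdeg_L K` for `K/L` finitely
  generated (from Cartier's equality).
-/

set_option autoImplicit false
universe u

namespace Groth.Agent.Lib.Helper81.FrobDegree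

open Groth.Agent.Lib.Helper81.PBasis Groth.Agent.Lib.Helper81.PBasisEGA
open Groth.Agent.Lib.Helper81.FieldSmooth Groth.Agent.Lib.Helper81.Cartier
open KaehlerDifferential Module
open scoped TensorProduct

section Card

/-- the number of reduced exponent vectors -/
theorem card_red (ι : Type*) [Finite ι] (n : ℕ) : Nat.card (Red ι n) = n ^ Nat.card ι := by
  classical
  let e : Red ι n ≃ (ι → Fin n) :=
    { toFun := fun e i => ⟨e.1 i, e.2 i⟩
      invFun := fun f => ⟨Finsupp.equivFunOnFinite.symm (fun i => (f i : ℕ)), fun i => by simp⟩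
      left_inv := fun e => by ext i; simp
      right_inv := fun f => by ext i; simp }
  rw [Nat.card_congr e, Nat.card_fun, Nat.card_fin]

end Card

section Frob

variable (p : ℕ) [Fact p.Prime] (K : Type u) [Field K] [CharP K p]

theorem D_pow_eq_zero {R M : Type*} [CommRing R] [Algebra R K] [AddCommGroup M] [Module K M]
    [Module R M] [IsScalarTower R K M] (D : Derivation R K M) (y : K) : D (y ^ p) = 0 := by
  rw [Derivation.leibniz_pow, ← Nat.cast_smul_eq_nsmul K, CharP.cast_eq_zero, zero_smul]

/-- `Ω[K/ℤ] → Ω[K/K^p]` is bijective -/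
theorem map_int_frob_bijective :
    Function.Bijective (KaehlerDifferential.map ℤ (↥(frobenius K p).fieldRange) K K) := by
  refine ⟨?_, KaehlerDifferential.map_surjective ℤ _ K⟩
  have h0 : ∀ ω : Ω[(↥(frobenius K p).fieldRange)⁄ℤ],
      KaehlerDifferential.map ℤ ℤ (↥(frobenius K p).fieldRange) K ω = 0 := by
    intro ω
    have hω : ω ∈ Submodule.span (↥(frobenius K p).fieldRange)
        (Set.range (D ℤ (↥(frobenius K p).fieldRange))) := by
      rw [KaehlerDifferential.span_range_derivation]
      trivial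
    induction hω using Submodule.span_induction with
    | mem x hx =>
      obtain ⟨a, rfl⟩ := hx
      rw [KaehlerDifferential.map_D]
      obtain ⟨y, hy⟩ := a.2
      have : algebraMap (↥(frobenius K p).fieldRange) K a = y ^ p := hy.symm
      rw [this]
      exact D_pow_eq_zero p K _ y
    | zero => simp
    | add x y _ _ hx hy => rw [map_add, hx, hy, add_zero]
    | smul c x _ hx => rw [map_smul, hx, smul_zero]
  have h1 : ∀ z : K ⊗[↥(frobenius K p).fieldRange] Ω[(↥(frobenius K p).fieldRange)⁄ℤ],
      KaehlerDifferential.mapBaseChange ℤ (↥(frobenius K p).fieldRange) K z = 0 := by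
    intro z
    induction z using TensorProduct.induction_on with
    | zero => simp
    | tmul c ω => rw [mapBaseChange_tmul, h0, smul_zero]
    | add a b ha hb => rw [map_add, ha, hb, add_zero]
  rw [injective_iff_map_eq_zero]
  intro w hw
  obtain ⟨z, rfl⟩ :=
    (KaehlerDifferential.exact_mapBaseChange_map ℤ (↥(frobenius K p).fieldRange) K w).1 hw
  exact h1 z

/-- `[K : K^p] = p ^ dim Ω[K/ℤ]` -/
theorem finrank_frobenius_fieldRange [Module.Finite K Ω[K⁄ℤ]] :
    Module.finrank (↥(frobenius K p).fieldRange) K = p ^ Module.finrank K Ω[K⁄ℤ] := by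
  obtain ⟨B, hB⟩ := exists_pBasis p (k := ↥(frobenius K p).fieldRange) (K := K)
  obtain ⟨b, hb⟩ := (Groth.Agent.S2468.result p (k := ↥(frobenius K p).fieldRange) (K := K)
    (Subtype.val : B → K)).2.2.1 hB
  let e : Ω[K⁄ℤ] ≃ₗ[K] Ω[K⁄(↥(frobenius K p).fieldRange)] :=
    LinearEquiv.ofBijective _ (map_int_frob_bijective p K)
  haveI : Module.Finite K Ω[K⁄(↥(frobenius K p).fieldRange)] := Module.Finite.equiv e
  haveI : Finite B := Module.Finite.finite_basis b
  have hcard : Nat.card B = finrank K Ω[K⁄ℤ] := by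
    rw [e.finrank_eq, Module.finrank_eq_nat_card_basis b]
  have hinj : Function.Injective (algebraMap (↥(frobenius K p).fieldRange) K) :=
    (algebraMap (↥(frobenius K p).fieldRange) K).injective
  have hpow : ∀ y : K, y ^ p ∈ Set.range (algebraMap (↥(frobenius K p).fieldRange) K) :=
    fun y => ⟨⟨y ^ p, ⟨y, rfl⟩⟩, rfl⟩
  have hli := linearIndependent_of_isPIndependent hinj _ hB.1
  have hsp := span_eq_top_of_isPGenerating hpow _ hB.2
  let bK : Module.Basis (Red B p) (↥(frobenius K p).fieldRange) K := Module.Basis.mk hli hsp.ge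
  rw [Module.finrank_eq_nat_card_basis bK, card_red, hcard]

end Frob

section Tower

/-- `dim_K Ω[K/ℤ] = dim_L Ω[L/ℤ] + trdeg_L K` for a finitely generated extension `K/L`. -/
theorem kaehler_int_of_essFiniteType (L K : Type u) [Field L] [Field K] [Algebra L K]
    [Algebra.EssFiniteType L K] [Module.Finite L Ω[L⁄ℤ]] (d : ℕ) (hd : Algebra.trdeg L K = d) :
    Module.Finite K Ω[K⁄ℤ] ∧ Module.finrank K Ω[K⁄ℤ] = Module.finrank L Ω[L⁄ℤ] + d := by
  obtain ⟨hΩ, hH, n, hn, he⟩ := good_of_essFiniteType L K
  haveI := hΩ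
  haveI := hH
  have hnd : n = d := by
    have : (n : Cardinal) = d := by rw [← hn, hd]
    exact_mod_cast this
  subst hnd
  let f4 := KaehlerDifferential.mapBaseChange ℤ L K
  let f5 := KaehlerDifferential.map ℤ L K K
  have e45 : Function.Exact f4 f5 := KaehlerDifferential.exact_mapBaseChange_map ℤ L K
  have hsurj : Function.Surjective f5 := KaehlerDifferential.map_surjective ℤ L K
  haveI : Module.Finite K Ω[K⁄ℤ] := by
    haveI : Module.Finite K (LinearMap.ker f5) := by
      rw [e45.linearMap_ker_eq]
      exact Module.Finite.range f4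
    haveI : Module.Finite K (LinearMap.range f5) := inferInstance
    exact finite_of_ker_range f5
  refine ⟨inferInstance, ?_⟩
  have r1 := LinearMap.finrank_range_add_finrank_ker f4
  have r2 := LinearMap.finrank_range_add_finrank_ker f5
  rw [e45.linearMap_ker_eq, LinearMap.range_eq_top.2 hsurj, finrank_top] at r2
  have r3 : Module.finrank K (K ⊗[L] Ω[L⁄ℤ]) = Module.finrank L Ω[L⁄ℤ] :=
    Module.finrank_baseChange
  have r4 : Module.finrank K (LinearMap.ker f4) = Module.finrank K (Algebra.H1Cotangent L K) :=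
    finrank_ker_mapBaseChange_eq ℤ L K (h1Cotangent_map_int_eq_zero L K)
  omega

end Tower

end Groth.Agent.Lib.Helper81.FrobDegree
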