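import Mathlib
import Groth.Agent.Lib.Helper81.SymPow

/-!
# Symmetric powers under change of rings with a retraction (helper81)

`B → R` a ring map with a retraction `μ : R → B`, `M` an `R`-module on which `r` acts as `μ r`.
Then `Sym_B^ι M → Sym_R^ι M` is injective, and bijective for nonempty `ι`.
-/

set_option autoImplicit false
universe u

open scoped TensorProduct

namespace Groth.Agent.Lib.Helper81.SymPowCompare

open Groth.Agent.Lib.Helper81.SymPow

variable {B R : Type u} [CommRing B] [CommRing R] [Algebra B R] (μ : R →+* B)
  {M : Type u} [AddCommGroup M] [Module R M] [Module B M] [IsScalarTower B R M]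
  (ι : Type u)

/-- the comparison map `Sym_B M → Sym_R M` -/
noncomputable def compare : Sym[B] ι M →+ Sym[R] ι M :=
  letI : Module B (Sym[R] ι M) := Module.compHom _ (algebraMap B R)
  liftAddHom (R := B) (N := Sym[R] ι M)
    { toFun := fun v => SymmetricPower.tprod R v
      map_update_add' := fun v i x y => (SymmetricPower.tprod R).map_update_add v i x y
      map_update_smul' := fun v i b x => by
        rw [← algebraMap_smul R b x, (SymmetricPower.tprod R).map_update_smul]
        rfl }
    (fun e v => SymmetricPower.tprod_equiv e v)

variable {ι} in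
theorem compare_tprod (v : ι → M) :
    compare (B := B) (R := R) ι (SymmetricPower.tprod B v) = SymmetricPower.tprod R v := by
  letI : Module B (Sym[R] ι M) := Module.compHom _ (algebraMap B R)
  unfold compare
  change liftAddHom _ _ (SymmetricPower.mk B ι M (PiTensorProduct.tprod B v)) = _
  rw [liftAddHom_mk, PiTensorProduct.lift.tprod]
  rfl

theorem compare_smul (b : B) (x : Sym[B] ι M) :
    compare (B := B) (R := R) ι (b • x) = algebraMap B R b • compare (B := B) (R := R) ι x := by
  letI : Module B (Sym[R] ι M) := Module.compHom _ (algebraMap B R)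
  obtain ⟨y, rfl⟩ : ∃ y, SymmetricPower.mk B ι M y = x := AddCon.mk'_surjective x
  unfold compare
  rw [← map_smul, liftAddHom_mk, liftAddHom_mk, map_smul]
  rfl

variable (hμ : ∀ (r : R) (m : M), r • m = μ r • m)

/-- the inverse comparison map -/
noncomputable def compareInv : Sym[R] ι M →+ Sym[B] ι M :=
  letI : Module R (Sym[B] ι M) := Module.compHom _ μ
  liftAddHom (R := R) (N := Sym[B] ι M)
    { toFun := fun v => SymmetricPower.tprod B v
      map_update_add' := fun v i x y => (SymmetricPower.tprod B).map_update_add v i x y
      map_update_smul' := fun v i r x => by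
        rw [hμ, (SymmetricPower.tprod B).map_update_smul]
        rfl }
    (fun e v => SymmetricPower.tprod_equiv e v)

variable {ι} in
theorem compareInv_tprod (v : ι → M) :
    compareInv μ ι hμ (SymmetricPower.tprod R v) = SymmetricPower.tprod B v := by
  letI : Module R (Sym[B] ι M) := Module.compHom _ μ
  unfold compareInv
  change liftAddHom _ _ (SymmetricPower.mk R ι M (PiTensorProduct.tprod R v)) = _
  rw [liftAddHom_mk, PiTensorProduct.lift.tprod]
  rfl

theorem compareInv_smul (r : R) (y : Sym[R] ι M) :
    compareInv μ ι hμ (r • y) = μ r • compareInv μ ι hμ y := by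
  letI : Module R (Sym[B] ι M) := Module.compHom _ μ
  obtain ⟨z, rfl⟩ : ∃ z, SymmetricPower.mk R ι M z = y := AddCon.mk'_surjective y
  unfold compareInv
  rw [← map_smul, liftAddHom_mk, liftAddHom_mk, map_smul]
  rfl

variable (hμB : ∀ b : B, μ (algebraMap B R b) = b)

include hμB in
theorem compareInv_compare (x : Sym[B] ι M) :
    compareInv μ ι hμ (compare (B := B) (R := R) ι x) = x := by
  let g : Sym[B] ι M →ₗ[B] Sym[B] ι M :=
    { toFun := fun x => compareInv μ ι hμ (compare (B := B) (R := R) ι x)
      map_add' := fun x y => by rw [map_add, map_add]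
      map_smul' := fun b x => by
        rw [compare_smul, compareInv_smul, hμB, RingHom.id_apply] }
  have hg : g = LinearMap.id := by
    apply hom_ext
    intro v
    change compareInv μ ι hμ (compare (B := B) (R := R) ι (SymmetricPower.tprod B v)) = _
    rw [compare_tprod, compareInv_tprod]
    rfl
  exact LinearMap.congr_fun hg x

include hμ hμB in
theorem compare_injective : Function.Injective (compare (B := B) (R := R) (M := M) ι) :=
  Function.LeftInverse.injective (compareInv_compare μ ι hμ hμB)

include hμ in
/-- on symmetric powers of positive degree, `r` still acts as `μ r` -/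
theorem smul_eq [Nonempty ι] (r : R) (z : Sym[R] ι M) : r • z = algebraMap B R (μ r) • z := by
  classical
  have hz : z ∈ Submodule.span R (Set.range (SymmetricPower.tprod R (ι := ι) (M := M))) := by
    rw [SymmetricPower.span_tprod_eq_top]; trivial
  induction hz using Submodule.span_induction with
  | mem y hy =>
    obtain ⟨v, rfl⟩ := hy
    obtain ⟨i₀⟩ := ‹Nonempty ι›
    have h1 : r • v i₀ = algebraMap B R (μ r) • v i₀ := by
      rw [hμ, algebraMap_smul]
    have h2 := (SymmetricPower.tprod R (ι := ι) (M := M)).map_update_smul v i₀ r (v i₀)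
    have h3 := (SymmetricPower.tprod R (ι := ι) (M := M)).map_update_smul v i₀
      (algebraMap B R (μ r)) (v i₀)
    rw [Function.update_eq_self] at h2 h3
    rw [← h2, ← h3, h1]
  | zero => rw [smul_zero, smul_zero]
  | add x y _ _ hx hy => rw [smul_add, smul_add, hx, hy]
  | smul s x _ hx => rw [smul_comm, hx, smul_comm]

include hμ in
theorem compare_surjective [Nonempty ι] :
    Function.Surjective (compare (B := B) (R := R) (M := M) ι) := by
  intro z
  have hz : z ∈ Submodule.span R (Set.range (SymmetricPower.tprod R (ι := ι) (M := M))) := by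
    rw [SymmetricPower.span_tprod_eq_top]; trivial
  induction hz using Submodule.span_induction with
  | mem y hy =>
    obtain ⟨v, rfl⟩ := hy
    exact ⟨_, compare_tprod v⟩
  | zero => exact ⟨0, map_zero _⟩
  | add x y _ _ hx hy =>
    obtain ⟨x', rfl⟩ := hx
    obtain ⟨y', rfl⟩ := hy
    exact ⟨x' + y', map_add _ _ _⟩
  | smul s x _ hx =>
    obtain ⟨x', rfl⟩ := hx
    refine ⟨μ s • x', ?_⟩
    rw [compare_smul, ← smul_eq μ ι hμ]

end Groth.Agent.Lib.Helper81.SymPowCompare
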