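import Mathlib
import Groth.Prelude.Def_PP16
import Groth.Agent.Lib.Helper81.SymPow
import Groth.Agent.Lib.Helper81.SymGr
import Groth.Agent.Lib.Helper81.SymPowCompare

/-!
# Differential smoothness vs. the graded ring of the diagonal ideal (helper81)

`PP16.IsDiffSmooth A B` is equivalent to: `Ω_{B/A}` projective and
`PP16.SymGrBijective (B ⊗[A] B) I` for `I` the diagonal ideal.
-/

set_option autoImplicit false
universe u

open scoped TensorProduct

namespace Groth.Agent.Lib.Helper81.DiffSmoothBridge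

open Groth.Agent.Lib.Helper81.SymPow Groth.Agent.Lib.Helper81.SymGr
  Groth.Agent.Lib.Helper81.SymPowCompare

variable (A B : Type u) [CommRing A] [CommRing B] [Algebra A B]

/-- the multiplication map as a ring hom -/
noncomputable def mu : B ⊗[A] B →+* B := (Algebra.TensorProduct.lmul' A : B ⊗[A] B →ₐ[A] B).toRingHom

theorem mu_algebraMap (b : B) : mu A B (algebraMap B (B ⊗[A] B) b) = b := by
  change Algebra.TensorProduct.lmul' A (algebraMap B (B ⊗[A] B) b) = b
  rw [Algebra.TensorProduct.algebraMap_apply, Algebra.TensorProduct.lmul'_apply_tmul]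
  simp

theorem sub_mu_mem (r : B ⊗[A] B) :
    r - algebraMap B (B ⊗[A] B) (mu A B r) ∈ KaehlerDifferential.ideal A B := by
  rw [RingHom.mem_ker, map_sub, sub_eq_zero]
  exact (mu_algebraMap A B (Algebra.TensorProduct.lmul' A r)).symm

theorem smul_eq_mu (r : B ⊗[A] B) (m : (KaehlerDifferential.ideal A B).Cotangent) :
    r • m = mu A B r • m := by
  have h := Ideal.Cotangent.smul_eq_zero_of_mem (sub_mu_mem A B r) m
  rw [sub_smul, algebraMap_smul] at h
  exact sub_eq_zero.1 h

section Gr

variable {R : Type u} [CommRing R] (J : Ideal R)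

/-- `J` kills `J^n/J^(n+1)` -/
theorem smul_grJ_eq_zero (n : ℕ) {a : R} (ha : a ∈ J) (y : PP16.grJ R J n) : a • y = 0 := by
  obtain ⟨⟨y, hy⟩, rfl⟩ := Submodule.mkQ_surjective _ y
  rw [← map_smul, Submodule.mkQ_apply, Submodule.Quotient.mk_eq_zero, Submodule.mem_comap]
  change a * y ∈ J ^ (n + 1)
  rw [pow_succ']
  exact Ideal.mul_mem_mul ha hy

end Gr

theorem smul_grJ_eq_mu (n : ℕ) (r : B ⊗[A] B)
    (y : PP16.grJ (B ⊗[A] B) (KaehlerDifferential.ideal A B) n) :
    r • y = algebraMap B (B ⊗[A] B) (mu A B r) • y := by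
  have h := smul_grJ_eq_zero (KaehlerDifferential.ideal A B) n (sub_mu_mem A B r) y
  rw [sub_smul] at h
  exact sub_eq_zero.1 h

section ToGrI

/-- the identity `J^n/J^(n+1) → I^n/I^(n+1)` (the two are the same additive group) -/
noncomputable def toGrI (n : ℕ) :
    PP16.grJ (B ⊗[A] B) (KaehlerDifferential.ideal A B) n ≃+ PP16.grI A B n :=
  AddEquiv.refl _

theorem toGrI_smul (n : ℕ) (b : B) (y : PP16.grJ (B ⊗[A] B) (KaehlerDifferential.ideal A B) n) :
    toGrI A B n (algebraMap B (B ⊗[A] B) b • y) = b • toGrI A B n y := by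
  rw [algebraMap_smul]
  rfl

theorem toGrI_zetaJ {ι : Type u} [Fintype ι] (b : ι → B) :
    toGrI A B _ (PP16.zetaJ (B ⊗[A] B) (KaehlerDifferential.ideal A B)
      (fun i => ⟨(1 : B) ⊗ₜ[A] b i - b i ⊗ₜ[A] (1 : B),
        KaehlerDifferential.one_smul_sub_smul_one_mem_ideal A (b i)⟩)) = PP16.zetaProd A B b :=
  rfl

end ToGrI

section Phi

variable (ι : Type u) [Fintype ι]

/-- the composite `Sym_B (I/I²) → Sym_{B⊗B} (I/I²) → I^n/I^(n+1)` -/
noncomputable def phi :
    Sym[B] ι (KaehlerDifferential.ideal A B).Cotangent →ₗ[B] PP16.grI A B (Fintype.card ι) where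
  toFun := fun x => toGrI A B _ (canon (KaehlerDifferential.ideal A B) ι
    (compare (B := B) (R := B ⊗[A] B) (M := (KaehlerDifferential.ideal A B).Cotangent) ι x))
  map_add' := fun x y => by rw [map_add, map_add, map_add]
  map_smul' := fun b x => by
    rw [compare_smul, map_smul, toGrI_smul, RingHom.id_apply]

theorem phi_apply (x : Sym[B] ι (KaehlerDifferential.ideal A B).Cotangent) :
    phi A B ι x = toGrI A B _ (canon (KaehlerDifferential.ideal A B) ι
      (compare (B := B) (R := B ⊗[A] B) (M := (KaehlerDifferential.ideal A B).Cotangent) ι x)) :=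
  rfl

theorem phi_tprod (b : ι → B) :
    phi A B ι (SymmetricPower.tprod B (fun i => (KaehlerDifferential.ideal A B).toCotangent
      ⟨1 ⊗ₜ b i - b i ⊗ₜ 1, KaehlerDifferential.one_smul_sub_smul_one_mem_ideal A (b i)⟩)) =
      PP16.zetaProd A B b := by
  rw [phi_apply, compare_tprod, canon_tprod (KaehlerDifferential.ideal A B) ι
    (fun i => ⟨1 ⊗ₜ b i - b i ⊗ₜ 1, KaehlerDifferential.one_smul_sub_smul_one_mem_ideal A (b i)⟩),
    toGrI_zetaJ]

theorem phi_surjective : Function.Surjective (phi A B ι) := by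
  intro y
  obtain ⟨y, rfl⟩ := (toGrI A B _).surjective y
  obtain ⟨z, rfl⟩ := canon_surjective (KaehlerDifferential.ideal A B) ι y
  have hz : z ∈ Submodule.span (B ⊗[A] B) (Set.range (SymmetricPower.tprod (B ⊗[A] B) (ι := ι)
      (M := (KaehlerDifferential.ideal A B).Cotangent))) := by
    rw [SymmetricPower.span_tprod_eq_top]; trivial
  induction hz using Submodule.span_induction with
  | mem y hy =>
    obtain ⟨v, rfl⟩ := hy
    refine ⟨SymmetricPower.tprod B v, ?_⟩
    rw [phi_apply, compare_tprod]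
  | zero => exact ⟨0, by rw [map_zero, map_zero, map_zero]⟩
  | add x y _ _ hx hy =>
    obtain ⟨x', hx'⟩ := hx
    obtain ⟨y', hy'⟩ := hy
    exact ⟨x' + y', by rw [map_add, map_add, map_add, hx', hy']⟩
  | smul s x _ hx =>
    obtain ⟨x', hx'⟩ := hx
    refine ⟨mu A B s • x', ?_⟩
    rw [map_smul, map_smul, hx', smul_grJ_eq_mu, toGrI_smul]

theorem phi_injective_of_nonempty [Nonempty ι]
    (hinj : Function.Injective (canon (KaehlerDifferential.ideal A B) ι)) :
    Function.Injective (phi A B ι) := by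
  intro x y hxy
  rw [phi_apply, phi_apply] at hxy
  exact compare_injective (mu A B) ι (smul_eq_mu A B) (mu_algebraMap A B)
    (hinj ((toGrI A B _).injective hxy))

theorem phi_injective_of_isEmpty [IsEmpty ι] : Function.Injective (phi A B ι) := by
  rw [injective_iff_map_eq_zero]
  intro x hx
  have hx' : x ∈ Submodule.span B (Set.range (SymmetricPower.tprod B (ι := ι)
      (M := (KaehlerDifferential.ideal A B).Cotangent))) := by
    rw [SymmetricPower.span_tprod_eq_top]; trivial
  let b₀ : ι → B := fun i => isEmptyElim i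
  have hrange : Set.range (SymmetricPower.tprod B (ι := ι)
      (M := (KaehlerDifferential.ideal A B).Cotangent)) =
      {SymmetricPower.tprod B (fun i => (KaehlerDifferential.ideal A B).toCotangent
        ⟨1 ⊗ₜ b₀ i - b₀ i ⊗ₜ 1, KaehlerDifferential.one_smul_sub_smul_one_mem_ideal A (b₀ i)⟩)} := by
    ext y
    constructor
    · rintro ⟨v, rfl⟩
      rw [Set.mem_singleton_iff]
      congr 1
      exact Subsingleton.elim _ _
    · rintro rfl
      exact ⟨_, rfl⟩
  rw [hrange, Submodule.mem_span_singleton] at hx'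
  obtain ⟨b, rfl⟩ := hx'
  rw [map_smul, phi_tprod] at hx
  have h0 : Fintype.card ι = 0 := Fintype.card_eq_zero
  have hb : algebraMap B (B ⊗[A] B) b ∈ KaehlerDifferential.ideal A B := by
    unfold PP16.zetaProd at hx
    rw [← Submodule.Quotient.mk_smul, Submodule.Quotient.mk_eq_zero, Submodule.mem_comap] at hx
    have h1 : (b • (∏ i, ((1 : B) ⊗ₜ[A] b₀ i - b₀ i ⊗ₜ[A] (1 : B))) : B ⊗[A] B) ∈
        KaehlerDifferential.ideal A B ^ (Fintype.card ι + 1) := hx
    rw [h0, zero_add, pow_one, Finset.univ_eq_empty, Finset.prod_empty, Algebra.smul_def,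
      mul_one] at h1
    exact h1
  have hb0 : b = 0 := by
    rw [← mu_algebraMap A B b]
    exact hb
  rw [hb0, zero_smul]

theorem phi_bijective (hinj : ∀ (ι : Type u) [Fintype ι] [Nonempty ι],
    Function.Injective (canon (KaehlerDifferential.ideal A B) ι)) :
    Function.Bijective (phi A B ι) := by
  refine ⟨?_, phi_surjective A B ι⟩
  rcases isEmpty_or_nonempty ι with h | h
  · exact phi_injective_of_isEmpty A B ι
  · exact phi_injective_of_nonempty A B ι (hinj ι)

end Phi

/-- **Bridge**: projectivity of `Ω` and bijectivity of `Sym(I/I²) → gr_I(B ⊗ B)` give differential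
smoothness. -/
theorem isDiffSmooth_of_symGrBijective (hproj : Module.Projective B (KaehlerDifferential A B))
    (hsym : PP16.SymGrBijective (B ⊗[A] B) (KaehlerDifferential.ideal A B)) :
    PP16.IsDiffSmooth A B := by
  have hinj := (symGrBijective_iff (KaehlerDifferential.ideal A B)).1 hsym
  refine ⟨hproj, fun ι _ => ⟨phi A B ι, fun b => phi_tprod A B ι b, phi_bijective A B ι hinj⟩⟩

/-- the quotient of `B ⊗ B` by the diagonal ideal is `B`, hence formally smooth over `B` -/
theorem formallySmooth_quotient_ideal :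
    Algebra.FormallySmooth B ((B ⊗[A] B) ⧸ KaehlerDifferential.ideal A B) := by
  have hsurj : Function.Surjective (Algebra.TensorProduct.lmul'' A : B ⊗[A] B →ₐ[B] B) := by
    intro b
    exact ⟨b ⊗ₜ 1, by simp [Algebra.TensorProduct.lmul'']⟩
  have e := Ideal.quotientKerAlgEquivOfSurjective hsurj
  exact Algebra.FormallySmooth.of_equiv e.symm

end Groth.Agent.Lib.Helper81.DiffSmoothBridge
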