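import Mathlib
import Groth.Agent.Lib.Helper24.GorenFlat
import Groth.Agent.Lib.Helper24.GorenEquiv

/-!
# Factorization of a local map of Artinian local rings through a base change (helper81)

Setting: `Λ` a Noetherian local "coefficient ring" of the Artinian local ring `R` (given by
`Λ → R` and `ρ : R → κ(Λ)` with `ρ ∘ (Λ → R) = residue`), `E` a flat local Gorenstein
`Λ`-algebra such that a power of `𝔪_E` lies in `𝔪_Λ E`, and a surjective `Λ`-algebra map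
`g : E → S`.  Then `R' = R ⊗[Λ] E` is an Artinian local flat `R`-algebra with Gorenstein closed
fibre and `R' → S` is surjective.
-/

set_option autoImplicit false
universe u

namespace Groth.Agent.Lib.Helper81.ArtFactor

open TensorProduct IsLocalRing

section Basic

variable {R : Type*} [CommRing R] [IsLocalRing R] [IsArtinianRing R]

theorem isNilpotent_maximalIdeal : IsNilpotent (maximalIdeal R) := by
  have h := IsArtinianRing.isNilpotent_jacobson_bot (R := R)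
  rwa [IsLocalRing.jacobson_eq_maximalIdeal ⊥ bot_ne_top] at h

theorem isNilpotent_of_mem_maximalIdeal {r : R} (hr : r ∈ maximalIdeal R) : IsNilpotent r := by
  obtain ⟨n, hn⟩ := isNilpotent_maximalIdeal (R := R)
  refine ⟨n, ?_⟩
  have := Ideal.pow_mem_pow hr n
  rwa [hn, Ideal.zero_eq_bot, Ideal.mem_bot] at this

end Basic

variable {Λ R E S : Type u} [CommRing Λ] [IsLocalRing Λ] [CommRing R] [IsLocalRing R]
  [IsArtinianRing R] [CommRing E] [IsLocalRing E] [CommRing S]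
  [Algebra Λ R] [Algebra Λ E]

section Rho

variable (ρ : R →+* ResidueField Λ) (hρ : ρ.comp (algebraMap Λ R) = residue Λ)

include hρ

theorem rho_eq_zero {r : R} (hr : r ∈ maximalIdeal R) : ρ r = 0 :=
  (isNilpotent_of_mem_maximalIdeal hr).map ρ |>.eq_zero

theorem mem_of_rho_eq_zero {r : R} (hr : ρ r = 0) : r ∈ maximalIdeal R := by
  rw [mem_maximalIdeal, mem_nonunits_iff]
  intro hu
  have := hu.map ρ
  rw [hr] at this
  exact not_isUnit_zero this

theorem exists_sub_mem (r : R) : ∃ y : Λ, r - algebraMap Λ R y ∈ maximalIdeal R := by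
  obtain ⟨y, hy⟩ := residue_surjective (ρ r)
  refine ⟨y, mem_of_rho_eq_zero ρ hρ ?_⟩
  have h1 : ρ (algebraMap Λ R y) = residue Λ y := congrArg (fun f => f y) hρ
  rw [map_sub, h1, hy, sub_self]

theorem algebraMap_mem {y : Λ} (hy : y ∈ maximalIdeal Λ) : algebraMap Λ R y ∈ maximalIdeal R := by
  apply mem_of_rho_eq_zero ρ hρ
  have h1 : ρ (algebraMap Λ R y) = residue Λ y := congrArg (fun f => f y) hρ
  rw [h1]
  exact (residue_eq_zero_iff y).mpr hy

end Rho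

section Tensor

variable (Λ R E)

/-- the ideal `𝔪_R R'` of `R' = R ⊗[Λ] E`. -/
noncomputable abbrev I₀ : Ideal (R ⊗[Λ] E) := (maximalIdeal R).map (algebraMap R (R ⊗[Λ] E))

theorem isNilpotent_I₀ : IsNilpotent (I₀ Λ R E) := by
  obtain ⟨n, hn⟩ := isNilpotent_maximalIdeal (R := R)
  refine ⟨n, ?_⟩
  rw [I₀, ← Ideal.map_pow, hn, Ideal.zero_eq_bot, Ideal.map_bot]
  rfl

theorem isNilpotent_of_mem_I₀ {x : R ⊗[Λ] E} (hx : x ∈ I₀ Λ R E) : IsNilpotent x := by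
  obtain ⟨n, hn⟩ := isNilpotent_I₀ Λ R E
  refine ⟨n, ?_⟩
  have := Ideal.pow_mem_pow hx n
  rwa [hn, Ideal.zero_eq_bot, Ideal.mem_bot] at this

theorem tmul_mem_I₀ {r : R} (hr : r ∈ maximalIdeal R) (e : E) : r ⊗ₜ[Λ] e ∈ I₀ Λ R E := by
  have h1 : r ⊗ₜ[Λ] e = algebraMap R (R ⊗[Λ] E) r * ((1 : R) ⊗ₜ[Λ] e) := by
    rw [Algebra.TensorProduct.algebraMap_apply, Algebra.TensorProduct.tmul_mul_tmul, one_mul,
      Algebra.algebraMap_self_apply, mul_one]
  rw [h1]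
  exact Ideal.mul_mem_right _ _ (Ideal.mem_map_of_mem _ hr)

variable {Λ R E}
variable (ρ : R →+* ResidueField Λ) (hρ : ρ.comp (algebraMap Λ R) = residue Λ)

include hρ

theorem one_tmul_mem_I₀ {e : E} (he : e ∈ (maximalIdeal Λ).map (algebraMap Λ E)) :
    (1 : R) ⊗ₜ[Λ] e ∈ I₀ Λ R E := by
  have hle : (maximalIdeal Λ).map (algebraMap Λ E) ≤
      (I₀ Λ R E).comap (Algebra.TensorProduct.includeRight : E →ₐ[Λ] R ⊗[Λ] E) := by
    rw [Ideal.map_le_iff_le_comap]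
    intro y hy
    rw [Ideal.mem_comap, Ideal.mem_comap, Algebra.TensorProduct.includeRight_apply,
      Algebra.algebraMap_eq_smul_one, ← TensorProduct.smul_tmul, ← Algebra.algebraMap_eq_smul_one]
    exact tmul_mem_I₀ Λ R E (algebraMap_mem ρ hρ hy) 1
  exact hle he

theorem exists_one_tmul_sub_mem (x : R ⊗[Λ] E) : ∃ e : E, x - (1 : R) ⊗ₜ[Λ] e ∈ I₀ Λ R E := by
  induction x using TensorProduct.induction_on with
  | zero => exact ⟨0, by rw [tmul_zero, sub_zero]; exact Ideal.zero_mem _⟩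
  | tmul r e =>
    obtain ⟨y, hy⟩ := exists_sub_mem ρ hρ r
    refine ⟨y • e, ?_⟩
    have h1 : r ⊗ₜ[Λ] e - (1 : R) ⊗ₜ[Λ] (y • e) = (r - algebraMap Λ R y) ⊗ₜ[Λ] e := by
      rw [sub_tmul, Algebra.algebraMap_eq_smul_one, TensorProduct.smul_tmul]
    rw [h1]
    exact tmul_mem_I₀ Λ R E hy e
  | add x y hx hy =>
    obtain ⟨e₁, h₁⟩ := hx
    obtain ⟨e₂, h₂⟩ := hy
    refine ⟨e₁ + e₂, ?_⟩
    have : x + y - (1 : R) ⊗ₜ[Λ] (e₁ + e₂) = (x - (1 : R) ⊗ₜ[Λ] e₁) + (y - (1 : R) ⊗ₜ[Λ] e₂) := by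
      rw [tmul_add]; ring
    rw [this]
    exact Ideal.add_mem _ h₁ h₂

theorem isUnit_or_isNilpotent
    (hM : ∃ M : ℕ, maximalIdeal E ^ M ≤ (maximalIdeal Λ).map (algebraMap Λ E))
    (x : R ⊗[Λ] E) : IsUnit x ∨ IsNilpotent x := by
  obtain ⟨e, he⟩ := exists_one_tmul_sub_mem ρ hρ x
  have hn : IsNilpotent (x - (1 : R) ⊗ₜ[Λ] e) := isNilpotent_of_mem_I₀ Λ R E he
  have hx : x = (1 : R) ⊗ₜ[Λ] e + (x - (1 : R) ⊗ₜ[Λ] e) := by ring
  by_cases hu : IsUnit e
  · left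
    rw [hx]
    have hu' : IsUnit ((1 : R) ⊗ₜ[Λ] e) :=
      hu.map (Algebra.TensorProduct.includeRight : E →ₐ[Λ] R ⊗[Λ] E)
    exact hn.isUnit_add_left_of_commute hu' (Commute.all _ _)
  · right
    obtain ⟨M, hM⟩ := hM
    have h1 : e ^ M ∈ (maximalIdeal Λ).map (algebraMap Λ E) := hM (Ideal.pow_mem_pow hu M)
    have h2 : ((1 : R) ⊗ₜ[Λ] e) ^ M ∈ I₀ Λ R E := by
      rw [Algebra.TensorProduct.tmul_pow, one_pow]
      exact one_tmul_mem_I₀ ρ hρ h1
    have h3 : IsNilpotent ((1 : R) ⊗ₜ[Λ] e) := by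
      obtain ⟨k, hk⟩ := isNilpotent_of_mem_I₀ Λ R E h2
      exact ⟨M * k, by rw [pow_mul, hk]⟩
    rw [hx]
    exact (Commute.all _ _).isNilpotent_add h3 hn

end Tensor

end Groth.Agent.Lib.Helper81.ArtFactor
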