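import Mathlib
import Groth.Agent.Lib.Helper81.ArtFactor

/-!
# Factorization of a local map of Artinian local rings through a base change, part 2 (helper81)
-/

set_option autoImplicit false
universe u

namespace Groth.Agent.Lib.Helper81.ArtFactor

open TensorProduct IsLocalRing

variable {Λ R E S : Type u} [CommRing Λ] [IsLocalRing Λ] [CommRing R] [IsLocalRing R]
  [IsArtinianRing R] [CommRing E] [IsLocalRing E] [CommRing S]
  [Algebra Λ R] [Algebra Λ E]
  (ρ : R →+* ResidueField Λ) (hρ : ρ.comp (algebraMap Λ R) = residue Λ)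

include hρ

theorem isLocalRing_tensor [Nontrivial (R ⊗[Λ] E)]
    (hM : ∃ M : ℕ, maximalIdeal E ^ M ≤ (maximalIdeal Λ).map (algebraMap Λ E)) :
    IsLocalRing (R ⊗[Λ] E) := by
  apply IsLocalRing.of_isUnit_or_isUnit_one_sub_self
  intro x
  rcases isUnit_or_isNilpotent ρ hρ hM x with h | h
  · exact Or.inl h
  · exact Or.inr h.isUnit_one_sub

omit hρ in
theorem isLocalHom_algebraMap_tensor [Nontrivial (R ⊗[Λ] E)] :
    IsLocalHom (algebraMap R (R ⊗[Λ] E)) := by
  constructor
  intro r hr
  by_contra hu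
  have hmem : r ∈ maximalIdeal R := (mem_maximalIdeal r).mpr hu
  have hnil : IsNilpotent (algebraMap R (R ⊗[Λ] E) r) :=
    isNilpotent_of_mem_I₀ Λ R E (Ideal.mem_map_of_mem _ hmem)
  obtain ⟨n, hn⟩ := hnil
  have := hr.pow n
  rw [hn] at this
  exact not_isUnit_zero this

theorem finite_of_rho : Module.Finite Λ R := by
  let f : R →ₐ[Λ] ResidueField Λ :=
    { ρ with
      commutes' := fun y => congrArg (fun f => f y) hρ }
  have hf : Function.Surjective f := by
    intro z
    obtain ⟨y, hy⟩ := residue_surjective z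
    exact ⟨algebraMap Λ R y, by rw [← hy]; exact congrArg (fun f => f y) hρ⟩
  haveI : Module.Finite Λ (ResidueField Λ) :=
    Module.Finite.of_surjective (Algebra.linearMap Λ (ResidueField Λ)) residue_surjective
  refine Module.finite_of_surjective_of_ker_le_nilradical f hf ?_ ?_
  · intro r hr
    rw [mem_nilradical]
    exact isNilpotent_of_mem_maximalIdeal (mem_of_rho_eq_zero ρ hρ hr)
  · exact IsNoetherian.noetherian _

theorem isNoetherianRing_tensor [IsNoetherianRing E] : IsNoetherianRing (R ⊗[Λ] E) := by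
  haveI := finite_of_rho ρ hρ
  haveI : Module.Finite E (E ⊗[Λ] R) := inferInstance
  haveI : IsNoetherianRing (E ⊗[Λ] R) := IsNoetherianRing.of_finite E _
  exact isNoetherianRing_of_ringEquiv (E ⊗[Λ] R) (Algebra.TensorProduct.comm Λ E R).toRingEquiv

theorem isArtinianRing_tensor [IsNoetherianRing E] [Nontrivial (R ⊗[Λ] E)]
    (hM : ∃ M : ℕ, maximalIdeal E ^ M ≤ (maximalIdeal Λ).map (algebraMap Λ E)) :
    IsArtinianRing (R ⊗[Λ] E) := by
  haveI := isNoetherianRing_tensor (E := E) ρ hρ
  haveI := isLocalRing_tensor (E := E) ρ hρ hM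
  rw [isArtinianRing_iff_isNilpotent_maximalIdeal]
  obtain ⟨k, hk⟩ := IsNoetherianRing.isNilpotent_nilradical (R ⊗[Λ] E)
  refine ⟨k, ?_⟩
  have hle : maximalIdeal (R ⊗[Λ] E) ≤ nilradical (R ⊗[Λ] E) := by
    intro x hx
    rw [mem_nilradical]
    rcases isUnit_or_isNilpotent ρ hρ hM x with h | h
    · exact absurd h ((mem_maximalIdeal x).mp hx)
    · exact h
  rw [Ideal.zero_eq_bot, eq_bot_iff, ← Ideal.zero_eq_bot, ← hk]
  exact Ideal.pow_right_mono hle k

end Groth.Agent.Lib.Helper81.ArtFactor
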