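import Mathlib
import Groth.Agent.Lib.Helper81.ArtFactor2

/-!
# Factorization of a local map of Artinian local rings through a base change, part 3 (helper81)

The closed fibre of `R → R ⊗[Λ] E` is the closed fibre of `Λ → E`; main theorem.
-/

set_option autoImplicit false
universe u

namespace Groth.Agent.Lib.Helper81.ArtFactor

open TensorProduct IsLocalRing

variable {Λ R E S : Type u} [CommRing Λ] [IsLocalRing Λ] [CommRing R] [IsLocalRing R]
  [IsArtinianRing R] [CommRing E] [IsLocalRing E] [CommRing S]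
  [Algebra Λ R] [Algebra Λ E]

section Fibre

variable (Λ E) in
/-- `κ(Λ) → E/𝔪_Λ E`. -/
noncomputable def resToFib : ResidueField Λ →+* EGA4.FibRing Λ E :=
  Ideal.Quotient.lift (maximalIdeal Λ) (algebraMap Λ (EGA4.FibRing Λ E)) (fun y hy => by
    rw [IsScalarTower.algebraMap_apply Λ E (EGA4.FibRing Λ E), Ideal.Quotient.algebraMap_eq,
      Ideal.Quotient.eq_zero_iff_mem]
    exact Ideal.mem_map_of_mem _ hy)

theorem resToFib_residue (y : Λ) :
    resToFib Λ E (residue Λ y) = algebraMap Λ (EGA4.FibRing Λ E) y :=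
  Ideal.Quotient.lift_mk _ _ _

variable (ρ : R →+* ResidueField Λ) (hρ : ρ.comp (algebraMap Λ R) = residue Λ)

/-- `R → κ(Λ) → E/𝔪_Λ E` as a `Λ`-algebra map. -/
noncomputable def rhoFib : R →ₐ[Λ] EGA4.FibRing Λ E :=
  { (resToFib Λ E).comp ρ with
    commutes' := fun y => by
      have h1 : ρ (algebraMap Λ R y) = residue Λ y := congrArg (fun f => f y) hρ
      change resToFib Λ E (ρ (algebraMap Λ R y)) = _
      rw [h1, resToFib_residue] }

theorem rhoFib_apply (r : R) : rhoFib ρ hρ r = resToFib Λ E (ρ r) := rfl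

/-- `R ⊗[Λ] E → E/𝔪_Λ E`. -/
noncomputable def toFib : R ⊗[Λ] E →+* EGA4.FibRing Λ E :=
  (Algebra.TensorProduct.lift (rhoFib (E := E) ρ hρ) (Ideal.Quotient.mkₐ Λ _)
    (fun _ _ => Commute.all _ _)).toRingHom

theorem toFib_tmul (r : R) (e : E) :
    toFib ρ hρ (r ⊗ₜ[Λ] e) = resToFib Λ E (ρ r) * Ideal.Quotient.mk _ e := by
  change (Algebra.TensorProduct.lift (rhoFib (E := E) ρ hρ) (Ideal.Quotient.mkₐ Λ _)
    (fun _ _ => Commute.all _ _)) (r ⊗ₜ[Λ] e) = _
  rw [Algebra.TensorProduct.lift_tmul, rhoFib_apply]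
  rfl

theorem toFib_I₀ : ∀ x ∈ I₀ Λ R E, toFib (E := E) ρ hρ x = 0 := by
  have hle : I₀ Λ R E ≤ RingHom.ker (toFib (E := E) ρ hρ) := by
    rw [I₀, Ideal.map_le_iff_le_comap]
    intro r hr
    rw [Ideal.mem_comap, RingHom.mem_ker, Algebra.TensorProduct.algebraMap_apply,
      Algebra.algebraMap_self_apply, toFib_tmul, rho_eq_zero ρ hρ hr, map_zero,
      zero_mul]
  exact fun x hx => hle hx

/-- the fibre isomorphism `R'/𝔪_R R' ≃ E/𝔪_Λ E`. -/
noncomputable def fibEquiv : (EGA4.FibRing R (R ⊗[Λ] E)) ≃+* EGA4.FibRing Λ E :=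
  RingEquiv.ofRingHom
    (Ideal.Quotient.lift (I₀ Λ R E) (toFib (E := E) ρ hρ) (toFib_I₀ ρ hρ))
    (Ideal.Quotient.lift _ ((Ideal.Quotient.mk (I₀ Λ R E)).comp
      ((Algebra.TensorProduct.includeRight : E →ₐ[Λ] R ⊗[Λ] E) : E →+* R ⊗[Λ] E)) (fun e he => by
        rw [RingHom.comp_apply, Ideal.Quotient.eq_zero_iff_mem, RingHom.coe_coe,
          Algebra.TensorProduct.includeRight_apply]
        exact one_tmul_mem_I₀ ρ hρ he))
    (by
      apply Ideal.Quotient.ringHom_ext
      ext e
      simp only [RingHom.comp_apply, Ideal.Quotient.lift_mk, RingHom.coe_coe,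
        Algebra.TensorProduct.includeRight_apply, RingHom.id_apply]
      rw [toFib_tmul, map_one, map_one, one_mul])
    (by
      apply Ideal.Quotient.ringHom_ext
      refine RingHom.ext (fun x => ?_)
      simp only [RingHom.comp_apply, Ideal.Quotient.lift_mk, RingHom.id_apply]
      induction x using TensorProduct.induction_on with
      | zero => simp
      | tmul r e =>
        obtain ⟨y, hy⟩ := exists_sub_mem ρ hρ r
        have h1 : ρ r = residue Λ y := by
          have h2 : ρ (algebraMap Λ R y) = residue Λ y := congrArg (fun f => f y) hρ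
          have h3 := rho_eq_zero ρ hρ hy
          rw [map_sub, h2, sub_eq_zero] at h3
          exact h3
        rw [toFib_tmul, h1, resToFib_residue,
          IsScalarTower.algebraMap_apply Λ E (EGA4.FibRing Λ E), Ideal.Quotient.algebraMap_eq,
          ← map_mul, Ideal.Quotient.lift_mk, RingHom.comp_apply, RingHom.coe_coe,
          Algebra.TensorProduct.includeRight_apply, Ideal.Quotient.eq]
        have h4 : (1 : R) ⊗ₜ[Λ] (algebraMap Λ E y * e) - r ⊗ₜ[Λ] e =
            -((r - algebraMap Λ R y) ⊗ₜ[Λ] e) := by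
          rw [sub_tmul, Algebra.algebraMap_eq_smul_one y, Algebra.algebraMap_eq_smul_one y,
            smul_mul_assoc, one_mul, TensorProduct.smul_tmul]
          ring
        rw [h4]
        exact Ideal.neg_mem_iff _ |>.mpr (tmul_mem_I₀ Λ R E hy e)
      | add x y hx hy =>
        rw [map_add, map_add, hx, hy, map_add])

end Fibre

end Groth.Agent.Lib.Helper81.ArtFactor
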