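import Mathlib
import Groth.Agent.Lib.Helper81.ArtFactor3

/-!
# Factorization of a local map of Artinian local rings through a base change: main theorem
(helper81)
-/

set_option autoImplicit false
universe u

namespace Groth.Agent.Lib.Helper81.ArtFactor

open TensorProduct IsLocalRing

theorem main {Λ R E S : Type u} [CommRing Λ] [IsLocalRing Λ] [IsNoetherianRing Λ] [CommRing R]
    [IsLocalRing R] [IsArtinianRing R] [CommRing E] [IsLocalRing E] [IsNoetherianRing E]
    [CommRing S] [Nontrivial S] [Algebra Λ R] [Algebra Λ E] [Algebra Λ S] [Algebra R S]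
    [IsScalarTower Λ R S] [Module.Flat Λ E] [IsLocalHom (algebraMap Λ E)]
    (ρ : R →+* ResidueField Λ) (hρ : ρ.comp (algebraMap Λ R) = residue Λ)
    (hM : ∃ M : ℕ, maximalIdeal E ^ M ≤ (maximalIdeal Λ).map (algebraMap Λ E))
    (hGE : LocCoh.IsGorensteinLocalRing E) (g : E →ₐ[Λ] S) (hg : Function.Surjective g) :
    ∃ (R' : Type u) (_ : CommRing R') (_ : Algebra R R'), IsArtinianRing R' ∧ IsLocalRing R' ∧
      Module.Flat R R' ∧ IsLocalHom (algebraMap R R') ∧
      LocCoh.IsGorensteinLocalRing (R' ⧸ (maximalIdeal R).map (algebraMap R R')) ∧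
      ∃ g' : R' →ₐ[R] S, Function.Surjective g' := by
  let gS : R ⊗[Λ] E →ₐ[R] S :=
    Algebra.TensorProduct.lift (Algebra.ofId R S) g (fun _ _ => Commute.all _ _)
  have hgS : Function.Surjective gS := by
    intro s
    obtain ⟨e, rfl⟩ := hg s
    refine ⟨(1 : R) ⊗ₜ[Λ] e, ?_⟩
    rw [Algebra.TensorProduct.lift_tmul, map_one, one_mul]
  haveI : Nontrivial (R ⊗[Λ] E) := hgS.nontrivial
  refine ⟨R ⊗[Λ] E, inferInstance, inferInstance, isArtinianRing_tensor ρ hρ hM,
    isLocalRing_tensor ρ hρ hM, inferInstance, isLocalHom_algebraMap_tensor, ?_, gS, hgS⟩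
  have h : LocCoh.IsGorensteinLocalRing (EGA4.FibRing Λ E) :=
    ((Groth.Agent.Lib.Helper24.isGorensteinLocalRing_iff_of_flat_local Λ E).mp hGE).2
  exact Groth.Agent.Lib.Helper24.isGorensteinLocalRing_of_ringEquiv (fibEquiv ρ hρ).symm h

end Groth.Agent.Lib.Helper81.ArtFactor
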