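import Mathlib
import Groth.Agent.Lib.Helper81.CohenLift

/-!
# Lifting maps out of a Cohen ring, when only a power of `p` lies in the ideal (helper81)

* `exists_lift_complete'`: ring maps `Λ → C/I` lift to `Λ → C` if `C` is `I`-adically complete
  and `p ^ m ∈ I`.
-/

set_option autoImplicit false
universe u v

namespace Groth.Agent.Lib.Helper81.CohenLift

open IsLocalRing

variable {Λ : Type u} [CommRing Λ] [IsDomain Λ] [IsDiscreteValuationRing Λ]
  [IsAdicComplete (maximalIdeal Λ) Λ] {p : ℕ}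

/-- one step of the lifting: from `C / I^(n+1)` to `C / I^(n+2)`. -/
theorem exists_lift_step' (hp : p.Prime) (hm : maximalIdeal Λ = Ideal.span {(p : Λ)})
    {C : Type v} [CommRing C] (I : Ideal C) (m : ℕ) (hpI : (p : C) ^ m ∈ I) (n : ℕ)
    (f : Λ →+* C ⧸ I ^ (n + 1)) :
    ∃ f' : Λ →+* C ⧸ I ^ (n + 1 + 1),
      (Ideal.Quotient.factorPow I (Nat.le_succ (n + 1))).comp f' = f := by
  classical
  set T := C ⧸ I ^ (n + 1 + 1) with hT
  let π : T →+* C ⧸ I ^ (n + 1) := Ideal.Quotient.factorPow I (Nat.le_succ (n + 1))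
  have hπ : Function.Surjective π := Ideal.Quotient.factor_surjective _
  set N : Ideal T := RingHom.ker π with hN
  have hNnil : IsNilpotent N := by
    refine ⟨n + 1 + 1, ?_⟩
    have h1 : N ≤ I.map (Ideal.Quotient.mk (I ^ (n + 1 + 1))) := by
      rw [hN, Ideal.Quotient.factor_ker]
      exact Ideal.map_mono (Ideal.pow_le_self (Nat.succ_ne_zero n))
    rw [Ideal.zero_eq_bot, eq_bot_iff]
    refine (Ideal.pow_right_mono h1 _).trans ?_
    rw [← Ideal.map_pow, Ideal.map_quotient_self]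
  have hpT : (p : T) ^ (m * (n + 1 + 1)) = 0 := by
    rw [← map_natCast (Ideal.Quotient.mk (I ^ (n + 1 + 1))), ← map_pow,
      Ideal.Quotient.eq_zero_iff_mem, pow_mul]
    exact Ideal.pow_mem_pow hpI _
  let e : (T ⧸ N) ≃+* (C ⧸ I ^ (n + 1)) := RingHom.quotientKerEquivOfSurjective hπ
  obtain ⟨g', hg'⟩ := exists_lift_nilpotent hp hm N hNnil (m * (n + 1 + 1)) hpT
    ((e.symm : (C ⧸ I ^ (n + 1)) →+* (T ⧸ N)).comp f)
  refine ⟨g', ?_⟩
  ext a
  have h1 := congrArg (fun φ : Λ →+* T ⧸ N => e (φ a)) hg'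
  simp only [RingHom.comp_apply, RingHom.coe_coe, RingEquiv.apply_symm_apply] at h1
  rw [← h1]
  rfl

/-- the compatible sequence of lifts. -/
noncomputable def liftSeq' (hp : p.Prime) (hm : maximalIdeal Λ = Ideal.span {(p : Λ)})
    {C : Type v} [CommRing C] (I : Ideal C) (m : ℕ) (hpI : (p : C) ^ m ∈ I) (u : Λ →+* C ⧸ I) :
    (n : ℕ) → Λ →+* C ⧸ I ^ (n + 1)
  | 0 => ((Ideal.quotEquivOfEq (by rw [zero_add, pow_one] : I = I ^ (0 + 1))) :
      (C ⧸ I) →+* (C ⧸ I ^ (0 + 1))).comp u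
  | n + 1 => Classical.choose (exists_lift_step' hp hm I m hpI n (liftSeq' hp hm I m hpI u n))

theorem liftSeq'_succ (hp : p.Prime) (hm : maximalIdeal Λ = Ideal.span {(p : Λ)})
    {C : Type v} [CommRing C] (I : Ideal C) (m : ℕ) (hpI : (p : C) ^ m ∈ I) (u : Λ →+* C ⧸ I)
    (n : ℕ) :
    (Ideal.Quotient.factorPow I (Nat.le_succ (n + 1))).comp (liftSeq' hp hm I m hpI u (n + 1)) =
      liftSeq' hp hm I m hpI u n :=
  Classical.choose_spec (exists_lift_step' hp hm I m hpI n (liftSeq' hp hm I m hpI u n))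

/-- **Lifting from a Cohen ring to a complete ring**, `p ^ m ∈ I`. -/
theorem exists_lift_complete' (hp : p.Prime) (hm : maximalIdeal Λ = Ideal.span {(p : Λ)})
    {C : Type v} [CommRing C] (I : Ideal C) [IsAdicComplete I C] (m : ℕ) (hpI : (p : C) ^ m ∈ I)
    (u : Λ →+* C ⧸ I) : ∃ v : Λ →+* C, (Ideal.Quotient.mk I).comp v = u := by
  have ha : StrictMono (fun n : ℕ => n + 1) := fun a b h => Nat.succ_lt_succ h
  let v := IsAdicComplete.StrictMono.liftRingHom I ha (liftSeq' hp hm I m hpI u)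
    (fun {k} => liftSeq'_succ hp hm I m hpI u k)
  refine ⟨v, ?_⟩
  ext a
  have h1 : Ideal.Quotient.mk (I ^ (0 + 1)) (v a) = liftSeq' hp hm I m hpI u 0 a :=
    IsAdicComplete.StrictMono.mk_liftRingHom I ha (liftSeq' hp hm I m hpI u)
      (fun {k} => liftSeq'_succ hp hm I m hpI u k) (n := 0) a
  obtain ⟨c, hc⟩ := Ideal.Quotient.mk_surjective (u a)
  have h2 : liftSeq' hp hm I m hpI u 0 a = Ideal.Quotient.mk (I ^ (0 + 1)) c := by
    change (Ideal.quotEquivOfEq (by rw [zero_add, pow_one] : I = I ^ (0 + 1))) (u a) = _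
    rw [← hc]
    rfl
  rw [h2, Ideal.Quotient.eq] at h1
  rw [RingHom.comp_apply, ← hc, Ideal.Quotient.eq]
  rwa [zero_add, pow_one] at h1

end Groth.Agent.Lib.Helper81.CohenLift
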