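import Mathlib
import Groth.Agent.S0342
import Groth.Agent.S0343
import Groth.Agent.Lib.Helper24.GorenEquiv
import Groth.Agent.Lib.Helper24.GorenFlat
import Groth.Agent.Lib.Helper81.LfsLocal

/-!
# Truncated polynomial extensions `C[X]/(X^N)` of Gorenstein local rings (helper81)

* `isGorenstein_field_trunc`: `κ[X]/(X^N)` is a Gorenstein local ring for a field `κ`, `N ≥ 1`.
* `isLocalRing_trunc`, `isLocalHom_trunc`: `C[X]/(X^N)` is local and `C → C[X]/(X^N)` is local.
* `isGorenstein_trunc`: if `C` is Gorenstein local then so is `C[X]/(X^N)`.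
-/

set_option autoImplicit false
universe u

namespace Groth.Agent.Lib.Helper81.TruncGoren

open Polynomial IsLocalRing

theorem isGorenstein_field_trunc (κ : Type u) [Field κ] (N : ℕ) (hN : 0 < N) :
    LocCoh.IsGorensteinLocalRing (κ[X] ⧸ Ideal.span {(X : κ[X]) ^ N}) := by
  classical
  set p : Ideal κ[X] := Ideal.span {X} with hp
  have hpmax : p.IsMaximal := PrincipalIdealRing.isMaximal_of_irreducible Polynomial.irreducible_X
  haveI := hpmax
  have hpne : p ≠ ⊥ := by
    rw [hp, Ne, Ideal.span_singleton_eq_bot]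
    exact Polynomial.X_ne_zero
  let D := Localization.AtPrime p
  haveI : IsDiscreteValuationRing D :=
    IsLocalization.AtPrime.isDiscreteValuationRing_of_dedekind_domain κ[X] hpne D
  have hGD : LocCoh.IsGorensteinLocalRing D := Groth.Agent.S0342.result D
  set π : D := algebraMap κ[X] D X with hπ
  have hm : maximalIdeal D = Ideal.span {π} := by
    have h1 : Ideal.map (algebraMap κ[X] D) p = maximalIdeal D :=
      Localization.AtPrime.map_eq_maximalIdeal
    rw [← h1]
    have h2 : Ideal.map (algebraMap κ[X] D) (Ideal.span {(X : κ[X])}) = Ideal.span {π} := by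
      rw [Ideal.map_span, Set.image_singleton]
    exact h2
  have hinj : Function.Injective (algebraMap κ[X] D) :=
    IsLocalization.injective D (M := p.primeCompl) (by
      intro x hx
      exact mem_nonZeroDivisors_of_ne_zero (fun h => hx (h ▸ p.zero_mem)))
  have hπ0 : π ≠ 0 := by
    rw [hπ, Ne, map_eq_zero_iff _ hinj]
    exact Polynomial.X_ne_zero
  have hmem : π ^ N ∈ maximalIdeal D := by
    rw [hm]
    exact Ideal.pow_mem_of_mem _ (Ideal.mem_span_singleton_self π) N hN
  have hreg : IsSMulRegular D (π ^ N) :=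
    (isRegular_of_ne_zero (pow_ne_zero N hπ0)).left.isSMulRegular
  have h1 : LocCoh.IsGorensteinLocalRing (D ⧸ Ideal.span {π ^ N}) :=
    (Groth.Agent.S0343.result D (π ^ N) hmem hreg).mp hGD
  have h2 : LocCoh.IsGorensteinLocalRing (D ⧸ maximalIdeal D ^ N) := by
    refine (Groth.Agent.Lib.Helper24.isGorensteinLocalRing_quotient_congr ?_).mp h1
    rw [hm, Ideal.span_singleton_pow]
  have e := IsLocalization.AtPrime.equivQuotMaximalIdealPow p D N
  have h3 : LocCoh.IsGorensteinLocalRing (κ[X] ⧸ p ^ N) :=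
    Groth.Agent.Lib.Helper24.isGorensteinLocalRing_of_ringEquiv e.symm.toRingEquiv h2
  refine (Groth.Agent.Lib.Helper24.isGorensteinLocalRing_quotient_congr ?_).mp h3
  rw [hp, Ideal.span_singleton_pow]

section Trunc

variable (C : Type u) [CommRing C] (N : ℕ)

/-- the augmentation `C[X]/(X^N) → C`, `X ↦ 0`. -/
noncomputable def aug (hN : 0 < N) : AdjoinRoot ((X : C[X]) ^ N) →+* C :=
  AdjoinRoot.lift (RingHom.id C) 0 (by rw [eval₂_pow, eval₂_X, zero_pow hN.ne'])

theorem aug_of (hN : 0 < N) (c : C) : aug C N hN (AdjoinRoot.of _ c) = c :=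
  AdjoinRoot.lift_of _

theorem aug_surjective (hN : 0 < N) : Function.Surjective (aug C N hN) :=
  fun c => ⟨AdjoinRoot.of _ c, aug_of C N hN c⟩

theorem root_pow_eq_zero : (AdjoinRoot.root ((X : C[X]) ^ N)) ^ N = 0 := by
  have h := AdjoinRoot.mk_self (f := (X : C[X]) ^ N)
  rwa [map_pow, AdjoinRoot.mk_X] at h

theorem ker_aug_le (hN : 0 < N) : RingHom.ker (aug C N hN) ≤ Ideal.jacobson ⊥ := by
  intro x hx
  obtain ⟨P, rfl⟩ := AdjoinRoot.mk_surjective x
  rw [RingHom.mem_ker, aug, AdjoinRoot.lift_mk, eval₂_id, ← coeff_zero_eq_eval_zero] at hx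
  obtain ⟨Q, rfl⟩ := Polynomial.X_dvd_iff.mpr hx
  have hnil : IsNilpotent (AdjoinRoot.mk ((X : C[X]) ^ N) (X * Q)) := by
    refine ⟨N, ?_⟩
    rw [map_mul, AdjoinRoot.mk_X, mul_pow, root_pow_eq_zero, zero_mul]
  have h1 : nilradical (AdjoinRoot ((X : C[X]) ^ N)) ≤ Ideal.jacobson ⊥ := Ideal.radical_le_jacobson
  exact h1 ((mem_nilradical).mpr hnil)

theorem isLocalRing_trunc [IsLocalRing C] (hN : 0 < N) :
    IsLocalRing (AdjoinRoot ((X : C[X]) ^ N)) :=
  Groth.Agent.Lib.Helper81.LfsLocal.isLocalRing_of_surjective_of_ker_le_jacobson (aug C N hN)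
    (aug_surjective C N hN) (ker_aug_le C N hN)

theorem isLocalHom_trunc (hN : 0 < N) :
    IsLocalHom (algebraMap C (AdjoinRoot ((X : C[X]) ^ N))) := by
  constructor
  intro c hc
  have h := hc.map (aug C N hN)
  rwa [AdjoinRoot.algebraMap_eq, aug_of] at h

theorem isGorenstein_trunc [IsLocalRing C] [IsNoetherianRing C]
    (hC : LocCoh.IsGorensteinLocalRing C) (hN : 0 < N) :
    LocCoh.IsGorensteinLocalRing (AdjoinRoot ((X : C[X]) ^ N)) := by
  haveI := isLocalRing_trunc C N hN
  haveI := isLocalHom_trunc C N hN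
  haveI : Module.Free C (AdjoinRoot ((X : C[X]) ^ N)) := (monic_X_pow N).free_adjoinRoot
  refine (Groth.Agent.Lib.Helper24.isGorensteinLocalRing_iff_of_flat_local C
    (AdjoinRoot ((X : C[X]) ^ N))).mpr ⟨hC, ?_⟩
  letI : Field (C ⧸ maximalIdeal C) := Ideal.Quotient.field _
  have h1 := isGorenstein_field_trunc (C ⧸ maximalIdeal C) N hN
  have e := AdjoinRoot.quotEquivQuotMap ((X : C[X]) ^ N) (maximalIdeal C)
  rw [Polynomial.map_pow, Polynomial.map_X] at e
  exact Groth.Agent.Lib.Helper24.isGorensteinLocalRing_of_ringEquiv e.symm.toRingEquiv h1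

end Trunc

end Groth.Agent.Lib.Helper81.TruncGoren
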