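import Mathlib
import Groth.Agent.Lib.Helper81.TruncGoren

/-!
# Iterated truncated polynomial extensions (helper81)

* `exists_build`: given a Gorenstein local ring `B`, a ring map `w : B → S` and finitely many
  elements `t i` of `S` with `t i ^ N = 0`, there is a finite free local Gorenstein `B`-algebra `E`
  (namely `B[T₁,…,Tₙ]/(Tᵢ^N)`) with a map `g : E → S` extending `w` whose range contains the `t i`.
* `surjective_of_range`: such a `g` is surjective if `w` is surjective on residue fields, the `t i`
  generate the maximal ideal of `S`, and that ideal is nilpotent.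
* `exists_pow_le`: for a finite local algebra `E` over a local ring `B`, a power of the maximal
  ideal of `E` lies in `𝔪_B E`.
-/

set_option autoImplicit false
universe u

namespace Groth.Agent.Lib.Helper81.TruncBuild

open Polynomial IsLocalRing Groth.Agent.Lib.Helper81.TruncGoren

theorem exists_build (N : ℕ) (hN : 0 < N) (B : Type u) [CommRing B] [IsLocalRing B]
    [IsNoetherianRing B] (hG : LocCoh.IsGorensteinLocalRing B) (S : Type u) [CommRing S]
    (w : B →+* S) :
    ∀ (n : ℕ) (t : Fin n → S), (∀ i, t i ^ N = 0) →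
      ∃ (E : Type u) (_ : CommRing E) (_ : Algebra B E) (g : E →+* S), IsLocalRing E ∧
        Module.Free B E ∧ Module.Finite B E ∧ IsLocalHom (algebraMap B E) ∧
        LocCoh.IsGorensteinLocalRing E ∧ g.comp (algebraMap B E) = w ∧ ∀ i, t i ∈ g.range := by
  intro n
  induction n with
  | zero =>
    intro t _
    refine ⟨B, inferInstance, inferInstance, w, inferInstance, inferInstance, inferInstance, ?_, hG,
      ?_, fun i => i.elim0⟩
    · rw [Algebra.algebraMap_self]
      infer_instance
    · rw [Algebra.algebraMap_self, RingHom.comp_id]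
  | succ n ih =>
    intro t ht
    obtain ⟨E, _, _, g, hloc, hfree, hfin, hlh, hGE, hgw, htr⟩ :=
      ih (fun i => t i.castSucc) (fun i => ht i.castSucc)
    haveI := hloc
    haveI := hfree
    haveI := hfin
    haveI := hlh
    haveI : IsNoetherianRing E := hGE.toIsNoetherian
    have hev : eval₂ g (t (Fin.last n)) ((X : E[X]) ^ N) = 0 := by
      rw [eval₂_pow, eval₂_X, ht]
    haveI : Module.Free E (AdjoinRoot ((X : E[X]) ^ N)) := (monic_X_pow N).free_adjoinRoot
    haveI : Module.Finite E (AdjoinRoot ((X : E[X]) ^ N)) := (monic_X_pow N).finite_adjoinRoot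
    haveI hlh' := isLocalHom_trunc E N hN
    refine ⟨AdjoinRoot ((X : E[X]) ^ N), inferInstance, inferInstance,
      AdjoinRoot.lift g (t (Fin.last n)) hev, isLocalRing_trunc E N hN,
      Module.Free.trans (S := E), Module.Finite.trans E _, ?_, isGorenstein_trunc E N hGE hN, ?_, ?_⟩
    · rw [IsScalarTower.algebraMap_eq B E (AdjoinRoot ((X : E[X]) ^ N))]
      exact RingHom.isLocalHom_comp _ _
    · ext b
      rw [RingHom.comp_apply, IsScalarTower.algebraMap_apply B E (AdjoinRoot ((X : E[X]) ^ N)),
        AdjoinRoot.algebraMap_eq, AdjoinRoot.lift_of, ← hgw, RingHom.comp_apply]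
    · intro i
      refine Fin.lastCases ?_ (fun j => ?_) i
      · exact ⟨AdjoinRoot.root _, AdjoinRoot.lift_root hev⟩
      · obtain ⟨e, he⟩ := htr j
        exact ⟨AdjoinRoot.of _ e, by rw [AdjoinRoot.lift_of, he]⟩

theorem surjective_of_range {S : Type*} [CommRing S] [IsLocalRing S]
    (hnil : IsNilpotent (maximalIdeal S)) {E : Type*} [CommRing E] (g : E →+* S)
    (hres : ∀ s : S, ∃ e, s - g e ∈ maximalIdeal S) {n : ℕ} (t : Fin n → S)
    (ht : Ideal.span (Set.range t) = maximalIdeal S) (htr : ∀ i, t i ∈ g.range) :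
    Function.Surjective g := by
  have key : ∀ j : ℕ, ∀ s : S, ∃ e, s - g e ∈ maximalIdeal S ^ j := by
    intro j
    induction j with
    | zero =>
      intro s
      exact ⟨0, by rw [pow_zero, Ideal.one_eq_top]; trivial⟩
    | succ j ih =>
      intro s
      obtain ⟨e₀, he₀⟩ := hres s
      rw [← ht, Ideal.mem_span_range_iff_exists_fun] at he₀
      obtain ⟨c, hc⟩ := he₀
      choose e' he' using fun i => ih (c i)
      choose τ hτ using htr
      refine ⟨e₀ + ∑ i, e' i * τ i, ?_⟩
      have h1 : s - g (e₀ + ∑ i, e' i * τ i) = ∑ i, (c i - g (e' i)) * t i := by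
        rw [map_add, map_sum, ← sub_sub, ← hc, ← Finset.sum_sub_distrib]
        refine Finset.sum_congr rfl (fun i _ => ?_)
        rw [map_mul, hτ, sub_mul]
      rw [h1]
      refine Ideal.sum_mem _ (fun i _ => ?_)
      rw [pow_succ]
      refine Ideal.mul_mem_mul (he' i) ?_
      rw [← ht]
      exact Ideal.subset_span ⟨i, rfl⟩
  obtain ⟨k, hk⟩ := hnil
  intro s
  obtain ⟨e, he⟩ := key k s
  rw [hk, Ideal.zero_eq_bot, Ideal.mem_bot, sub_eq_zero] at he
  exact ⟨e, he.symm⟩

theorem exists_pow_le (B E : Type u) [CommRing B] [IsLocalRing B] [CommRing E] [IsLocalRing E]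
    [Algebra B E] [Module.Finite B E] [IsLocalHom (algebraMap B E)] :
    ∃ r : ℕ, maximalIdeal E ^ r ≤ (maximalIdeal B).map (algebraMap B E) := by
  set I : Ideal E := (maximalIdeal B).map (algebraMap B E) with hI
  have hle : I ≤ maximalIdeal E := IsLocalRing.map_maximalIdeal_le (algebraMap B E)
  have hne : I ≠ ⊤ := fun h => (maximalIdeal.isMaximal E).ne_top (top_le_iff.mp (h ▸ hle))
  letI : Field (B ⧸ maximalIdeal B) := Ideal.Quotient.field (maximalIdeal B)
  haveI : Module.Finite (B ⧸ maximalIdeal B) (E ⧸ I) :=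
    Module.Finite.equiv
      (Algebra.TensorProduct.quotIdealMapEquivQuotTensor E (maximalIdeal B)).symm.toLinearEquiv
  haveI hart : IsArtinianRing (E ⧸ I) := IsArtinianRing.of_finite (B ⧸ maximalIdeal B) _
  haveI : Nontrivial (E ⧸ I) := Ideal.Quotient.nontrivial_iff.mpr hne
  haveI : IsLocalRing (E ⧸ I) :=
    IsLocalRing.of_surjective' (Ideal.Quotient.mk _) Ideal.Quotient.mk_surjective
  obtain ⟨r, hr⟩ := (isArtinianRing_iff_isNilpotent_maximalIdeal _).mp hart
  have h1 : (maximalIdeal E).map (Ideal.Quotient.mk I) ≤ maximalIdeal _ := by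
    rw [Ideal.map_le_iff_le_comap]
    intro x hx
    rw [Ideal.mem_comap, IsLocalRing.mem_maximalIdeal, mem_nonunits_iff]
    intro hu
    haveI : IsLocalHom (Ideal.Quotient.mk I) :=
      IsLocalHom.of_surjective _ Ideal.Quotient.mk_surjective
    exact hx (isUnit_of_map_unit _ _ hu)
  have h2 : (maximalIdeal E ^ r).map (Ideal.Quotient.mk I) = ⊥ := by
    rw [Ideal.map_pow, eq_bot_iff, ← Ideal.zero_eq_bot, ← hr]
    exact Ideal.pow_right_mono h1 r
  refine ⟨r, fun x hx => ?_⟩
  have := Ideal.mem_map_of_mem (Ideal.Quotient.mk I) hx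
  rw [h2, Ideal.mem_bot, Ideal.Quotient.eq_zero_iff_mem] at this
  exact this

end Groth.Agent.Lib.Helper81.TruncBuild
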