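import Mathlib
import Groth.Agent.Lib.Helper81.ArtFactor4
import Groth.Agent.Lib.Helper81.TruncBuild
import Groth.Agent.Lib.Helper81.CohenRing
import Groth.Agent.Lib.Helper81.CohenLift2
import Groth.Agent.Lib.Helper81.CompleteLe
import Groth.Agent.Lib.Helper81.LfsLocal
import Groth.Agent.Lib.Helper3.Henselian
import Groth.Agent.S0579

/-!
# Factorization of local maps of Artinian local rings: the two characteristic cases (helper81)
-/

set_option autoImplicit false
universe u

namespace Groth.Agent.Lib.Helper81.ArtFactor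

open TensorProduct IsLocalRing Groth.Agent.Lib.Helper81.TruncBuild
  Groth.Agent.Lib.Helper81.CohenRing Groth.Agent.Lib.Helper81.CohenLift

/-- `main` restated with ring homomorphisms instead of algebra instances. -/
theorem assemble {Λ R E S : Type u} [CommRing Λ] [IsLocalRing Λ] [IsNoetherianRing Λ] [CommRing R]
    [IsLocalRing R] [IsArtinianRing R] [CommRing E] [IsLocalRing E]
    [CommRing S] [IsLocalRing S] [Algebra R S] [IsLocalHom (algebraMap R S)]
    (a : Λ →+* R) (ρ : R →+* ResidueField Λ) (hρ : ρ.comp a = residue Λ)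
    (hGE : LocCoh.IsGorensteinLocalRing E) (g : E →+* S) (hg : Function.Surjective g)
    (l : Λ →+* E) (hl : g.comp l = (algebraMap R S).comp a)
    (hflat : letI := l.toAlgebra; Module.Flat Λ E)
    (hM : ∃ M : ℕ, maximalIdeal E ^ M ≤ (maximalIdeal Λ).map l) :
    ∃ (R' : Type u) (_ : CommRing R') (_ : Algebra R R'), IsArtinianRing R' ∧ IsLocalRing R' ∧
      Module.Flat R R' ∧ IsLocalHom (algebraMap R R') ∧
      LocCoh.IsGorensteinLocalRing (R' ⧸ (maximalIdeal R).map (algebraMap R R')) ∧
      ∃ g' : R' →ₐ[R] S, Function.Surjective g' := by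
  letI : Algebra Λ R := a.toAlgebra
  letI : Algebra Λ E := l.toAlgebra
  letI : Algebra Λ S := ((algebraMap R S).comp a).toAlgebra
  haveI : IsScalarTower Λ R S := IsScalarTower.of_algebraMap_eq (fun _ => rfl)
  haveI : Module.Flat Λ E := hflat
  haveI : IsNoetherianRing E := hGE.toIsNoetherian
  haveI : IsLocalHom (algebraMap Λ E) := by
    constructor
    intro y hy
    have h1 : IsUnit (g (l y)) := hy.map g
    have h2 : g (l y) = algebraMap R S (a y) := congrArg (fun f => f y) hl
    rw [h2] at h1
    have h3 : IsUnit (a y) := isUnit_of_map_unit (algebraMap R S) _ h1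
    have h4 : IsUnit (ρ (a y)) := h3.map ρ
    have h5 : ρ (a y) = residue Λ y := congrArg (fun f => f y) hρ
    rw [h5] at h4
    exact isUnit_of_map_unit (residue Λ) y h4
  let g' : E →ₐ[Λ] S :=
    { g with commutes' := fun y => congrArg (fun f => f y) hl }
  exact main ρ hρ hM hGE g' hg

section Common

variable (S : Type u) [CommRing S] [IsLocalRing S] [IsArtinianRing S]

/-- generators of the maximal ideal and a common nilpotency exponent. -/
theorem exists_gens : ∃ (N : ℕ) (n : ℕ) (t : Fin n → S), 0 < N ∧ maximalIdeal S ^ N = ⊥ ∧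
    Ideal.span (Set.range t) = maximalIdeal S ∧ ∀ i, t i ^ N = 0 := by
  obtain ⟨nS, hnS⟩ := isNilpotent_maximalIdeal (R := S)
  obtain ⟨n, t, ht⟩ := Submodule.fg_iff_exists_fin_generating_family.1
    (IsNoetherian.noetherian (maximalIdeal S))
  have hN : maximalIdeal S ^ (nS + 1) = ⊥ := by
    rw [pow_succ, hnS, Ideal.zero_eq_bot, Ideal.bot_mul]
  refine ⟨nS + 1, n, t, Nat.succ_pos _, hN, ht, fun i => ?_⟩
  have h1 : t i ∈ maximalIdeal S := by
    rw [← ht]
    exact Submodule.subset_span ⟨i, rfl⟩
  have h2 := Ideal.pow_mem_pow h1 (nS + 1)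
  rwa [hN, Ideal.mem_bot] at h2

end Common

section CharP

variable (R S : Type u) [CommRing R] [CommRing S] [IsArtinianRing R] [IsLocalRing R]
  [IsArtinianRing S] [IsLocalRing S] [Algebra R S] [IsLocalHom (algebraMap R S)]

set_option maxHeartbeats 1000000 in
theorem factor_charP (q : ℕ) (hq : q.Prime) [CharP (ResidueField R) q] :
    ∃ (R' : Type u) (_ : CommRing R') (_ : Algebra R R'), IsArtinianRing R' ∧ IsLocalRing R' ∧
      Module.Flat R R' ∧ IsLocalHom (algebraMap R R') ∧
      LocCoh.IsGorensteinLocalRing (R' ⧸ (maximalIdeal R).map (algebraMap R R')) ∧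
      ∃ g' : R' →ₐ[R] S, Function.Surjective g' := by
  classical
  haveI : Fact q.Prime := ⟨hq⟩
  obtain ⟨nR, hnR⟩ := isNilpotent_maximalIdeal (R := R)
  haveI : IsAdicComplete (maximalIdeal R) R :=
    Groth.Agent.Lib.Helper3.isAdicComplete_of_pow_eq_bot _ nR hnR
  obtain ⟨N, n, t, hN0, hNS, ht, htN⟩ := exists_gens S
  haveI : IsAdicComplete (maximalIdeal S) S :=
    Groth.Agent.Lib.Helper3.isAdicComplete_of_pow_eq_bot _ N hNS
  haveI : CharP (ResidueField S) q :=
    charP_of_injective_ringHom (ResidueField.map (algebraMap R S)).injective q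
  -- Cohen rings
  obtain ⟨Λ, _, _, hdomΛ, hdvrΛ, hcompΛ, hmΛ, ⟨eΛ⟩⟩ := exists_cohenRing q (ResidueField R)
  obtain ⟨W, _, _, hdomW, hdvrW, hcompW, hmW, ⟨eW⟩⟩ := exists_cohenRing q (ResidueField S)
  haveI := hdomΛ
  haveI := hdvrΛ
  haveI := hcompΛ
  haveI := hdomW
  haveI := hdvrW
  haveI := hcompW
  have hqR : (q : R) ∈ maximalIdeal R := by
    rw [← IsLocalRing.residue_eq_zero_iff, map_natCast]
    exact CharP.cast_eq_zero _ q
  have hqS : (q : S) ∈ maximalIdeal S := by
    rw [← IsLocalRing.residue_eq_zero_iff, map_natCast]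
    exact CharP.cast_eq_zero _ q
  obtain ⟨a, ha⟩ := exists_lift_complete hq hmΛ (maximalIdeal R) hqR
    ((eΛ : ResidueField Λ →+* ResidueField R).comp (residue Λ))
  obtain ⟨b, hb⟩ := exists_lift_complete hq hmW (maximalIdeal S) hqS
    ((eW : ResidueField W →+* ResidueField S).comp (residue W))
  have ha' : ∀ y, residue R (a y) = eΛ (residue Λ y) := fun y => congrArg (fun f => f y) ha
  have hb' : ∀ w, residue S (b w) = eW (residue W w) := fun w => congrArg (fun f => f w) hb
  let ρ : R →+* ResidueField Λ := (eΛ.symm : ResidueField R →+* ResidueField Λ).comp (residue R)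
  have hρ : ρ.comp a = residue Λ := by
    ext y
    change eΛ.symm (residue R (a y)) = _
    rw [ha', RingEquiv.symm_apply_apply]
  -- the ring `E`
  have hGW : LocCoh.IsGorensteinLocalRing W := Groth.Agent.S0342.result W
  obtain ⟨E, _, _, g, hlocE, hfreeE, hfinE, hlhE, hGE, hgb, htr⟩ :=
    exists_build N hN0 W hGW S b n t htN
  haveI := hlocE
  haveI := hfreeE
  haveI := hfinE
  haveI := hlhE
  have hgb' : ∀ w, g (algebraMap W E w) = b w := fun w => congrArg (fun f => f w) hgb
  have hres : ∀ s : S, ∃ e, s - g e ∈ maximalIdeal S := by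
    intro s
    obtain ⟨z, hz⟩ := eW.surjective (residue S s)
    obtain ⟨w, rfl⟩ := residue_surjective z
    refine ⟨algebraMap W E w, ?_⟩
    rw [hgb', ← IsLocalRing.residue_eq_zero_iff, map_sub, hb', hz, sub_self]
  have hg : Function.Surjective g := surjective_of_range ⟨N, hNS⟩ g hres t ht htr
  -- completeness of `E`
  haveI : IsNoetherianRing E := hGE.toIsNoetherian
  haveI : IsAdicComplete (maximalIdeal E) E :=
    Groth.Agent.Lib.Helper81.LfsLocal.isAdicComplete_of_finite_of_isLocalRing W E
  have hI : RingHom.ker g ≤ maximalIdeal E := le_maximalIdeal (RingHom.ker_ne_top g)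
  haveI : IsAdicComplete (RingHom.ker g) E :=
    Groth.Agent.Lib.Helper81.CompleteLe.isAdicComplete_of_le _ (maximalIdeal E) hI
  have hqI : (q : E) ^ N ∈ RingHom.ker g := by
    rw [RingHom.mem_ker, map_pow, map_natCast]
    have := Ideal.pow_mem_pow hqS N
    rwa [hNS, Ideal.mem_bot] at this
  let eg : (E ⧸ RingHom.ker g) ≃+* S := RingHom.quotientKerEquivOfSurjective hg
  obtain ⟨l, hl⟩ := exists_lift_complete' hq hmΛ (RingHom.ker g) N hqI
    ((eg.symm : S →+* E ⧸ RingHom.ker g).comp ((algebraMap R S).comp a))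
  have hgl : g.comp l = (algebraMap R S).comp a := by
    ext y
    have h1 : Ideal.Quotient.mk (RingHom.ker g) (l y) = eg.symm (algebraMap R S (a y)) :=
      congrArg (fun f => f y) hl
    have h2 := congrArg eg h1
    rw [RingEquiv.apply_symm_apply] at h2
    rw [RingHom.comp_apply, RingHom.comp_apply, ← h2]
    exact (RingHom.quotientKerEquivOfSurjective_apply_mk hg (l y)).symm
  -- flatness
  have hqW0 : (q : W) ≠ 0 := by
    intro h0
    apply IsDiscreteValuationRing.not_a_field W
    rw [hmW, h0, Ideal.span_singleton_eq_bot]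
  have hirr : Irreducible (q : Λ) :=
    (IsDiscreteValuationRing.irreducible_iff_uniformizer _).mpr hmΛ
  have hflat : letI := l.toAlgebra; Module.Flat Λ E := by
    letI : Algebra Λ E := l.toAlgebra
    haveI : Module.IsTorsionFree Λ E := by
      apply Module.IsTorsionFree.of_smul_eq_zero
      intro r m hrm
      by_cases hr : r = 0
      · exact Or.inl hr
      · right
        obtain ⟨j, u, hu⟩ := IsDiscreteValuationRing.eq_unit_mul_pow_irreducible hr hirr
        have h1 : l r * m = 0 := hrm
        rw [hu, map_mul, map_pow, map_natCast, mul_assoc] at h1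
        have hunit : IsUnit (l (u : Λ)) := u.isUnit.map l
        have h2 : (q : E) ^ j * m = 0 := by
          have := congrArg (fun x => ((hunit.unit⁻¹ : Eˣ) : E) * x) h1
          simpa [← mul_assoc] using this
        have h3 : ((q : W) ^ j) • m = 0 := by
          rw [Algebra.smul_def, map_pow, map_natCast]
          exact h2
        rcases smul_eq_zero.mp h3 with h | h
        · exact absurd h (pow_ne_zero j hqW0)
        · exact h
    infer_instance
  -- the power condition
  obtain ⟨M, hM⟩ := exists_pow_le W E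
  have hmap : (maximalIdeal W).map (algebraMap W E) = (maximalIdeal Λ).map l := by
    rw [hmW, hmΛ, Ideal.map_span, Ideal.map_span, Set.image_singleton, Set.image_singleton,
      map_natCast, map_natCast]
  exact assemble a ρ hρ hGE g hg l hgl hflat ⟨M, hmap ▸ hM⟩

set_option maxHeartbeats 1000000 in
theorem factor_char0 [CharZero (ResidueField R)] :
    ∃ (R' : Type u) (_ : CommRing R') (_ : Algebra R R'), IsArtinianRing R' ∧ IsLocalRing R' ∧
      Module.Flat R R' ∧ IsLocalHom (algebraMap R R') ∧
      LocCoh.IsGorensteinLocalRing (R' ⧸ (maximalIdeal R).map (algebraMap R R')) ∧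
      ∃ g' : R' →ₐ[R] S, Function.Surjective g' := by
  classical
  obtain ⟨nR, hnR⟩ := isNilpotent_maximalIdeal (R := R)
  haveI : IsAdicComplete (maximalIdeal R) R :=
    Groth.Agent.Lib.Helper3.isAdicComplete_of_pow_eq_bot _ nR hnR
  obtain ⟨N, n, t, hN0, hNS, ht, htN⟩ := exists_gens S
  haveI : IsAdicComplete (maximalIdeal S) S :=
    Groth.Agent.Lib.Helper3.isAdicComplete_of_pow_eq_bot _ N hNS
  haveI : CharZero (ResidueField S) :=
    charZero_of_injective_ringHom (ResidueField.map (algebraMap R S)).injective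
  obtain ⟨a, ha⟩ := Groth.Agent.S0579.result R
  obtain ⟨b, hb⟩ := Groth.Agent.S0579.result S
  have ha' : ∀ y, residue R (a y) = y := fun y => congrArg (fun f => f y) ha
  have hb' : ∀ w, residue S (b w) = w := fun w => congrArg (fun f => f w) hb
  let ρ : R →+* ResidueField (ResidueField R) := (residue (ResidueField R)).comp (residue R)
  have hρ : ρ.comp a = residue (ResidueField R) := by
    ext y
    change residue (ResidueField R) (residue R (a y)) = _
    rw [ha']
  -- the ring `E`
  have hGW : LocCoh.IsGorensteinLocalRing (ResidueField S) :=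
    Groth.Agent.S0342.result (ResidueField S)
  obtain ⟨E, _, _, g, hlocE, hfreeE, hfinE, hlhE, hGE, hgb, htr⟩ :=
    exists_build N hN0 (ResidueField S) hGW S b n t htN
  haveI := hlocE
  haveI := hfreeE
  haveI := hfinE
  haveI := hlhE
  have hgb' : ∀ w, g (algebraMap (ResidueField S) E w) = b w := fun w => congrArg (fun f => f w) hgb
  have hres : ∀ s : S, ∃ e, s - g e ∈ maximalIdeal S := by
    intro s
    refine ⟨algebraMap (ResidueField S) E (residue S s), ?_⟩
    rw [hgb', ← IsLocalRing.residue_eq_zero_iff, map_sub, hb', sub_self]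
  have hg : Function.Surjective g := surjective_of_range ⟨N, hNS⟩ g hres t ht htr
  -- completeness of `E`
  haveI : IsNoetherianRing E := hGE.toIsNoetherian
  haveI : IsAdicComplete (maximalIdeal (ResidueField S)) (ResidueField S) :=
    Groth.Agent.Lib.Helper3.isAdicComplete_of_pow_eq_bot _ 1
      (by rw [pow_one, IsLocalRing.maximalIdeal_eq_bot])
  haveI : IsAdicComplete (maximalIdeal E) E :=
    Groth.Agent.Lib.Helper81.LfsLocal.isAdicComplete_of_finite_of_isLocalRing (ResidueField S) E
  have hI : RingHom.ker g ≤ maximalIdeal E := le_maximalIdeal (RingHom.ker_ne_top g)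
  haveI : IsAdicComplete (RingHom.ker g) E :=
    Groth.Agent.Lib.Helper81.CompleteLe.isAdicComplete_of_le _ (maximalIdeal E) hI
  let eg : (E ⧸ RingHom.ker g) ≃+* S := RingHom.quotientKerEquivOfSurjective hg
  -- the lift
  letI : Algebra ℚ E :=
    ((algebraMap (ResidueField S) E).comp (algebraMap ℚ (ResidueField S))).toAlgebra
  haveI := Groth.Agent.S0579.formallySmooth_rat (ResidueField R)
  let f0 : ResidueField R →+* E ⧸ RingHom.ker g :=
    (eg.symm : S →+* E ⧸ RingHom.ker g).comp ((algebraMap R S).comp a)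
  obtain ⟨gg, hgg⟩ := Algebra.FormallySmooth.exists_mkₐ_comp_eq_of_isAdicComplete f0.toRatAlgHom
  let l : ResidueField R →+* E := gg.toRingHom
  have hgl : g.comp l = (algebraMap R S).comp a := by
    ext y
    have h1 : Ideal.Quotient.mk (RingHom.ker g) (l y) = eg.symm (algebraMap R S (a y)) :=
      congrArg (fun f => f y) hgg
    have h2 := congrArg eg h1
    rw [RingEquiv.apply_symm_apply] at h2
    rw [RingHom.comp_apply, RingHom.comp_apply, ← h2]
    exact (RingHom.quotientKerEquivOfSurjective_apply_mk hg (l y)).symm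
  have hflat : letI := l.toAlgebra; Module.Flat (ResidueField R) E := by
    letI : Algebra (ResidueField R) E := l.toAlgebra
    infer_instance
  obtain ⟨M, hM⟩ := exists_pow_le (ResidueField S) E
  have hmap : (maximalIdeal (ResidueField S)).map (algebraMap (ResidueField S) E) =
      (maximalIdeal (ResidueField R)).map l := by
    rw [IsLocalRing.maximalIdeal_eq_bot, IsLocalRing.maximalIdeal_eq_bot, Ideal.map_bot,
      Ideal.map_bot]
  exact assemble a ρ hρ hGE g hg l hgl hflat ⟨M, hmap ▸ hM⟩

end CharP

end Groth.Agent.Lib.Helper81.ArtFactor
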