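import Mathlib
import Groth.Prelude.Def_EGA41
import Groth.Agent.S2466
import Groth.Agent.Lib.Helper81.FieldSmooth
import Groth.Agent.Lib.Helper81.PBasisField2
import Groth.Agent.Lib.Helper81.PBasisGen

/-!
# A `p`-basis of `k` which stays `p`-independent in `K` off a finite set (helper81)
-/

set_option autoImplicit false
universe u

namespace Groth.Agent.Lib.Helper81.ArtSub

open Groth.Agent.Lib.Helper81.PBasis Groth.Agent.Lib.Helper81.PBasisEGA
  Groth.Agent.Lib.Helper81.PBasisField
open scoped TensorProduct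

section LinAlg

/-- a linear map with finitely generated kernel is injective on the span of a cofinite part of
a basis -/
theorem exists_finset_linearIndependent {R V W ι : Type*} [CommRing R] [AddCommGroup V]
    [AddCommGroup W] [Module R V] [Module R W] (e : Module.Basis ι R V) (f : V →ₗ[R] W)
    (hker : (LinearMap.ker f).FG) :
    ∃ I₁ : Finset ι, LinearIndependent R (fun i : {i : ι // i ∉ I₁} => f (e i)) := by
  classical
  obtain ⟨T, hT⟩ := hker
  let I₁ : Finset ι := T.biUnion fun t => (e.repr t).support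
  refine ⟨I₁, ?_⟩
  have hkerle : LinearMap.ker f ≤ Submodule.span R (e '' (I₁ : Set ι)) := by
    rw [← hT, Submodule.span_le]
    intro t ht
    rw [SetLike.mem_coe, e.mem_span_image]
    intro i hi
    exact Finset.mem_biUnion.2 ⟨t, ht, hi⟩
  have hli : LinearIndependent R (fun i : {i : ι // i ∉ I₁} => e i) :=
    e.linearIndependent.comp _ Subtype.val_injective
  have := hli.map (f := f) ?_
  · exact this
  · have hrange : Set.range (fun i : {i : ι // i ∉ I₁} => e i) = e '' {i | i ∉ I₁} := by
      ext v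
      constructor
      · rintro ⟨i, rfl⟩
        exact ⟨i.1, i.2, rfl⟩
      · rintro ⟨i, hi, rfl⟩
        exact ⟨⟨i, hi⟩, rfl⟩
    rw [hrange]
    refine Disjoint.mono_right hkerle ?_
    apply e.linearIndependent.disjoint_span_image
    rw [Set.disjoint_left]
    intro i hi hi'
    exact hi hi'

end LinAlg

section Diff

variable {p : ℕ} [hp : Fact p.Prime] {k₀ K : Type u} [Field k₀] [Field K] [Algebra k₀ K]
  [CharP K p]

include hp in
/-- linearly independent differentials ⇒ `p`-independent -/
theorem isPIndependent_of_linearIndependent_D {ι : Type u} (x : ι → K)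
    (h : LinearIndependent K (fun i => KaehlerDifferential.D k₀ K (x i))) :
    EGA41.IsPIndependent p k₀ x := by
  apply isPIndependent_of_forall_notMem
  intro a hmem
  have h1 := mem_algebraAdjoin_of_mem_adjoin (p := p) (x '' {b | b ≠ a}) hmem
  have hrange : x '' {b | b ≠ a} = Set.range (fun b : {b : ι // b ≠ a} => x b) := by
    ext v
    constructor
    · rintro ⟨i, hi, rfl⟩
      exact ⟨⟨i, hi⟩, rfl⟩
    · rintro ⟨i, rfl⟩
      exact ⟨i.1, i.2, rfl⟩
  rw [hrange] at h1
  have h2 := D_mem_of_mem_adjoin (p := p) (A := k₀) (fun b : {b : ι // b ≠ a} => x b)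
    (Submodule.span K ((fun i => KaehlerDifferential.D k₀ K (x i)) '' {b | b ≠ a}))
    (fun b => Submodule.subset_span ⟨b.1, b.2, rfl⟩) (x a) h1
  exact h.notMem_span_image (s := {b | b ≠ a}) (x := a) (fun h => h rfl) h2

end Diff

section Main

variable (p : ℕ) [hp : Fact p.Prime] {k K : Type u} [Field k] [Field K] [Algebra k K] [CharP k p]

include hp in
/-- the prime subfield in characteristic `p` is perfect -/
theorem perfectRing_bot : PerfectRing (⊥ : Subfield k) p := by
  let _ : Algebra (ZMod p) k := ZMod.algebra k p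
  have hbot : (⊥ : Subfield k) = (algebraMap (ZMod p) k).fieldRange :=
    Subfield.bot_eq_of_zMod_algebra p
  have : Finite (⊥ : Subfield k) := by
    rw [hbot]
    exact Set.finite_range _
  have : CharP (⊥ : Subfield k) p :=
    RingHom.charP (algebraMap (⊥ : Subfield k) k) (algebraMap (⊥ : Subfield k) k).injective p
  exact PerfectRing.ofFiniteOfIsReduced p _

omit hp in
theorem charP_bot : CharP (⊥ : Subfield k) p :=
  RingHom.charP (algebraMap (⊥ : Subfield k) k) (algebraMap (⊥ : Subfield k) k).injective p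

include hp in
/-- If `H₁(L_{K/k})` is finite, there is a `p`-basis of `k` (over the prime field) all of whose
members outside a finite set stay `p`-independent in `K`. -/
theorem exists_pBasis_cofinite_pIndependent [CharP K p]
    (hH : Module.Finite K (Algebra.H1Cotangent k K)) :
    ∃ (B₀ : Set k) (B₁ : Finset k),
      EGA41.IsPBasis p (⊥ : Subfield k) (Subtype.val : B₀ → k) ∧
      EGA41.IsPIndependent p (⊥ : Subfield k)
        (Subtype.val : ↥(algebraMap k K '' (B₀ \ ↑B₁)) → K) := by
  classical
  obtain ⟨B₀, hB₀⟩ := Groth.Agent.Lib.Helper81.FieldSmooth.exists_pBasis p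
    (k := (⊥ : Subfield k)) (K := k)
  obtain ⟨bΩ, hbΩ⟩ := Groth.Agent.S2466.result p (A := (⊥ : Subfield k)) (B := k)
    (Subtype.val : B₀ → k) hB₀
  let e : Module.Basis ↥B₀ K (K ⊗[k] Ω[k⁄(⊥ : Subfield k)]) := Algebra.TensorProduct.basis K bΩ
  let f : K ⊗[k] Ω[k⁄(⊥ : Subfield k)] →ₗ[K] Ω[K⁄(⊥ : Subfield k)] :=
    KaehlerDifferential.mapBaseChange (⊥ : Subfield k) k K
  have hker : (LinearMap.ker f).FG := by
    have hex := Algebra.H1Cotangent.exact_δ_mapBaseChange (⊥ : Subfield k) k K
    rw [hex.linearMap_ker_eq, LinearMap.range_eq_map]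
    exact Submodule.FG.map _ Module.Finite.fg_top
  obtain ⟨I₁, hI₁⟩ := exists_finset_linearIndependent e f hker
  have hfe : ∀ i, f (e i) = KaehlerDifferential.D (⊥ : Subfield k) K (algebraMap k K i) := by
    intro i
    simp only [e, f, Algebra.TensorProduct.basis_apply, KaehlerDifferential.mapBaseChange_tmul,
      hbΩ, KaehlerDifferential.map_D, one_smul]
  refine ⟨B₀, I₁.image Subtype.val, hB₀, ?_⟩
  set L : Set K := algebraMap k K '' (B₀ \ ↑(I₁.image Subtype.val)) with hL
  have hmem : ∀ i : {i : ↥B₀ // i ∉ I₁}, algebraMap k K i.1.1 ∈ L := by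
    intro i
    refine ⟨i.1.1, ⟨i.1.2, fun h => ?_⟩, rfl⟩
    rw [Finset.coe_image] at h
    obtain ⟨j, hj, hji⟩ := h
    have : j = i.1 := Subtype.ext hji
    exact i.2 (this ▸ hj)
  let e' : {i : ↥B₀ // i ∉ I₁} → ↥L := fun i => ⟨algebraMap k K i.1.1, hmem i⟩
  have hcomp : (fun i : {i : ↥B₀ // i ∉ I₁} => f (e i)) =
      (fun y : ↥L => KaehlerDifferential.D (⊥ : Subfield k) K y.1) ∘ e' := by
    funext i
    exact hfe i.1
  have he'inj : Function.Injective e' := by
    intro i j hij
    apply hI₁.injective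
    have h1 := congrFun hcomp i
    have h2 := congrFun hcomp j
    simp only [Function.comp] at h1 h2
    show f (e i.1) = f (e j.1)
    rw [h1, h2, hij]
  have he'surj : Function.Surjective e' := by
    rintro ⟨y, b, ⟨hb, hb'⟩, rfl⟩
    refine ⟨⟨⟨b, hb⟩, fun h => hb' ?_⟩, rfl⟩
    rw [Finset.coe_image]
    exact ⟨⟨b, hb⟩, h, rfl⟩
  have hliL : LinearIndependent K
      (fun y : ↥L => KaehlerDifferential.D (⊥ : Subfield k) K y.1) := by
    rw [← linearIndependent_equiv (Equiv.ofBijective e' ⟨he'inj, he'surj⟩)]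
    rw [hcomp] at hI₁
    exact hI₁
  exact isPIndependent_of_linearIndependent_D (p := p) (Subtype.val : ↥L → K) hliL

end Main

end Groth.Agent.Lib.Helper81.ArtSub
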