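import Mathlib
import Groth.Prelude.Def_EGA41
import Groth.Agent.S2467
import Groth.Agent.S4541
import Groth.Agent.Lib.Helper81.ArtSubPInd

/-!
# Coefficient fields with prescribed values on a `p`-independent set (helper81)
-/

set_option autoImplicit false
universe u

namespace Groth.Agent.Lib.Helper81.ArtSub

open Groth.Agent.Lib.Helper81.PBasis Groth.Agent.Lib.Helper81.PBasisEGA
  Groth.Agent.Lib.Helper81.PBasisField
open IsLocalRing

section Coeff

variable (p : ℕ) [hp : Fact p.Prime] {k Λ : Type u} [Field k] [CharP k p] [CommRing Λ]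
  [Algebra k Λ] [IsLocalRing Λ]

include hp in
/-- A section of the residue map with prescribed values on a `p`-independent subset of the residue
field. -/
theorem exists_section_prescribed (hnil : IsNilpotent (maximalIdeal Λ))
    (L : Set (ResidueField Λ))
    (hL : EGA41.IsPIndependent p (⊥ : Subfield k) (Subtype.val : L → ResidueField Λ))
    (z₀ : L → Λ) (hz₀ : ∀ y : L, residue Λ (z₀ y) = y.1) :
    ∃ σ : ResidueField Λ →+* Λ, (∀ c, residue Λ (σ c) = c) ∧ ∀ y : L, σ y.1 = z₀ y := by
  classical
  have : CharP (ResidueField Λ) p :=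
    charP_of_injective_algebraMap (algebraMap k (ResidueField Λ)).injective p
  have : CharP (⊥ : Subfield k) p := charP_bot p
  have : PerfectRing (⊥ : Subfield k) p := perfectRing_bot p
  -- extend to a `p`-basis
  have hS : EGA41.IsPGenerating p (⊥ : Subfield k)
      (Subtype.val : ↥(Set.univ : Set (ResidueField Λ)) → ResidueField Λ) := by
    rw [isPGenerating_iff, eq_top_iff]
    intro y _
    apply Submodule.subset_span
    refine ⟨⟨Finsupp.single ⟨y, Set.mem_univ y⟩ 1, ?_⟩, ?_⟩
    · intro i
      rw [Finsupp.single_apply]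
      split_ifs
      · exact hp.out.one_lt
      · exact hp.out.pos
    · simp [redMon]
  obtain ⟨Γ, hLΓ, -, hΓ⟩ := Groth.Agent.S2467.result p (k := (⊥ : Subfield k))
    (K := ResidueField Λ) Set.univ L (Set.subset_univ _) hS hL
  obtain ⟨-, hlift⟩ := Groth.Agent.S4541.result p (A := (⊥ : Subfield k)) (B := ResidueField Λ)
    (Subtype.val : Γ → ResidueField Λ) hΓ
  let v : ResidueField Λ →ₐ[(⊥ : Subfield k)] Λ ⧸ maximalIdeal Λ :=
    { RingHom.id (ResidueField Λ) with commutes' := fun _ => rfl }
  have hsurj : ∀ γ : Γ, ∃ x : Λ, residue Λ x = γ.1 := fun γ => residue_surjective γ.1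
  let z : Γ → Λ := fun γ => if h : γ.1 ∈ L then z₀ ⟨γ.1, h⟩ else (hsurj γ).choose
  have hz : ∀ γ : Γ, Ideal.Quotient.mk (maximalIdeal Λ) (z γ) = v γ.1 := by
    intro γ
    by_cases h : γ.1 ∈ L
    · simp only [z, dif_pos h]
      exact hz₀ ⟨γ.1, h⟩
    · simp only [z, dif_neg h]
      exact (hsurj γ).choose_spec
  obtain ⟨w, ⟨hw1, hw2⟩, -⟩ := hlift Λ (maximalIdeal Λ) hnil v z hz
  refine ⟨w.toRingHom, fun c => ?_, fun y => ?_⟩
  · have := congrArg (fun g => g c) hw1
    exact this
  · have := hw2 ⟨y.1, hLΓ y.2⟩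
    simp only [z, dif_pos y.2] at this
    exact this

end Coeff

section Gen

variable (p : ℕ) [hp : Fact p.Prime] {k : Type u} [Field k] [CharP k p]

include hp in
/-- members of the prime field lie in every subring -/
theorem mem_subring_of_mem_bot (S : Subring k) (r : k) (hr : r ∈ (⊥ : Subfield k)) : r ∈ S := by
  let _ : Algebra (ZMod p) k := ZMod.algebra k p
  have hbot : (⊥ : Subfield k) = (algebraMap (ZMod p) k).fieldRange :=
    Subfield.bot_eq_of_zMod_algebra p
  rw [hbot] at hr
  obtain ⟨c, rfl⟩ := hr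
  have : c = ((c.val : ℕ) : ZMod p) := (ZMod.natCast_zmod_val c).symm
  rw [this, map_natCast]
  exact natCast_mem S _

include hp in
/-- a subring containing a system of `p`-generators and all `p^e`-th powers is everything -/
theorem subring_eq_top_of_pow_mem {ι : Type u} (x : ι → k)
    (hx : EGA41.IsPGenerating p (⊥ : Subfield k) x) (S : Subring k) (hxS : ∀ i, x i ∈ S) :
    ∀ e : ℕ, (∀ a : k, a ^ p ^ e ∈ S) → S = ⊤ := by
  have hx' := (isPGenerating_iff_adjoin (p := p) x).1 hx
  intro e
  induction e with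
  | zero =>
    intro h
    rw [eq_top_iff]
    intro a _
    simpa using h a
  | succ e ih =>
    intro h
    apply ih
    have hA' : ∀ c : k, c ∈ Algebra.adjoin (⊥ : Subfield k) (Set.range fun b : k => b ^ p) →
        c ^ p ^ e ∈ S := by
      intro c hc
      induction hc using Algebra.adjoin_induction with
      | mem b hb =>
        obtain ⟨b, rfl⟩ := hb
        have : (b ^ p) ^ p ^ e = b ^ p ^ (e + 1) := by
          rw [← pow_mul, pow_succ']
        show (b ^ p) ^ p ^ e ∈ S
        rw [this]
        exact h b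
      | algebraMap r => exact S.pow_mem (mem_subring_of_mem_bot p S _ r.2) _
      | add b c _ _ hb hc =>
        rw [add_pow_char_pow]
        exact S.add_mem hb hc
      | mul b c _ _ hb hc =>
        rw [mul_pow]
        exact S.mul_mem hb hc
    intro a
    have ha : a ∈ Algebra.adjoin (EGA41.pPowerSubalgebra p (⊥ : Subfield k) k) (Set.range x) := by
      rw [hx']; trivial
    induction ha using Algebra.adjoin_induction with
    | mem a ha =>
      obtain ⟨i, rfl⟩ := ha
      exact S.pow_mem (hxS i) _
    | algebraMap c =>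
      exact hA' c.1 c.2
    | add b c _ _ hb hc =>
      rw [add_pow_char_pow]
      exact S.add_mem hb hc
    | mul b c _ _ hb hc =>
      rw [mul_pow]
      exact S.mul_mem hb hc

end Gen

section Agree

variable (p : ℕ) [hp : Fact p.Prime] {k Λ : Type u} [Field k] [CharP k p] [CommRing Λ]
  [Algebra k Λ] [IsLocalRing Λ]

include hp in
/-- A subring of `Λ` containing `σ(k̄)` and the images of a system of `p`-generators of `k`
contains the image of `k`. -/
theorem algebraMap_mem_of_section (σ : ResidueField Λ →+* Λ) (hσ : ∀ c, residue Λ (σ c) = c)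
    (N : ℕ) (hN : maximalIdeal Λ ^ N = ⊥) (B₀ : Set k)
    (hB₀ : EGA41.IsPGenerating p (⊥ : Subfield k) (Subtype.val : B₀ → k)) (R : Subring Λ)
    (hσR : ∀ c : k, σ (algebraMap k (ResidueField Λ) c) ∈ R)
    (hB : ∀ b ∈ B₀, algebraMap k Λ b ∈ R) (a : k) : algebraMap k Λ a ∈ R := by
  have : CharP Λ p := charP_of_injective_algebraMap (algebraMap k Λ).injective p
  have htop := subring_eq_top_of_pow_mem p (Subtype.val : B₀ → k) hB₀
    (R.comap (algebraMap k Λ)) (fun i => hB i.1 i.2) N ?_
  · have : a ∈ R.comap (algebraMap k Λ) := by rw [htop]; trivial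
    exact this
  · intro a
    show algebraMap k Λ (a ^ p ^ N) ∈ R
    have hd : algebraMap k Λ a - σ (algebraMap k (ResidueField Λ) a) ∈ maximalIdeal Λ := by
      rw [← Ideal.Quotient.eq_zero_iff_mem]
      show residue Λ _ = 0
      rw [map_sub, hσ]
      exact sub_self _
    have hpow : (algebraMap k Λ a - σ (algebraMap k (ResidueField Λ) a)) ^ p ^ N = 0 := by
      have h1 := Ideal.pow_mem_pow hd (p ^ N)
      have h2 : maximalIdeal Λ ^ p ^ N ≤ maximalIdeal Λ ^ N :=
        Ideal.pow_le_pow_right (Nat.lt_pow_self hp.out.one_lt).le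
      have h3 := h2 h1
      rw [hN] at h3
      exact h3
    rw [sub_pow_char_pow, sub_eq_zero] at hpow
    rw [map_pow, hpow]
    exact R.pow_mem (hσR a) _

end Agree

end Groth.Agent.Lib.Helper81.ArtSub
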