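import Mathlib

/-!
# Nilpotent thickenings of essentially finite type algebras (helper81)

If `π : A → F` is a surjection of `k`-algebras with finitely generated nilpotent kernel and `F` is
essentially of finite type over `k`, then so is `A`.
-/

set_option autoImplicit false

namespace Groth.Agent.Lib.Helper81.ArtSub

variable {k A F : Type*} [CommRing k] [CommRing A] [Algebra k A] [CommRing F] [Algebra k F]

/-- the "localization inside `A`" of a subalgebra at the elements that are units of `A` -/
def locSub (A' : Subalgebra k A) : Subalgebra k A where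
  carrier := {a | ∃ t ∈ A', IsUnit t ∧ a * t ∈ A'}
  mul_mem' := by
    rintro a b ⟨t, ht, htu, hat⟩ ⟨s, hs, hsu, hbs⟩
    refine ⟨t * s, A'.mul_mem ht hs, htu.mul hsu, ?_⟩
    have : a * b * (t * s) = (a * t) * (b * s) := by ring
    rw [this]
    exact A'.mul_mem hat hbs
  add_mem' := by
    rintro a b ⟨t, ht, htu, hat⟩ ⟨s, hs, hsu, hbs⟩
    refine ⟨t * s, A'.mul_mem ht hs, htu.mul hsu, ?_⟩
    have : (a + b) * (t * s) = (a * t) * s + (b * s) * t := by ring
    rw [this]
    exact A'.add_mem (A'.mul_mem hat hs) (A'.mul_mem hbs ht)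
  algebraMap_mem' := fun r => ⟨1, A'.one_mem, isUnit_one, by
    rw [mul_one]; exact A'.algebraMap_mem r⟩

theorem le_locSub (A' : Subalgebra k A) : A' ≤ locSub A' := fun a ha =>
  ⟨1, A'.one_mem, isUnit_one, by rw [mul_one]; exact ha⟩

theorem essFiniteType_of_surjective_of_nilpotent_ker [Algebra.EssFiniteType k F]
    (π : A →ₐ[k] F) (hπ : Function.Surjective π) (hfg : (RingHom.ker π).FG)
    (hnil : IsNilpotent (RingHom.ker π)) : Algebra.EssFiniteType k A := by
  classical
  set I : Ideal A := RingHom.ker π with hI
  obtain ⟨N, hN⟩ := hnil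
  obtain ⟨s₂, hs₂⟩ := hfg
  -- lift the generators of `F`
  obtain ⟨σF, hσF⟩ := (Algebra.essFiniteType_iff (R := k) (S := F)).1 inferInstance
  choose lift hlift using hπ
  let s₁ : Finset A := σF.image lift
  let A' : Subalgebra k A := Algebra.adjoin k ((s₁ ∪ s₂ : Finset A) : Set A)
  have hmapA' : Algebra.adjoin k (σF : Set F) ≤ A'.map π := by
    apply Algebra.adjoin_le
    intro c hc
    refine ⟨lift c, Algebra.subset_adjoin ?_, hlift c⟩
    rw [Finset.mem_coe, Finset.mem_union]
    exact Or.inl (Finset.mem_image_of_mem _ hc)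
  -- units lift
  have hunit : ∀ t : A, IsUnit (π t) → IsUnit t := by
    intro t ht
    obtain ⟨u, hu⟩ := ht.exists_right_inv
    have hker : 1 - t * lift u ∈ I := by
      rw [hI, RingHom.mem_ker, map_sub, map_one, map_mul, hlift, hu, sub_self]
    have hnilp : IsNilpotent (1 - t * lift u) := ⟨N, by
      have := Ideal.pow_mem_pow hker N
      rw [hN] at this
      exact this⟩
    have h1 : IsUnit (t * lift u) := by
      have := hnilp.isUnit_one_sub
      rwa [sub_sub_cancel] at this
    exact isUnit_of_mul_isUnit_left h1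
  -- approximation modulo `I`
  have happrox : ∀ a : A, ∃ u ∈ locSub A', a - u ∈ I := by
    intro a
    obtain ⟨tb, htb, htbu, hatb⟩ := hσF (π a)
    obtain ⟨t, ht, rfl⟩ := hmapA' htb
    obtain ⟨u, hu, hu'⟩ := hmapA' hatb
    have htu : IsUnit t := hunit t htbu
    obtain ⟨t', ht'⟩ := htu.exists_right_inv
    refine ⟨u * t', ⟨t, ht, htu, ?_⟩, ?_⟩
    · have : u * t' * t = u * (t * t') := by ring
      rw [this, ht', mul_one]
      exact hu
    · have h1 : a - u * t' = (a * t - u) * t' := by
        have : (a * t - u) * t' = a * (t * t') - u * t' := by ring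
        rw [this, ht', mul_one]
      rw [h1]
      apply Ideal.mul_mem_right
      rw [hI, RingHom.mem_ker, map_sub, map_mul]
      have : π u = π a * π t := hu'
      rw [this, sub_self]
  have hs₂mem : ∀ s ∈ s₂, s ∈ locSub A' := fun s hs =>
    le_locSub A' (Algebra.subset_adjoin (by
      rw [Finset.mem_coe, Finset.mem_union]; exact Or.inr hs))
  -- the key step
  have hstep : ∀ i : ℕ, ∀ a ∈ I ^ i, ∃ u ∈ locSub A', a - u ∈ I ^ (i + 1) := by
    intro i
    induction i with
    | zero =>
      intro a _
      obtain ⟨u, hu, hau⟩ := happrox a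
      exact ⟨u, hu, by rwa [zero_add, pow_one]⟩
    | succ i ih =>
      intro a ha
      rw [pow_succ] at ha
      refine Submodule.mul_induction_on ha ?_ ?_
      · intro x hx y hy
        have hy' : y ∈ Ideal.span (s₂ : Set A) := by rw [hs₂]; exact hy
        clear hy
        induction hy' using Submodule.span_induction generalizing x with
        | mem s hs =>
          obtain ⟨u₀, hu₀, hxu₀⟩ := ih x hx
          refine ⟨u₀ * s, (locSub A').mul_mem hu₀ (hs₂mem s hs), ?_⟩
          have : x * s - u₀ * s = (x - u₀) * s := by ring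
          rw [this, pow_succ (I) (i + 1)]
          refine Ideal.mul_mem_mul hxu₀ ?_
          rw [← hs₂]
          exact Ideal.subset_span hs
        | zero => exact ⟨0, (locSub A').zero_mem, by simp⟩
        | add y y' _ _ hy hy' =>
          obtain ⟨u, hu, h1⟩ := hy x hx
          obtain ⟨u', hu', h2⟩ := hy' x hx
          refine ⟨u + u', (locSub A').add_mem hu hu', ?_⟩
          have : x * (y + y') - (u + u') = (x * y - u) + (x * y' - u') := by ring
          rw [this]
          exact Ideal.add_mem _ h1 h2
        | smul c y _ hy =>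
          obtain ⟨u, hu, h1⟩ := hy (x * c) (Ideal.mul_mem_right _ _ hx)
          refine ⟨u, hu, ?_⟩
          have : x * (c • y) - u = x * c * y - u := by rw [smul_eq_mul]; ring
          rw [this]
          exact h1
      · rintro x y ⟨u, hu, h1⟩ ⟨u', hu', h2⟩
        refine ⟨u + u', (locSub A').add_mem hu hu', ?_⟩
        have : x + y - (u + u') = (x - u) + (y - u') := by ring
        rw [this]
        exact Ideal.add_mem _ h1 h2
  have hall : ∀ i : ℕ, ∀ a : A, ∃ u ∈ locSub A', a - u ∈ I ^ i := by
    intro i
    induction i with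
    | zero =>
      intro a
      exact ⟨0, (locSub A').zero_mem, by rw [pow_zero, Ideal.one_eq_top]; trivial⟩
    | succ i ih =>
      intro a
      obtain ⟨u, hu, h1⟩ := ih a
      obtain ⟨u', hu', h2⟩ := hstep i _ h1
      refine ⟨u + u', (locSub A').add_mem hu hu', ?_⟩
      have : a - (u + u') = a - u - u' := by ring
      rw [this]
      exact h2
  rw [Algebra.essFiniteType_iff]
  refine ⟨s₁ ∪ s₂, fun a => ?_⟩
  obtain ⟨u, hu, h1⟩ := hall N a
  rw [hN, Ideal.zero_eq_bot, Ideal.mem_bot, sub_eq_zero] at h1
  rw [h1]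
  exact hu

end Groth.Agent.Lib.Helper81.ArtSub
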