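import Mathlib

/-!
# Subrings cut out by a subfield of coefficients (helper81)

Let `Λ` be a finite algebra over a field `K` with basis `b`, and `F ⊆ K` a subfield containing
the structure constants.  The elements with coordinates in `F` form a subring `A`, and `Λ` is free
over `A`.
-/

set_option autoImplicit false

namespace Groth.Agent.Lib.Helper81.ArtSub

variable {K Λ : Type*} [Field K] [CommRing Λ] [Algebra K Λ] {ι : Type*} [Fintype ι]
  (b : Module.Basis ι K Λ) (F : Subfield K)

/-- the subring of elements whose coordinates lie in `F` -/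
def coeffSubring (h1 : ∀ i, b.repr 1 i ∈ F) (hmul : ∀ i j l, b.repr (b i * b j) l ∈ F) :
    Subring Λ where
  carrier := {x | ∀ i, b.repr x i ∈ F}
  mul_mem' := by
    intro x y hx hy l
    have hxy : x * y = ∑ i, ∑ j, (b.repr x i * b.repr y j) • (b i * b j) := by
      conv_lhs => rw [← b.sum_repr x, ← b.sum_repr y]
      rw [Finset.sum_mul_sum]
      refine Finset.sum_congr rfl fun i _ => Finset.sum_congr rfl fun j _ => ?_
      rw [smul_mul_smul_comm]
    rw [hxy]
    simp only [map_sum, map_smul, Finsupp.coe_finsetSum, Finsupp.coe_smul, Finset.sum_apply,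
      Pi.smul_apply, smul_eq_mul]
    exact F.sum_mem fun i _ => F.sum_mem fun j _ => F.mul_mem (F.mul_mem (hx i) (hy j)) (hmul i j l)
  one_mem' := h1
  add_mem' := by
    intro x y hx hy l
    rw [map_add, Finsupp.add_apply]
    exact F.add_mem (hx l) (hy l)
  zero_mem' := by
    intro l
    rw [map_zero, Finsupp.zero_apply]
    exact F.zero_mem
  neg_mem' := by
    intro x hx l
    rw [map_neg, Finsupp.neg_apply]
    exact F.neg_mem (hx l)

theorem mem_coeffSubring (h1 : ∀ i, b.repr 1 i ∈ F) (hmul : ∀ i j l, b.repr (b i * b j) l ∈ F)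
    (x : Λ) : x ∈ coeffSubring b F h1 hmul ↔ ∀ i, b.repr x i ∈ F := Iff.rfl

section Free

variable {k : Type*} [CommRing k] [Algebra k Λ] (A : Subalgebra k Λ)
  (hA : ∀ x, x ∈ A ↔ ∀ i, b.repr x i ∈ F)

omit [Fintype ι] in
include hA in
theorem algebraMap_mem_of_mem {c : K} (hc : c ∈ F) : algebraMap K Λ c ∈ A := by
  rw [hA]
  intro i
  rw [Algebra.algebraMap_eq_smul_one, map_smul, Finsupp.smul_apply, smul_eq_mul]
  exact F.mul_mem hc ((hA 1).1 A.one_mem i)

omit [Fintype ι] in
include hA in
theorem basis_mem (i : ι) : b i ∈ A := by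
  classical
  rw [hA]
  intro j
  rw [b.repr_self, Finsupp.single_apply]
  split_ifs
  · exact F.one_mem
  · exact F.zero_mem

include hA in
/-- `Λ` is free over `A` -/
theorem free_of_mem_iff : Module.Free A Λ := by
  classical
  let κ := Module.Basis.ofVectorSpace F K
  let v : Module.Basis.ofVectorSpaceIndex F K → Λ := fun j => algebraMap K Λ (κ j)
  have hli : LinearIndependent A v := by
    rw [linearIndependent_iff']
    intro s g hg j hj
    have hcoord : ∀ l, ∑ j ∈ s, (⟨b.repr (g j : Λ) l, (hA _).1 (g j).2 l⟩ : F) • κ j = 0 := by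
      intro l
      have h1 := congrArg (fun x => b.repr x l) hg
      simp only [map_sum, Finsupp.coe_finsetSum, Finset.sum_apply, map_zero,
        Finsupp.zero_apply] at h1
      rw [← h1]
      refine Finset.sum_congr rfl fun j _ => ?_
      have h2 : g j • v j = κ j • (g j : Λ) := by
        show (g j : Λ) * algebraMap K Λ (κ j) = κ j • (g j : Λ)
        rw [Algebra.smul_def, mul_comm]
      rw [h2, map_smul, Finsupp.smul_apply, smul_eq_mul, Subfield.smul_def, smul_eq_mul, mul_comm]
    have hzero : ∀ l, b.repr (g j : Λ) l = 0 := by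
      intro l
      have := linearIndependent_iff'.1 κ.linearIndependent s _ (hcoord l) j hj
      exact congrArg Subtype.val this
    have : (g j : Λ) = 0 := by
      apply b.repr.injective
      ext l
      rw [hzero l, map_zero, Finsupp.zero_apply]
    exact Subtype.ext this
  have hspan : ⊤ ≤ Submodule.span A (Set.range v) := by
    have hK : ∀ c : K, algebraMap K Λ c ∈ Submodule.span A (Set.range v) := by
      intro c
      have hc : c ∈ Submodule.span F (Set.range κ) := by rw [κ.span_eq]; trivial
      induction hc using Submodule.span_induction with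
      | mem c hc =>
        obtain ⟨j, rfl⟩ := hc
        exact Submodule.subset_span ⟨j, rfl⟩
      | zero => rw [map_zero]; exact Submodule.zero_mem _
      | add c d _ _ hc hd => rw [map_add]; exact Submodule.add_mem _ hc hd
      | smul f c _ hc =>
        have : algebraMap K Λ (f • c) =
            (⟨algebraMap K Λ f, algebraMap_mem_of_mem b F A hA f.2⟩ : A) • algebraMap K Λ c := by
          show algebraMap K Λ ((f : K) * c) = algebraMap K Λ f * algebraMap K Λ c
          rw [map_mul]
        rw [this]
        exact Submodule.smul_mem _ _ hc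
    intro x _
    rw [← b.sum_repr x]
    refine Submodule.sum_mem _ fun i _ => ?_
    have : b.repr x i • b i = (⟨b i, basis_mem b F A hA i⟩ : A) • algebraMap K Λ (b.repr x i) := by
      show b.repr x i • b i = b i * algebraMap K Λ (b.repr x i)
      rw [Algebra.smul_def, mul_comm]
    rw [this]
    exact Submodule.smul_mem _ _ (hK _)
  exact Module.Free.of_basis (Module.Basis.mk hli hspan)

end Free

end Groth.Agent.Lib.Helper81.ArtSub
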