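import Mathlib
import Groth.Agent.Lib.Helper81.ArtSubFree
import Groth.Agent.Lib.Helper81.ArtSubEss

/-!
# Artinian local algebras as unions of essentially finite type subalgebras: algebra part
(helper81)
-/

set_option autoImplicit false
universe u

namespace Groth.Agent.Lib.Helper81.ArtSub

open IsLocalRing

theorem isArtinianRing_of_faithfullyFlat (A Λ : Type*) [CommRing A] [CommRing Λ] [Algebra A Λ]
    [Module.FaithfullyFlat A Λ] [IsArtinianRing Λ] : IsArtinianRing A := by
  have hsm : StrictMono (fun I : Ideal A => I.map (algebraMap A Λ)) :=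
    Monotone.strictMono_of_injective (fun _ _ h => Ideal.map_mono h) (fun I J h => by
      have h' : I.map (algebraMap A Λ) = J.map (algebraMap A Λ) := h
      rw [← Ideal.comap_map_eq_self_of_faithfullyFlat (B := Λ) I, h',
        Ideal.comap_map_eq_self_of_faithfullyFlat])
  exact hsm.wellFoundedLT

variable {k Λ : Type u} [Field k] [CommRing Λ] [Algebra k Λ] [IsArtinianRing Λ] [IsLocalRing Λ]

/-- Given a coefficient field `σ` of the Artinian local `k`-algebra `Λ` and a finite set `B₁ ⊆ k`
such that any subring of `Λ` containing `σ(k̄)` and the image of `B₁` contains the image of `k`,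
every finite subset of `Λ` lies in a good subalgebra. -/
theorem exists_subalgebra_of_section (σ : ResidueField Λ →+* Λ)
    (hσ : ∀ c, residue Λ (σ c) = c) (B₁ : Finset k)
    (hk : ∀ R : Subring Λ, (∀ c : k, σ (algebraMap k (ResidueField Λ) c) ∈ R) →
      (∀ b ∈ B₁, algebraMap k Λ b ∈ R) → ∀ a : k, algebraMap k Λ a ∈ R)
    (E : Finset Λ) :
    ∃ (A : Subalgebra k Λ) (_ : IsLocalRing A), (↑E : Set Λ) ⊆ A ∧ IsArtinianRing A ∧
      Module.Flat A Λ ∧ Algebra.EssFiniteType k A ∧
      (maximalIdeal A).map (algebraMap A Λ) = maximalIdeal Λ := by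
  classical
  -- nilpotency
  have hnil : IsNilpotent (maximalIdeal Λ) := by
    have := IsArtinianRing.isNilpotent_jacobson_bot (R := Λ)
    rwa [IsLocalRing.jacobson_eq_maximalIdeal ⊥ bot_ne_top] at this
  letI algKΛ : Algebra (ResidueField Λ) Λ := σ.toAlgebra
  let ρ : Λ →ₐ[ResidueField Λ] ResidueField Λ := { residue Λ with commutes' := hσ }
  haveI : Module.Finite (ResidueField Λ) Λ := by
    refine Module.finite_of_surjective_of_ker_le_nilradical ρ residue_surjective ?_
      (IsNoetherian.noetherian _)
    intro x hx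
    have hx' : x ∈ maximalIdeal Λ := by
      rw [← IsLocalRing.ker_residue]; exact hx
    obtain ⟨N, hN⟩ := hnil
    rw [mem_nilradical]
    refine ⟨N, ?_⟩
    have := Ideal.pow_mem_pow hx' N
    rw [hN] at this
    exact this
  let b := Module.finBasis (ResidueField Λ) Λ
  obtain ⟨T, hT⟩ : (maximalIdeal Λ).FG := IsNoetherian.noetherian _
  let E' : Finset Λ := E ∪ T ∪ B₁.image (algebraMap k Λ)
  let C : Finset (ResidueField Λ) :=
    (Finset.univ.image fun i => b.repr 1 i) ∪
    (Finset.univ.image fun t : Fin _ × Fin _ × Fin _ => b.repr (b t.1 * b t.2.1) t.2.2) ∪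
    ((E' ×ˢ Finset.univ).image fun t => b.repr t.1 t.2) ∪
    (Finset.univ.image fun i => residue Λ (b i))
  let F : IntermediateField k (ResidueField Λ) := IntermediateField.adjoin k (C : Set (ResidueField Λ))
  have hC1 : ∀ i, b.repr 1 i ∈ F.toSubfield := fun i =>
    IntermediateField.subset_adjoin k _ (by
      simp only [C, Finset.coe_union, Finset.coe_image, Set.mem_union, Set.mem_image]
      exact Or.inl (Or.inl (Or.inl ⟨i, Finset.mem_coe.2 (Finset.mem_univ _), rfl⟩)))
  have hC2 : ∀ i j l, b.repr (b i * b j) l ∈ F.toSubfield := fun i j l =>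
    IntermediateField.subset_adjoin k _ (by
      simp only [C, Finset.coe_union, Finset.coe_image, Set.mem_union, Set.mem_image]
      exact Or.inl (Or.inl (Or.inr ⟨(i, j, l), Finset.mem_coe.2 (Finset.mem_univ _), rfl⟩)))
  have hC3 : ∀ x ∈ E', ∀ i, b.repr x i ∈ F.toSubfield := fun x hx i =>
    IntermediateField.subset_adjoin k _ (by
      simp only [C, Finset.coe_union, Finset.coe_image, Set.mem_union, Set.mem_image]
      exact Or.inl (Or.inr ⟨(x, i), Finset.mem_coe.2 (Finset.mem_product.2 ⟨hx, Finset.mem_univ _⟩),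
        rfl⟩))
  have hC4 : ∀ i, residue Λ (b i) ∈ F := fun i =>
    IntermediateField.subset_adjoin k _ (by
      simp only [C, Finset.coe_union, Finset.coe_image, Set.mem_union, Set.mem_image]
      exact Or.inr ⟨i, Finset.mem_coe.2 (Finset.mem_univ _), rfl⟩)
  let A₀ : Subring Λ := coeffSubring b F.toSubfield hC1 hC2
  have hσA₀ : ∀ c : ResidueField Λ, c ∈ F → σ c ∈ A₀ := by
    intro c hc i
    have : σ c = c • (1 : Λ) := by
      rw [Algebra.smul_def, mul_one]; rfl
    rw [this, map_smul, Finsupp.smul_apply, smul_eq_mul]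
    exact F.toSubfield.mul_mem hc (hC1 i)
  let A : Subalgebra k Λ :=
    { A₀.toSubsemiring with
      algebraMap_mem' := fun a => hk A₀ (fun c => hσA₀ _ (F.algebraMap_mem c))
        (fun b' hb' => hC3 _ (Finset.mem_union_right _ (Finset.mem_image_of_mem _ hb'))) a }
  have hA : ∀ x, x ∈ A ↔ ∀ i, b.repr x i ∈ F.toSubfield := fun x => Iff.rfl
  have hE'A : ∀ x ∈ E', x ∈ A := fun x hx => hC3 x hx
  haveI hfree : Module.Free A Λ := free_of_mem_iff b F.toSubfield A hA
  haveI hff : Module.FaithfullyFlat A Λ := inferInstance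
  haveI hlocA : IsLocalRing A := Module.FaithfullyFlat.isLocalRing A Λ
  haveI hlochom : IsLocalHom (algebraMap A Λ) := inferInstance
  haveI hartA : IsArtinianRing A := isArtinianRing_of_faithfullyFlat A Λ
  have hcomap : (maximalIdeal Λ).comap (algebraMap A Λ) = maximalIdeal A :=
    ((IsLocalRing.local_hom_TFAE (algebraMap A Λ)).out 0 4).1 hlochom
  refine ⟨A, hlocA, ?_, hartA, inferInstance, ?_, ?_⟩
  · intro x hx
    exact hE'A x (Finset.mem_union_left _ (Finset.mem_union_left _ hx))
  · -- essentially of finite type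
    let ρk : Λ →ₐ[k] ResidueField Λ := IsScalarTower.toAlgHom k Λ (ResidueField Λ)
    have hρk : ∀ x, ρk x = residue Λ x := fun x => rfl
    have hπ₀ : ∀ a : A, (ρk.comp A.val) a ∈ F.toSubalgebra := by
      intro a
      show ρk (a : Λ) ∈ F
      rw [hρk, ← b.sum_repr (a : Λ), map_sum]
      refine F.sum_mem fun i _ => ?_
      have : residue Λ (b.repr (a : Λ) i • b i) = b.repr (a : Λ) i * residue Λ (b i) := by
        rw [Algebra.smul_def, map_mul]
        congr 1
        exact hσ _
      rw [this]
      exact F.mul_mem ((hA a).1 a.2 i) (hC4 i)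
    let π : A →ₐ[k] F.toSubalgebra := (ρk.comp A.val).codRestrict F.toSubalgebra hπ₀
    have hπsurj : Function.Surjective π := by
      rintro ⟨c, hc⟩
      refine ⟨⟨σ c, hσA₀ c hc⟩, Subtype.ext ?_⟩
      exact hσ c
    have hker : RingHom.ker π = maximalIdeal A := by
      ext a
      rw [RingHom.mem_ker, ← hcomap, Ideal.mem_comap]
      constructor
      · intro h
        have h1 := congrArg Subtype.val h
        exact (residue_eq_zero_iff _).1 h1
      · intro h
        exact Subtype.ext ((residue_eq_zero_iff _).2 h)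
    haveI : Algebra.EssFiniteType k F :=
      IntermediateField.essFiniteType_iff.2 (IntermediateField.fg_adjoin_finset C)
    haveI : Algebra.EssFiniteType k F.toSubalgebra := ‹Algebra.EssFiniteType k F›
    have hnilA : IsNilpotent (maximalIdeal A) := by
      have := IsArtinianRing.isNilpotent_jacobson_bot (R := A)
      rwa [IsLocalRing.jacobson_eq_maximalIdeal ⊥ bot_ne_top] at this
    refine essFiniteType_of_surjective_of_nilpotent_ker π hπsurj ?_ ?_
    · rw [hker]; exact IsNoetherian.noetherian _
    · rw [hker]; exact hnilA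
  · apply le_antisymm
    · exact Ideal.map_le_iff_le_comap.2 hcomap.ge
    · rw [← hT, Ideal.span_le]
      intro t ht
      have htA : t ∈ A := hE'A t (Finset.mem_union_left _ (Finset.mem_union_right _ ht))
      have htm : (⟨t, htA⟩ : A) ∈ maximalIdeal A := by
        rw [← hcomap, Ideal.mem_comap]
        show t ∈ maximalIdeal Λ
        rw [← hT]
        exact Ideal.subset_span ht
      exact Ideal.mem_map_of_mem (algebraMap A Λ) htm

end Groth.Agent.Lib.Helper81.ArtSub
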