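import Mathlib
import Groth.Agent.Lib.Helper81.ArtSubFree
import Groth.Agent.Lib.Helper81.ArtSubEss
import Groth.Agent.Lib.Helper81.ArtSubMain

/-!
# Artinian local algebras as unions of essentially finite type subalgebras: refined version with
generators of the residue field taken from a prescribed subring (helper81)
-/

set_option autoImplicit false
universe u

namespace Groth.Agent.Lib.Helper81.ArtSub

open IsLocalRing


/-- the differential of an element mapping into a subfield generated by images of `S` lies in the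
span of the differentials of `S` -/
theorem D_mem_span_of_mem_adjoin {k K' K : Type*} [Field k] [Field K'] [Field K] [Algebra k K']
    [Algebra k K] (g : K' →ₐ[k] K) (S : Set K') (x : K')
    (hx : g x ∈ IntermediateField.adjoin k (g '' S)) :
    KaehlerDifferential.D k K' x ∈
      Submodule.span K' ((fun s => KaehlerDifferential.D k K' s) '' S) := by
  have hinj : Function.Injective g := g.toRingHom.injective
  suffices h : ∀ f (_ : f ∈ IntermediateField.adjoin k (g '' S)), ∃ x, g x = f ∧
      KaehlerDifferential.D k K' x ∈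
        Submodule.span K' ((fun s => KaehlerDifferential.D k K' s) '' S) by
    obtain ⟨x', hx', h'⟩ := h _ hx
    rwa [hinj hx'] at h'
  intro f hf
  induction hf using IntermediateField.adjoin_induction with
  | mem f hf =>
    obtain ⟨s, hs, rfl⟩ := hf
    exact ⟨s, rfl, Submodule.subset_span ⟨s, hs, rfl⟩⟩
  | algebraMap r =>
    refine ⟨algebraMap k K' r, AlgHom.commutes _ _, ?_⟩
    rw [Derivation.map_algebraMap]
    exact Submodule.zero_mem _
  | add f₁ f₂ _ _ h₁ h₂ =>
    obtain ⟨x₁, rfl, h₁⟩ := h₁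
    obtain ⟨x₂, rfl, h₂⟩ := h₂
    exact ⟨x₁ + x₂, map_add _ _ _, by rw [map_add]; exact Submodule.add_mem _ h₁ h₂⟩
  | inv f _ h =>
    obtain ⟨x₁, rfl, h₁⟩ := h
    refine ⟨x₁⁻¹, map_inv₀ _ _, ?_⟩
    by_cases h0 : x₁ = 0
    · rw [h0, inv_zero, map_zero]
      exact Submodule.zero_mem _
    · have h1 : KaehlerDifferential.D k K' (x₁ * x₁⁻¹) = 0 := by
        rw [mul_inv_cancel₀ h0]
        exact Derivation.map_one_eq_zero _
      rw [Derivation.leibniz] at h1
      have h2 : KaehlerDifferential.D k K' x₁⁻¹ =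
          -(x₁⁻¹ • (x₁⁻¹ • KaehlerDifferential.D k K' x₁)) := by
        have h3 : x₁ • KaehlerDifferential.D k K' x₁⁻¹ =
            -(x₁⁻¹ • KaehlerDifferential.D k K' x₁) := eq_neg_of_add_eq_zero_left h1
        rw [← smul_neg, ← h3, smul_smul, inv_mul_cancel₀ h0, one_smul]
      rw [h2]
      exact Submodule.neg_mem _ (Submodule.smul_mem _ _ (Submodule.smul_mem _ _ h₁))
  | mul f₁ f₂ _ _ h₁ h₂ =>
    obtain ⟨x₁, rfl, h₁⟩ := h₁
    obtain ⟨x₂, rfl, h₂⟩ := h₂
    refine ⟨x₁ * x₂, map_mul _ _ _, ?_⟩
    rw [Derivation.leibniz]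
    exact Submodule.add_mem _ (Submodule.smul_mem _ _ h₂) (Submodule.smul_mem _ _ h₁)

variable {k Λ : Type u} [Field k] [CommRing Λ] [Algebra k Λ] [IsArtinianRing Λ] [IsLocalRing Λ]

/-- Given a coefficient field `σ` of the Artinian local `k`-algebra `Λ` and a finite set `B₁ ⊆ k`
such that any subring of `Λ` containing `σ(k̄)` and the image of `B₁` contains the image of `k`,
every finite subset of `Λ` lies in a good subalgebra. -/
theorem exists_subalgebra_of_section' (σ : ResidueField Λ →+* Λ)
    (hσ : ∀ c, residue Λ (σ c) = c) (B₁ : Finset k)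
    (hk : ∀ R : Subring Λ, (∀ c : k, σ (algebraMap k (ResidueField Λ) c) ∈ R) →
      (∀ b ∈ B₁, algebraMap k Λ b ∈ R) → ∀ a : k, algebraMap k Λ a ∈ R)
    (W : Subring (ResidueField Λ))
    (hW : ∀ c : ResidueField Λ, ∃ x ∈ W, ∃ w ∈ W, w ≠ 0 ∧ c * w = x)
    (E : Finset Λ) :
    ∃ (A : Subalgebra k Λ) (_ : IsLocalRing A), (↑E : Set Λ) ⊆ A ∧ IsArtinianRing A ∧
      Module.Flat A Λ ∧ Algebra.EssFiniteType k A ∧
      (maximalIdeal A).map (algebraMap A Λ) = maximalIdeal Λ ∧
      ∃ T : Finset A, (∀ t ∈ T, ∃ c ∈ W, (t : Λ) = σ c) ∧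
        Submodule.span (ResidueField A) (Set.range fun t : T =>
          KaehlerDifferential.D k (ResidueField A) (residue A t.1)) = ⊤ := by
  classical
  -- nilpotency
  have hnil : IsNilpotent (maximalIdeal Λ) := by
    have := IsArtinianRing.isNilpotent_jacobson_bot (R := Λ)
    rwa [IsLocalRing.jacobson_eq_maximalIdeal ⊥ bot_ne_top] at this
  letI algKΛ : Algebra (ResidueField Λ) Λ := σ.toAlgebra
  let ρ : Λ →ₐ[ResidueField Λ] ResidueField Λ := { residue Λ with commutes' := hσ }
  haveI : Module.Finite (ResidueField Λ) Λ := by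
    refine Module.finite_of_surjective_of_ker_le_nilradical ρ residue_surjective ?_
      (IsNoetherian.noetherian _)
    intro x hx
    have hx' : x ∈ maximalIdeal Λ := by
      rw [← IsLocalRing.ker_residue]; exact hx
    obtain ⟨N, hN⟩ := hnil
    rw [mem_nilradical]
    refine ⟨N, ?_⟩
    have := Ideal.pow_mem_pow hx' N
    rw [hN] at this
    exact this
  let b := Module.finBasis (ResidueField Λ) Λ
  obtain ⟨T, hT⟩ : (maximalIdeal Λ).FG := IsNoetherian.noetherian _
  let E' : Finset Λ := E ∪ T ∪ B₁.image (algebraMap k Λ)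
  let C₀ : Finset (ResidueField Λ) :=
    (Finset.univ.image fun i => b.repr 1 i) ∪
    (Finset.univ.image fun t : Fin _ × Fin _ × Fin _ => b.repr (b t.1 * b t.2.1) t.2.2) ∪
    ((E' ×ˢ Finset.univ).image fun t => b.repr t.1 t.2) ∪
    (Finset.univ.image fun i => residue Λ (b i))
  choose num hnum den hden hden0 hnd using hW
  let C : Finset (ResidueField Λ) := C₀.image num ∪ C₀.image den
  have hCW : ∀ c ∈ C, c ∈ W := by
    intro c hc
    rcases Finset.mem_union.1 hc with h | h
    · obtain ⟨c', -, rfl⟩ := Finset.mem_image.1 h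
      exact hnum c'
    · obtain ⟨c', -, rfl⟩ := Finset.mem_image.1 h
      exact hden c'
  let F : IntermediateField k (ResidueField Λ) := IntermediateField.adjoin k (C : Set (ResidueField Λ))
  have hC₀F : ∀ c ∈ C₀, c ∈ F := by
    intro c hc
    have h1 : num c ∈ F := IntermediateField.subset_adjoin k _
      (Finset.mem_coe.2 (Finset.mem_union_left _ (Finset.mem_image_of_mem _ hc)))
    have h2 : den c ∈ F := IntermediateField.subset_adjoin k _
      (Finset.mem_coe.2 (Finset.mem_union_right _ (Finset.mem_image_of_mem _ hc)))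
    have h3 : c = num c * (den c)⁻¹ := by
      rw [← hnd c, mul_assoc, mul_inv_cancel₀ (hden0 c), mul_one]
    rw [h3]
    exact F.mul_mem h1 (F.inv_mem h2)
  have hC1 : ∀ i, b.repr 1 i ∈ F.toSubfield := fun i =>
    hC₀F _ (by
      simp only [C₀, Finset.mem_union, Finset.mem_image]
      exact Or.inl (Or.inl (Or.inl ⟨i, Finset.mem_univ _, rfl⟩)))
  have hC2 : ∀ i j l, b.repr (b i * b j) l ∈ F.toSubfield := fun i j l =>
    hC₀F _ (by
      simp only [C₀, Finset.mem_union, Finset.mem_image]
      exact Or.inl (Or.inl (Or.inr ⟨(i, j, l), Finset.mem_univ _, rfl⟩)))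
  have hC3 : ∀ x ∈ E', ∀ i, b.repr x i ∈ F.toSubfield := fun x hx i =>
    hC₀F _ (by
      simp only [C₀, Finset.mem_union, Finset.mem_image]
      exact Or.inl (Or.inr ⟨(x, i), Finset.mem_product.2 ⟨hx, Finset.mem_univ _⟩, rfl⟩))
  have hC4 : ∀ i, residue Λ (b i) ∈ F := fun i =>
    hC₀F _ (by
      simp only [C₀, Finset.mem_union, Finset.mem_image]
      exact Or.inr ⟨i, Finset.mem_univ _, rfl⟩)
  let A₀ : Subring Λ := coeffSubring b F.toSubfield hC1 hC2
  have hσA₀ : ∀ c : ResidueField Λ, c ∈ F → σ c ∈ A₀ := by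
    intro c hc i
    have : σ c = c • (1 : Λ) := by
      rw [Algebra.smul_def, mul_one]; rfl
    rw [this, map_smul, Finsupp.smul_apply, smul_eq_mul]
    exact F.toSubfield.mul_mem hc (hC1 i)
  let A : Subalgebra k Λ :=
    { A₀.toSubsemiring with
      algebraMap_mem' := fun a => hk A₀ (fun c => hσA₀ _ (F.algebraMap_mem c))
        (fun b' hb' => hC3 _ (Finset.mem_union_right _ (Finset.mem_image_of_mem _ hb'))) a }
  have hA : ∀ x, x ∈ A ↔ ∀ i, b.repr x i ∈ F.toSubfield := fun x => Iff.rfl
  have hE'A : ∀ x ∈ E', x ∈ A := fun x hx => hC3 x hx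
  haveI hfree : Module.Free A Λ := free_of_mem_iff b F.toSubfield A hA
  haveI hff : Module.FaithfullyFlat A Λ := inferInstance
  haveI hlocA : IsLocalRing A := Module.FaithfullyFlat.isLocalRing A Λ
  haveI hlochom : IsLocalHom (algebraMap A Λ) := inferInstance
  haveI hartA : IsArtinianRing A := isArtinianRing_of_faithfullyFlat A Λ
  have hcomap : (maximalIdeal Λ).comap (algebraMap A Λ) = maximalIdeal A :=
    ((IsLocalRing.local_hom_TFAE (algebraMap A Λ)).out 0 4).1 hlochom
  let ρk : Λ →ₐ[k] ResidueField Λ := IsScalarTower.toAlgHom k Λ (ResidueField Λ)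
  have hρk : ∀ x, ρk x = residue Λ x := fun x => rfl
  have hπ₀ : ∀ a : A, (ρk.comp A.val) a ∈ F.toSubalgebra := by
    intro a
    show ρk (a : Λ) ∈ F
    rw [hρk, ← b.sum_repr (a : Λ), map_sum]
    refine F.sum_mem fun i _ => ?_
    have : residue Λ (b.repr (a : Λ) i • b i) = b.repr (a : Λ) i * residue Λ (b i) := by
      rw [Algebra.smul_def, map_mul]
      congr 1
      exact hσ _
    rw [this]
    exact F.mul_mem ((hA a).1 a.2 i) (hC4 i)
  let π : A →ₐ[k] F.toSubalgebra := (ρk.comp A.val).codRestrict F.toSubalgebra hπ₀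
  have hπsurj : Function.Surjective π := by
    rintro ⟨c, hc⟩
    refine ⟨⟨σ c, hσA₀ c hc⟩, Subtype.ext ?_⟩
    exact hσ c
  have hker : RingHom.ker π = maximalIdeal A := by
    ext a
    rw [RingHom.mem_ker, ← hcomap, Ideal.mem_comap]
    constructor
    · intro h
      have h1 := congrArg Subtype.val h
      exact (residue_eq_zero_iff _).1 h1
    · intro h
      exact Subtype.ext ((residue_eq_zero_iff _).2 h)
  refine ⟨A, hlocA, ?_, hartA, inferInstance, ?_, ?_, ?_⟩
  · intro x hx
    exact hE'A x (Finset.mem_union_left _ (Finset.mem_union_left _ hx))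
  · -- essentially of finite type
    haveI : Algebra.EssFiniteType k F :=
      IntermediateField.essFiniteType_iff.2 (IntermediateField.fg_adjoin_finset C)
    haveI : Algebra.EssFiniteType k F.toSubalgebra := ‹Algebra.EssFiniteType k F›
    have hnilA : IsNilpotent (maximalIdeal A) := by
      have := IsArtinianRing.isNilpotent_jacobson_bot (R := A)
      rwa [IsLocalRing.jacobson_eq_maximalIdeal ⊥ bot_ne_top] at this
    refine essFiniteType_of_surjective_of_nilpotent_ker π hπsurj ?_ ?_
    · rw [hker]; exact IsNoetherian.noetherian _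
    · rw [hker]; exact hnilA
  · apply le_antisymm
    · exact Ideal.map_le_iff_le_comap.2 hcomap.ge
    · rw [← hT, Ideal.span_le]
      intro t ht
      have htA : t ∈ A := hE'A t (Finset.mem_union_left _ (Finset.mem_union_right _ ht))
      have htm : (⟨t, htA⟩ : A) ∈ maximalIdeal A := by
        rw [← hcomap, Ideal.mem_comap]
        show t ∈ maximalIdeal Λ
        rw [← hT]
        exact Ideal.subset_span ht
      exact Ideal.mem_map_of_mem (algebraMap A Λ) htm
  · -- generators of the residue field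
    have hCF : ∀ c ∈ C, c ∈ F := fun c hc =>
      IntermediateField.subset_adjoin k _ (Finset.mem_coe.2 hc)
    let tOf : ResidueField Λ → A := fun c => if h : c ∈ F then ⟨σ c, hσA₀ c h⟩ else 0
    have htOf : ∀ c ∈ C, ((tOf c : A) : Λ) = σ c := by
      intro c hc
      simp only [tOf, dif_pos (hCF c hc)]
    refine ⟨C.image tOf, ?_, ?_⟩
    · intro t ht
      obtain ⟨c, hc, rfl⟩ := Finset.mem_image.1 ht
      exact ⟨c, hCW c hc, htOf c hc⟩
    · let g : ResidueField A →ₐ[k] ResidueField Λ :=
        Ideal.Quotient.liftₐ (maximalIdeal A) (ρk.comp A.val) (by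
          intro a ha
          have : (a : Λ) ∈ maximalIdeal Λ := by
            rw [← hcomap] at ha
            exact ha
          exact (residue_eq_zero_iff _).2 this)
      have hg : ∀ a : A, g (residue A a) = residue Λ (a : Λ) := fun a => rfl
      let S : Set (ResidueField A) := (fun t : A => residue A t) '' (↑(C.image tOf) : Set A)
      have hCS : (C : Set (ResidueField Λ)) ⊆ g '' S := by
        intro c hc
        refine ⟨residue A (tOf c), ⟨tOf c, Finset.mem_coe.2 (Finset.mem_image_of_mem _ hc), rfl⟩, ?_⟩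
        rw [hg, htOf c hc, hσ]
      have hall : ∀ x : ResidueField A, KaehlerDifferential.D k (ResidueField A) x ∈
          Submodule.span (ResidueField A)
            ((fun s => KaehlerDifferential.D k (ResidueField A) s) '' S) := by
        intro x
        apply D_mem_span_of_mem_adjoin g S x
        obtain ⟨a, rfl⟩ := residue_surjective x
        rw [hg]
        have h1 : residue Λ (a : Λ) ∈ F := hπ₀ a
        exact IntermediateField.adjoin.mono k _ _ hCS h1
      rw [eq_top_iff, ← KaehlerDifferential.span_range_derivation k (ResidueField A),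
        Submodule.span_le]
      rintro _ ⟨x, rfl⟩
      refine Submodule.span_mono ?_ (hall x)
      rintro _ ⟨s, ⟨t, ht, rfl⟩, rfl⟩
      exact ⟨⟨t, Finset.mem_coe.1 ht⟩, rfl⟩

end Groth.Agent.Lib.Helper81.ArtSub
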