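import Mathlib
import Groth.Prelude.Def_EGA41
import Groth.Agent.Lib.Helper81.PBasis
import Groth.Agent.Lib.Helper81.PBasisEGA
import Groth.Agent.Lib.Helper81.PBasisTransfer
import Groth.Agent.Lib.Helper81.PBasisPerfect
import Groth.Agent.Lib.Helper81.PBasisTower
import Groth.Agent.S2466

/-!
# The imperfection module of `B^p ⊆ A ⊆ B` via `p`-bases (helper81)

EGA 0_IV 21.4.x: for `B` reduced with `B^p ⊆ A ⊆ B`, a `p`-basis `x` of `B / A` and a `p`-basis of
`A / B^p`, the elements `1 ⊗ d(x^p)` form a basis of `Υ_{B/A} = ker (B ⊗_A Ω_A → Ω_B)`.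
-/

set_option autoImplicit false
universe u

open Groth.Agent.Lib.Helper81.PBasis Groth.Agent.Lib.Helper81.PBasisEGA

namespace Groth.Agent.Lib.Helper81.PBasisImperf

section Carrier

variable {p : ℕ} {A₁ A₂ B : Type u} [CommRing A₁] [CommRing A₂] [CommRing B] [Algebra A₁ B]
  [Algebra A₂ B]

theorem pPower_le (h : ∀ a : A₁, algebraMap A₁ B a ∈ EGA41.pPowerSubalgebra p A₂ B) {b : B}
    (hb : b ∈ EGA41.pPowerSubalgebra p A₁ B) : b ∈ EGA41.pPowerSubalgebra p A₂ B := by
  induction hb using Algebra.adjoin_induction with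
  | mem c hc =>
    obtain ⟨b, rfl⟩ := hc
    exact pow_mem_pPowerSubalgebra p b
  | algebraMap a => exact h a
  | add u v _ _ hu hv => exact add_mem hu hv
  | mul u v _ _ hu hv => exact mul_mem hu hv

theorem isPIndependent_of_le (h : ∀ a : A₂, algebraMap A₂ B a ∈ EGA41.pPowerSubalgebra p A₁ B)
    {ι : Type u} (x : ι → B) (hx : EGA41.IsPIndependent p A₁ x) : EGA41.IsPIndependent p A₂ x := by
  rw [isPIndependent_iff, linearIndependent_iff'] at hx ⊢
  intro s g hg i hi
  have := hx s (fun i => ⟨(g i : B), pPower_le h (g i).2⟩) (by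
    rw [← hg]
    exact Finset.sum_congr rfl fun j _ => rfl) i hi
  have h2 : (g i : B) = 0 := congrArg Subtype.val this
  exact Subtype.ext h2

theorem isPGenerating_of_le (h : ∀ a : A₁, algebraMap A₁ B a ∈ EGA41.pPowerSubalgebra p A₂ B)
    {ι : Type u} (x : ι → B) (hx : EGA41.IsPGenerating p A₁ x) : EGA41.IsPGenerating p A₂ x := by
  rw [isPGenerating_iff] at hx ⊢
  rw [eq_top_iff]
  rintro b -
  have hb : b ∈ Submodule.span (EGA41.pPowerSubalgebra p A₁ B) (Set.range (redMon p x)) := by
    rw [hx]; trivial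
  induction hb using Submodule.span_induction with
  | mem m hm => exact Submodule.subset_span hm
  | zero => exact zero_mem _
  | add u v _ _ hu hv => exact add_mem hu hv
  | smul c m _ hm =>
    have : c • m = (⟨(c : B), pPower_le h c.2⟩ : EGA41.pPowerSubalgebra p A₂ B) • m := rfl
    rw [this]
    exact Submodule.smul_mem _ _ hm

theorem isPBasis_of_le (h₁ : ∀ a : A₁, algebraMap A₁ B a ∈ EGA41.pPowerSubalgebra p A₂ B)
    (h₂ : ∀ a : A₂, algebraMap A₂ B a ∈ EGA41.pPowerSubalgebra p A₁ B)
    {ι : Type u} (x : ι → B) (hx : EGA41.IsPBasis p A₁ x) : EGA41.IsPBasis p A₂ x :=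
  ⟨isPIndependent_of_le h₂ x hx.1, isPGenerating_of_le h₁ x hx.2⟩

end Carrier

section LinAlg

theorem exists_basis_ker {R N N' : Type*} [CommRing R] [AddCommGroup N] [AddCommGroup N']
    [Module R N] [Module R N'] {ι κ : Type*} (b : Module.Basis (ι ⊕ κ) R N) (f : N →ₗ[R] N')
    (h0 : ∀ i, f (b (Sum.inl i)) = 0)
    (hli : LinearIndependent R (fun j => f (b (Sum.inr j)))) :
    ∃ c : Module.Basis ι R (LinearMap.ker f), ∀ i, (c i : N) = b (Sum.inl i) := by
  classical
  have hker : ∀ n ∈ LinearMap.ker f, ∀ j, b.repr n (Sum.inr j) = 0 := by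
    intro n hn
    let q : N →ₗ[R] (κ →₀ R) :=
      (Finsupp.lcomapDomain Sum.inr Sum.inr_injective) ∘ₗ b.repr.toLinearMap
    have hfq : f = (Finsupp.linearCombination R (fun j => f (b (Sum.inr j)))) ∘ₗ q := by
      apply b.ext
      rintro (i | j)
      · have : q (b (Sum.inl i)) = 0 := by
          ext j
          simp [q, Finsupp.lcomapDomain]
        rw [h0, LinearMap.comp_apply, this, map_zero]
      · have : q (b (Sum.inr j)) = Finsupp.single j 1 := by
          ext j'
          simp [q, Finsupp.lcomapDomain, Finsupp.single_apply]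
        rw [LinearMap.comp_apply, this, Finsupp.linearCombination_single, one_smul]
    have hq : q n = 0 := hli (by
      rw [map_zero, ← LinearMap.comp_apply, ← hfq]
      exact hn)
    intro j
    exact DFunLike.congr_fun hq j
  have hmem : ∀ i, b (Sum.inl i) ∈ LinearMap.ker f := h0
  have hli' : LinearIndependent R (fun i => (⟨b (Sum.inl i), hmem i⟩ : LinearMap.ker f)) := by
    apply LinearIndependent.of_comp (LinearMap.ker f).subtype
    exact b.linearIndependent.comp Sum.inl Sum.inl_injective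
  have hspan : Submodule.span R (Set.range fun i => (⟨b (Sum.inl i), hmem i⟩ : LinearMap.ker f))
      = ⊤ := by
    rw [Submodule.span_range_subtype_eq_top_iff (LinearMap.ker f) hmem]
    apply le_antisymm
    · rw [Submodule.span_le]
      rintro _ ⟨i, rfl⟩
      exact hmem i
    · intro n hn
      have : Set.range (fun i => b (Sum.inl i)) = b '' (Set.range Sum.inl) := by
        rw [← Set.range_comp]; rfl
      rw [this, b.mem_span_image]
      intro s hs
      rcases s with i | j
      · exact ⟨i, rfl⟩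
      · exact absurd (hker n hn j) (Finsupp.mem_support_iff.1 hs)
  refine ⟨Module.Basis.mk hli' hspan.ge, fun i => ?_⟩
  rw [Module.Basis.mk_apply]

end LinAlg

section Kaehler

theorem exists_kaehler_equiv (R B : Type*) [CommRing R] [CommRing B] [Algebra R B]
    (h : ∀ r : R, KaehlerDifferential.D ℤ B (algebraMap R B r) = 0) :
    ∃ e : Ω[B⁄R] ≃ₗ[B] Ω[B⁄ℤ], ∀ b, e (KaehlerDifferential.D R B b) = KaehlerDifferential.D ℤ B b := by
  have hdR : ∀ (r : R) (b : B), KaehlerDifferential.D ℤ B (r • b) = r • KaehlerDifferential.D ℤ B b := by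
    intro r b
    rw [Algebra.smul_def r b, Derivation.leibniz, h, smul_zero, add_zero, algebraMap_smul]
  let dR : Derivation R B Ω[B⁄ℤ] := Derivation.mk'
    { toFun := KaehlerDifferential.D ℤ B, map_add' := map_add _, map_smul' := hdR }
    (fun b c => Derivation.leibniz _ b c)
  have h1 : (KaehlerDifferential.map ℤ R B B) ∘ₗ dR.liftKaehlerDifferential = LinearMap.id := by
    apply Derivation.liftKaehlerDifferential_unique
    ext b
    simp [dR, KaehlerDifferential.map_D]
  have h2 : dR.liftKaehlerDifferential ∘ₗ (KaehlerDifferential.map ℤ R B B) = LinearMap.id := by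
    apply Derivation.liftKaehlerDifferential_unique
    ext b
    simp [dR, KaehlerDifferential.map_D]
  refine ⟨LinearEquiv.ofLinear dR.liftKaehlerDifferential (KaehlerDifferential.map ℤ R B B) h2 h1,
    fun b => ?_⟩
  simp [dR]

end Kaehler

section Main

open TensorProduct

variable (p : ℕ) [hp : Fact p.Prime] {R A B : Type u} [CommRing R] [CommRing A] [CommRing B]
  [IsReduced B] [Algebra R A] [Algebra A B] [Algebra R B] [IsScalarTower R A B] [CharP B p]

include hp in
theorem imperfection_basis (hinj : Function.Injective (algebraMap A B))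
    (hpow : ∀ b : B, b ^ p ∈ Set.range (algebraMap A B))
    (hR : Set.range (algebraMap R B) = Set.range fun b : B => b ^ p)
    {Λ M : Type u} (x : Λ → B) (hx : EGA41.IsPBasis p A x) (x' : Λ → A)
    (hx' : ∀ i, algebraMap A B (x' i) = x i ^ p)
    (y : M → A) (hy : EGA41.IsPBasis p R y) :
    ∃ b : Module.Basis Λ B (EGA41.imperfection ℤ A B),
      ∀ i, (b i : B ⊗[A] Ω[A⁄ℤ]) = (1 : B) ⊗ₜ[A] KaehlerDifferential.D ℤ A (x' i) := by
  classical
  haveI : CharP A p := RingHom.charP (algebraMap A B) hinj p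
  unfold EGA41.imperfection
  -- the `B` side
  have hpowR : ∀ b : B, b ^ p ∈ Set.range (algebraMap R B) := fun b => by
    rw [hR]; exact ⟨b, rfl⟩
  have hzB : EGA41.IsPBasis p R (Sum.elim (fun j => algebraMap A B (y j)) x) :=
    ⟨(PBasisTower.isPIndependent_sumElim_iff hinj hpowR y x hy).1 hx.1,
      PBasisTower.isPGenerating_sumElim hinj hpowR y x hy.2 hx.2⟩
  obtain ⟨bBR, hbBR⟩ := Groth.Agent.S2466.result p _ hzB
  have hDR : ∀ r : R, KaehlerDifferential.D ℤ B (algebraMap R B r) = 0 := by
    intro r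
    have : algebraMap R B r ∈ Set.range fun b : B => b ^ p := by rw [← hR]; exact ⟨r, rfl⟩
    obtain ⟨b, hb⟩ := this
    rw [← hb]
    change KaehlerDifferential.D ℤ B (b ^ p) = 0
    rw [Derivation.leibniz_pow, ← Nat.cast_smul_eq_nsmul B, CharP.cast_eq_zero B p, zero_smul]
  obtain ⟨eB, heB⟩ := exists_kaehler_equiv R B hDR
  let bB : Module.Basis (M ⊕ Λ) B Ω[B⁄ℤ] := bBR.map eB
  have hbB : ∀ s, bB s =
      KaehlerDifferential.D ℤ B (Sum.elim (fun j => algebraMap A B (y j)) x s) := fun s => by
    rw [Module.Basis.map_apply, hbBR, heB]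
  -- the `A` side
  have hψ : ∃ ψ : B →+* A, ∀ b, algebraMap A B (ψ b) = b ^ p := by
    choose ψ₀ hψ₀ using hpow
    exact ⟨{ toFun := ψ₀
             map_one' := hinj (by rw [hψ₀, one_pow, map_one])
             map_mul' := fun a b => hinj (by rw [hψ₀, map_mul, hψ₀, hψ₀, mul_pow])
             map_zero' := hinj (by rw [hψ₀, map_zero, zero_pow hp.out.ne_zero])
             map_add' := fun a b => hinj (by rw [hψ₀, map_add, hψ₀, hψ₀, add_pow_char]) }, hψ₀⟩
  obtain ⟨ψ, hψ⟩ := hψ
  letI algBA : Algebra (FrobTwist B p) A := RingHom.toAlgebra (show FrobTwist B p →+* A from ψ)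
  letI algAB : Algebra (FrobTwist A p) (FrobTwist B p) := inferInstanceAs (Algebra A B)
  have hψ' : ∀ b : FrobTwist B p, algebraMap A B (algebraMap (FrobTwist B p) A b) =
      (show B from b) ^ p := fun b => hψ b
  haveI : IsScalarTower (FrobTwist A p) (FrobTwist B p) A :=
    IsScalarTower.of_algebraMap_eq (fun a => by
      apply hinj
      rw [hψ']
      change algebraMap A B ((show A from a) ^ p) = (algebraMap A B (show A from a)) ^ p
      rw [map_pow])
  have hψinj : Function.Injective (algebraMap (FrobTwist B p) A) := by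
    intro b b' hbb'
    have h1 : (show B from b) ^ p = (show B from b') ^ p := by
      rw [← hψ', ← hψ']; exact congrArg (algebraMap A B) hbb'
    have h3 : ((show B from b) - (show B from b')) ^ p = 0 := by
      rw [sub_pow_char, h1, sub_self]
    exact sub_eq_zero.1 (IsReduced.eq_zero (R := B) _ ⟨p, h3⟩)
  have hpowA : ∀ a : A, a ^ p ∈ Set.range (algebraMap (FrobTwist A p) A) := fun a => ⟨a, rfl⟩
  have hx1 : EGA41.IsPBasis p (FrobTwist A p) (show Λ → FrobTwist B p from x) := hx
  have hy1 : EGA41.IsPBasis p (FrobTwist B p) y := by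
    refine isPBasis_of_le ?_ ?_ y hy
    · intro r
      have : algebraMap R B r ∈ Set.range fun b : B => b ^ p := by rw [← hR]; exact ⟨r, rfl⟩
      obtain ⟨b, hb⟩ := this
      have : algebraMap R A r = algebraMap (FrobTwist B p) A b := hinj (by
        rw [← IsScalarTower.algebraMap_apply R A B, ← hb]; exact (hψ b).symm)
      rw [this]
      exact Subalgebra.algebraMap_mem _ _
    · intro b
      obtain ⟨r, hr⟩ := hpowR (show B from b)
      have : algebraMap (FrobTwist B p) A b = algebraMap R A r := hinj (by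
        rw [← IsScalarTower.algebraMap_apply R A B, hr]; exact hψ b)
      rw [this]
      exact Subalgebra.algebraMap_mem _ _
  have hzA : EGA41.IsPBasis p (FrobTwist A p)
      (Sum.elim (fun i => algebraMap (FrobTwist B p) A (x i)) y) :=
    ⟨(PBasisTower.isPIndependent_sumElim_iff hψinj hpowA _ y hx1).1 hy1.1,
      PBasisTower.isPGenerating_sumElim hψinj hpowA _ y hx1.2 hy1.2⟩
  have hxx' : (fun i => algebraMap (FrobTwist B p) A (x i)) = x' := by
    funext i
    exact hinj (by rw [hx']; exact hψ _)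
  rw [hxx'] at hzA
  obtain ⟨bAR, hbAR⟩ := Groth.Agent.S2466.result p _ hzA
  have hDA : ∀ a : FrobTwist A p,
      KaehlerDifferential.D ℤ A (algebraMap (FrobTwist A p) A a) = 0 := by
    intro a
    change KaehlerDifferential.D ℤ A ((show A from a) ^ p) = 0
    rw [Derivation.leibniz_pow, ← Nat.cast_smul_eq_nsmul A, CharP.cast_eq_zero A p, zero_smul]
  obtain ⟨eA, heA⟩ := exists_kaehler_equiv (FrobTwist A p) A hDA
  let bA : Module.Basis (Λ ⊕ M) A Ω[A⁄ℤ] := bAR.map eA
  have hbA : ∀ s, bA s = KaehlerDifferential.D ℤ A (Sum.elim x' y s) := fun s => by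
    rw [Module.Basis.map_apply, hbAR, heA]
  let bN : Module.Basis (Λ ⊕ M) B (B ⊗[A] Ω[A⁄ℤ]) := bA.baseChange B
  have hbN : ∀ s, bN s = (1 : B) ⊗ₜ[A] KaehlerDifferential.D ℤ A (Sum.elim x' y s) := fun s => by
    rw [Module.Basis.baseChange_apply, hbA]
  have hf : ∀ a : A, KaehlerDifferential.mapBaseChange ℤ A B
      ((1 : B) ⊗ₜ[A] KaehlerDifferential.D ℤ A a) = KaehlerDifferential.D ℤ B (algebraMap A B a) := by
    intro a
    rw [KaehlerDifferential.mapBaseChange_tmul, one_smul, KaehlerDifferential.map_D]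
  obtain ⟨c, hc⟩ := exists_basis_ker bN (KaehlerDifferential.mapBaseChange ℤ A B) (fun i => by
      rw [hbN, Sum.elim_inl, hf, hx', Derivation.leibniz_pow, ← Nat.cast_smul_eq_nsmul B,
        CharP.cast_eq_zero B p, zero_smul])
    (by
      have : (fun j => KaehlerDifferential.mapBaseChange ℤ A B (bN (Sum.inr j))) =
          fun j => bB (Sum.inl j) := by
        funext j
        rw [hbN, Sum.elim_inr, hf, hbB, Sum.elim_inl]
      rw [this]
      exact bB.linearIndependent.comp Sum.inl Sum.inl_injective)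
  exact ⟨c, fun i => by rw [hc, hbN, Sum.elim_inl]⟩

end Main

end Groth.Agent.Lib.Helper81.PBasisImperf
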