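import Mathlib
import Groth.Prelude.Def_EGA41
import Groth.Agent.S2467
import Groth.Agent.Lib.Helper81.ArtSubPInd
import Groth.Agent.Lib.Helper81.ArtSubCoeff
import Groth.Agent.Lib.Helper81.ArtSubMain2
import Groth.Agent.Lib.Helper81.PBasisImperf

/-!
# Artinian local algebras as unions of essentially finite type subalgebras whose residue fields
are generated by elements of a prescribed subalgebra (helper81)

Refinement of S6854: if `Λ₁ ⊆ Λ` is a subalgebra such that every element of `Λ` is a fraction of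
elements of `Λ₁`, the good subalgebras `A` can be chosen so that `Ω_{κ(A)/k}` is spanned by the
differentials of residues of finitely many elements of `A ∩ Λ₁`.
-/

set_option autoImplicit false
universe u

namespace Groth.Agent.Lib.Helper81.ArtSub

open IsLocalRing Groth.Agent.Lib.Helper81.PBasisEGA Groth.Agent.Lib.Helper81.PBasisImperf

theorem exists_subalgebra_refined {k Λ : Type u} [Field k] (p : ℕ) [hp : Fact p.Prime] [CharP k p]
    [CommRing Λ] [Algebra k Λ] [IsArtinianRing Λ] [IsLocalRing Λ]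
    (hH : Module.Finite (ResidueField Λ) (Algebra.H1Cotangent k (ResidueField Λ)))
    (Λ₁ : Subalgebra k Λ) (hΛ₁ : ∀ x : Λ, ∃ a ∈ Λ₁, ∃ u ∈ Λ₁, IsUnit u ∧ x * u = a)
    (E : Finset Λ) :
    ∃ (A : Subalgebra k Λ) (_ : IsLocalRing A), (↑E : Set Λ) ⊆ A ∧ IsArtinianRing A ∧
      Module.Flat A Λ ∧ Algebra.EssFiniteType k A ∧
      (maximalIdeal A).map (algebraMap A Λ) = maximalIdeal Λ ∧
      ∃ T : Finset A, (∀ t ∈ T, (t : Λ) ∈ Λ₁) ∧
        Submodule.span (ResidueField A) (Set.range fun t : T =>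
          KaehlerDifferential.D k (ResidueField A) (residue A t.1)) = ⊤ := by
  classical
  haveI : CharP (ResidueField Λ) p :=
    charP_of_injective_algebraMap (algebraMap k (ResidueField Λ)).injective p
  haveI : CharP Λ p := charP_of_injective_algebraMap (algebraMap k Λ).injective p
  have hnil : IsNilpotent (maximalIdeal Λ) := by
    have := IsArtinianRing.isNilpotent_jacobson_bot (R := Λ)
    rwa [IsLocalRing.jacobson_eq_maximalIdeal ⊥ bot_ne_top] at this
  obtain ⟨N, hN⟩ := hnil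
  obtain ⟨B₀, B₁, hB₀, hL⟩ :=
    exists_pBasis_cofinite_pIndependent p (k := k) (K := ResidueField Λ) hH
  -- the generating set
  let L : Set (ResidueField Λ) := algebraMap k (ResidueField Λ) '' (B₀ \ ↑B₁)
  let G : Set (ResidueField Λ) := L ∪ (fun x : Λ => residue Λ x) '' (Λ₁ : Set Λ)
  have hG : EGA41.IsPGenerating p (⊥ : Subfield k) (Subtype.val : G → ResidueField Λ) := by
    rw [isPGenerating_iff_adjoin, eq_top_iff]
    rintro y -
    obtain ⟨x, rfl⟩ := residue_surjective y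
    obtain ⟨a, ha, u, hu, huu, hxu⟩ := hΛ₁ x
    have hu0 : residue Λ u ≠ 0 := by
      intro h
      exact (residue_eq_zero_iff u).1 h huu
    have hx : residue Λ x = residue Λ a * residue Λ u ^ (p - 1) * ((residue Λ u)⁻¹) ^ p := by
      have h1 : residue Λ x * residue Λ u = residue Λ a := by rw [← map_mul, hxu]
      have hp1 : p = (p - 1) + 1 := by have := hp.out.pos; omega
      rw [← h1, inv_pow]
      field_simp
      rw [mul_assoc, ← pow_succ', ← hp1]
    rw [hx]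
    have hmemG : ∀ z ∈ Λ₁, residue Λ z ∈
        Algebra.adjoin (EGA41.pPowerSubalgebra p (⊥ : Subfield k) (ResidueField Λ))
          (Set.range (Subtype.val : G → ResidueField Λ)) := by
      intro z hz
      apply Algebra.subset_adjoin
      exact ⟨⟨residue Λ z, Or.inr ⟨z, hz, rfl⟩⟩, rfl⟩
    refine mul_mem (mul_mem (hmemG a ha) (pow_mem (hmemG u hu) _)) ?_
    have : ((residue Λ u)⁻¹) ^ p = algebraMap (EGA41.pPowerSubalgebra p (⊥ : Subfield k)
        (ResidueField Λ)) (ResidueField Λ) ⟨((residue Λ u)⁻¹) ^ p,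
          pow_mem_pPowerSubalgebra p _⟩ := rfl
    rw [this]
    exact Subalgebra.algebraMap_mem _ _
  obtain ⟨Γ, hLΓ, hΓG, hΓ⟩ := Groth.Agent.S2467.result p (k := (⊥ : Subfield k))
    (K := ResidueField Λ) G L Set.subset_union_left hG hL
  -- lifts
  have hlift : ∀ γ : Γ, ∃ z : Λ, z ∈ Λ₁ ∧ residue Λ z = γ.1 ∧
      (∀ b ∈ B₀ \ (↑B₁ : Set k), algebraMap k (ResidueField Λ) b = γ.1 → z = algebraMap k Λ b) := by
    intro γ
    by_cases hγ : γ.1 ∈ L
    · obtain ⟨b, hb, hbγ⟩ := hγ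
      refine ⟨algebraMap k Λ b, Λ₁.algebraMap_mem b, hbγ, ?_⟩
      intro b' _ hb'
      have : b' = b := (algebraMap k (ResidueField Λ)).injective (hb'.trans hbγ.symm)
      rw [this]
    · rcases hΓG γ.2 with h | ⟨z, hz, hzγ⟩
      · exact absurd h hγ
      · refine ⟨z, hz, hzγ, ?_⟩
        intro b hb hbγ
        exact absurd ⟨b, hb, hbγ⟩ hγ
  choose z₀ hz₀mem hz₀res hz₀k using hlift
  obtain ⟨σ, hσ, hσΓ⟩ := exists_section_prescribed p ⟨N, hN⟩ Γ hΓ.1 z₀ hz₀res
  have hσB : ∀ b ∈ B₀ \ (↑B₁ : Set k),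
      σ (algebraMap k (ResidueField Λ) b) = algebraMap k Λ b := by
    intro b hb
    have hmem : algebraMap k (ResidueField Λ) b ∈ Γ := hLΓ ⟨b, hb, rfl⟩
    have h1 := hσΓ ⟨_, hmem⟩
    rw [h1]
    exact hz₀k ⟨_, hmem⟩ b hb rfl
  -- the subring `W`
  let W : Subring (ResidueField Λ) := Λ₁.toSubring.comap σ
  have hWmem : ∀ c, c ∈ W ↔ σ c ∈ Λ₁ := fun c => Iff.rfl
  have hΓW : ∀ γ ∈ Γ, γ ∈ W := by
    intro γ hγ
    rw [hWmem, hσΓ ⟨γ, hγ⟩]
    exact hz₀mem _
  -- `p^N`-th powers of residues of elements of `Λ₁` lie in `W`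
  have hpowW : ∀ z ∈ Λ₁, residue Λ z ^ p ^ N ∈ W := by
    intro z hz
    rw [hWmem, map_pow]
    have hd : σ (residue Λ z) - z ∈ maximalIdeal Λ := by
      rw [← residue_eq_zero_iff, map_sub, hσ, sub_self]
    have h0 : (σ (residue Λ z) - z) ^ p ^ N = 0 := by
      have h1 : (σ (residue Λ z) - z) ^ p ^ N ∈ maximalIdeal Λ ^ N :=
        Ideal.pow_le_pow_right (Nat.lt_pow_self hp.out.one_lt).le
          (Ideal.pow_mem_pow hd (p ^ N))
      rw [hN] at h1
      exact h1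
    rw [sub_pow_char_pow, sub_eq_zero] at h0
    rw [h0]
    exact Λ₁.pow_mem hz _
  -- fractions
  let Sfr : Subring (ResidueField Λ) :=
    { carrier := {c | ∃ x ∈ W, ∃ w ∈ W, w ≠ 0 ∧ c * w = x}
      mul_mem' := by
        rintro c₁ c₂ ⟨x₁, hx₁, w₁, hw₁, hw₁0, h₁⟩ ⟨x₂, hx₂, w₂, hw₂, hw₂0, h₂⟩
        refine ⟨x₁ * x₂, W.mul_mem hx₁ hx₂, w₁ * w₂, W.mul_mem hw₁ hw₂, mul_ne_zero hw₁0 hw₂0, ?_⟩
        rw [← h₁, ← h₂]; ring
      one_mem' := ⟨1, W.one_mem, 1, W.one_mem, one_ne_zero, by ring⟩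
      add_mem' := by
        rintro c₁ c₂ ⟨x₁, hx₁, w₁, hw₁, hw₁0, h₁⟩ ⟨x₂, hx₂, w₂, hw₂, hw₂0, h₂⟩
        refine ⟨x₁ * w₂ + x₂ * w₁, W.add_mem (W.mul_mem hx₁ hw₂) (W.mul_mem hx₂ hw₁), w₁ * w₂,
          W.mul_mem hw₁ hw₂, mul_ne_zero hw₁0 hw₂0, ?_⟩
        rw [← h₁, ← h₂]; ring
      zero_mem' := ⟨0, W.zero_mem, 1, W.one_mem, one_ne_zero, by ring⟩
      neg_mem' := by
        rintro c ⟨x, hx, w, hw, hw0, h⟩
        exact ⟨-x, W.neg_mem hx, w, hw, hw0, by rw [← h]; ring⟩ }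
  have hΓgen : EGA41.IsPGenerating p (⊥ : Subfield (ResidueField Λ))
      (Subtype.val : Γ → ResidueField Λ) := by
    refine isPGenerating_of_le ?_ _ hΓ.2
    intro a
    have : algebraMap (⊥ : Subfield k) (ResidueField Λ) a =
        algebraMap (⊥ : Subfield (ResidueField Λ)) (ResidueField Λ)
          ⟨algebraMap k (ResidueField Λ) (a : k), by
            have ha : (a : k) ∈ (⊥ : Subfield k) := a.2
            have := mem_subring_of_mem_bot p
              ((⊥ : Subfield (ResidueField Λ)).toSubring.comap (algebraMap k (ResidueField Λ)))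
              (a : k) ha
            exact this⟩ := rfl
    rw [this]
    exact Subalgebra.algebraMap_mem _ _
  have hSfr : Sfr = ⊤ := by
    refine subring_eq_top_of_pow_mem p (Subtype.val : Γ → ResidueField Λ) hΓgen Sfr ?_ N ?_
    · intro γ
      exact ⟨γ.1, hΓW γ.1 γ.2, 1, W.one_mem, one_ne_zero, mul_one _⟩
    · intro c
      obtain ⟨x, rfl⟩ := residue_surjective c
      obtain ⟨a, ha, u, hu, huu, hxu⟩ := hΛ₁ x
      have hu0 : residue Λ u ≠ 0 := by
        intro h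
        exact (residue_eq_zero_iff u).1 h huu
      refine ⟨residue Λ a ^ p ^ N, hpowW a ha, residue Λ u ^ p ^ N, hpowW u hu,
        pow_ne_zero _ hu0, ?_⟩
      rw [← mul_pow, ← map_mul, hxu]
  have hW : ∀ c : ResidueField Λ, ∃ x ∈ W, ∃ w ∈ W, w ≠ 0 ∧ c * w = x := by
    intro c
    have : c ∈ Sfr := by rw [hSfr]; trivial
    exact this
  have hk : ∀ R : Subring Λ, (∀ c : k, σ (algebraMap k (ResidueField Λ) c) ∈ R) →
      (∀ b ∈ B₁, algebraMap k Λ b ∈ R) → ∀ a : k, algebraMap k Λ a ∈ R := by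
    intro R h1 h2 a
    refine algebraMap_mem_of_section p σ hσ N hN B₀ hB₀.2 R h1 (fun b hb => ?_) a
    by_cases hb1 : b ∈ B₁
    · exact h2 b hb1
    · rw [← hσB b ⟨hb, fun h => hb1 (Finset.mem_coe.1 h)⟩]
      exact h1 b
  obtain ⟨A, hloc, hEA, hart, hflat, hess, hmax, T, hT, hspan⟩ :=
    exists_subalgebra_of_section' σ hσ B₁ hk W hW E
  refine ⟨A, hloc, hEA, hart, hflat, hess, hmax, T, ?_, hspan⟩
  intro t ht
  obtain ⟨c, hc, htc⟩ := hT t ht
  rw [htc]
  exact hc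

end Groth.Agent.Lib.Helper81.ArtSub
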