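import Mathlib
import Groth.Agent.Lib.Helper81.Cartier

/-!
# Cartier's equality, universe polymorphic version (helper81)

Same as `Cartier.lean` but allowing the base field to live in a different universe.
-/

set_option autoImplicit false
universe u v

namespace Groth.Agent.Lib.Helper81.CartierPoly

open Algebra KaehlerDifferential Module
open Groth.Agent.Lib.Helper81.Cartier Groth.Agent.Lib.Helper81.FieldSmooth
open Groth.Agent.Lib.Helper81.DeltaNat
open scoped TensorProduct

/-- The statement of Cartier's equality for an extension `L/K`. -/
def GoodP (K : Type u) (L : Type v) [Field K] [Field L] [Algebra K L] : Prop :=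
  Module.Finite L Ω[L⁄K] ∧ Module.Finite L (H1Cotangent K L) ∧
    ∃ n : ℕ, Algebra.trdeg K L = n ∧
      Module.finrank L Ω[L⁄K] = Module.finrank L (H1Cotangent K L) + n

theorem GoodP.of_good {K L : Type v} [Field K] [Field L] [Algebra K L] (h : Good K L) :
    GoodP K L := h

section Tower

variable {K : Type u} {L M : Type v} [Field K] [Field L] [Field M] [Algebra K L] [Algebra L M]
  [Algebra K M] [IsScalarTower K L M]

/-- left exactness of the Jacobi–Zariski sequence for fields, universe polymorphic -/
theorem liftBaseChange_injective :
    Function.Injective ((H1Cotangent.map K K L M).liftBaseChange M) := by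
  rcases CharP.exists' K with h0 | ⟨p, hp, hpk⟩
  · haveI := h0
    haveI : CharZero L := charZero_of_injective_algebraMap (algebraMap K L).injective
    haveI : CharZero M := charZero_of_injective_algebraMap (algebraMap K M).injective
    haveI : IsScalarTower ℚ K L := IsScalarTower.of_algebraMap_eq' (Subsingleton.elim _ _)
    haveI : IsScalarTower ℚ K M := IsScalarTower.of_algebraMap_eq' (Subsingleton.elim _ _)
    haveI : Algebra.FormallySmooth ℚ L := formallySmooth_of_charZero'
    exact liftBaseChange_map_injective ℚ K L M
  · haveI := hp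
    haveI := hpk
    haveI : CharP L p := charP_of_injective_algebraMap (algebraMap K L).injective p
    haveI : CharP M p := charP_of_injective_algebraMap (algebraMap K M).injective p
    letI : Algebra (ZMod p) K := ZMod.algebra K p
    letI : Algebra (ZMod p) L := ZMod.algebra L p
    letI : Algebra (ZMod p) M := ZMod.algebra M p
    haveI : IsScalarTower (ZMod p) K L := IsScalarTower.of_algebraMap_eq' (Subsingleton.elim _ _)
    haveI : IsScalarTower (ZMod p) K M := IsScalarTower.of_algebraMap_eq' (Subsingleton.elim _ _)
    haveI : Algebra.FormallySmooth (ZMod p) L := formallySmooth_zmod p L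
    exact liftBaseChange_map_injective (ZMod p) K L M

/-- **Additivity of Cartier's equality in towers.** -/
theorem GoodP.trans (h1 : GoodP K L) (h2 : GoodP L M) : GoodP K M := by
  obtain ⟨hΩ1, hH1, n1, ht1, he1⟩ := h1
  obtain ⟨hΩ2, hH2, n2, ht2, he2⟩ := h2
  let f1 : M ⊗[L] H1Cotangent K L →ₗ[M] H1Cotangent K M :=
    (H1Cotangent.map K K L M).liftBaseChange M
  let f2 : H1Cotangent K M →ₗ[M] H1Cotangent L M := H1Cotangent.map K L M M
  let f3 : H1Cotangent L M →ₗ[M] M ⊗[L] Ω[L⁄K] := H1Cotangent.δ K L M
  let f4 : M ⊗[L] Ω[L⁄K] →ₗ[M] Ω[M⁄K] := KaehlerDifferential.mapBaseChange K L M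
  let f5 : Ω[M⁄K] →ₗ[M] Ω[M⁄L] := KaehlerDifferential.map K L M M
  have hinj : Function.Injective f1 := liftBaseChange_injective
  have e12 : Function.Exact f1 f2 := H1Cotangent.exact_liftBaseChange_map_of_flat K L M
  have e23 : Function.Exact f2 f3 := H1Cotangent.exact_map_δ K L M
  have e34 : Function.Exact f3 f4 := H1Cotangent.exact_δ_mapBaseChange K L M
  have e45 : Function.Exact f4 f5 := KaehlerDifferential.exact_mapBaseChange_map K L M
  have hsurj : Function.Surjective f5 := KaehlerDifferential.map_surjective K L M
  haveI : Module.Finite M (H1Cotangent K M) := by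
    haveI : Module.Finite M (LinearMap.ker f2) := by
      rw [e12.linearMap_ker_eq]
      exact Module.Finite.range f1
    haveI : Module.Finite M (LinearMap.range f2) := inferInstance
    exact finite_of_ker_range f2
  haveI : Module.Finite M Ω[M⁄K] := by
    haveI : Module.Finite M (LinearMap.ker f5) := by
      rw [e45.linearMap_ker_eq]
      exact Module.Finite.range f4
    haveI : Module.Finite M (LinearMap.range f5) := inferInstance
    exact finite_of_ker_range f5
  refine ⟨inferInstance, inferInstance, n1 + n2, ?_, ?_⟩
  · rw [← _root_.trdeg_add_eq K L (A := M), ht1, ht2, Nat.cast_add]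
  · have key := Module.sum_neg_one_pow_finrank_eq_zero_of_exact_six f1 f2 f3 f4 f5 hinj e12 e23
      e34 e45 hsurj
    rw [Module.finrank_baseChange, Module.finrank_baseChange] at key
    omega

end Tower

/-- the trivial extension -/
theorem GoodP.of_bijective {L : Type u} {M : Type v} [Field L] [Field M] [Algebra L M]
    (h : Function.Bijective (algebraMap L M)) : GoodP L M := by
  haveI : Subsingleton Ω[M⁄L] := KaehlerDifferential.subsingleton_of_surjective L M h.2
  haveI : Algebra.FormallySmooth L M :=
    Algebra.FormallySmooth.of_equiv (AlgEquiv.ofBijective (Algebra.ofId L M) h)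
  haveI : Algebra.IsIntegral L M := Algebra.isIntegral_of_surjective h.2
  refine ⟨inferInstance, inferInstance, 0, ?_, ?_⟩
  · rw [_root_.trdeg_eq_zero]
    simp
  · rw [Module.finrank_zero_of_subsingleton, Module.finrank_zero_of_subsingleton]

/-- **Cartier's equality** for finitely generated field extensions, universe polymorphic. -/
theorem goodP_of_essFiniteType (K : Type u) (L : Type v) [Field K] [Field L] [Algebra K L]
    [Algebra.EssFiniteType K L] : GoodP K L := by
  have h1 : GoodP K (⊥ : IntermediateField K L) := by
    refine GoodP.of_bijective ⟨(algebraMap K (⊥ : IntermediateField K L)).injective, ?_⟩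
    rintro ⟨y, hy⟩
    obtain ⟨z, rfl⟩ := IntermediateField.mem_bot.1 hy
    exact ⟨z, rfl⟩
  haveI : Algebra.EssFiniteType (⊥ : IntermediateField K L) L :=
    Algebra.EssFiniteType.of_comp K _ L
  have h2 : GoodP (⊥ : IntermediateField K L) L :=
    GoodP.of_good (good_of_essFiniteType (⊥ : IntermediateField K L) L)
  exact GoodP.trans h1 h2

end Groth.Agent.Lib.Helper81.CartierPoly
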