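import Mathlib
import Groth.Agent.Lib.Helper81.Cartier

/-!
# Cartier's equality for a square of field extensions (Stacks 07E3) (helper81)
-/

set_option autoImplicit false
universe u

namespace Groth.Agent.Lib.Helper81.CartierSquare

open Algebra KaehlerDifferential Module Function
open scoped TensorProduct

section Index

variable {F U V W X : Type*} [Field F] [AddCommGroup U] [Module F U] [AddCommGroup V] [Module F V]
  [AddCommGroup W] [Module F W] [AddCommGroup X] [Module F X]
  {f : U →ₗ[F] V} {g : V →ₗ[F] W} {h : W →ₗ[F] X}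

theorem finite_ker_of_exact (hfg : Exact f g) [Module.Finite F (LinearMap.range f)] :
    Module.Finite F (LinearMap.ker g) := by
  rw [hfg.linearMap_ker_eq]
  infer_instance

/-- the cokernel of `g` in an exact sequence `V → W → X` is the range of `h` -/
noncomputable def cokerEquiv (hgh : Exact g h) : (W ⧸ LinearMap.range g) ≃ₗ[F] LinearMap.range h :=
  (Submodule.quotEquivOfEq _ _ hgh.linearMap_ker_eq.symm) ≪≫ₗ h.quotKerEquivRange

theorem finite_coker_of_exact (hgh : Exact g h) [Module.Finite F (LinearMap.range h)] :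
    Module.Finite F (W ⧸ LinearMap.range g) :=
  Module.Finite.equiv (cokerEquiv hgh).symm

theorem index_eq_of_exact (hfg : Exact f g) (hgh : Exact g h) :
    g.index = (finrank F (LinearMap.range f) : ℤ) - finrank F (LinearMap.range h) := by
  rw [LinearMap.index_eq_finrank_sub, hfg.linearMap_ker_eq, (cokerEquiv hgh).finrank_eq]

end Index

section Square

variable (k k' K K' : Type u) [Field k] [Field k'] [Field K] [Field K'] [Algebra k k']
  [Algebra k K] [Algebra k K'] [Algebra k' K'] [Algebra K K'] [IsScalarTower k k' K']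
  [IsScalarTower k K K']

theorem map_map_eq (ω : Ω[K⁄k]) :
    KaehlerDifferential.map k k' K' K' (KaehlerDifferential.map k k K K' ω) =
      KaehlerDifferential.map k k' K K' ω := by
  have : ((KaehlerDifferential.map k k' K' K').restrictScalars K) ∘ₗ
      (KaehlerDifferential.map k k K K') = KaehlerDifferential.map k k' K K' := by
    apply Derivation.liftKaehlerDifferential_unique
    ext a
    simp [KaehlerDifferential.map_D]
  exact LinearMap.congr_fun this ω

/-- `α = b ∘ a` -/
theorem alpha_eq :
    (KaehlerDifferential.map k k' K K').liftBaseChange K' =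
      (KaehlerDifferential.map k k' K' K') ∘ₗ (KaehlerDifferential.mapBaseChange k K K') := by
  apply TensorProduct.AlgebraTensorModule.ext
  intro c ω
  simp only [LinearMap.liftBaseChange_tmul, LinearMap.comp_apply, mapBaseChange_tmul, map_smul]
  rw [map_map_eq]

/-- `β = β₂ ∘ β₁` -/
theorem beta_eq :
    (H1Cotangent.map k k' K K').liftBaseChange K' =
      (H1Cotangent.map k k' K' K') ∘ₗ ((H1Cotangent.map k k K K').liftBaseChange K') := by
  apply TensorProduct.AlgebraTensorModule.ext
  intro c x
  simp only [LinearMap.liftBaseChange_tmul, LinearMap.comp_apply, map_smul]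
  congr 1
  rw [H1Cotangent.map, H1Cotangent.map, H1Cotangent.map, ← Extension.H1Cotangent.map_comp_apply]
  exact DFunLike.congr_fun (Extension.H1Cotangent.map_eq _ _) x

open Groth.Agent.Lib.Helper81.Cartier in
/-- **Stacks 07E3.** -/
theorem main [Algebra.EssFiniteType k k'] [Algebra.EssFiniteType K K'] :
    Module.Finite K' (LinearMap.ker ((KaehlerDifferential.map k k' K K').liftBaseChange K')) ∧
    Module.Finite K'
      (Ω[K'⁄k'] ⧸ LinearMap.range ((KaehlerDifferential.map k k' K K').liftBaseChange K')) ∧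
    Module.Finite K' (LinearMap.ker ((H1Cotangent.map k k' K K').liftBaseChange K')) ∧
    Module.Finite K'
      (H1Cotangent k' K' ⧸ LinearMap.range ((H1Cotangent.map k k' K K').liftBaseChange K')) ∧
    ((KaehlerDifferential.map k k' K K').liftBaseChange K').index -
      ((H1Cotangent.map k k' K K').liftBaseChange K').index =
      (Cardinal.toNat (Algebra.trdeg k k') : ℤ) - Cardinal.toNat (Algebra.trdeg K K') := by
  obtain ⟨hΩ1, hH1, n1, ht1, he1⟩ := good_of_essFiniteType k k'
  obtain ⟨hΩ2, hH2, n2, ht2, he2⟩ := good_of_essFiniteType K K'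
  haveI := hΩ1
  haveI := hH1
  haveI := hΩ2
  haveI := hH2
  -- the Jacobi–Zariski sequence of `k → K → K'`
  let f1 : K' ⊗[K] H1Cotangent k K →ₗ[K'] H1Cotangent k K' :=
    (H1Cotangent.map k k K K').liftBaseChange K'
  let f2 : H1Cotangent k K' →ₗ[K'] H1Cotangent K K' := H1Cotangent.map k K K' K'
  let f3 : H1Cotangent K K' →ₗ[K'] K' ⊗[K] Ω[K⁄k] := H1Cotangent.δ k K K'
  let f4 : K' ⊗[K] Ω[K⁄k] →ₗ[K'] Ω[K'⁄k] := KaehlerDifferential.mapBaseChange k K K'
  let f5 : Ω[K'⁄k] →ₗ[K'] Ω[K'⁄K] := KaehlerDifferential.map k K K' K'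
  have hf1 : Injective f1 := Groth.Agent.S9319.result
  have ef12 : Exact f1 f2 := H1Cotangent.exact_liftBaseChange_map_of_flat k K K'
  have ef23 : Exact f2 f3 := H1Cotangent.exact_map_δ k K K'
  have ef34 : Exact f3 f4 := H1Cotangent.exact_δ_mapBaseChange k K K'
  have ef45 : Exact f4 f5 := KaehlerDifferential.exact_mapBaseChange_map k K K'
  have hf5 : Surjective f5 := KaehlerDifferential.map_surjective k K K'
  -- the Jacobi–Zariski sequence of `k → k' → K'`
  let g1 : K' ⊗[k'] H1Cotangent k k' →ₗ[K'] H1Cotangent k K' :=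
    (H1Cotangent.map k k k' K').liftBaseChange K'
  let g2 : H1Cotangent k K' →ₗ[K'] H1Cotangent k' K' := H1Cotangent.map k k' K' K'
  let g3 : H1Cotangent k' K' →ₗ[K'] K' ⊗[k'] Ω[k'⁄k] := H1Cotangent.δ k k' K'
  let g4 : K' ⊗[k'] Ω[k'⁄k] →ₗ[K'] Ω[K'⁄k] := KaehlerDifferential.mapBaseChange k k' K'
  let g5 : Ω[K'⁄k] →ₗ[K'] Ω[K'⁄k'] := KaehlerDifferential.map k k' K' K'
  have hg1 : Injective g1 := Groth.Agent.S9319.result
  have eg12 : Exact g1 g2 := H1Cotangent.exact_liftBaseChange_map_of_flat k k' K'
  have eg23 : Exact g2 g3 := H1Cotangent.exact_map_δ k k' K'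
  have eg34 : Exact g3 g4 := H1Cotangent.exact_δ_mapBaseChange k k' K'
  have eg45 : Exact g4 g5 := KaehlerDifferential.exact_mapBaseChange_map k k' K'
  have hg5 : Surjective g5 := KaehlerDifferential.map_surjective k k' K'
  have hα : (KaehlerDifferential.map k k' K K').liftBaseChange K' = g5 ∘ₗ f4 := alpha_eq k k' K K'
  have hβ : (H1Cotangent.map k k' K K').liftBaseChange K' = g2 ∘ₗ f1 := beta_eq k k' K K'
  -- the ends
  have ef01 : Exact (0 : K' →ₗ[K'] _) f1 := (LinearMap.exact_zero_iff_injective K' f1).2 hf1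
  have eg50 : Exact g5 (0 : _ →ₗ[K'] K') := (LinearMap.exact_zero_iff_surjective K' g5).2 hg5
  -- finiteness of the pieces
  haveI : Module.Finite K' (LinearMap.range (0 : K' →ₗ[K'] K' ⊗[K] H1Cotangent k K)) := by
    rw [LinearMap.range_zero]; infer_instance
  haveI : Module.Finite K' (LinearMap.range (0 : Ω[K'⁄k'] →ₗ[K'] K')) := inferInstance
  haveI : Module.Finite K' (LinearMap.range f2) := inferInstance
  haveI : Module.Finite K' (LinearMap.range f3) := inferInstance
  haveI : Module.Finite K' (LinearMap.range f5) := inferInstance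
  haveI : Module.Finite K' (LinearMap.range g1) := inferInstance
  haveI : Module.Finite K' (LinearMap.range g3) := inferInstance
  haveI : Module.Finite K' (LinearMap.range g4) := inferInstance
  haveI : Module.Finite K' (LinearMap.ker f4) := finite_ker_of_exact ef34
  haveI : Module.Finite K' (Ω[K'⁄k] ⧸ LinearMap.range f4) := finite_coker_of_exact ef45
  haveI : Module.Finite K' (LinearMap.ker g5) := finite_ker_of_exact eg45
  haveI : Module.Finite K' (Ω[K'⁄k'] ⧸ LinearMap.range g5) := finite_coker_of_exact eg50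
  haveI : Module.Finite K' (LinearMap.ker f1) := finite_ker_of_exact ef01
  haveI : Module.Finite K' (H1Cotangent k K' ⧸ LinearMap.range f1) := finite_coker_of_exact ef12
  haveI : Module.Finite K' (LinearMap.ker g2) := finite_ker_of_exact eg12
  haveI : Module.Finite K' (H1Cotangent k' K' ⧸ LinearMap.range g2) := finite_coker_of_exact eg23
  have iα : (g5 ∘ₗ f4).index = g5.index + f4.index := LinearMap.index_comp g5
  have iβ : (g2 ∘ₗ f1).index = g2.index + f1.index := LinearMap.index_comp g2
  have if4 := index_eq_of_exact ef34 ef45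
  have ig5 := index_eq_of_exact eg45 eg50
  have if1 := index_eq_of_exact ef01 ef12
  have ig2 := index_eq_of_exact eg12 eg23
  rw [hα, hβ]
  refine ⟨?_, ?_, ?_, ?_, ?_⟩
  · rw [LinearMap.ker_comp]; infer_instance
  · rw [LinearMap.range_comp]; infer_instance
  · rw [LinearMap.ker_comp]; infer_instance
  · rw [LinearMap.range_comp]; infer_instance
  · -- rank–nullity
    have r1 := LinearMap.finrank_range_add_finrank_ker f3
    have r2 := LinearMap.finrank_range_add_finrank_ker g4
    rw [ef23.linearMap_ker_eq] at r1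
    rw [eg34.linearMap_ker_eq] at r2
    have r3 : finrank K' (LinearMap.range f5) = finrank K' Ω[K'⁄K] := by
      rw [LinearMap.range_eq_top.2 hf5, finrank_top]
    have r4 : finrank K' (LinearMap.range g1) = finrank k' (H1Cotangent k k') := by
      rw [LinearMap.finrank_range_of_inj hg1, Module.finrank_baseChange]
    have r5 : finrank K' (K' ⊗[k'] Ω[k'⁄k]) = finrank k' Ω[k'⁄k] := Module.finrank_baseChange
    have r6 : finrank K' (LinearMap.range (0 : K' →ₗ[K'] K' ⊗[K] H1Cotangent k K)) = 0 := by
      rw [LinearMap.range_zero, finrank_bot]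
    have r7 : finrank K' (LinearMap.range (0 : Ω[K'⁄k'] →ₗ[K'] K')) = 0 := by
      rw [LinearMap.range_zero, finrank_bot]
    rw [iα, iβ, if4, ig5, if1, ig2, ht1, ht2, Cardinal.toNat_natCast, Cardinal.toNat_natCast]
    omega

end Square

end Groth.Agent.Lib.Helper81.CartierSquare
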