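import Mathlib
import Groth.Agent.Lib.Helper71.LocalCritNoeth

/-!
# Flatness of adic completions via the local criterion (helper81)

* `ker_evalₐ_eq_map`: for `I` finitely generated, `ker (evalₐ I n) = I ^ n · Â`.
* `lTensor_quotient_bijective`: a linear map inducing a bijection mod `𝔠` becomes bijective after
  tensoring with `A ⧸ 𝔠`.
* `flat_adicCompletion`: `A` Noetherian, `B₀` a flat `A`-algebra, `𝔞 ⊆ A`; if the `𝔞 B₀`-adic
  completion of `B₀` is Noetherian, then it is flat over `A`.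
-/

set_option autoImplicit false
universe u

open TensorProduct

namespace Groth.Agent.Lib.Helper81.CompletionFlat

section Ker

variable {R : Type*} [CommRing R] (I : Ideal R)

theorem ker_evalₐ_eq_map (fg : I.FG) (n : ℕ) :
    RingHom.ker (AdicCompletion.evalₐ I n).toRingHom =
      (I ^ n).map (algebraMap R (AdicCompletion I R)) := by
  ext x
  trans x ∈ (AdicCompletion.eval I R n).ker
  · have eq : I ^ n * ⊤ = I ^ n := by simp
    have : Function.Injective (Ideal.Quotient.factor ((le_of_eq eq))) := by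
      simpa [RingHom.injective_iff_ker_eq_bot, Ideal.Quotient.factor_ker]
        using Ideal.map_mk_eq_bot_of_le (le_of_eq eq.symm)
    simpa [← AdicCompletion.factor_eval_eq_evalₐ] using map_eq_zero_iff _ this
  · rw [← AdicCompletion.pow_smul_top_eq_ker_eval fg, Ideal.smul_top_eq_map]
    rfl

end Ker

section Tensor

variable {A : Type*} [CommRing A] (𝔠 : Ideal A) {M' M : Type*} [AddCommGroup M'] [AddCommGroup M]
  [Module A M'] [Module A M]

theorem lTensor_quotient_bijective (φ : M' →ₗ[A] M)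
    (hinj : ∀ x : M', φ x ∈ 𝔠 • (⊤ : Submodule A M) → x ∈ 𝔠 • (⊤ : Submodule A M'))
    (hsurj : ∀ y : M, ∃ x : M', y - φ x ∈ 𝔠 • (⊤ : Submodule A M)) :
    Function.Bijective (φ.lTensor (A ⧸ 𝔠)) := by
  have hle : 𝔠 • (⊤ : Submodule A M') ≤ (𝔠 • (⊤ : Submodule A M)).comap φ := by
    rw [Submodule.smul_le]
    intro r hr x _
    rw [Submodule.mem_comap, map_smul]
    exact Submodule.smul_mem_smul hr Submodule.mem_top
  let φb : (M' ⧸ 𝔠 • (⊤ : Submodule A M')) →ₗ[A] (M ⧸ 𝔠 • (⊤ : Submodule A M)) :=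
    Submodule.mapQ _ _ φ hle
  have hφb : Function.Bijective φb := by
    constructor
    · rw [← LinearMap.ker_eq_bot, LinearMap.ker_eq_bot']
      intro x hx
      obtain ⟨x, rfl⟩ := Submodule.Quotient.mk_surjective _ x
      rw [Submodule.mapQ_apply, Submodule.Quotient.mk_eq_zero] at hx
      rw [Submodule.Quotient.mk_eq_zero]
      exact hinj x hx
    · intro y
      obtain ⟨y, rfl⟩ := Submodule.Quotient.mk_surjective _ y
      obtain ⟨x, hx⟩ := hsurj y
      refine ⟨Submodule.Quotient.mk x, ?_⟩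
      rw [Submodule.mapQ_apply, eq_comm, Submodule.Quotient.eq]
      exact hx
  have hcomm : (quotTensorEquivQuotSMul M 𝔠).toLinearMap ∘ₗ φ.lTensor (A ⧸ 𝔠) =
      φb ∘ₗ (quotTensorEquivQuotSMul M' 𝔠).toLinearMap := by
    apply TensorProduct.ext'
    intro r x
    obtain ⟨r, rfl⟩ := Ideal.Quotient.mk_surjective r
    simp only [LinearMap.comp_apply, LinearEquiv.coe_coe, LinearMap.lTensor_tmul,
      quotTensorEquivQuotSMul_mk_tmul]
    rw [Submodule.mapQ_apply, map_smul]
  have h1 : (φ.lTensor (A ⧸ 𝔠) : _ → _) =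
      (quotTensorEquivQuotSMul M 𝔠).symm ∘ φb ∘ (quotTensorEquivQuotSMul M' 𝔠) := by
    funext t
    have := congrArg (fun f => f t) hcomm
    simp only [LinearMap.comp_apply, LinearEquiv.coe_coe] at this
    simp only [Function.comp_apply]
    rw [← this, LinearEquiv.symm_apply_apply]
  rw [h1]
  exact (quotTensorEquivQuotSMul M 𝔠).symm.bijective.comp
    (hφb.comp (quotTensorEquivQuotSMul M' 𝔠).bijective)

end Tensor

section Flat

variable {A : Type u} [CommRing A] [IsNoetherianRing A] {B₀ : Type u} [CommRing B₀] [Algebra A B₀]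
  [Module.Flat A B₀] (𝔞 : Ideal A)

theorem flat_adicCompletion
    [IsNoetherianRing (AdicCompletion (𝔞.map (algebraMap A B₀)) B₀)] :
    Module.Flat A (AdicCompletion (𝔞.map (algebraMap A B₀)) B₀) := by
  set I : Ideal B₀ := 𝔞.map (algebraMap A B₀) with hI
  have fg : I.FG := Ideal.FG.map (IsNoetherian.noetherian 𝔞) _
  have htower : ∀ a : A, algebraMap A (AdicCompletion I B₀) a =
      algebraMap B₀ (AdicCompletion I B₀) (algebraMap A B₀ a) := fun a => rfl
  haveI : IsScalarTower A B₀ (AdicCompletion I B₀) := IsScalarTower.of_algebraMap_eq htower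
  have hmap : ∀ k : ℕ, (𝔞 ^ k).map (algebraMap A (AdicCompletion I B₀)) =
      (I ^ k).map (algebraMap B₀ (AdicCompletion I B₀)) := by
    intro k
    rw [IsScalarTower.algebraMap_eq A B₀ (AdicCompletion I B₀), ← Ideal.map_map, Ideal.map_pow]
  have h𝔞 : 𝔞.map (algebraMap A (AdicCompletion I B₀)) ≤ Ideal.jacobson ⊥ := by
    have := hmap 1
    rw [pow_one, pow_one] at this
    rw [this]
    haveI := AdicCompletion.isAdicComplete_self I fg
    exact IsAdicComplete.le_jacobson_bot _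
  refine Groth.Agent.Lib.Helper71.LocalCritNoeth.flat_of_flat_quotient_pow 𝔞
    (AdicCompletion I B₀) h𝔞 ?_
  intro n
  set 𝔠 := 𝔞 ^ (n + 1) with h𝔠
  let φ : B₀ →ₗ[A] AdicCompletion I B₀ :=
    (IsScalarTower.toAlgHom A B₀ (AdicCompletion I B₀)).toLinearMap
  have hφ : ∀ x, φ x = AdicCompletion.of I B₀ x := fun x => rfl
  have hmem : ∀ y : AdicCompletion I B₀, y ∈ 𝔠 • (⊤ : Submodule A (AdicCompletion I B₀)) ↔
      AdicCompletion.evalₐ I (n + 1) y = 0 := by
    intro y
    rw [Ideal.smul_top_eq_map, Submodule.restrictScalars_mem, hmap, ← ker_evalₐ_eq_map I fg]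
    rfl
  have hmem₀ : ∀ x : B₀, x ∈ 𝔠 • (⊤ : Submodule A B₀) ↔ x ∈ I ^ (n + 1) := by
    intro x
    rw [Ideal.smul_top_eq_map, Submodule.restrictScalars_mem, h𝔠, Ideal.map_pow]
  have hbij := lTensor_quotient_bijective 𝔠 φ
    (by
      intro x hx
      rw [hmem, hφ, AdicCompletion.evalₐ_of, Ideal.Quotient.eq_zero_iff_mem] at hx
      exact (hmem₀ x).2 hx)
    (by
      intro y
      obtain ⟨x, hx⟩ := Ideal.Quotient.mk_surjective (AdicCompletion.evalₐ I (n + 1) y)
      refine ⟨x, ?_⟩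
      rw [hmem, map_sub, hφ, AdicCompletion.evalₐ_of, hx, sub_self])
  let e : (A ⧸ 𝔠) ⊗[A] B₀ ≃ₗ[A ⧸ 𝔠] (A ⧸ 𝔠) ⊗[A] (AdicCompletion I B₀) :=
    LinearEquiv.ofBijective (φ.baseChange (A ⧸ 𝔠)) hbij
  exact Module.Flat.of_linearEquiv e.symm

end Flat

end Groth.Agent.Lib.Helper81.CompletionFlat
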