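import Groth.Prelude.Def_W4c3ghconstell
import Groth.Agent.Lib.Helper93.Comod
import Mathlib

/-! # helper81: isotypic components and theta-weights (Def_W4c3ghconstell) -/

set_option autoImplicit false
universe u v w w'

open TensorProduct

namespace Groth.Agent.Lib.Helper81.Constell

open W4c3ghconstell
open Groth.Agent.Lib.Helper93.Comod

section Coalg

variable {k : Type u} [Field k] {A : Type v} [AddCommGroup A] [Module k A] [Coalgebra k A]
variable {M : Type w'} [AddCommGroup M] [Module k M] [HopfRep.Comod k A M]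

/-- `m ⊗ (a ⊗ b) ↦ φ b • (m ⊗ a)` -/
noncomputable def psi (φ : A →ₗ[k] k) : M ⊗[k] (A ⊗[k] A) →ₗ[k] M ⊗[k] A :=
  LinearMap.lTensor M ((TensorProduct.rid k A).toLinearMap ∘ₗ LinearMap.lTensor A φ)

omit [Coalgebra k A] [HopfRep.Comod k A M] in
theorem psi_tmul (φ : A →ₗ[k] k) (m : M) (a b : A) :
    psi (M := M) φ (m ⊗ₜ[k] (a ⊗ₜ[k] b)) = m ⊗ₜ[k] (φ b • a) := by
  simp [psi]

omit [Coalgebra k A] [HopfRep.Comod k A M] in
theorem psi_assoc_tmul (φ : A →ₗ[k] k) (y : M ⊗[k] A) (a : A) :
    psi (M := M) φ (TensorProduct.assoc k M A A (y ⊗ₜ[k] a)) = φ a • y := by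
  induction y using TensorProduct.induction_on with
  | zero => simp
  | tmul m b =>
    rw [TensorProduct.assoc_tmul, psi_tmul, TensorProduct.tmul_smul]
  | add y z hy hz =>
    rw [TensorProduct.add_tmul, map_add, map_add, hy, hz, smul_add]

theorem coact_rid_lTensor (φ : A →ₗ[k] k) (x : M ⊗[k] A) :
    HopfRep.Comod.coact (k := k) (A := A) (TensorProduct.rid k M (φ.lTensor M x)) =
      psi φ (TensorProduct.assoc k M A A
        ((HopfRep.Comod.coact (k := k) (A := A) (V := M)).rTensor A x)) := by
  induction x using TensorProduct.induction_on with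
  | zero => simp
  | tmul m a =>
    rw [LinearMap.lTensor_tmul, TensorProduct.rid_tmul, map_smul, LinearMap.rTensor_tmul,
      psi_assoc_tmul]
  | add y z hy hz =>
    simp only [map_add, hy, hz]

theorem coact_dualAct (φ : A →ₗ[k] k) (m : M) :
    HopfRep.Comod.coact (k := k) (A := A) (dualAct A M φ m) =
      psi φ ((CoalgebraStruct.comul (R := k) (A := A)).lTensor M
        (HopfRep.Comod.coact (k := k) (A := A) m)) := by
  rw [dualAct_apply, coact_rid_lTensor]
  congr 1
  exact LinearMap.congr_fun (HopfRep.Comod.coassoc (k := k) (A := A) (V := M)) m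

omit [Coalgebra k A] in
theorem rid_lTensor_map_mem (D : Submodule k A) (φ : A →ₗ[k] k) (w : D ⊗[k] D) :
    (TensorProduct.rid k A) (φ.lTensor A (TensorProduct.map D.subtype D.subtype w)) ∈ D := by
  induction w using TensorProduct.induction_on with
  | zero => simp
  | tmul d e =>
    rw [TensorProduct.map_tmul, LinearMap.lTensor_tmul, TensorProduct.rid_tmul]
    exact D.smul_mem _ d.2
  | add y z hy hz =>
    rw [map_add, map_add, map_add]
    exact D.add_mem hy hz

/-- the isotypic component for a subcoalgebra is a subcomodule -/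
theorem isSubcomod_isoComp (D : Submodule k A) (hD : IsSubcoalg k A D) :
    HopfRep.IsSubcomod (k := k) (A := A) (isoComp M D) := by
  rw [isSubcomod_iff]
  intro φ m hm
  show HopfRep.Comod.coact (k := k) (A := A) (dualAct A M φ m) ∈
    LinearMap.range (LinearMap.lTensor M D.subtype)
  rw [coact_dualAct]
  have key : ∀ z : M ⊗[k] D, psi φ ((CoalgebraStruct.comul (R := k) (A := A)).lTensor M
      (LinearMap.lTensor M D.subtype z)) ∈ LinearMap.range (LinearMap.lTensor M D.subtype) := by
    intro z
    induction z using TensorProduct.induction_on with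
    | zero => simp
    | tmul m' d =>
      rw [LinearMap.lTensor_tmul, LinearMap.lTensor_tmul]
      obtain ⟨w, hw⟩ := hD d.1 d.2
      have hmem := rid_lTensor_map_mem D φ w
      rw [hw] at hmem
      refine ⟨m' ⊗ₜ[k] ⟨_, hmem⟩, ?_⟩
      rw [LinearMap.lTensor_tmul]
      simp [psi]
    | add y z hy hz =>
      simp only [map_add]
      exact Submodule.add_mem _ hy hz
  obtain ⟨z, hz⟩ := hm
  rw [← hz]
  exact key z

end Coalg

section HopfMod

variable {k : Type u} [Field k] {A : Type v} [CommRing A] [Bialgebra k A]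
variable {R : Type w} [CommRing R] [Algebra k R] [HopfRep.Comod k A R]
variable {M : Type w'} [AddCommGroup M] [Module k M] [Module R M] [IsScalarTower k R M]
  [HopfRep.Comod k A M] [TameAct.IsHopfMod k A R M]

omit [HopfRep.Comod k A R] [HopfRep.Comod k A M] [TameAct.IsHopfMod k A R M] in
/-- monotonicity of the range of `W ⊗ A → M ⊗ A` -/
theorem range_rTensor_mono {W₁ W₂ : Submodule k M} (h : W₁ ≤ W₂) :
    LinearMap.range (W₁.subtype.rTensor A) ≤ LinearMap.range (W₂.subtype.rTensor A) := by
  rintro _ ⟨y, rfl⟩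
  refine ⟨(Submodule.inclusion h).rTensor A y, ?_⟩
  rw [← LinearMap.comp_apply, ← LinearMap.rTensor_comp]
  rfl

omit [HopfRep.Comod k A R] [HopfRep.Comod k A M] [TameAct.IsHopfMod k A R M] in
theorem hmSMul_mem_range (N : Submodule R M) (s : R ⊗[k] A) (y : M ⊗[k] A)
    (hy : y ∈ LinearMap.range ((N.restrictScalars k).subtype.rTensor A)) :
    TameAct.hmSMul k A R M s y ∈ LinearMap.range ((N.restrictScalars k).subtype.rTensor A) := by
  obtain ⟨z, rfl⟩ := hy
  induction s using TensorProduct.induction_on with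
  | zero => simp
  | tmul r a =>
    induction z using TensorProduct.induction_on with
    | zero => simp
    | tmul n b =>
      rw [LinearMap.rTensor_tmul, TameAct.hmSMul_tmul]
      refine ⟨(⟨r • n.1, N.smul_mem r n.2⟩ : N.restrictScalars k) ⊗ₜ[k] (a * b), ?_⟩
      rw [LinearMap.rTensor_tmul]
      rfl
    | add y z hy hz =>
      rw [map_add, map_add]
      exact Submodule.add_mem _ hy hz
  | add s t hs ht =>
    rw [map_add, LinearMap.add_apply]
    exact Submodule.add_mem _ hs ht

/-- the `R`-span of a set of vectors whose coactions land in the span is a subcomodule -/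
theorem isSubcomod_span (X : Set M)
    (hX : ∀ x ∈ X, HopfRep.Comod.coact (k := k) (A := A) x ∈
      LinearMap.range (((Submodule.span R X).restrictScalars k).subtype.rTensor A)) :
    HopfRep.IsSubcomod (k := k) (A := A) ((Submodule.span R X).restrictScalars k) := by
  intro n hn
  have hn' : n ∈ Submodule.span R X := hn
  induction hn' using Submodule.span_induction with
  | mem x hx => exact hX x hx
  | zero => simp
  | add x y _ _ hx hy =>
    rw [map_add]
    exact Submodule.add_mem _ (hx ‹_›) (hy ‹_›)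
  | smul r x hxm hx =>
    rw [TameAct.IsHopfMod.coact_smul]
    exact hmSMul_mem_range _ _ _ (hx hxm)

/-- `genIn S N` is a subcomodule if `N` is and `S` consists of subcoalgebras. -/
theorem isSubcomod_genIn (S : Set (SimpSub k A)) (N : Submodule R M)
    (hN : HopfRep.IsSubcomod (k := k) (A := A) (N.restrictScalars k)) :
    HopfRep.IsSubcomod (k := k) (A := A) ((genIn k A R M S N).restrictScalars k) := by
  unfold genIn
  apply isSubcomod_span
  intro x hx
  simp only [Set.mem_iUnion] at hx
  obtain ⟨D, hDS, hxD⟩ := hx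
  have hsub : HopfRep.IsSubcomod (k := k) (A := A) (N.restrictScalars k ⊓ isoComp M D.1) :=
    isSubcomod_inf _ _ hN (isSubcomod_isoComp D.1 D.2.2.1)
  have hle : (N.restrictScalars k ⊓ isoComp M D.1) ≤
      (Submodule.span R (⋃ D ∈ S, ((N.restrictScalars k ⊓ isoComp M D.1 : Submodule k M) :
        Set M))).restrictScalars k := by
    intro y hy
    apply Submodule.subset_span
    simp only [Set.mem_iUnion]
    exact ⟨D, hDS, hy⟩
  exact range_rTensor_mono hle (hsub x hxD)

end HopfMod

section Theta

variable {k : Type u} [Field k] {A : Type v} [AddCommGroup A] [Module k A] [Coalgebra k A]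
variable {R : Type w} [CommRing R] [Algebra k R]
variable {M : Type w'} [AddCommGroup M] [Module k M] [Module R M] [IsScalarTower k R M]
  [HopfRep.Comod k A M]
variable {h : SimpSub k A → ℕ} {θ : SimpSub k A → ℚ}

theorem finite_inf_isoComp (hM : IsConstellation k A R M h) (N : Submodule k M) (D : SimpSub k A) :
    Module.Finite k ↥(N ⊓ isoComp M D.1) := by
  haveI := (hM.2.2 D).1
  exact Submodule.finiteDimensional_of_le inf_le_right

theorem hilbAt_mono (hM : IsConstellation k A R M h) {N₁ N₂ : Submodule k M} (hle : N₁ ≤ N₂)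
    (D : SimpSub k A) : hilbAt M N₁ D ≤ hilbAt M N₂ D := by
  haveI := finite_inf_isoComp hM N₂ D
  exact Submodule.finrank_mono (inf_le_inf_right _ hle)

theorem hilbAt_top (hM : IsConstellation k A R M h) (D : SimpSub k A) :
    hilbAt M (⊤ : Submodule k M) D = h D := by
  unfold hilbAt
  rw [top_inf_eq]
  exact (hM.2.2 D).2

theorem hilbAt_le (hM : IsConstellation k A R M h) (N : Submodule k M) (D : SimpSub k A) :
    hilbAt M N D ≤ h D := by
  rw [← hilbAt_top hM D]
  exact hilbAt_mono hM le_top D

theorem summable_theta (hM : IsConstellation k A R M h)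
    (hsum : HasSum (fun D => (θ D : ℝ) * (h D : ℝ)) 0) (N : Submodule k M) :
    Summable fun D : SimpSub k A => (θ D : ℝ) * (hilbAt M N D : ℝ) := by
  apply Summable.of_norm_bounded hsum.summable.abs
  intro D
  rw [Real.norm_eq_abs, abs_mul, abs_mul]
  apply mul_le_mul_of_nonneg_left _ (abs_nonneg _)
  rw [Nat.abs_cast, Nat.abs_cast]
  exact_mod_cast hilbAt_le hM N D

theorem theta_le_theta (hM : IsConstellation k A R M h)
    (hsum : HasSum (fun D => (θ D : ℝ) * (h D : ℝ)) 0) (N₁ N₂ : Submodule k M)
    (hle : ∀ D, (θ D : ℝ) * (hilbAt M N₁ D : ℝ) ≤ (θ D : ℝ) * (hilbAt M N₂ D : ℝ)) :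
    theta M θ N₁ ≤ theta M θ N₂ :=
  Summable.tsum_le_tsum hle (summable_theta hM hsum N₁) (summable_theta hM hsum N₂)

theorem theta_top (hM : IsConstellation k A R M h)
    (hsum : HasSum (fun D => (θ D : ℝ) * (h D : ℝ)) 0) :
    theta M θ (⊤ : Submodule k M) = 0 := by
  unfold theta
  simp_rw [hilbAt_top hM]
  exact hsum.tsum_eq

/-- equality of weights with termwise inequality forces termwise equality -/
theorem theta_eq_termwise (hM : IsConstellation k A R M h)
    (hsum : HasSum (fun D => (θ D : ℝ) * (h D : ℝ)) 0) (N₁ N₂ : Submodule k M)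
    (hle : ∀ D, (θ D : ℝ) * (hilbAt M N₁ D : ℝ) ≤ (θ D : ℝ) * (hilbAt M N₂ D : ℝ))
    (heq : theta M θ N₁ = theta M θ N₂) (D : SimpSub k A) :
    (θ D : ℝ) * (hilbAt M N₁ D : ℝ) = (θ D : ℝ) * (hilbAt M N₂ D : ℝ) := by
  have h1 := (summable_theta (θ := θ) hM hsum N₁).hasSum
  have h2 := (summable_theta (θ := θ) hM hsum N₂).hasSum
  have h3 := h2.sub h1
  have h0 : (∑' D : SimpSub k A, (θ D : ℝ) * (hilbAt M N₂ D : ℝ)) -
      ∑' D : SimpSub k A, (θ D : ℝ) * (hilbAt M N₁ D : ℝ) = 0 := by
    have : theta M θ N₂ - theta M θ N₁ = 0 := by rw [heq, sub_self]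
    exact this
  rw [h0] at h3
  have h4 := (hasSum_zero_iff_of_nonneg (fun D => sub_nonneg.2 (hle D))).1 h3
  have h5 := congrFun h4 D
  simp only [Pi.zero_apply] at h5
  linarith

theorem genIn_le (S : Set (SimpSub k A)) (N : Submodule R M) : genIn k A R M S N ≤ N := by
  unfold genIn
  rw [Submodule.span_le]
  intro x hx
  simp only [Set.mem_iUnion] at hx
  obtain ⟨D, _, hxD⟩ := hx
  exact hxD.1

theorem inf_isoComp_le_genIn {S : Set (SimpSub k A)} {D : SimpSub k A} (hD : D ∈ S)
    (N : Submodule R M) :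
    N.restrictScalars k ⊓ isoComp M D.1 ≤ (genIn k A R M S N).restrictScalars k := by
  intro y hy
  apply Submodule.subset_span
  simp only [Set.mem_iUnion]
  exact ⟨D, hD, hy⟩

theorem genIn_inf_isoComp {S : Set (SimpSub k A)} {D : SimpSub k A} (hD : D ∈ S)
    (N : Submodule R M) :
    (genIn k A R M S N).restrictScalars k ⊓ isoComp M D.1 =
      N.restrictScalars k ⊓ isoComp M D.1 := by
  apply le_antisymm
  · exact inf_le_inf_right _ (fun x hx => genIn_le S N hx)
  · exact le_inf (inf_isoComp_le_genIn hD N) inf_le_right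

theorem hilbAt_genIn {S : Set (SimpSub k A)} {D : SimpSub k A} (hD : D ∈ S)
    (N : Submodule R M) :
    hilbAt M ((genIn k A R M S N).restrictScalars k) D = hilbAt M (N.restrictScalars k) D := by
  unfold hilbAt
  rw [genIn_inf_isoComp hD]

theorem genIn_genIn (S : Set (SimpSub k A)) (N : Submodule R M) :
    genIn k A R M S (genIn k A R M S N) = genIn k A R M S N := by
  apply le_antisymm (genIn_le S _)
  conv_lhs => unfold genIn
  rw [Submodule.span_le]
  intro x hx
  simp only [Set.mem_iUnion] at hx
  obtain ⟨D, hDS, hxD⟩ := hx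
  apply Submodule.subset_span
  simp only [Set.mem_iUnion]
  refine ⟨D, hDS, ?_⟩
  rw [genIn_inf_isoComp hDS]
  exact hxD

/-- passing to the part generated in negative weights does not increase the weight -/
theorem theta_genIn_le (hM : IsConstellation k A R M h)
    (hsum : HasSum (fun D => (θ D : ℝ) * (h D : ℝ)) 0) (N : Submodule R M) (D : SimpSub k A) :
    (θ D : ℝ) * (hilbAt M ((genIn k A R M {D | θ D < 0} N).restrictScalars k) D : ℝ) ≤
      (θ D : ℝ) * (hilbAt M (N.restrictScalars k) D : ℝ) := by
  by_cases hD : θ D < 0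
  · rw [hilbAt_genIn (S := {D | θ D < 0}) hD]
  · push_neg at hD
    apply mul_le_mul_of_nonneg_left _ (by exact_mod_cast hD)
    exact_mod_cast hilbAt_mono hM (fun x hx => genIn_le _ N hx) D

end Theta

end Groth.Agent.Lib.Helper81.Constell
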