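import Groth.Agent.Lib.Helper81.Constell
import Mathlib

/-! # helper81: a nonzero subcomodule meets some isotypic component -/

set_option autoImplicit false
universe u v w w'

open TensorProduct

namespace Groth.Agent.Lib.Helper81.Constell

open W4c3ghconstell
open Groth.Agent.Lib.Helper93.Comod

section Coalg

variable {k : Type u} [Field k] {A : Type v} [AddCommGroup A] [Module k A] [Coalgebra k A]
variable {M : Type w'} [AddCommGroup M] [Module k M] [HopfRep.Comod k A M]

/-- forms vanishing on `D` kill the isotypic component of `D` -/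
theorem dualAct_eq_zero_of_mem_isoComp (D : Submodule k A) (φ : A →ₗ[k] k)
    (hφ : ∀ d ∈ D, φ d = 0) (m : M) (hm : m ∈ isoComp M D) : dualAct A M φ m = 0 := by
  obtain ⟨z, hz⟩ := hm
  rw [dualAct_apply, ← hz, ← LinearMap.comp_apply, ← LinearMap.lTensor_comp]
  have : φ ∘ₗ D.subtype = 0 := by
    ext d
    exact hφ d.1 d.2
  rw [this, LinearMap.lTensor_zero, LinearMap.zero_apply, map_zero]

/-- if all forms vanishing on `D` kill `m` then `m` is in the isotypic component -/
theorem mem_isoComp_of_dualAct_eq_zero (D : Submodule k A) (m : M)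
    (h : ∀ φ : A →ₗ[k] k, (∀ d ∈ D, φ d = 0) → dualAct A M φ m = 0) : m ∈ isoComp M D := by
  show HopfRep.Comod.coact (k := k) (A := A) m ∈ LinearMap.range (LinearMap.lTensor M D.subtype)
  rw [← lTensor_mkQ, LinearMap.mem_ker]
  apply eq_zero_of_forall_lTensor_eq_zero
  intro ψ
  rw [← LinearMap.comp_apply, ← LinearMap.lTensor_comp]
  have := h (ψ ∘ₗ D.mkQ) (by
    intro d hd
    rw [LinearMap.comp_apply, Submodule.mkQ_apply, (Submodule.Quotient.mk_eq_zero D).2 hd,
      map_zero])
  rw [dualAct_apply] at this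
  exact this

theorem exists_inf_isoComp_ne_bot_aux (N : Submodule k M)
    (hN : HopfRep.IsSubcomod (k := k) (A := A) N) (r : ℕ) :
    ∀ l : List (SimpSub k A × M), l.length = r →
    ∀ n ∈ N, n ≠ 0 → (∀ p ∈ l, p.2 ∈ isoComp M p.1.1) → n = (l.map Prod.snd).sum →
      ∃ D : SimpSub k A, N ⊓ isoComp M D.1 ≠ ⊥ := by
  induction r with
  | zero =>
    intro l hl n _ hn0 _ hsum
    rw [List.length_eq_zero_iff] at hl
    rw [hl] at hsum
    simp at hsum
    exact absurd hsum hn0
  | succ r ih =>
    intro l hl n hnN hn0 hmem hsum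
    match l, hl, hmem, hsum with
    | [], hl, _, _ => simp at hl
    | p :: l, hl, hmem, hsum =>
      by_cases hall : ∀ φ : A →ₗ[k] k, (∀ d ∈ p.1.1, φ d = 0) → dualAct A M φ n = 0
      · refine ⟨p.1, ?_⟩
        intro hbot
        have : n ∈ N ⊓ isoComp M p.1.1 := ⟨hnN, mem_isoComp_of_dualAct_eq_zero _ _ hall⟩
        rw [hbot] at this
        exact hn0 ((Submodule.mem_bot k).1 this)
      · push_neg at hall
        obtain ⟨φ, hφ, hne⟩ := hall
        apply ih (l.map fun q => (q.1, dualAct A M φ q.2)) (by simpa using hl)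
          (dualAct A M φ n) (dualAct_mem_of_isSubcomod N hN φ n hnN) hne
        · intro q hq
          rw [List.mem_map] at hq
          obtain ⟨q', hq', rfl⟩ := hq
          exact dualAct_mem_of_isSubcomod _ (isSubcomod_isoComp q'.1.1 q'.1.2.2.1) φ q'.2
            (hmem q' (List.mem_cons_of_mem _ hq'))
        · rw [hsum, List.map_cons, List.sum_cons, map_add,
            dualAct_eq_zero_of_mem_isoComp p.1.1 φ hφ p.2 (hmem p List.mem_cons_self), zero_add,
            List.map_map]
          rw [map_list_sum, List.map_map]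
          rfl

/-- a nonzero subcomodule of a comodule that is the sum of its isotypic components meets one of
them -/
theorem exists_inf_isoComp_ne_bot
    (hsup : (⨆ D : SimpSub k A, isoComp M D.1) = ⊤) (N : Submodule k M)
    (hN : HopfRep.IsSubcomod (k := k) (A := A) N) (hne : N ≠ ⊥) :
    ∃ D : SimpSub k A, N ⊓ isoComp M D.1 ≠ ⊥ := by
  obtain ⟨n, hnN, hn0⟩ := (Submodule.ne_bot_iff N).1 hne
  have hex : ∀ x ∈ (⨆ D : SimpSub k A, isoComp M D.1), ∃ l : List (SimpSub k A × M),
      (∀ p ∈ l, p.2 ∈ isoComp M p.1.1) ∧ x = (l.map Prod.snd).sum := by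
    intro x hx
    induction hx using Submodule.iSup_induction' with
    | mem D x hx =>
      refine ⟨[(D, x)], ?_, by simp⟩
      intro p hp
      rw [List.mem_singleton] at hp
      rw [hp]
      exact hx
    | zero => exact ⟨[], by simp, by simp⟩
    | add x y _ _ hx hy =>
      obtain ⟨l₁, h₁, rfl⟩ := hx
      obtain ⟨l₂, h₂, rfl⟩ := hy
      refine ⟨l₁ ++ l₂, ?_, by simp⟩
      intro p hp
      rcases List.mem_append.1 hp with hp | hp
      · exact h₁ p hp
      · exact h₂ p hp
  obtain ⟨l, hl, hsum⟩ := hex n (by rw [hsup]; trivial)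
  exact exists_inf_isoComp_ne_bot_aux N hN l.length l rfl n hnN hn0 hl hsum

end Coalg

section Theta

variable {k : Type u} [Field k] {A : Type v} [AddCommGroup A] [Module k A] [Coalgebra k A]
variable {R : Type w} [CommRing R] [Algebra k R]
variable {M : Type w'} [AddCommGroup M] [Module k M] [Module R M] [IsScalarTower k R M]
  [HopfRep.Comod k A M]
variable {h : SimpSub k A → ℕ} {θ : SimpSub k A → ℚ}

/-- positivity of the weight of a nonzero subcomodule with no negative parts -/
theorem theta_pos_of_no_neg (hM : IsConstellation k A R M h)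
    (hsum : HasSum (fun D => (θ D : ℝ) * (h D : ℝ)) 0) (hθ : ∀ D, h D ≠ 0 → θ D ≠ 0)
    (N : Submodule k M) (hN : HopfRep.IsSubcomod (k := k) (A := A) N) (hne : N ≠ ⊥)
    (hneg : ∀ D, θ D < 0 → N ⊓ isoComp M D.1 = ⊥) : 0 < theta M θ N := by
  have hnn : ∀ D, 0 ≤ (θ D : ℝ) * (hilbAt M N D : ℝ) := by
    intro D
    by_cases hD : θ D < 0
    · have : hilbAt M N D = 0 := by
        unfold hilbAt
        rw [hneg D hD]
        exact finrank_bot k M
      rw [this]; simp
    · push_neg at hD
      exact mul_nonneg (by exact_mod_cast hD) (Nat.cast_nonneg _)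
  obtain ⟨D, hD⟩ := exists_inf_isoComp_ne_bot hM.2.1 N hN hne
  have hpos : 0 < hilbAt M N D := by
    unfold hilbAt
    haveI := finite_inf_isoComp hM N D
    rw [Module.finrank_pos_iff]
    exact (Submodule.nontrivial_iff_ne_bot).2 hD
  have hhD : h D ≠ 0 := by
    have := hilbAt_le hM N D
    omega
  have hθD : 0 < θ D := by
    rcases lt_trichotomy (θ D) 0 with h1 | h1 | h1
    · exact absurd (hneg D h1) hD
    · exact absurd h1 (hθ D hhD)
    · exact h1
  unfold theta
  apply (summable_theta hM hsum N).tsum_pos hnn D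
  exact mul_pos (by exact_mod_cast hθD) (by exact_mod_cast hpos)

end Theta

end Groth.Agent.Lib.Helper81.Constell
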