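import Mathlib
import Groth.Agent.S4546
import Groth.Agent.S4548
import Groth.Agent.S2460
import Groth.Agent.Lib.Helper81.PBasisField
import Groth.Agent.Lib.Helper81.Cartier
import Groth.Agent.Lib.Helper81.DerExtend
import Groth.Agent.Lib.Helper81.CoeffFieldP
import Groth.Agent.Lib.Helper73.RedFibre3

/-!
# Derivations detecting non-`p`-th powers (helper81)

`B` a domain of characteristic `p`, of finite type over a complete Noetherian local ring, `f ∈ B`
not a `p`-th power in `Frac B`: some derivation `D : B → B` has `D f ≠ 0` (Stacks 07PJ).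
-/

set_option autoImplicit false
set_option linter.style.haveILetI false
universe u

namespace Groth.Agent.Lib.Helper81.DerPth

open TensorProduct

/-- Field-level core: `L` a finitely generated field extension of `K = Frac k[[T]]`, `f ∈ L` not a
`p`-th power. Then there is a subring `S` of `k[[T]]` over which `k[[T]]` is finite and a
derivation of `L` vanishing on `S` with `D f = 1`. -/
theorem exists_derivation_field (p : ℕ) [Fact p.Prime] (k : Type u) [Field k] [CharP k p] (n : ℕ)
    (L : Type u) [Field L] [Algebra (MvPowerSeries (Fin n) k) L]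
    [Algebra (FractionRing (MvPowerSeries (Fin n) k)) L]
    [IsScalarTower (MvPowerSeries (Fin n) k) (FractionRing (MvPowerSeries (Fin n) k)) L]
    [Algebra.EssFiniteType (FractionRing (MvPowerSeries (Fin n) k)) L]
    (f : L) (hf : ∀ x : L, x ^ p ≠ f) :
    ∃ (S : Subring (MvPowerSeries (Fin n) k)), Module.Finite S (MvPowerSeries (Fin n) k) ∧
      ∃ D : Derivation ℤ L L,
        (∀ s ∈ S, D (algebraMap (MvPowerSeries (Fin n) k) L s) = 0) ∧ D f = 1 := by
  classical
  set P := MvPowerSeries (Fin n) k with hP
  set K := FractionRing P with hK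
  obtain ⟨ι, hne, S, hdir, hS, hinf⟩ := Groth.Agent.S4548.result p k n
  haveI := hne
  -- characteristic
  haveI : CharP P p := charP_of_injective_ringHom (MvPowerSeries.C_injective (σ := Fin n) (R := k)) p
  haveI : CharP K p := charP_of_injective_algebraMap (IsFractionRing.injective P K) p
  haveI : CharP L p := charP_of_injective_algebraMap (algebraMap K L).injective p
  -- the prime field
  let k₀ : Subfield K := ⊥
  haveI : IsScalarTower k₀ K L := inferInstance
  -- the order on the index set
  letI : Preorder ι := Preorder.lift (fun i => OrderDual.toDual (S i))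
  have hle : ∀ a b : ι, a ≤ b ↔ S b ≤ S a := fun a b => Iff.rfl
  haveI : IsDirected ι (· ≤ ·) := ⟨fun a b => by
    obtain ⟨c, hc⟩ := hdir a b
    exact ⟨c, (hle a c).mpr (hc.trans inf_le_left), (hle b c).mpr (hc.trans inf_le_right)⟩⟩
  -- the intermediate fields
  let Kf : ι → Subfield K := fun i => Subfield.closure (algebraMap P K '' (S i))
  let kk : ι → IntermediateField k₀ K := fun i =>
    (Kf i).toIntermediateField (fun x => (bot_le : (⊥ : Subfield K) ≤ Kf i) x.2)
  have hkk : Antitone kk := by
    intro a b hab x hx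
    have h1 : Kf b ≤ Kf a := Subfield.closure_mono (Set.image_mono ((hle a b).mp hab))
    exact h1 hx
  set Fp : IntermediateField k₀ K :=
    IntermediateField.adjoin k₀ (Set.range fun y : K => y ^ p) with hFp
  have hFpset : (Fp : Set K) = Set.range fun y : K => y ^ p := by
    apply Set.Subset.antisymm
    · let R : IntermediateField k₀ K :=
        ((frobenius K p).fieldRange).toIntermediateField (fun x => bot_le (a := (frobenius K p).fieldRange) x.2)
      have hR : Fp ≤ R := IntermediateField.adjoin_le_iff.mpr (by
        rintro _ ⟨y, rfl⟩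
        exact ⟨y, rfl⟩)
      intro x hx
      obtain ⟨y, hy⟩ := hR hx
      exact ⟨y, hy⟩
    · exact IntermediateField.subset_adjoin _ _
  have hsets : ∀ i, (Set.range fun y : K => y ^ p) ⊆ (Kf i : Set K) := by
    intro i
    rw [← hinf]
    intro x hx
    rw [Set.iInf_eq_iInter, Set.mem_iInter] at hx
    exact hx i
  have h : (⨅ i, kk i ⊔ Fp) = Fp := by
    have h1 : ∀ i, kk i ⊔ Fp = kk i := fun i =>
      sup_eq_left.mpr (fun x hx => hsets i (hFpset ▸ hx))
    simp_rw [h1]
    apply le_antisymm
    · intro x hx
      rw [← SetLike.mem_coe, IntermediateField.coe_iInf, Set.mem_iInter] at hx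
      have h2 : x ∈ (⨅ i, (Kf i : Set K)) := by
        rw [Set.iInf_eq_iInter, Set.mem_iInter]
        exact hx
      rw [hinf] at h2
      rw [← SetLike.mem_coe, hFpset]
      exact h2
    · exact le_iInf (fun i x hx => hsets i (by rw [← hFpset]; exact hx))
  haveI : Module.Finite L (EGA41.imperfection k₀ K L) := by
    haveI := (Cartier.good_of_essFiniteType K L).2.1
    exact Cartier.finite_ker_mapBaseChange k₀ K L
  have hL := Groth.Agent.S4546.result p (L := L) kk hkk h
  set FpL : IntermediateField k₀ L :=
    IntermediateField.adjoin k₀ (Set.range fun y : L => y ^ p) with hFpL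
  have hFpLset : (FpL : Set L) = Set.range fun y : L => y ^ p := by
    apply Set.Subset.antisymm
    · let R : IntermediateField k₀ L :=
        ((frobenius L p).fieldRange).toIntermediateField (fun x => by
          have hx : algebraMap k₀ L x = algebraMap K L (x : K) := rfl
          rw [hx]
          obtain ⟨y, hy⟩ : (x : K) ∈ (frobenius K p).fieldRange :=
            bot_le (a := (frobenius K p).fieldRange) x.2
          exact ⟨algebraMap K L y, by rw [← hy]; simp [frobenius_def]⟩)
      have hR : FpL ≤ R := IntermediateField.adjoin_le_iff.mpr (by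
        rintro _ ⟨y, rfl⟩
        exact ⟨y, rfl⟩)
      intro x hx
      obtain ⟨y, hy⟩ := hR hx
      exact ⟨y, hy⟩
    · exact IntermediateField.subset_adjoin _ _
  have hfnot : f ∉ FpL := by
    intro hmem
    rw [← SetLike.mem_coe, hFpLset] at hmem
    obtain ⟨y, hy⟩ := hmem
    exact hf y hy
  rw [← hL] at hfnot
  have hex : ∃ i, f ∉ (kk i).map (IsScalarTower.toAlgHom k₀ K L) ⊔ FpL := by
    by_contra hcon
    apply hfnot
    rw [← SetLike.mem_coe, IntermediateField.coe_iInf, Set.mem_iInter]
    intro i
    by_contra hi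
    exact hcon ⟨i, hi⟩
  obtain ⟨i, hi⟩ := hex
  set M : IntermediateField k₀ L := (kk i).map (IsScalarTower.toAlgHom k₀ K L) ⊔ FpL with hM
  have hMp : ∀ y : L, y ^ p ∈ M := fun y =>
    (le_sup_right : FpL ≤ M) (IntermediateField.subset_adjoin _ _ ⟨y, rfl⟩)
  obtain ⟨D, hD0, hD1⟩ :=
    Groth.Agent.Lib.Helper81.PBasisField.exists_derivation_of_notMem (p := p) M hMp hi
  refine ⟨S i, (hS i).2.2, D, ?_, hD1⟩
  intro s hs
  apply hD0
  apply (le_sup_left : (kk i).map (IsScalarTower.toAlgHom k₀ K L) ≤ M)
  refine ⟨algebraMap P K s, ?_, ?_⟩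
  · exact Subfield.subset_closure ⟨s, hs, rfl⟩
  · change algebraMap K L (algebraMap P K s) = algebraMap P L s
    rw [← IsScalarTower.algebraMap_apply]

/-- Clearing denominators: a derivation of the fraction field `L` of a domain `B` of finite type
over `S₀`, vanishing on `S₀`, becomes a derivation of `B` after multiplication by a nonzero
element. -/
theorem exists_derivation_of_fractionField {S₀ B L : Type*} [CommRing S₀] [CommRing B] [IsDomain B]
    [Algebra S₀ B] [Algebra.FiniteType S₀ B] [Field L] [Algebra B L] [IsFractionRing B L]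
    (D : Derivation ℤ L L) (hD : ∀ s : S₀, D (algebraMap B L (algebraMap S₀ B s)) = 0) :
    ∃ (g : B) (D' : Derivation ℤ B B), g ≠ 0 ∧
      ∀ b : B, algebraMap B L (D' b) = algebraMap B L g * D (algebraMap B L b) := by
  classical
  obtain ⟨t, ht⟩ := (Algebra.FiniteType.out : (⊤ : Subalgebra S₀ B).FG)
  -- denominators for the generators
  have hden : ∀ b : B, ∃ (c : B) (d : B), d ≠ 0 ∧
      algebraMap B L c = algebraMap B L d * D (algebraMap B L b) := by
    intro b
    obtain ⟨c, d, hd, h⟩ := IsFractionRing.div_surjective (A := B) (D (algebraMap B L b))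
    have hd0 : d ≠ 0 := nonZeroDivisors.ne_zero hd
    refine ⟨c, d, hd0, ?_⟩
    have hdL : algebraMap B L d ≠ 0 := by
      simpa using (map_ne_zero_iff _ (IsFractionRing.injective B L)).mpr hd0
    rw [← h, mul_div_cancel₀ _ hdL]
  choose cc dd hdd hcd using hden
  let g : B := ∏ b ∈ t, dd b
  have hg0 : g ≠ 0 := Finset.prod_ne_zero_iff.mpr (fun b _ => hdd b)
  -- the subalgebra of good elements
  let T : Subalgebra S₀ B :=
    { carrier := {b | ∃ c : B, algebraMap B L c = algebraMap B L g * D (algebraMap B L b)}
      mul_mem' := by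
        rintro a b ⟨ca, ha⟩ ⟨cb, hb⟩
        refine ⟨a * cb + b * ca, ?_⟩
        rw [map_add, map_mul, map_mul, ha, hb, map_mul, Derivation.leibniz, smul_eq_mul,
          smul_eq_mul]
        ring
      add_mem' := by
        rintro a b ⟨ca, ha⟩ ⟨cb, hb⟩
        refine ⟨ca + cb, ?_⟩
        rw [map_add, ha, hb, map_add, map_add, mul_add]
      algebraMap_mem' := by
        intro s
        exact ⟨0, by rw [hD, mul_zero, map_zero]⟩ }
  have hT : T = ⊤ := by
    rw [eq_top_iff, ← ht, Algebra.adjoin_le_iff]
    intro b hb
    refine ⟨(∏ b' ∈ t.erase b, dd b') * cc b, ?_⟩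
    rw [map_mul, hcd, ← mul_assoc, ← map_mul]
    congr 2
    exact Finset.prod_erase_mul t dd hb
  have hall : ∀ b : B, ∃ c : B, algebraMap B L c = algebraMap B L g * D (algebraMap B L b) := by
    intro b
    have : b ∈ T := hT ▸ Algebra.mem_top
    exact this
  choose D₀ hD₀ using hall
  have hinj := IsFractionRing.injective B L
  refine ⟨g, Groth.Agent.Lib.Helper81.DerExtend.ofFun (R := ℤ) D₀ ?_ ?_ ?_, hg0, hD₀⟩
  · intro x y
    apply hinj
    rw [map_add, hD₀, hD₀, hD₀, map_add, map_add, mul_add]
  · intro x y
    apply hinj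
    rw [map_add, smul_eq_mul, smul_eq_mul, map_mul, map_mul, hD₀, hD₀, hD₀, map_mul,
      Derivation.leibniz, smul_eq_mul, smul_eq_mul]
    ring
  · intro r
    apply hinj
    rw [hD₀, map_zero]
    have : algebraMap B L (algebraMap ℤ B r) = algebraMap ℤ L r := by
      simp
    rw [this, Derivation.map_algebraMap, mul_zero]

/-- a copy of the residue field (to avoid instance diamonds) -/
def CF (A : Type u) [CommRing A] [IsLocalRing A] : Type u := IsLocalRing.ResidueField A

noncomputable instance (A : Type u) [CommRing A] [IsLocalRing A] : Field (CF A) :=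
  inferInstanceAs (Field (IsLocalRing.ResidueField A))

/-- the identification -/
noncomputable def CF.equiv (A : Type u) [CommRing A] [IsLocalRing A] :
    CF A ≃+* IsLocalRing.ResidueField A := RingEquiv.refl _

open IsLocalRing in
theorem main {R B : Type u} [CommRing R] [IsLocalRing R]
    [IsNoetherianRing R] [IsAdicComplete (IsLocalRing.maximalIdeal R) R] [CommRing B] [IsDomain B]
    [Algebra R B] [Algebra.FiniteType R B] (p : ℕ) [Fact p.Prime] [CharP B p] (f : B)
    (hf : ∀ x : FractionRing B, x ^ p ≠ algebraMap B (FractionRing B) f) :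
    ∃ D : Derivation ℤ B B, D f ≠ 0 := by
  classical
  -- the image of `R`
  set 𝔞 : Ideal R := RingHom.ker (algebraMap R B) with h𝔞
  haveI : 𝔞.IsPrime := RingHom.ker_isPrime _
  let R₁ := R ⧸ 𝔞
  letI algR₁B : Algebra R₁ B := (RingHom.kerLift (algebraMap R B)).toAlgebra
  haveI : IsScalarTower R R₁ B := IsScalarTower.of_algebraMap_eq (fun _ => rfl)
  have hinj₁ : Function.Injective (algebraMap R₁ B) := RingHom.kerLift_injective _
  haveI : Module.Finite R R₁ := Module.Finite.of_surjective (Algebra.linearMap R R₁)
    Ideal.Quotient.mk_surjective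
  haveI : IsLocalRing R₁ := Groth.Agent.Lib.Helper73.RedFibre.isLocalRing_of_finite_domain R R₁
  haveI : IsNoetherianRing R₁ := inferInstance
  haveI : IsAdicComplete (maximalIdeal R₁) R₁ :=
    Groth.Agent.Lib.Helper73.RedFibre.isAdicComplete_of_finite_domain R R₁
  haveI : CharP R₁ p := RingHom.charP (algebraMap R₁ B) hinj₁ p
  haveI : Algebra.FiniteType R₁ B := Algebra.FiniteType.of_restrictScalars_finiteType R R₁ B
  -- coefficient field
  obtain ⟨s, hs⟩ := Groth.Agent.Lib.Helper81.CompleteReg.exists_coeff_field_charP R₁ p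
  let κ := CF R₁
  letI algκ : Algebra κ R₁ := (s.comp (CF.equiv R₁).toRingHom).toAlgebra
  haveI : Module.Finite κ (ResidueField R₁) := by
    refine Module.Finite.of_surjective (Algebra.linearMap κ (ResidueField R₁)) ?_
    intro z
    refine ⟨(CF.equiv R₁).symm z, ?_⟩
    change residue R₁ (s ((CF.equiv R₁) ((CF.equiv R₁).symm z))) = z
    rw [RingEquiv.apply_symm_apply]
    exact congrArg (fun φ => φ z) hs
  haveI : CharP κ p := by
    haveI := Groth.Agent.Lib.Helper81.CompleteReg.charP_residueField R₁ p
    exact RingHom.charP (CF.equiv R₁).toRingHom (CF.equiv R₁).injective p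
  obtain ⟨n, w, hwinj, -, hwfin⟩ := Groth.Agent.S2460.result (k₀ := κ) (A := R₁)
  let P := MvPowerSeries (Fin n) κ
  letI algPR₁ : Algebra P R₁ := w.toRingHom.toAlgebra
  haveI : Module.Finite P R₁ := hwfin
  letI algPB : Algebra P B := ((algebraMap R₁ B).comp (algebraMap P R₁)).toAlgebra
  haveI : IsScalarTower P R₁ B := IsScalarTower.of_algebraMap_eq (fun _ => rfl)
  have hinjPB : Function.Injective (algebraMap P B) := hinj₁.comp hwinj
  haveI : Algebra.FiniteType P B :=
    Algebra.FiniteType.trans (inferInstance : Algebra.FiniteType P R₁) inferInstance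
  -- the fraction fields
  let L := FractionRing B
  haveI : IsScalarTower P B L := inferInstance
  haveI : FaithfulSMul P L := (faithfulSMul_iff_algebraMap_injective P L).mpr (by
    rw [IsScalarTower.algebraMap_eq P B L]
    exact (IsFractionRing.injective B L).comp hinjPB)
  letI algKL : Algebra (FractionRing P) L := FractionRing.liftAlgebra P L
  haveI : IsScalarTower P (FractionRing P) L := FractionRing.isScalarTower_liftAlgebra P L
  haveI : Algebra.EssFiniteType B L := Algebra.EssFiniteType.of_isLocalization L (nonZeroDivisors B)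
  haveI : Algebra.EssFiniteType P L := Algebra.EssFiniteType.comp P B L
  haveI : Algebra.EssFiniteType (FractionRing P) L := Algebra.EssFiniteType.of_comp P (FractionRing P) L
  obtain ⟨S, hSfin, D, hD0, hD1⟩ := exists_derivation_field p κ n L (algebraMap B L f) hf
  haveI := hSfin
  letI algSB : Algebra S B := ((algebraMap P B).comp (algebraMap S P)).toAlgebra
  haveI : IsScalarTower S P B := IsScalarTower.of_algebraMap_eq (fun _ => rfl)
  haveI : Algebra.FiniteType S B :=
    Algebra.FiniteType.trans (inferInstance : Algebra.FiniteType S P) inferInstance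
  obtain ⟨g, D', hg0, hD'⟩ := exists_derivation_of_fractionField (S₀ := S) (B := B) (L := L) D
    (fun s => hD0 (s : P) s.2)
  refine ⟨D', ?_⟩
  intro h0
  have h1 := hD' f
  rw [h0, map_zero, hD1, mul_one] at h1
  exact hg0 ((map_eq_zero_iff _ (IsFractionRing.injective B L)).mp h1.symm)

end Groth.Agent.Lib.Helper81.DerPth
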