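import Mathlib

/-!
# Derivations and polynomial expansions along an ideal (helper81)

`T` a `B`-algebra with an ideal `I`, a family `ε : κ → T` of elements of `I` and `B`-derivations
`d l` of `T` with `d l (ε μ) ≡ δ_{lμ}` modulo `I`.  If `ℚ ⊆ B` and `B ∩ I = 0`, a homogeneous
polynomial `f` of degree `n` in the `ε μ` lying in `I^(n+1)` vanishes.
-/

set_option autoImplicit false

namespace Groth.Agent.Lib.Helper81.DerivPoly

open MvPolynomial

variable {B T κ : Type*} [CommRing B] [CommRing T] [Algebra B T] (I : Ideal T)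

theorem derivation_mem_pow (d : Derivation B T T) (n : ℕ) {x : T} (hx : x ∈ I ^ (n + 1)) :
    d x ∈ I ^ n := by
  induction n generalizing x with
  | zero => rw [pow_zero, Ideal.one_eq_top]; trivial
  | succ n ih =>
    rw [pow_succ'] at hx
    refine Submodule.mul_induction_on hx (fun a ha b hb => ?_) (fun a b ha hb => ?_)
    · rw [d.leibniz, smul_eq_mul, smul_eq_mul]
      apply Ideal.add_mem
      · rw [pow_succ']
        exact Ideal.mul_mem_mul ha (ih hb)
      · exact Ideal.mul_mem_right _ _ hb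
    · rw [map_add]
      exact Ideal.add_mem _ ha hb

variable (ε : κ → T)

theorem aeval_mem_pow (hε : ∀ μ, ε μ ∈ I) (n : ℕ) {f : MvPolynomial κ B}
    (hf : f ∈ idealOfVars κ B ^ n) : aeval ε f ∈ I ^ n := by
  have h1 : (idealOfVars κ B).map (aeval ε : MvPolynomial κ B →ₐ[B] T) ≤ I := by
    rw [Ideal.map_le_iff_le_comap]
    apply Ideal.span_le.2
    rintro _ ⟨μ, rfl⟩
    change aeval ε (X μ) ∈ I
    rw [aeval_X]
    exact hε μ
  have h2 : aeval ε f ∈ ((idealOfVars κ B) ^ n).map (aeval ε : MvPolynomial κ B →ₐ[B] T) :=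
    Ideal.mem_map_of_mem _ hf
  rw [Ideal.map_pow] at h2
  exact Ideal.pow_right_mono h1 n h2

theorem chain_mem_one (hε : ∀ μ, ε μ ∈ I) (d : Derivation B T T) (l : κ)
    (hd_self : d (ε l) - 1 ∈ I) (hd_ne : ∀ μ, μ ≠ l → d (ε μ) ∈ I) {f : MvPolynomial κ B}
    (hf : f ∈ idealOfVars κ B) : d (aeval ε f) - aeval ε (pderiv l f) ∈ I := by
  refine Submodule.span_induction ?_ ?_ ?_ ?_ hf
  · rintro _ ⟨μ, rfl⟩
    rw [aeval_X]
    by_cases hμ : μ = l
    · subst hμ
      rw [pderiv_X_self, map_one]
      exact hd_self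
    · rw [pderiv_X_of_ne hμ, map_zero, sub_zero]
      exact hd_ne μ hμ
  · simp
  · intro a b _ _ ha hb
    have : d (aeval ε (a + b)) - aeval ε (pderiv l (a + b)) =
        (d (aeval ε a) - aeval ε (pderiv l a)) + (d (aeval ε b) - aeval ε (pderiv l b)) := by
      simp only [map_add]; ring
    rw [this]
    exact Ideal.add_mem _ ha hb
  · intro c a ha ih
    have ha' : aeval ε a ∈ I := by
      have := aeval_mem_pow I ε hε 1 (f := a) (by rw [pow_one]; exact ha)
      rwa [pow_one] at this
    have : d (aeval ε (c • a)) - aeval ε (pderiv l (c • a)) =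
        aeval ε c * (d (aeval ε a) - aeval ε (pderiv l a)) +
          aeval ε a * (d (aeval ε c) - aeval ε (pderiv l c)) := by
      rw [smul_eq_mul, map_mul, d.leibniz, Derivation.leibniz, map_add, smul_eq_mul, smul_eq_mul,
        smul_eq_mul, smul_eq_mul, map_mul, map_mul]
      ring
    rw [this]
    exact Ideal.add_mem _ (Ideal.mul_mem_left _ _ ih) (Ideal.mul_mem_right _ _ ha')

theorem chain_mem (hε : ∀ μ, ε μ ∈ I) (d : Derivation B T T) (l : κ)
    (hd_self : d (ε l) - 1 ∈ I) (hd_ne : ∀ μ, μ ≠ l → d (ε μ) ∈ I) (n : ℕ)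
    {f : MvPolynomial κ B} (hf : f ∈ idealOfVars κ B ^ n) :
    d (aeval ε f) - aeval ε (pderiv l f) ∈ I ^ n := by
  induction n generalizing f with
  | zero => rw [pow_zero, Ideal.one_eq_top]; trivial
  | succ n ih =>
    rw [pow_succ'] at hf
    refine Submodule.mul_induction_on hf (fun a ha b hb => ?_) (fun a b ha hb => ?_)
    · have : d (aeval ε (a * b)) - aeval ε (pderiv l (a * b)) =
          aeval ε a * (d (aeval ε b) - aeval ε (pderiv l b)) +
            (d (aeval ε a) - aeval ε (pderiv l a)) * aeval ε b := by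
        rw [map_mul, d.leibniz, Derivation.leibniz, map_add, smul_eq_mul, smul_eq_mul,
          smul_eq_mul, smul_eq_mul, map_mul, map_mul]
        ring
      rw [this]
      have ha' : aeval ε a ∈ I := by
        have := aeval_mem_pow I ε hε 1 (f := a) (by rw [pow_one]; exact ha)
        rwa [pow_one] at this
      apply Ideal.add_mem
      · rw [pow_succ']
        exact Ideal.mul_mem_mul ha' (ih hb)
      · rw [pow_succ']
        exact Ideal.mul_mem_mul (chain_mem_one I ε hε d l hd_self hd_ne ha)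
          (aeval_mem_pow I ε hε n hb)
    · have : d (aeval ε (a + b)) - aeval ε (pderiv l (a + b)) =
          (d (aeval ε a) - aeval ε (pderiv l a)) + (d (aeval ε b) - aeval ε (pderiv l b)) := by
        simp only [map_add]; ring
      rw [this]
      exact Ideal.add_mem _ ha hb

theorem isHomogeneous_mem_pow {n : ℕ} {f : MvPolynomial κ B} (hf : f.IsHomogeneous n) :
    f ∈ idealOfVars κ B ^ n := by
  rw [mem_pow_idealOfVars_iff]
  intro x hx
  have := hf (mem_support_iff.1 hx)
  rw [Finsupp.degree_eq_weight_one] 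
  exact le_of_eq this.symm

theorem eq_zero_of_pderiv_eq_zero [Algebra ℚ B] {n : ℕ} {f : MvPolynomial κ B}
    (hf : f.IsHomogeneous (n + 1)) (h : ∀ l, pderiv l f = 0) : f = 0 := by
  classical
  ext s
  rw [coeff_zero]
  by_contra hs
  have hdeg : Finsupp.weight 1 s = n + 1 := hf hs
  have hne : s ≠ 0 := by
    rintro rfl
    simp at hdeg
  obtain ⟨l, hl⟩ : ∃ l, s l ≠ 0 := by
    by_contra hcon
    push Not at hcon
    exact hne (Finsupp.ext hcon)
  obtain ⟨m, hm⟩ : ∃ m : κ →₀ ℕ, m + Finsupp.single l 1 = s := by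
    refine ⟨s - Finsupp.single l 1, ?_⟩
    ext k
    by_cases hk : k = l
    · subst hk
      simp only [Finsupp.coe_add, Finsupp.coe_tsub, Pi.add_apply, Pi.sub_apply,
        Finsupp.single_eq_same]
      omega
    · simp [Finsupp.single_eq_of_ne hk]
  have h1 := coeff_pderiv (i := l) f m
  rw [h l, coeff_zero, hm] at h1
  have hunit : IsUnit (((m l : ℕ) : B) + 1) := by
    have : (((m l : ℕ) : B) + 1) = algebraMap ℚ B (((m l : ℕ) : ℚ) + 1) := by
      rw [map_add, map_one, map_natCast]
    rw [this]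
    apply IsUnit.map
    apply IsUnit.mk0
    positivity
  exact hs (hunit.mul_left_eq_zero.1 h1.symm)

theorem eq_zero_of_aeval_mem [Algebra ℚ B] (hε : ∀ μ, ε μ ∈ I)
    (hI : ∀ c : B, algebraMap B T c ∈ I → c = 0)
    (d : κ → Derivation B T T) (hd_self : ∀ l, d l (ε l) - 1 ∈ I)
    (hd_ne : ∀ l μ, μ ≠ l → d l (ε μ) ∈ I) (n : ℕ) (f : MvPolynomial κ B)
    (hf : f.IsHomogeneous n) (h : aeval ε f ∈ I ^ (n + 1)) : f = 0 := by
  induction n generalizing f with
  | zero =>
    have hC : f = C (coeff 0 f) := by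
      rw [← totalDegree_eq_zero_iff_eq_C, totalDegree_zero_iff_isHomogeneous]
      exact hf
    rw [hC, aeval_C, zero_add, pow_one] at h
    rw [hC, hI _ h, map_zero]
  | succ n ih =>
    apply eq_zero_of_pderiv_eq_zero hf
    intro l
    apply ih (pderiv l f)
    · have := hf.pderiv (i := l)
      simpa using this
    · have h1 : d l (aeval ε f) ∈ I ^ (n + 1) := derivation_mem_pow I (d l) (n + 1) h
      have h2 := chain_mem I ε hε (d l) l (hd_self l) (hd_ne l) (n + 1)
        (isHomogeneous_mem_pow hf)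
      have : aeval ε (pderiv l f) = d l (aeval ε f) - (d l (aeval ε f) - aeval ε (pderiv l f)) := by
        ring
      rw [this]
      exact Ideal.sub_mem _ h1 h2

end Groth.Agent.Lib.Helper81.DerivPoly
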