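import Mathlib
import Groth.Agent.S4573
import Groth.Agent.S2471
import Groth.Agent.S2082
import Groth.Agent.Lib.Helper90.SmoothOmega
import Groth.Agent.Lib.Helper47.SeparableSmooth
import Groth.Agent.Lib.Helper47.RegularCotangent
import Groth.Agent.Lib.Helper28.RegularCM
import Groth.Agent.Lib.Helper85.RegularGens

/-!
# Flatness and regular quotient from a differential basis (helper81)

`k` field of char. `p`, `A` Noetherian local geometrically regular over `k`, `F ⊆ κ(A)` a subfield
containing `k`, `φ : k[y₁..y_m] → A` with `y_i ↦ F` whose differentials form a basis of `Ω_{F/k}`.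
Then `A` is flat over `k[y]` and `A/𝔭A` is regular (`𝔭 = φ⁻¹(𝔪)`).
-/

set_option autoImplicit false
set_option linter.style.haveILetI false
universe u v

namespace Groth.Agent.Lib.Helper81.DiffBasisFlat

open IsLocalRing TensorProduct KaehlerDifferential

/-- For a local ring `R`, formally smooth over `E` with residue field formally smooth over `E`:
every linear functional on the cotangent space is induced by an `E`-derivation `R → κ`. -/
theorem exists_derivation_of_functional (E : Type v) (R : Type u) [CommRing E] [CommRing R] [IsLocalRing R]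
    [Algebra E R] [Algebra.FormallySmooth E R] [Algebra.FormallySmooth E (ResidueField R)]
    (f : (RingHom.ker (algebraMap R (ResidueField R))).Cotangent →ₗ[R] ResidueField R) :
    ∃ D : Derivation E R (ResidueField R),
      ∀ x : RingHom.ker (algebraMap R (ResidueField R)), D x = f (Ideal.toCotangent _ x) := by
  have hsurj : Function.Surjective (algebraMap R (ResidueField R)) := residue_surjective
  obtain ⟨l, hl⟩ := (Algebra.FormallySmooth.iff_split_injection (R := E) (P := R)
    (A := ResidueField R) hsurj).mp inferInstance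
  let g : ResidueField R ⊗[R] Ω[R⁄E] →ₗ[R] ResidueField R := f ∘ₗ l
  let t : Ω[R⁄E] →ₗ[R] ResidueField R ⊗[R] Ω[R⁄E] := TensorProduct.mk R (ResidueField R) Ω[R⁄E] 1
  refine ⟨(g ∘ₗ t).compDer (KaehlerDifferential.D E R), ?_⟩
  intro x
  have h1 : l (kerCotangentToTensor E R (ResidueField R) (Ideal.toCotangent _ x)) =
      Ideal.toCotangent _ x := by
    exact LinearMap.congr_fun hl (Ideal.toCotangent _ x)
  change f (l ((1 : ResidueField R) ⊗ₜ[R] KaehlerDifferential.D E R (x : R))) = _
  rw [← kerCotangentToTensor_toCotangent, h1]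

theorem mvPolynomial_derivation_ext {σ k M : Type*} [CommRing k] [AddCommGroup M]
    [Module (MvPolynomial σ k) M] (D₁ D₂ : Derivation ℤ (MvPolynomial σ k) M)
    (hC : ∀ c : k, D₁ (MvPolynomial.C c) = D₂ (MvPolynomial.C c))
    (hX : ∀ i : σ, D₁ (MvPolynomial.X i) = D₂ (MvPolynomial.X i)) : D₁ = D₂ := by
  ext x
  induction x using MvPolynomial.induction_on with
  | C a => exact hC a
  | add p q hp hq => rw [map_add, map_add, hp, hq]
  | mul_X p i hp => rw [Derivation.leibniz, Derivation.leibniz, hp, hX]

/-- A derivation of a local ring into its residue field kills the square of the maximal ideal. -/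
theorem derivation_eq_zero_of_mem_sq {A : Type u} [CommRing A] [IsLocalRing A]
    (D : Derivation ℤ A (ResidueField A)) {x : A} (hx : x ∈ maximalIdeal A ^ 2) : D x = 0 := by
  rw [pow_two] at hx
  refine Submodule.mul_induction_on hx ?_ ?_
  · intro a ha b hb
    rw [Derivation.leibniz]
    have h1 : a • D b = 0 := by
      rw [Algebra.smul_def]
      have : algebraMap A (ResidueField A) a = 0 := (residue_eq_zero_iff a).mpr ha
      rw [this, zero_mul]
    have h2 : b • D a = 0 := by
      rw [Algebra.smul_def]
      have : algebraMap A (ResidueField A) b = 0 := (residue_eq_zero_iff b).mpr hb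
      rw [this, zero_mul]
    rw [h1, h2, add_zero]
  · intro a b ha hb
    rw [map_add, ha, hb, add_zero]

section
variable (k : Type u) [Field k] (A : Type u) [CommRing A] [IsLocalRing A] [Algebra k A]
  (F : IntermediateField k (ResidueField A)) (m : ℕ) (φ : MvPolynomial (Fin m) k →ₐ[k] A)
  (hφ : ∀ i : Fin m, residue A (φ (MvPolynomial.X i)) ∈ F)

/-- the induced map `k[y] → F` -/
noncomputable def resF : MvPolynomial (Fin m) k →ₐ[k] F :=
  MvPolynomial.aeval (fun i => (⟨residue A (φ (MvPolynomial.X i)), hφ i⟩ : F))

theorem resF_coe (x : MvPolynomial (Fin m) k) :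
    ((resF k A F m φ hφ x : F) : ResidueField A) = residue A (φ x) := by
  have h : F.val.comp (resF k A F m φ hφ) =
      (IsScalarTower.toAlgHom k A (ResidueField A)).comp φ := by
    apply MvPolynomial.algHom_ext
    intro i
    simp [resF]
  exact AlgHom.congr_fun h x

theorem exists_decomp
    (hext : ∀ D : Derivation ℤ k (ResidueField A),
      ∃ D' : Derivation ℤ A (ResidueField A), ∀ c, D' (algebraMap k A c) = D c)
    (hb : LinearIndependent F
        (fun i : Fin m => KaehlerDifferential.D k F ⟨residue A (φ (MvPolynomial.X i)), hφ i⟩) ∧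
      Submodule.span F (Set.range
        (fun i : Fin m => KaehlerDifferential.D k F ⟨residue A (φ (MvPolynomial.X i)), hφ i⟩)) = ⊤)
    (δ : MvPolynomial (Fin m) k → ResidueField A)
    (hδadd : ∀ x y, δ (x + y) = δ x + δ y)
    (hδmul : ∀ x y, δ (x * y) = residue A (φ x) * δ y + residue A (φ y) * δ x) :
    ∃ δ₁ : Derivation ℤ A (ResidueField A),
      ∀ x : MvPolynomial (Fin m) k, φ x ∈ maximalIdeal A → δ x = δ₁ (φ x) := by
  classical
  -- the restriction of δ to k
  let D₀ : Derivation ℤ k (ResidueField A) :=
    { toFun := fun c => δ (MvPolynomial.C c)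
      map_add' := fun a b => by rw [MvPolynomial.C_add, hδadd]
      map_smul' := fun n a => by
        have hz : ∀ n : ℤ, δ (MvPolynomial.C (n • a)) = n • δ (MvPolynomial.C a) := by
          have hzero : δ 0 = 0 := by
            have := hδadd 0 0
            rw [add_zero] at this
            exact (add_eq_left.mp this.symm)
          have hneg : ∀ x, δ (-x) = - δ x := by
            intro x
            have := hδadd x (-x)
            rw [add_neg_cancel, hzero] at this
            exact (neg_eq_of_add_eq_zero_right this.symm).symm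
          intro n
          induction n using Int.induction_on with
          | zero => simp [hzero]
          | succ n ih =>
            rw [add_smul, one_smul, MvPolynomial.C_add, hδadd, ih, add_smul, one_smul]
          | pred n ih =>
            rw [sub_smul, one_smul, sub_eq_add_neg, MvPolynomial.C_add, hδadd, ih, sub_smul,
              one_smul, sub_eq_add_neg, MvPolynomial.C_neg, hneg]
        simpa using hz n
      map_one_eq_zero' := by
        change δ (MvPolynomial.C 1) = 0
        have := hδmul 1 1
        rw [mul_one, map_one, map_one, one_mul] at this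
        rw [MvPolynomial.C_1]
        exact (add_eq_left.mp this.symm)
      leibniz' := fun a b => by
        change δ (MvPolynomial.C (a * b)) = a • δ (MvPolynomial.C b) + b • δ (MvPolynomial.C a)
        rw [MvPolynomial.C_mul, hδmul, Algebra.smul_def, Algebra.smul_def]
        congr 2
        · rw [← MvPolynomial.algebraMap_eq, AlgHom.commutes]
          rfl
        · rw [← MvPolynomial.algebraMap_eq, AlgHom.commutes]
          rfl }
  obtain ⟨δ₁, hδ₁⟩ := hext D₀
  -- values on the variables
  let e : Fin m → ResidueField A := fun i => δ (MvPolynomial.X i) - δ₁ (φ (MvPolynomial.X i))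
  let b : Module.Basis (Fin m) F Ω[F⁄k] := Module.Basis.mk hb.1 (le_of_eq hb.2.symm)
  let g : Ω[F⁄k] →ₗ[F] ResidueField A := b.constr F e
  let δ₂ : Derivation k F (ResidueField A) := g.compDer (KaehlerDifferential.D k F)
  have hδ₂ : ∀ i, δ₂ ⟨residue A (φ (MvPolynomial.X i)), hφ i⟩ = e i := by
    intro i
    change g (KaehlerDifferential.D k F _) = e i
    have : KaehlerDifferential.D k F ⟨residue A (φ (MvPolynomial.X i)), hφ i⟩ = b i := by
      simp [b]
    rw [this, Module.Basis.constr_basis]
  have key : ∀ x : MvPolynomial (Fin m) k, δ x = δ₁ (φ x) + δ₂ (resF k A F m φ hφ x) := by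
    intro x
    induction x using MvPolynomial.induction_on with
    | C a =>
      have h1 : φ (MvPolynomial.C a) = algebraMap k A a := by
        rw [← MvPolynomial.algebraMap_eq, AlgHom.commutes]
      have h2 : resF k A F m φ hφ (MvPolynomial.C a) = algebraMap k F a := by
        rw [← MvPolynomial.algebraMap_eq, AlgHom.commutes]
      rw [h1, h2, hδ₁, Derivation.map_algebraMap, add_zero]
      rfl
    | add p q hp hq =>
      rw [hδadd, hp, hq, map_add, map_add, map_add, map_add]
      abel
    | mul_X q i hq =>
      rw [hδmul, show φ (q * MvPolynomial.X i) = φ q * φ (MvPolynomial.X i) from map_mul φ _ _,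
        show resF k A F m φ hφ (q * MvPolynomial.X i) =
          resF k A F m φ hφ q * resF k A F m φ hφ (MvPolynomial.X i) from map_mul _ _ _,
        Derivation.leibniz, Derivation.leibniz, hq]
      have hX : resF k A F m φ hφ (MvPolynomial.X i) = ⟨residue A (φ (MvPolynomial.X i)), hφ i⟩ := by
        simp [resF]
      rw [hX, hδ₂]
      simp only [e]
      have a1 : ∀ (f : F) (v : ResidueField A), f • v = (f : ResidueField A) * v := fun f v => rfl
      rw [a1, a1, resF_coe, Algebra.smul_def, Algebra.smul_def]
      change _ = residue A (φ q) * _ + residue A (φ (MvPolynomial.X i)) * _ + _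
      ring
  refine ⟨δ₁, ?_⟩
  intro x hx
  rw [key x]
  have h0 : resF k A F m φ hφ x = 0 := by
    apply Subtype.ext
    rw [resF_coe]
    exact (residue_eq_zero_iff _).mpr hx
  rw [h0, map_zero, add_zero]

end

theorem exists_derivation_of_functional' (E : Type v) (R : Type u) [CommRing E] [CommRing R] [IsLocalRing R]
    [Algebra E R] [Algebra.FormallySmooth E R] [Algebra.FormallySmooth E (ResidueField R)]
    (f : (maximalIdeal R).Cotangent →ₗ[R] ResidueField R) :
    ∃ D : Derivation E R (ResidueField R),
      ∀ x : maximalIdeal R, D x = f ((maximalIdeal R).toCotangent x) := by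
  have h : RingHom.ker (algebraMap R (ResidueField R)) = maximalIdeal R := ker_residue
  suffices H : ∀ (I : Ideal R) (_ : RingHom.ker (algebraMap R (ResidueField R)) = I)
      (f : I.Cotangent →ₗ[R] ResidueField R),
      ∃ D : Derivation E R (ResidueField R), ∀ x : I, D x = f (I.toCotangent x) from H _ h f
  intro I hI f
  subst hI
  exact exists_derivation_of_functional E R f

theorem exists_dual_derivations (E : Type v) (R : Type u) [CommRing E] [CommRing R] [IsLocalRing R]
    [IsNoetherianRing R] [Algebra E R] [Algebra.FormallySmooth E R]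
    [Algebra.FormallySmooth E (ResidueField R)]
    {d : ℕ} (hd : (maximalIdeal R).spanFinrank = d) (q : Fin d → R)
    (hq : Ideal.span (Set.range q) = maximalIdeal R) :
    ∃ δ : Fin d → Derivation E R (ResidueField R), ∀ i j, δ i (q j) = if i = j then 1 else 0 := by
  classical
  have hmem : ∀ j, q j ∈ maximalIdeal R := fun j => hq ▸ Ideal.subset_span ⟨j, rfl⟩
  let q' : Fin d → maximalIdeal R := fun j => ⟨q j, hmem j⟩
  let v : Fin d → CotangentSpace R := fun j => (maximalIdeal R).toCotangent (q' j)
  have hspanR : Submodule.span R (Set.range q') = ⊤ := by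
    apply Submodule.map_injective_of_injective (Submodule.injective_subtype (maximalIdeal R))
    rw [Submodule.map_span, Submodule.map_top, Submodule.range_subtype, ← Set.range_comp]
    exact hq
  have hspan : Submodule.span (ResidueField R) (Set.range v) = ⊤ := by
    have := (CotangentSpace.span_image_eq_top_iff (R := R) (s := Set.range q')).mpr hspanR
    rwa [← Set.range_comp] at this
  have hfin : Module.finrank (ResidueField R) (CotangentSpace R) = d := by
    rw [← spanFinrank_maximalIdeal_eq_finrank_cotangentSpace, hd]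
  let b : Module.Basis (Fin d) (ResidueField R) (CotangentSpace R) :=
    basisOfTopLeSpanOfCardEqFinrank v (le_of_eq hspan.symm) (by simp [hfin])
  have hb : ∀ j, b j = v j := fun j => by simp [b]
  have key : ∀ i : Fin d, ∃ D : Derivation E R (ResidueField R), ∀ j, D (q j) = if i = j then 1 else 0 := by
    intro i
    let f : CotangentSpace R →ₗ[R] ResidueField R := (b.coord i).restrictScalars R
    obtain ⟨D, hD⟩ := exists_derivation_of_functional' E R f
    refine ⟨D, fun j => ?_⟩
    have := hD (q' j)
    rw [show ((q' j : maximalIdeal R) : R) = q j from rfl] at this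
    rw [this]
    change b.coord i (v j) = _
    rw [← hb, Module.Basis.coord_apply, Module.Basis.repr_self, Finsupp.single_apply]
    simp [eq_comm]
  choose δ hδ using key
  exact ⟨δ, hδ⟩


section main

theorem main (p : ℕ) [Fact p.Prime] (k : Type u) [Field k] [CharP k p] (A : Type u) [CommRing A]
    [IsLocalRing A] [IsNoetherianRing A] [Algebra k A] (hA : CAlg.IsGeometricallyRegular k A)
    (F : IntermediateField k (ResidueField A)) (m : ℕ)
    (φ : MvPolynomial (Fin m) k →ₐ[k] A)
    (hφ : ∀ i : Fin m, residue A (φ (MvPolynomial.X i)) ∈ F)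
    (hb : LinearIndependent F
        (fun i : Fin m => KaehlerDifferential.D k F ⟨residue A (φ (MvPolynomial.X i)), hφ i⟩) ∧
      Submodule.span F (Set.range
        (fun i : Fin m => KaehlerDifferential.D k F ⟨residue A (φ (MvPolynomial.X i)), hφ i⟩)) = ⊤) :
    letI := φ.toRingHom.toAlgebra
    Module.Flat (MvPolynomial (Fin m) k) A ∧
      IsRegularLocalRing (A ⧸ Ideal.map φ.toRingHom
        (Ideal.comap φ.toRingHom (maximalIdeal A))) := by
  classical
  letI algPA : Algebra (MvPolynomial (Fin m) k) A := φ.toRingHom.toAlgebra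
  haveI : ExpChar k p := ExpChar.prime Fact.out
  have hfs : CAlgX.IsAdicFormallySmooth k A (maximalIdeal A) :=
    (Groth.Agent.S4573.result (k := k) (A := A) p).mpr (fun k' _ _ hfin _ => hA k' hfin)
  haveI hreg : IsRegularLocalRing A := (Groth.Agent.S2471.result.mp hfs).1
  have hext := Groth.Agent.Lib.Helper90.SmoothOmega.exists_derivation_of_smooth hfs
  let P := MvPolynomial (Fin m) k
  let 𝔭 : Ideal P := Ideal.comap φ.toRingHom (maximalIdeal A)
  haveI h𝔭 : 𝔭.IsPrime := Ideal.comap_isPrime _ _
  let A₀ := Localization.AtPrime 𝔭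
  have hunit : ∀ y : 𝔭.primeCompl, IsUnit (φ.toRingHom y) := by
    intro y
    by_contra h
    exact y.2 (show (y : P) ∈ 𝔭 from h)
  let ψ : A₀ →+* A := IsLocalization.lift hunit
  have hψ : ∀ x : P, ψ (algebraMap P A₀ x) = φ x := fun x => IsLocalization.lift_eq hunit x
  letI algA₀A : Algebra A₀ A := ψ.toAlgebra
  haveI : IsScalarTower P A₀ A :=
    IsScalarTower.of_algebraMap_eq (fun x => (hψ x).symm)
  haveI hloc : IsLocalHom (algebraMap A₀ A) := by
    constructor
    intro a ha
    obtain ⟨x, s, rfl⟩ := IsLocalization.exists_mk'_eq 𝔭.primeCompl a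
    have h1 : ψ (IsLocalization.mk' A₀ x s) * φ s = φ x := by
      rw [← hψ, ← hψ x, ← map_mul, IsLocalization.mk'_spec]
    have h2 : IsUnit (φ x) := by
      rw [← h1]
      exact IsUnit.mul ha (hunit s)
    have h3 : x ∈ 𝔭.primeCompl := by
      intro hx
      exact hx h2
    exact (IsLocalization.AtPrime.isUnit_mk'_iff A₀ 𝔭 x s).mpr h3
  -- formal smoothness over the prime field
  letI : Algebra (ZMod p) k := ZMod.algebra k p
  haveI : Algebra.FormallySmooth (ZMod p) k :=
    Groth.Agent.Lib.Helper47.formallySmooth_of_perfectField (ZMod p) k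
  haveI : Algebra.FormallySmooth (ZMod p) P := Algebra.FormallySmooth.comp (ZMod p) k P
  haveI : Algebra.FormallySmooth P A₀ := Algebra.FormallySmooth.of_isLocalization 𝔭.primeCompl
  haveI : Algebra.FormallySmooth (ZMod p) A₀ := Algebra.FormallySmooth.comp (ZMod p) P A₀
  haveI : Algebra.FormallySmooth (ZMod p) (ResidueField A₀) :=
    Groth.Agent.Lib.Helper47.formallySmooth_of_perfectField (ZMod p) (ResidueField A₀)
  haveI : IsRegularLocalRing A₀ := inferInstance
  haveI : IsNoetherianRing A₀ := inferInstance
  obtain ⟨d₀, hd₀⟩ : ∃ d, (maximalIdeal A₀).spanFinrank = d := ⟨_, rfl⟩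
  obtain ⟨x, hx⟩ := Groth.Agent.Lib.Helper85.exists_fin_span_range_eq (maximalIdeal A₀)
    (maximalIdeal A₀).fg_of_isNoetherianRing hd₀
  have hps : ∀ j, ∃ (pj : P) (sj : 𝔭.primeCompl), IsLocalization.mk' A₀ pj sj = x j :=
    fun j => IsLocalization.exists_mk'_eq 𝔭.primeCompl (x j)
  choose pp ss hps using hps
  let q : Fin d₀ → A₀ := fun j => algebraMap P A₀ (pp j)
  have hq : Ideal.span (Set.range q) = maximalIdeal A₀ := by
    rw [← hx]
    apply le_antisymm
    · rw [Ideal.span_le]
      rintro _ ⟨j, rfl⟩
      have : q j = x j * algebraMap P A₀ (ss j) := by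
        rw [← hps j, IsLocalization.mk'_spec]
      rw [this]
      exact Ideal.mul_mem_right _ _ (Ideal.subset_span ⟨j, rfl⟩)
    · rw [Ideal.span_le]
      rintro _ ⟨j, rfl⟩
      rw [← hps j, IsLocalization.mk'_eq_mul_mk'_one]
      exact Ideal.mul_mem_right _ _ (Ideal.subset_span ⟨j, rfl⟩)
  obtain ⟨δ, hδ⟩ := exists_dual_derivations (ZMod p) A₀ hd₀ q hq
  have hpp : ∀ j, pp j ∈ 𝔭 := by
    intro j
    have h1 : q j ∈ maximalIdeal A₀ := hq ▸ Ideal.subset_span ⟨j, rfl⟩
    exact (IsLocalization.AtPrime.to_map_mem_maximal_iff A₀ 𝔭 (pp j)).mp h1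
  -- the induced map on residue fields
  let ι : ResidueField A₀ →+* ResidueField A := ResidueField.map (algebraMap A₀ A)
  have hι : ∀ a : A₀, ι (residue A₀ a) = residue A (ψ a) := fun a => rfl
  have key : ∀ i : Fin d₀, ∃ dd : Derivation ℤ A (ResidueField A),
      ∀ j, dd (φ (pp j)) = if i = j then 1 else 0 := by
    intro i
    let Δ : P → ResidueField A := fun y => ι (δ i (algebraMap P A₀ y))
    have hΔadd : ∀ y z, Δ (y + z) = Δ y + Δ z := by
      intro y z
      simp only [Δ, map_add]
    have hΔmul : ∀ y z, Δ (y * z) = residue A (φ y) * Δ z + residue A (φ z) * Δ y := by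
      intro y z
      simp only [Δ]
      rw [map_mul, Derivation.leibniz, map_add, Algebra.smul_def, Algebra.smul_def, map_mul,
        map_mul]
      rw [show algebraMap A₀ (ResidueField A₀) (algebraMap P A₀ y) =
          residue A₀ (algebraMap P A₀ y) from rfl,
        show algebraMap A₀ (ResidueField A₀) (algebraMap P A₀ z) =
          residue A₀ (algebraMap P A₀ z) from rfl, hι, hι, hψ, hψ]
    obtain ⟨dd, hdd⟩ := exists_decomp k A F m φ hφ hext hb Δ hΔadd hΔmul
    refine ⟨dd, fun j => ?_⟩
    rw [← hdd (pp j) (hpp j)]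
    simp only [Δ]
    rw [show algebraMap P A₀ (pp j) = q j from rfl, hδ]
    split_ifs <;> simp
  choose dd hdd using key
  let f : Fin d₀ → A := fun j => φ (pp j)
  have hfmem : ∀ j, f j ∈ maximalIdeal A := fun j => hpp j
  have hind : ∀ c : Fin d₀ → A, ∑ j, c j * f j ∈ maximalIdeal A ^ 2 →
      ∀ i, c i ∈ maximalIdeal A := by
    intro c hc i
    have h0 := derivation_eq_zero_of_mem_sq (dd i) hc
    rw [map_sum] at h0
    have h1 : ∀ j, dd i (c j * f j) = residue A (c j) * (if i = j then 1 else 0) := by
      intro j
      rw [Derivation.leibniz, hdd, Algebra.smul_def, Algebra.smul_def]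
      have : algebraMap A (ResidueField A) (f j) = 0 := (residue_eq_zero_iff _).mpr (hfmem j)
      rw [this, zero_mul, add_zero]
      rfl
    simp only [h1, mul_ite, mul_one, mul_zero, Finset.sum_ite_eq, Finset.mem_univ, if_true] at h0
    exact (residue_eq_zero_iff _).mp h0
  obtain ⟨hregq, hregseq⟩ :=
    Groth.Agent.Lib.Helper47.isRegularLocalRing_quotient_and_isRegular_of_indep d₀ A f hfmem hind
  -- the ideals
  have hmapψ : (maximalIdeal A₀).map (algebraMap A₀ A) = Ideal.span (Set.range f) := by
    rw [← hq, Ideal.map_span, ← Set.range_comp]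
    congr 2
    ext j
    exact hψ (pp j)
  have hideal : Ideal.map φ.toRingHom 𝔭 = Ideal.span (Set.range f) := by
    apply le_antisymm
    · rw [Ideal.map_le_iff_le_comap]
      intro y hy
      rw [Ideal.mem_comap, ← hmapψ]
      have h1 : algebraMap P A₀ y ∈ maximalIdeal A₀ :=
        (IsLocalization.AtPrime.to_map_mem_maximal_iff A₀ 𝔭 y).mpr hy
      have h2 := Ideal.mem_map_of_mem (algebraMap A₀ A) h1
      rwa [show algebraMap A₀ A (algebraMap P A₀ y) = φ.toRingHom y from hψ y] at h2
    · rw [Ideal.span_le]
      rintro _ ⟨j, rfl⟩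
      exact Ideal.mem_map_of_mem _ (hpp j)
  have hlist : Ideal.ofList (List.ofFn f) = Ideal.span (Set.range f) := by
    unfold Ideal.ofList
    congr 1
    ext r
    simp [List.mem_ofFn]
  refine ⟨?_, ?_⟩
  · haveI : LocCoh.IsCohenMacaulayLocalRing A :=
      Groth.Agent.Lib.Helper28.isCohenMacaulayLocalRing_of_isRegularLocalRing A
    have hdimA₀ : ringKrullDim A₀ = (d₀ : ℕ) := by
      rw [← hd₀]
      exact (IsRegularLocalRing.spanFinrank_maximalIdeal (R := A₀)).symm
    have hdim : ringKrullDim A = ringKrullDim A₀ +
        ringKrullDim (A ⧸ (maximalIdeal A₀).map (algebraMap A₀ A)) := by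
      have h1 := ringKrullDim_add_length_eq_ringKrullDim_of_isRegular (List.ofFn f) hregseq
      rw [List.length_ofFn] at h1
      rw [hdimA₀, ← h1, add_comm]
      congr 1
      exact ringKrullDim_eq_of_ringEquiv (Ideal.quotEquivOfEq (hlist.trans hmapψ.symm))
    haveI : Module.Flat A₀ A := Groth.Agent.S2082.result hdim
    haveI : Module.Flat P A₀ := IsLocalization.flat A₀ 𝔭.primeCompl
    exact Module.Flat.trans P A₀ A
  · rw [show Ideal.map φ.toRingHom (Ideal.comap φ.toRingHom (maximalIdeal A)) =
      Ideal.span (Set.range f) from hideal]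
    exact hregq

end main

end Groth.Agent.Lib.Helper81.DiffBasisFlat
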