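import Mathlib
import Groth.Agent.Lib.Helper81.SymPow
import Groth.Agent.Lib.Helper81.SymPowFree

/-!
# Symmetric powers of a free module embed into the polynomial ring (helper81)

For a free `B`-module `M` with basis indexed by `κ`, the map
`Sym[B] ι M → MvPolynomial κ B`, `⨂ₛ v ↦ ∏ i, (linear form of v i)` is injective, with values
homogeneous of degree `card ι`.
-/

set_option autoImplicit false
universe u v w

open scoped TensorProduct

namespace Groth.Agent.Lib.Helper81.SymPow

section FreeB

variable {B ι : Type u} [CommRing B] {M : Type v} [AddCommGroup M] [Module B M] {κ : Type w}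

/-- the linear form attached to an element of a free module -/
noncomputable def linFormB (b : Module.Basis κ B M) : M →ₗ[B] MvPolynomial κ B :=
  (Finsupp.linearCombination B (fun k => (MvPolynomial.X k : MvPolynomial κ B))) ∘ₗ
    b.repr.toLinearMap

theorem linFormB_basis (b : Module.Basis κ B M) (k : κ) :
    linFormB b (b k) = MvPolynomial.X k := by
  simp [linFormB]

theorem linFormB_isHomogeneous (b : Module.Basis κ B M) (m : M) :
    (linFormB b m).IsHomogeneous 1 := by
  rw [← MvPolynomial.mem_homogeneousSubmodule]
  change Finsupp.linearCombination B (fun k => (MvPolynomial.X k : MvPolynomial κ B)) (b.repr m) ∈ _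
  rw [Finsupp.linearCombination_apply]
  apply Submodule.sum_mem
  intro k _
  apply Submodule.smul_mem
  rw [MvPolynomial.mem_homogeneousSubmodule]
  exact MvPolynomial.isHomogeneous_X B k

variable [Fintype ι]

/-- `⨂ₛ v ↦ ∏ i, linFormB b (v i)` -/
noncomputable def polyMap (b : Module.Basis κ B M) : Sym[B] ι M →ₗ[B] MvPolynomial κ B :=
  lift ((MultilinearMap.mkPiAlgebra B ι (MvPolynomial κ B)).compLinearMap fun _ => linFormB b)
    (fun e v => by
      simp only [MultilinearMap.compLinearMap_apply, MultilinearMap.mkPiAlgebra_apply]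
      exact Equiv.prod_comp e fun i => linFormB b (v i))

theorem polyMap_tprod (b : Module.Basis κ B M) (v : ι → M) :
    polyMap b (SymmetricPower.tprod B v) = ∏ i, linFormB b (v i) := by
  rw [polyMap, lift_tprod]
  rfl

theorem polyMap_isHomogeneous (b : Module.Basis κ B M) (x : Sym[B] ι M) :
    (polyMap b x).IsHomogeneous (Fintype.card ι) := by
  have hx : x ∈ Submodule.span B (Set.range (SymmetricPower.tprod B (ι := ι) (M := M))) := by
    rw [SymmetricPower.span_tprod_eq_top]; trivial
  induction hx using Submodule.span_induction with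
  | mem y hy =>
    obtain ⟨v, rfl⟩ := hy
    rw [polyMap_tprod]
    have := MvPolynomial.IsHomogeneous.prod Finset.univ (fun i => linFormB b (v i))
      (fun _ => 1) (fun i _ => linFormB_isHomogeneous b (v i))
    simpa using this
  | zero => rw [map_zero]; exact MvPolynomial.isHomogeneous_zero _ _ _
  | add u w _ _ hu hw => rw [map_add]; exact hu.add hw
  | smul r u _ hu =>
    rw [map_smul, ← MvPolynomial.mem_homogeneousSubmodule]
    exact Submodule.smul_mem _ _ ((MvPolynomial.mem_homogeneousSubmodule _ _).2 hu)

theorem exists_leftInverse_of_basisB (b : Module.Basis κ B M) :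
    ∃ Ψ : MvPolynomial κ B →ₗ[B] Sym[B] ι M,
      ∀ v : ι → M, Ψ (∏ i, linFormB b (v i)) = SymmetricPower.tprod B v := by
  classical
  let F : (κ →₀ ℕ) → Sym[B] ι M := fun d =>
    if h : ∃ g : ι → κ, (∑ i, Finsupp.single (g i) 1 : κ →₀ ℕ) = d then
      SymmetricPower.tprod B (fun i => b (h.choose i)) else 0
  let Ψ : MvPolynomial κ B →ₗ[B] Sym[B] ι M := (MvPolynomial.basisMonomials κ B).constr B F
  have hΨmon : ∀ d, Ψ (MvPolynomial.monomial d 1) = F d := fun d => by
    have := (MvPolynomial.basisMonomials κ B).constr_basis B F d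
    rwa [MvPolynomial.coe_basisMonomials] at this
  refine ⟨Ψ, fun v => ?_⟩
  have key : Ψ.compMultilinearMap
      ((MultilinearMap.mkPiAlgebra B ι (MvPolynomial κ B)).compLinearMap
        fun _ => linFormB b) = SymmetricPower.tprod B := by
    apply Module.Basis.ext_multilinear (fun _ => b)
    intro g
    simp only [LinearMap.compMultilinearMap_apply, MultilinearMap.compLinearMap_apply,
      MultilinearMap.mkPiAlgebra_apply, linFormB_basis]
    have h1 : (∏ i, (MvPolynomial.X (g i) : MvPolynomial κ B)) =
        MvPolynomial.monomial (∑ i, Finsupp.single (g i) 1) 1 := by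
      rw [MvPolynomial.monomial_sum_one]
      rfl
    rw [h1, hΨmon]
    have hex : ∃ g' : ι → κ, (∑ i, Finsupp.single (g' i) 1 : κ →₀ ℕ) =
        ∑ i, Finsupp.single (g i) 1 := ⟨g, rfl⟩
    change (if h : ∃ g' : ι → κ, (∑ i, Finsupp.single (g' i) 1 : κ →₀ ℕ) =
        ∑ i, Finsupp.single (g i) 1 then
      SymmetricPower.tprod B (fun i => b (h.choose i)) else 0) =
        SymmetricPower.tprod B (fun i => b (g i))
    rw [dif_pos hex]
    obtain ⟨e, he⟩ := exists_perm_of_sum_single_eq g hex.choose hex.choose_spec.symm
    have : (fun i => b (hex.choose i)) = fun i => (fun j => b (g j)) (e i) := by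
      funext i
      rw [he i]
    rw [this]
    exact SymmetricPower.tprod_equiv e fun j => b (g j)
  have := congrArg (fun f => f v) key
  simp only [LinearMap.compMultilinearMap_apply, MultilinearMap.compLinearMap_apply,
    MultilinearMap.mkPiAlgebra_apply] at this
  exact this

theorem polyMap_injective (b : Module.Basis κ B M) :
    Function.Injective (polyMap (ι := ι) b) := by
  obtain ⟨Ψ, hΨ⟩ := exists_leftInverse_of_basisB (ι := ι) b
  have hid : Ψ ∘ₗ polyMap (ι := ι) b = LinearMap.id := by
    apply hom_ext
    intro v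
    rw [LinearMap.comp_apply, polyMap_tprod, hΨ, LinearMap.id_apply]
  intro x y hxy
  have h2 := congrArg Ψ hxy
  have hx : Ψ (polyMap b x) = x := LinearMap.congr_fun hid x
  have hy : Ψ (polyMap b y) = y := LinearMap.congr_fun hid y
  rw [hx, hy] at h2
  exact h2

end FreeB

end Groth.Agent.Lib.Helper81.SymPow
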