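import Mathlib
import Groth.Prelude.Def_PP16
import Groth.Agent.Lib.Helper81.DiffSmoothBridge
import Groth.Agent.Lib.Helper81.SymPowFreeB
import Groth.Agent.Lib.Helper81.DerivPoly

/-!
# Differential smoothness in characteristic zero (helper81)

If `ℚ ⊆ B` and `Ω_{B/A}` is a free `B`-module then `B` is differentially smooth over `A`
(EGA IV 16.12.2).
-/

set_option autoImplicit false
universe u

open scoped TensorProduct

namespace Groth.Agent.Lib.Helper81.DiffSmoothChar0

open Groth.Agent.Lib.Helper81.SymPow Groth.Agent.Lib.Helper81.SymGr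
  Groth.Agent.Lib.Helper81.SymPowCompare Groth.Agent.Lib.Helper81.DiffSmoothBridge

variable (A B : Type u) [CommRing A] [CommRing B] [Algebra A B]

/-- `id ⊗ D` as a `B`-derivation of `B ⊗[A] B` -/
noncomputable def tensorDer (D : Derivation A B B) : Derivation B (B ⊗[A] B) (B ⊗[A] B) where
  toLinearMap := TensorProduct.AlgebraTensorModule.map (LinearMap.id : B →ₗ[B] B) D.toLinearMap
  map_one_eq_zero' := by
    change TensorProduct.AlgebraTensorModule.map (LinearMap.id : B →ₗ[B] B) D.toLinearMap
      ((1 : B) ⊗ₜ[A] (1 : B)) = 0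
    rw [TensorProduct.AlgebraTensorModule.map_tmul]
    simp
  leibniz' := by
    intro x y
    induction x using TensorProduct.induction_on with
    | zero => simp
    | add x₁ x₂ h₁ h₂ =>
      rw [add_mul, map_add, h₁, h₂, map_add, add_smul, smul_add]
      abel
    | tmul a b =>
      induction y using TensorProduct.induction_on with
      | zero => simp
      | add y₁ y₂ h₁ h₂ =>
        rw [mul_add, map_add, h₁, h₂, map_add, add_smul, smul_add]
        abel
      | tmul c d =>
        rw [Algebra.TensorProduct.tmul_mul_tmul]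
        simp only [TensorProduct.AlgebraTensorModule.map_tmul, LinearMap.id_coe, id_eq,
          Derivation.coeFn_coe, Derivation.leibniz, smul_eq_mul,
          Algebra.TensorProduct.tmul_mul_tmul, TensorProduct.tmul_add]
        rw [mul_comm c a, mul_comm d (D b)]

theorem tensorDer_tmul (D : Derivation A B B) (a b : B) :
    tensorDer A B D (a ⊗ₜ[A] b) = a ⊗ₜ[A] D b := rfl

theorem mu_tensorDer (D : Derivation A B B) (x : B ⊗[A] B) :
    mu A B (tensorDer A B D x) = D.tensorProductTo x := by
  induction x using TensorProduct.induction_on with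
  | zero => simp
  | add x y hx hy => rw [map_add, map_add, hx, hy, map_add]
  | tmul a b =>
    rw [tensorDer_tmul, Derivation.tensorProductTo_tmul]
    change Algebra.TensorProduct.lmul' A (a ⊗ₜ[A] D b) = a • D b
    rw [Algebra.TensorProduct.lmul'_apply_tmul, smul_eq_mul]

theorem tensorProductTo_compDer (f : Ω[B⁄A] →ₗ[B] B) (x : B ⊗[A] B) :
    (f.compDer (KaehlerDifferential.D A B)).tensorProductTo x =
      f ((KaehlerDifferential.D A B).tensorProductTo x) := by
  induction x using TensorProduct.induction_on with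
  | zero => simp
  | add x y hx hy => rw [map_add, map_add, hx, hy, map_add]
  | tmul a b =>
    rw [Derivation.tensorProductTo_tmul, Derivation.tensorProductTo_tmul, map_smul]
    rfl

theorem mu_tensorDer_compDer (f : Ω[B⁄A] →ₗ[B] B) (x : KaehlerDifferential.ideal A B) :
    mu A B (tensorDer A B (f.compDer (KaehlerDifferential.D A B)) x) =
      f ((KaehlerDifferential.ideal A B).toCotangent x) := by
  rw [mu_tensorDer, tensorProductTo_compDer, KaehlerDifferential.D_tensorProductTo]

theorem mem_ideal_iff (x : B ⊗[A] B) : x ∈ KaehlerDifferential.ideal A B ↔ mu A B x = 0 :=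
  Iff.rfl

section Main

variable {κ : Type*} (e : Module.Basis κ B (KaehlerDifferential.ideal A B).Cotangent)

/-- lifts of the basis elements to the ideal -/
noncomputable def eps (μ : κ) : B ⊗[A] B :=
  (sec (KaehlerDifferential.ideal A B) (e μ) : B ⊗[A] B)

theorem eps_mem (μ : κ) : eps A B e μ ∈ KaehlerDifferential.ideal A B :=
  (sec (KaehlerDifferential.ideal A B) (e μ)).2

theorem toCotangent_eps (μ : κ) :
    (KaehlerDifferential.ideal A B).toCotangent ⟨eps A B e μ, eps_mem A B e μ⟩ = e μ :=
  toCotangent_sec _ _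

/-- the linear lift `Ω → B ⊗ B` -/
noncomputable def lin : (KaehlerDifferential.ideal A B).Cotangent →ₗ[B] B ⊗[A] B :=
  (MvPolynomial.aeval (eps A B e)).toLinearMap ∘ₗ linFormB e

theorem lin_apply (ω : (KaehlerDifferential.ideal A B).Cotangent) :
    lin A B e ω = MvPolynomial.aeval (eps A B e) (linFormB e ω) := rfl

theorem lin_spec (ω : (KaehlerDifferential.ideal A B).Cotangent) :
    ∃ h : lin A B e ω ∈ KaehlerDifferential.ideal A B,
      (KaehlerDifferential.ideal A B).toCotangent ⟨lin A B e ω, h⟩ = ω := by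
  have hω : ω ∈ Submodule.span B (Set.range e) := by rw [e.span_eq]; trivial
  induction hω using Submodule.span_induction with
  | mem y hy =>
    obtain ⟨μ, rfl⟩ := hy
    have h1 : lin A B e (e μ) = eps A B e μ := by
      rw [lin_apply, linFormB_basis, MvPolynomial.aeval_X]
    have hmem : lin A B e (e μ) ∈ KaehlerDifferential.ideal A B := by
      rw [h1]; exact eps_mem A B e μ
    refine ⟨hmem, ?_⟩
    have : (⟨lin A B e (e μ), hmem⟩ : KaehlerDifferential.ideal A B) =
        ⟨eps A B e μ, eps_mem A B e μ⟩ := Subtype.ext h1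
    rw [this, toCotangent_eps]
  | zero =>
    have hmem : lin A B e 0 ∈ KaehlerDifferential.ideal A B := by
      rw [map_zero]; exact zero_mem _
    refine ⟨hmem, ?_⟩
    have : (⟨lin A B e 0, hmem⟩ : KaehlerDifferential.ideal A B) = 0 :=
      Subtype.ext (map_zero _)
    rw [this, map_zero]
  | add a b _ _ ha hb =>
    obtain ⟨h1, h1'⟩ := ha
    obtain ⟨h2, h2'⟩ := hb
    have hmem : lin A B e (a + b) ∈ KaehlerDifferential.ideal A B := by
      rw [map_add]; exact add_mem h1 h2
    refine ⟨hmem, ?_⟩
    have : (⟨lin A B e (a + b), hmem⟩ : KaehlerDifferential.ideal A B) =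
        ⟨lin A B e a, h1⟩ + ⟨lin A B e b, h2⟩ := Subtype.ext (map_add _ _ _)
    rw [this, map_add, h1', h2']
  | smul c a _ ha =>
    obtain ⟨h1, h1'⟩ := ha
    have hmem : lin A B e (c • a) ∈ KaehlerDifferential.ideal A B := by
      rw [map_smul, Algebra.smul_def]; exact Ideal.mul_mem_left _ _ h1
    refine ⟨hmem, ?_⟩
    have : (⟨lin A B e (c • a), hmem⟩ : KaehlerDifferential.ideal A B) =
        (algebraMap B (B ⊗[A] B) c) • ⟨lin A B e a, h1⟩ :=
      Subtype.ext (show lin A B e (c • a) = algebraMap B (B ⊗[A] B) c * lin A B e a by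
        rw [map_smul, Algebra.smul_def])
    rw [this, map_smul, h1', algebraMap_smul]

theorem phi_tprod' (ι : Type u) [Fintype ι] (y : ι → ↥(KaehlerDifferential.ideal A B)) :
    phi A B ι (SymmetricPower.tprod B
      (fun i => (KaehlerDifferential.ideal A B).toCotangent (y i))) =
      toGrI A B _ (PP16.zetaJ (B ⊗[A] B) (KaehlerDifferential.ideal A B) y) := by
  rw [phi_apply, compare_tprod, canon_tprod]

/-- the natural map `I^n/I^(n+1) → (B ⊗ B)/I^(n+1)` -/
noncomputable def jmap (n : ℕ) : PP16.grI A B n →ₗ[B]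
    (B ⊗[A] B) ⧸ ((KaehlerDifferential.ideal A B ^ (n + 1)).restrictScalars B) :=
  Submodule.liftQ _ ((Submodule.mkQ _) ∘ₗ
    ((KaehlerDifferential.ideal A B ^ n).restrictScalars B).subtype) (by
    intro x hx
    rw [Submodule.mem_comap] at hx
    rw [LinearMap.mem_ker, LinearMap.comp_apply, Submodule.mkQ_apply,
      Submodule.Quotient.mk_eq_zero]
    exact hx)

theorem jmap_toGrI_zetaJ (ι : Type u) [Fintype ι] (y : ι → ↥(KaehlerDifferential.ideal A B)) :
    jmap A B (Fintype.card ι)
      (toGrI A B _ (PP16.zetaJ (B ⊗[A] B) (KaehlerDifferential.ideal A B) y)) =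
      Submodule.Quotient.mk (∏ i, (y i : B ⊗[A] B)) := rfl

theorem jmap_phi (ι : Type u) [Fintype ι]
    (x : Sym[B] ι (KaehlerDifferential.ideal A B).Cotangent) :
    jmap A B (Fintype.card ι) (phi A B ι x) =
      Submodule.Quotient.mk (MvPolynomial.aeval (eps A B e) (polyMap e x)) := by
  have key : jmap A B (Fintype.card ι) ∘ₗ phi A B ι =
      (Submodule.mkQ ((KaehlerDifferential.ideal A B ^ (Fintype.card ι + 1)).restrictScalars B)) ∘ₗ
        (MvPolynomial.aeval (eps A B e)).toLinearMap ∘ₗ polyMap e := by
    apply hom_ext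
    intro v
    choose h hh using fun i => lin_spec A B e (v i)
    have h1 := phi_tprod' A B ι (fun i => ⟨lin A B e (v i), h i⟩)
    simp only [hh] at h1
    rw [LinearMap.comp_apply, h1, jmap_toGrI_zetaJ, LinearMap.comp_apply, LinearMap.comp_apply,
      polyMap_tprod, AlgHom.toLinearMap_apply, map_prod, Submodule.mkQ_apply]
    rfl
  exact LinearMap.congr_fun key x

/-- coordinate functionals as maps on `Ω` -/
noncomputable def coordΩ (l : κ) : Ω[B⁄A] →ₗ[B] B := e.coord l

theorem coordΩ_basis (l μ : κ) : coordΩ A B e l (e μ) = Finsupp.single μ (1 : B) l := by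
  change e.coord l (e μ) = _
  rw [Module.Basis.coord_apply, Module.Basis.repr_self]

include e in
theorem phi_injective [Algebra ℚ B] (ι : Type u) [Fintype ι] :
    Function.Injective (phi A B ι) := by
  classical
  rw [injective_iff_map_eq_zero]
  intro x hx
  have h1 := jmap_phi A B e ι x
  rw [hx, map_zero] at h1
  have h2 : MvPolynomial.aeval (eps A B e) (polyMap e x) ∈
      KaehlerDifferential.ideal A B ^ (Fintype.card ι + 1) :=
    (Submodule.Quotient.mk_eq_zero _).1 h1.symm
  have hI : ∀ c : B, algebraMap B (B ⊗[A] B) c ∈ KaehlerDifferential.ideal A B → c = 0 := by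
    intro c hc
    rw [← mu_algebraMap A B c]
    exact hc
  have hval : ∀ l μ, mu A B (tensorDer A B
      ((coordΩ A B e l).compDer (KaehlerDifferential.D A B)) (eps A B e μ)) =
        Finsupp.single μ (1 : B) l := by
    intro l μ
    have := mu_tensorDer_compDer A B (coordΩ A B e l) ⟨eps A B e μ, eps_mem A B e μ⟩
    rw [toCotangent_eps, coordΩ_basis] at this
    exact this
  have h3 := DerivPoly.eq_zero_of_aeval_mem (KaehlerDifferential.ideal A B) (eps A B e)
    (eps_mem A B e) hI
    (fun l => tensorDer A B ((coordΩ A B e l).compDer (KaehlerDifferential.D A B)))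
    (fun l => by
      rw [mem_ideal_iff, map_sub, map_one, hval, Finsupp.single_eq_same, sub_self])
    (fun l μ hμ => by
      rw [mem_ideal_iff, hval, Finsupp.single_eq_of_ne (Ne.symm hμ)])
    (Fintype.card ι) (polyMap e x) (polyMap_isHomogeneous e x) h2
  apply polyMap_injective (ι := ι) e
  rw [h3, map_zero]

include e in
/-- **EGA IV 16.12.2**: in characteristic zero, free differentials give differential smoothness. -/
theorem isDiffSmooth_of_basis [Algebra ℚ B] : PP16.IsDiffSmooth A B := by
  refine ⟨Module.Projective.of_basis e, fun ι _ => ⟨phi A B ι, fun b => phi_tprod A B ι b,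
    phi_injective A B e ι, phi_surjective A B ι⟩⟩

end Main

end Groth.Agent.Lib.Helper81.DiffSmoothChar0
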