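import Mathlib
import Groth.Agent.Lib.Helper81.SymPow
import Groth.Agent.Lib.Helper81.SymPowCompare

/-!
# Semilinear functoriality of symmetric powers (helper81)

For a ring map `B → B'`, a `B`-module `M`, a `B'`-module `M'` and a `B`-linear `u : M → M'`,
the additive map `Sym[B] ι M → Sym[B'] ι M'`, `⨂ₛ v ↦ ⨂ₛ (u ∘ v)`.
-/

set_option autoImplicit false
universe u

open scoped TensorProduct

namespace Groth.Agent.Lib.Helper81.SymSemi

open Groth.Agent.Lib.Helper81.SymPow Groth.Agent.Lib.Helper81.SymPowCompare

section Ext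

variable {B ι : Type u} [CommRing B] {M : Type u} [AddCommGroup M] [Module B M]
  {X : Type*} [AddCommGroup X]

/-- additive maps out of a symmetric power which are semilinear for the same action and agree
on pure tensors are equal -/
theorem addHom_ext (act : B → X → X) (g₁ g₂ : Sym[B] ι M →+ X)
    (h₁ : ∀ b x, g₁ (b • x) = act b (g₁ x)) (h₂ : ∀ b x, g₂ (b • x) = act b (g₂ x))
    (h : ∀ v : ι → M, g₁ (SymmetricPower.tprod B v) = g₂ (SymmetricPower.tprod B v))
    (x : Sym[B] ι M) : g₁ x = g₂ x := by
  have hx : x ∈ Submodule.span B (Set.range (SymmetricPower.tprod B (ι := ι) (M := M))) := by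
    rw [SymmetricPower.span_tprod_eq_top]; trivial
  induction hx using Submodule.span_induction with
  | mem y hy =>
    obtain ⟨v, rfl⟩ := hy
    exact h v
  | zero => rw [map_zero, map_zero]
  | add a b _ _ ha hb => rw [map_add, map_add, ha, hb]
  | smul b a _ ha => rw [h₁, h₂, ha]

end Ext

section Semi

variable {B B' : Type u} [CommRing B] [CommRing B'] [Algebra B B']
  {M M' : Type u} [AddCommGroup M] [Module B M] [AddCommGroup M'] [Module B M'] [Module B' M']
  [IsScalarTower B B' M'] (ι : Type u)

/-- the semilinear map `Sym[B] ι M → Sym[B'] ι M'` induced by `u : M →ₗ[B] M'` -/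
noncomputable def semi (u : M →ₗ[B] M') : Sym[B] ι M →+ Sym[B'] ι M' :=
  (compare (B := B) (R := B') (M := M') ι).comp (SymPow.map (ι := ι) u).toAddMonoidHom

variable {ι}

theorem semi_tprod (u : M →ₗ[B] M') (v : ι → M) :
    semi ι u (SymmetricPower.tprod B v) = SymmetricPower.tprod B' (fun i => u (v i)) := by
  change compare (B := B) (R := B') (M := M') ι (SymPow.map u (SymmetricPower.tprod B v)) = _
  rw [SymPow.map_tprod, compare_tprod]

theorem semi_smul (u : M →ₗ[B] M') (b : B) (x : Sym[B] ι M) :
    semi (B' := B') ι u (b • x) = algebraMap B B' b • semi (B' := B') ι u x := by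
  change compare (B := B) (R := B') (M := M') ι (SymPow.map u (b • x)) =
    algebraMap B B' b • compare (B := B) (R := B') (M := M') ι (SymPow.map u x)
  rw [map_smul, compare_smul]

/-- naturality of `semi` -/
theorem map_semi {N N' : Type u} [AddCommGroup N] [Module B N] [AddCommGroup N'] [Module B N']
    [Module B' N'] [IsScalarTower B B' N'] (u : M →ₗ[B] M') (w : N →ₗ[B] N') (f : M →ₗ[B] N)
    (f' : M' →ₗ[B'] N') (hf : ∀ m, f' (u m) = w (f m)) (x : Sym[B] ι M) :
    SymPow.map f' (semi ι u x) = semi ι w (SymPow.map f x) := by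
  refine addHom_ext (fun b y => algebraMap B B' b • y)
    ((SymPow.map (ι := ι) f').toAddMonoidHom.comp (semi ι u))
    ((semi ι w).comp (SymPow.map (ι := ι) f).toAddMonoidHom) ?_ ?_ ?_ x
  · intro b y
    change SymPow.map f' (semi ι u (b • y)) = algebraMap B B' b • SymPow.map f' (semi ι u y)
    rw [semi_smul, map_smul]
  · intro b y
    change semi ι w (SymPow.map f (b • y)) = algebraMap B B' b • semi ι w (SymPow.map f y)
    rw [map_smul, semi_smul]
  · intro v
    change SymPow.map f' (semi ι u (SymmetricPower.tprod B v)) =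
      semi ι w (SymPow.map f (SymmetricPower.tprod B v))
    rw [semi_tprod, SymPow.map_tprod, SymPow.map_tprod, semi_tprod]
    congr 1
    funext i
    exact hf (v i)

end Semi

end Groth.Agent.Lib.Helper81.SymSemi
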