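import Mathlib
import Groth.Prelude.Def_PP16
import Groth.Agent.Lib.Helper81.DiffSmoothBridge
import Groth.Agent.Lib.Helper81.DiffSmoothChar0
import Groth.Agent.Lib.Helper81.SymSemi
import Groth.Agent.Lib.Helper62.DiffQReg0

/-!
# Naturality of `Sym^n Ω → I^n/I^(n+1)` under a commutative square (helper81)
-/

set_option autoImplicit false
universe u

open scoped TensorProduct

namespace Groth.Agent.Lib.Helper81.DiffSmoothNat

open Groth.Agent.Lib.Helper81.SymPow Groth.Agent.Lib.Helper81.SymGr
  Groth.Agent.Lib.Helper81.SymPowCompare Groth.Agent.Lib.Helper81.DiffSmoothBridge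
  Groth.Agent.Lib.Helper81.DiffSmoothChar0 Groth.Agent.Lib.Helper81.SymSemi

section PhiBij

variable (A B : Type u) [CommRing A] [CommRing B] [Algebra A B]

/-- differential smoothness in terms of the canonical map `phi` -/
theorem phi_bijective_of_isDiffSmooth (h : PP16.IsDiffSmooth A B) (ι : Type u) [Fintype ι] :
    Function.Bijective (phi A B ι) := by
  obtain ⟨φ, hφ, hbij⟩ := h.2 ι
  have hφeq : φ = phi A B ι := by
    apply LinearMap.ext_on (Groth.Agent.Lib.Helper62.DiffQReg.span_tprod_of_span (R := B) (ι := ι)
      (Set.range (KaehlerDifferential.D A B)) (KaehlerDifferential.span_range_derivation A B))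
    rintro _ ⟨v, hv, rfl⟩
    choose b hb using hv
    have : v = fun i => KaehlerDifferential.D A B (b i) := funext fun i => (hb i).symm
    rw [this, hφ]
    exact (phi_tprod A B ι b).symm
  rw [hφeq] at hbij
  exact hbij

theorem isDiffSmooth_of_phi_injective (hproj : Module.Projective B (KaehlerDifferential A B))
    (hinj : ∀ (ι : Type u) [Fintype ι], Function.Injective (phi A B ι)) :
    PP16.IsDiffSmooth A B :=
  ⟨hproj, fun ι _ => ⟨phi A B ι, fun b => phi_tprod A B ι b, hinj ι, phi_surjective A B ι⟩⟩

theorem jmap_injective (n : ℕ) : Function.Injective (jmap A B n) := by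
  rw [← LinearMap.ker_eq_bot, jmap, Submodule.ker_liftQ_eq_bot']
  apply le_antisymm
  · intro x hx
    rw [Submodule.mem_comap] at hx
    rw [LinearMap.mem_ker, LinearMap.comp_apply, Submodule.mkQ_apply,
      Submodule.Quotient.mk_eq_zero]
    exact hx
  · intro x hx
    rw [LinearMap.mem_ker, LinearMap.comp_apply, Submodule.mkQ_apply,
      Submodule.Quotient.mk_eq_zero] at hx
    rw [Submodule.mem_comap]
    exact hx

end PhiBij

section Nat

variable (A B A' B' : Type u) [CommRing A] [CommRing B] [Algebra A B]
  [CommRing A'] [CommRing B'] [Algebra A' B'] [Algebra A A'] [Algebra B B'] [Algebra A B']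
  [IsScalarTower A A' B'] [IsScalarTower A B B']

theorem tensorMap_smul (b : B) (t : B ⊗[A] B) :
    PP16.tensorMap A B A' B' (b • t) = algebraMap B B' b • PP16.tensorMap A B A' B' t := by
  rw [Algebra.smul_def, map_mul, Algebra.TensorProduct.algebraMap_apply, Algebra.algebraMap_self,
    RingHom.id_apply, PP16.tensorMap_tmul, map_one, Algebra.smul_def,
    Algebra.TensorProduct.algebraMap_apply, Algebra.algebraMap_self, RingHom.id_apply]

/-- `tensorMap` as a semilinear map -/
noncomputable def tauSemi : (B ⊗[A] B) →ₛₗ[algebraMap B B'] (B' ⊗[A'] B') where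
  toFun := PP16.tensorMap A B A' B'
  map_add' := map_add _
  map_smul' := tensorMap_smul A B A' B'

theorem tauSemi_apply (t : B ⊗[A] B) : tauSemi A B A' B' t = PP16.tensorMap A B A' B' t := rfl

theorem tensorMap_mem_pow (n : ℕ) {t : B ⊗[A] B} (ht : t ∈ KaehlerDifferential.ideal A B ^ n) :
    PP16.tensorMap A B A' B' t ∈ KaehlerDifferential.ideal A' B' ^ n := by
  have h := Ideal.pow_right_mono (n := n) (PP16.ideal_map_tensorMap_le A B A' B')
  rw [← Ideal.map_pow] at h
  exact h (Ideal.mem_map_of_mem _ ht)

theorem tensorMap_mem {t : B ⊗[A] B} (ht : t ∈ KaehlerDifferential.ideal A B) :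
    PP16.tensorMap A B A' B' t ∈ KaehlerDifferential.ideal A' B' := by
  have := tensorMap_mem_pow A B A' B' 1 (t := t) (by rwa [pow_one])
  rwa [pow_one] at this

/-- the induced map on `(B ⊗ B)/I^(n+1)` -/
noncomputable def tauBar (n : ℕ) :
    ((B ⊗[A] B) ⧸ ((KaehlerDifferential.ideal A B ^ (n + 1)).restrictScalars B))
      →ₛₗ[algebraMap B B']
    ((B' ⊗[A'] B') ⧸ ((KaehlerDifferential.ideal A' B' ^ (n + 1)).restrictScalars B')) :=
  Submodule.mapQ _ _ (tauSemi A B A' B') (fun t ht => by
    rw [Submodule.mem_comap]
    exact tensorMap_mem_pow A B A' B' (n + 1) ht)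

theorem tauBar_mk (n : ℕ) (t : B ⊗[A] B) :
    tauBar A B A' B' n (Submodule.Quotient.mk t) =
      Submodule.Quotient.mk (PP16.tensorMap A B A' B' t) := rfl

variable [SMulCommClass A' B B']

theorem tensorProductTo_tensorMap (t : B ⊗[A] B) :
    (((KaehlerDifferential.D A' B').restrictScalars A).compAlgebraMap B).tensorProductTo t =
      (KaehlerDifferential.D A' B').tensorProductTo (PP16.tensorMap A B A' B' t) := by
  induction t using TensorProduct.induction_on with
  | zero => simp
  | add x y hx hy => rw [map_add, map_add, hx, hy, map_add]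
  | tmul a b =>
    rw [Derivation.tensorProductTo_tmul, PP16.tensorMap_tmul, Derivation.tensorProductTo_tmul,
      algebraMap_smul]
    rfl

theorem map_toCotangent (y : KaehlerDifferential.ideal A B) :
    KaehlerDifferential.map A A' B B' ((KaehlerDifferential.ideal A B).toCotangent y) =
      (KaehlerDifferential.ideal A' B').toCotangent
        ⟨PP16.tensorMap A B A' B' y, tensorMap_mem A B A' B' y.2⟩ := by
  have h1 : KaehlerDifferential.map A A' B B' ((KaehlerDifferential.ideal A B).toCotangent y) =
      (((KaehlerDifferential.D A' B').restrictScalars A).compAlgebraMap B).tensorProductTo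
        (y : B ⊗[A] B) :=
    Derivation.liftKaehlerDifferential_apply _ y
  have h2 := KaehlerDifferential.D_tensorProductTo (R := A') (S := B')
    ⟨PP16.tensorMap A B A' B' y, tensorMap_mem A B A' B' y.2⟩
  rw [h1, tensorProductTo_tensorMap]
  exact h2

/-- `KaehlerDifferential.map` on cotangent spaces -/
noncomputable def uC : (KaehlerDifferential.ideal A B).Cotangent →ₗ[B]
    (KaehlerDifferential.ideal A' B').Cotangent :=
  KaehlerDifferential.map A A' B B'

theorem uC_toCotangent (y : KaehlerDifferential.ideal A B) :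
    uC A B A' B' ((KaehlerDifferential.ideal A B).toCotangent y) =
      (KaehlerDifferential.ideal A' B').toCotangent
        ⟨PP16.tensorMap A B A' B' y, tensorMap_mem A B A' B' y.2⟩ :=
  map_toCotangent A B A' B' y

theorem jmap_phi_semi (ι : Type u) [Fintype ι]
    (x : Sym[B] ι (KaehlerDifferential.ideal A B).Cotangent) :
    jmap A' B' (Fintype.card ι) (phi A' B' ι (semi (B' := B') ι (uC A B A' B') x)) =
      tauBar A B A' B' (Fintype.card ι) (jmap A B (Fintype.card ι) (phi A B ι x)) := by
  refine addHom_ext (fun b y => algebraMap B B' b • y)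
    ((jmap A' B' (Fintype.card ι) ∘ₗ phi A' B' ι).toAddMonoidHom.comp
      (semi (B' := B') ι (uC A B A' B')))
    ((tauBar A B A' B' (Fintype.card ι)).toAddMonoidHom.comp
      (jmap A B (Fintype.card ι) ∘ₗ phi A B ι).toAddMonoidHom) ?_ ?_ ?_ x
  · intro b y
    change jmap A' B' (Fintype.card ι) (phi A' B' ι (semi (B' := B') ι (uC A B A' B') (b • y))) =
      algebraMap B B' b •
        jmap A' B' (Fintype.card ι) (phi A' B' ι (semi (B' := B') ι (uC A B A' B') y))
    rw [semi_smul, map_smul, map_smul]
  · intro b y
    change tauBar A B A' B' (Fintype.card ι) (jmap A B (Fintype.card ι) (phi A B ι (b • y))) =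
      algebraMap B B' b •
        tauBar A B A' B' (Fintype.card ι) (jmap A B (Fintype.card ι) (phi A B ι y))
    rw [map_smul, map_smul, LinearMap.map_smulₛₗ]
  · intro v
    change jmap A' B' (Fintype.card ι) (phi A' B' ι
      (semi (B' := B') ι (uC A B A' B') (SymmetricPower.tprod B v))) =
      tauBar A B A' B' (Fintype.card ι) (jmap A B (Fintype.card ι)
        (phi A B ι (SymmetricPower.tprod B v)))
    have hv : v = fun i => (KaehlerDifferential.ideal A B).toCotangent
        (sec (KaehlerDifferential.ideal A B) (v i)) := by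
      funext i
      rw [toCotangent_sec]
    have h1 : semi (B' := B') ι (uC A B A' B') (SymmetricPower.tprod B v) =
        SymmetricPower.tprod B' (fun i => (KaehlerDifferential.ideal A' B').toCotangent
          ⟨PP16.tensorMap A B A' B' (sec (KaehlerDifferential.ideal A B) (v i)),
            tensorMap_mem A B A' B' (sec (KaehlerDifferential.ideal A B) (v i)).2⟩) := by
      rw [semi_tprod]
      congr 1
      funext i
      rw [← uC_toCotangent, toCotangent_sec]
    have h2 : phi A B ι (SymmetricPower.tprod B v) =
        toGrI A B _ (PP16.zetaJ (B ⊗[A] B) (KaehlerDifferential.ideal A B)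
          (fun i => sec (KaehlerDifferential.ideal A B) (v i))) := by
      rw [← phi_tprod', ← hv]
    rw [h1, phi_tprod', jmap_toGrI_zetaJ, h2, jmap_toGrI_zetaJ, tauBar_mk, map_prod]

theorem phi_semi_eq_zero (ι : Type u) [Fintype ι]
    (x : Sym[B] ι (KaehlerDifferential.ideal A B).Cotangent) (hx : phi A B ι x = 0) :
    phi A' B' ι (semi (B' := B') ι (uC A B A' B') x) = 0 := by
  apply jmap_injective A' B' (Fintype.card ι)
  rw [jmap_phi_semi, hx, map_zero, map_zero, map_zero]

end Nat

end Groth.Agent.Lib.Helper81.DiffSmoothNat
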