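import Mathlib
import Groth.Agent.Lib.Helper81.SymPow
import Groth.Agent.Lib.Helper81.SymPowFreeB
import Groth.Agent.Lib.Helper81.SymSemi

/-!
# Injectivity of `Sym_B M → Sym_{B'} (B' ⊗ M)` for projective `M` and injective `B → B'` (helper81)
-/

set_option autoImplicit false
universe u

open scoped TensorProduct

namespace Groth.Agent.Lib.Helper81.SymBaseInj

open Groth.Agent.Lib.Helper81.SymPow Groth.Agent.Lib.Helper81.SymSemi

section Free

variable {B B' : Type u} [CommRing B] [CommRing B'] [Algebra B B']
  {F F' : Type u} [AddCommGroup F] [Module B F] [AddCommGroup F'] [Module B F'] [Module B' F']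
  [IsScalarTower B B' F'] {κ : Type*} (e : Module.Basis κ B F) (e' : Module.Basis κ B' F')
  (w : F →ₗ[B] F') (hw : ∀ k, w (e k) = e' k)

include hw in
theorem linFormB_semi (m : F) :
    linFormB e' (w m) = MvPolynomial.map (algebraMap B B') (linFormB e m) := by
  have hm : m ∈ Submodule.span B (Set.range e) := by rw [e.span_eq]; trivial
  induction hm using Submodule.span_induction with
  | mem y hy =>
    obtain ⟨k, rfl⟩ := hy
    rw [hw, linFormB_basis, linFormB_basis, MvPolynomial.map_X]
  | zero => simp
  | add a b _ _ ha hb => rw [map_add, map_add, ha, hb, map_add, map_add]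
  | smul c a _ ha =>
    rw [w.map_smul, ← algebraMap_smul B' c (w a), (linFormB e').map_smul, ha,
      (linFormB e).map_smul, MvPolynomial.smul_eq_C_mul, MvPolynomial.smul_eq_C_mul, map_mul,
      MvPolynomial.map_C]

variable {ι : Type u} [Fintype ι]

include hw in
theorem polyMap_semi (x : Sym[B] ι F) :
    polyMap e' (semi ι w x) = MvPolynomial.map (algebraMap B B') (polyMap e x) := by
  refine addHom_ext (fun b y => algebraMap B B' b • y)
    ((polyMap (ι := ι) e').toAddMonoidHom.comp (semi ι w))
    ((MvPolynomial.map (algebraMap B B')).toAddMonoidHom.comp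
      (polyMap (ι := ι) e).toAddMonoidHom) ?_ ?_ ?_ x
  · intro b y
    change polyMap e' (semi ι w (b • y)) = algebraMap B B' b • polyMap e' (semi ι w y)
    rw [semi_smul, map_smul]
  · intro b y
    change MvPolynomial.map (algebraMap B B') (polyMap e (b • y)) =
      algebraMap B B' b • MvPolynomial.map (algebraMap B B') (polyMap e y)
    rw [map_smul, MvPolynomial.smul_eq_C_mul, MvPolynomial.smul_eq_C_mul, map_mul,
      MvPolynomial.map_C]
  · intro v
    change polyMap e' (semi ι w (SymmetricPower.tprod B v)) =
      MvPolynomial.map (algebraMap B B') (polyMap e (SymmetricPower.tprod B v))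
    rw [semi_tprod, polyMap_tprod, polyMap_tprod, map_prod]
    exact Finset.prod_congr rfl fun i _ => linFormB_semi e e' w hw (v i)

include e e' hw in
theorem semi_injective_of_basis (hinj : Function.Injective (algebraMap B B')) :
    Function.Injective (semi (B' := B') ι w) := by
  rw [injective_iff_map_eq_zero]
  intro x hx
  have h1 := polyMap_semi e e' w hw x
  rw [hx, map_zero] at h1
  have h2 : polyMap e x = 0 := by
    apply MvPolynomial.map_injective _ hinj
    rw [← h1, map_zero]
  apply polyMap_injective (ι := ι) e
  rw [h2, map_zero]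

end Free

section Projective

variable {B B' : Type u} [CommRing B] [CommRing B'] [Algebra B B']
  {M M' : Type u} [AddCommGroup M] [Module B M] [AddCommGroup M'] [Module B M'] [Module B' M']
  [IsScalarTower B B' M'] {ι : Type u} [Fintype ι]

theorem semi_injective_of_projective [Module.Projective B M] (u : M →ₗ[B] M')
    (hu : IsBaseChange B' u) (hinj : Function.Injective (algebraMap B B')) :
    Function.Injective (semi (B' := B') ι u) := by
  obtain ⟨s, hs⟩ := (Module.projective_def'.1 (inferInstance : Module.Projective B M))
  let w : (M →₀ B) →ₗ[B] (M →₀ B') := Finsupp.mapRange.linearMap (Algebra.linearMap B B')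
  have hw : ∀ k, w (Finsupp.basisSingleOne (R := B) k) = Finsupp.basisSingleOne (R := B') k := by
    intro k
    simp [w]
  let i' : M' →ₗ[B'] (M →₀ B') := hu.lift (w ∘ₗ s)
  have hi' : ∀ m, i' (u m) = w (s m) := fun m => hu.lift_eq (w ∘ₗ s) m
  rw [injective_iff_map_eq_zero]
  intro x hx
  have h1 := map_semi (ι := ι) u w s i' hi' x
  rw [hx, map_zero] at h1
  have h2 : SymPow.map (ι := ι) s x = 0 :=
    semi_injective_of_basis Finsupp.basisSingleOne Finsupp.basisSingleOne w hw hinj
      (by rw [← h1, map_zero])
  apply map_injective_of_leftInverse (ι := ι) s (Finsupp.linearCombination B id)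
    (fun m => LinearMap.congr_fun hs m)
  rw [h2, map_zero]

end Projective

end Groth.Agent.Lib.Helper81.SymBaseInj
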