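import Mathlib
import Groth.Prelude.Def_PP16
import Groth.Agent.Lib.Helper81.DiffSmoothNat
import Groth.Agent.Lib.Helper81.SymBaseInj
import Groth.Agent.Lib.Helper85.AzumayaDescent

/-!
# Faithfully flat descent of differential smoothness (helper81)
-/

set_option autoImplicit false
universe u

open scoped TensorProduct

namespace Groth.Agent.Lib.Helper81.DiffSmoothDescent

open Groth.Agent.Lib.Helper81.SymPow Groth.Agent.Lib.Helper81.DiffSmoothBridge
  Groth.Agent.Lib.Helper81.DiffSmoothNat Groth.Agent.Lib.Helper81.SymSemi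
  Groth.Agent.Lib.Helper81.SymBaseInj

variable (A B A' B' : Type u) [CommRing A] [CommRing B] [Algebra A B]
  [CommRing A'] [CommRing B'] [Algebra A' B'] [Algebra A A'] [Algebra B B'] [Algebra A B']
  [IsScalarTower A A' B'] [IsScalarTower A B B'] [Algebra.IsPushout A B A' B']

theorem faithfullyFlat_of_isPushout [Module.FaithfullyFlat A A'] : Module.FaithfullyFlat B B' :=
  Module.FaithfullyFlat.of_linearEquiv B (B ⊗[A] A')
    (Algebra.IsPushout.equiv A B A' B').symm.toLinearEquiv

theorem flat_of_isPushout [Module.Flat A A'] : Module.Flat B B' :=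
  Module.Flat.of_linearEquiv (Algebra.IsPushout.equiv A B A' B').symm.toLinearEquiv

variable [SMulCommClass A' B B']

theorem tensorKaehlerEquiv_one_tmul [Algebra.IsPushout A A' B B'] (ω : Ω[B⁄A]) :
    KaehlerDifferential.tensorKaehlerEquiv A A' B B' ((1 : B') ⊗ₜ[B] ω) =
      KaehlerDifferential.map A A' B B' ω := by
  have hω : ω ∈ Submodule.span B (Set.range (KaehlerDifferential.D A B)) := by
    rw [KaehlerDifferential.span_range_derivation]; trivial
  induction hω using Submodule.span_induction with
  | mem y hy =>
    obtain ⟨a, rfl⟩ := hy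
    rw [KaehlerDifferential.tensorKaehlerEquiv_tmul_D, one_smul, KaehlerDifferential.map_D]
  | zero => rw [TensorProduct.tmul_zero, map_zero, map_zero]
  | add a b _ _ ha hb => rw [TensorProduct.tmul_add, map_add, ha, hb, map_add]
  | smul c a _ ha =>
    rw [TensorProduct.tmul_smul, ← algebraMap_smul B' c ((1 : B') ⊗ₜ[B] a), map_smul, ha,
      algebraMap_smul, map_smul]

theorem isBaseChange_map : IsBaseChange B' (KaehlerDifferential.map A A' B B') := by
  haveI : Algebra.IsPushout A A' B B' := Algebra.IsPushout.symm inferInstance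
  exact IsBaseChange.of_equiv (KaehlerDifferential.tensorKaehlerEquiv A A' B B')
    (fun ω => tensorKaehlerEquiv_one_tmul A B A' B' ω)

theorem isBaseChange_uC : IsBaseChange B' (uC A B A' B') :=
  isBaseChange_map A B A' B'

/-- **Faithfully flat descent of differential smoothness.** -/
theorem descent [Module.FaithfullyFlat A A'] (h : PP16.IsDiffSmooth A' B')
    (hfin : Module.Finite B' (KaehlerDifferential A' B')) :
    PP16.IsDiffSmooth A B ∧ Module.Finite B (KaehlerDifferential A B) := by
  haveI hff : Module.FaithfullyFlat B B' := faithfullyFlat_of_isPushout A B A' B'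
  haveI : Algebra.IsPushout A A' B B' := Algebra.IsPushout.symm inferInstance
  haveI : Module.Finite B' (B' ⊗[B] Ω[B⁄A]) :=
    Module.Finite.equiv (KaehlerDifferential.tensorKaehlerEquiv A A' B B').symm
  haveI : Module.Projective B' Ω[B'⁄A'] := h.1
  haveI : Module.Projective B' (B' ⊗[B] Ω[B⁄A]) :=
    Module.Projective.of_equiv (KaehlerDifferential.tensorKaehlerEquiv A A' B B').symm
  obtain ⟨hf, hp⟩ :=
    Groth.Agent.Lib.Helper85.finite_projective_of_tensorProduct_of_faithfullyFlat B B' Ω[B⁄A]
  refine ⟨isDiffSmooth_of_phi_injective A B hp (fun ι _ => ?_), hf⟩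
  have hinj' := (phi_bijective_of_isDiffSmooth A' B' h ι).1
  rw [injective_iff_map_eq_zero]
  intro x hx
  have h1 := phi_semi_eq_zero A B A' B' ι x hx
  have h2 := hinj' (h1.trans (map_zero _).symm)
  haveI : Module.Projective B (KaehlerDifferential.ideal A B).Cotangent := hp
  exact semi_injective_of_projective (ι := ι) (uC A B A' B') (isBaseChange_uC A B A' B')
    (FaithfulSMul.algebraMap_injective B B') (h2.trans (map_zero _).symm)

end Groth.Agent.Lib.Helper81.DiffSmoothDescent
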