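import Mathlib
import Groth.Agent.Lib.Helper81.SymPow
import Groth.Agent.Lib.Helper81.SymPowFreeB

/-!
# Symmetric powers of projective modules are projective (helper81)
-/

set_option autoImplicit false
universe u

open scoped TensorProduct

namespace Groth.Agent.Lib.Helper81.SymProj

open Groth.Agent.Lib.Helper81.SymPow

variable {B ι : Type u} [CommRing B] [Fintype ι]

theorem projective_of_basis {F : Type u} [AddCommGroup F] [Module B F] {κ : Type u}
    (e : Module.Basis κ B F) : Module.Projective B (Sym[B] ι F) := by
  obtain ⟨Ψ, hΨ⟩ := exists_leftInverse_of_basisB (ι := ι) e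
  refine Module.Projective.of_split (polyMap (ι := ι) e) Ψ ?_
  apply hom_ext
  intro v
  rw [LinearMap.comp_apply, polyMap_tprod, hΨ, LinearMap.id_apply]

theorem projective_sym {M : Type u} [AddCommGroup M] [Module B M] [Module.Projective B M] :
    Module.Projective B (Sym[B] ι M) := by
  obtain ⟨s, hs⟩ := (Module.projective_def'.1 (inferInstance : Module.Projective B M))
  haveI := projective_of_basis (ι := ι) (Finsupp.basisSingleOne (R := B) (ι := M))
  refine Module.Projective.of_split (SymPow.map (ι := ι) s)
    (SymPow.map (ι := ι) (Finsupp.linearCombination B id)) ?_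
  apply hom_ext
  intro v
  rw [LinearMap.comp_apply, SymPow.map_tprod, SymPow.map_tprod, LinearMap.id_apply]
  congr 1
  funext i
  exact LinearMap.congr_fun hs (v i)

end Groth.Agent.Lib.Helper81.SymProj
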