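import Mathlib
import Groth.Prelude.Def_PP16
import Groth.Agent.Lib.Helper81.DiffSmoothBridge
import Groth.Agent.Lib.Helper81.DiffSmoothChar0
import Groth.Agent.Lib.Helper81.DiffSmoothNat
import Groth.Agent.Lib.Helper81.SymProj

/-!
# Splitting of the principal parts of a differentially smooth algebra (helper81)

For `B` differentially smooth over `A`, the `B`-modules `(B ⊗ B)/I^(n+1)` are projective and
there are `B`-linear maps `B ⊗ B → Sym^n Ω` inverting `Sym^n Ω → I^n/I^(n+1)` on `I^n`.
-/

set_option autoImplicit false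
universe u

open scoped TensorProduct

namespace Groth.Agent.Lib.Helper81.DiffSmoothSplit

open Groth.Agent.Lib.Helper81.SymPow Groth.Agent.Lib.Helper81.DiffSmoothBridge
  Groth.Agent.Lib.Helper81.DiffSmoothChar0 Groth.Agent.Lib.Helper81.DiffSmoothNat

section Abstract

variable {B : Type*} [CommRing B] {K P Q : Type*} [AddCommGroup K] [Module B K]
  [AddCommGroup P] [Module B P] [AddCommGroup Q] [Module B Q]

theorem exists_retraction (j : K →ₗ[B] P) (π : P →ₗ[B] Q) (hj : Function.Injective j)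
    (hπ : Function.Surjective π) (hjπ : ∀ k, π (j k) = 0) (hex : ∀ x, π x = 0 → ∃ k, j k = x)
    [Module.Projective B Q] :
    ∃ (ρ : P →ₗ[B] K) (σ : Q →ₗ[B] P), (∀ k, ρ (j k) = k) ∧ (∀ x, j (ρ x) + σ (π x) = x) := by
  obtain ⟨σ, hσ⟩ := LinearMap.exists_rightInverse_of_surjective π (LinearMap.range_eq_top.2 hπ)
  have hσ' : ∀ q, π (σ q) = q := fun q => LinearMap.congr_fun hσ q
  let δ : P →ₗ[B] P := LinearMap.id - σ ∘ₗ π
  have hδ : ∀ x, δ x = x - σ (π x) := fun x => rfl
  have hmem : ∀ x, δ x ∈ LinearMap.range j := by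
    intro x
    obtain ⟨k, hk⟩ := hex (δ x) (by
      rw [hδ, map_sub, hσ', sub_self])
    exact ⟨k, hk⟩
  let ρ : P →ₗ[B] K := (LinearEquiv.ofInjective j hj).symm.toLinearMap ∘ₗ
    (LinearMap.codRestrict (LinearMap.range j) δ hmem)
  have hρ : ∀ x, j (ρ x) = x - σ (π x) := by
    intro x
    have h1 : (LinearEquiv.ofInjective j hj) (ρ x) =
        LinearMap.codRestrict (LinearMap.range j) δ hmem x :=
      (LinearEquiv.ofInjective j hj).apply_symm_apply _
    have h2 := congrArg Subtype.val h1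
    rw [LinearEquiv.ofInjective_apply] at h2
    exact h2
  refine ⟨ρ, σ, fun k => ?_, fun x => ?_⟩
  · apply hj
    rw [hρ, hjπ, map_zero, sub_zero]
  · rw [hρ, sub_add_cancel]

theorem projective_of_exact (j : K →ₗ[B] P) (π : P →ₗ[B] Q) (hj : Function.Injective j)
    (hπ : Function.Surjective π) (hjπ : ∀ k, π (j k) = 0) (hex : ∀ x, π x = 0 → ∃ k, j k = x)
    [Module.Projective B Q] [Module.Projective B K] : Module.Projective B P := by
  obtain ⟨ρ, σ, -, h2⟩ := exists_retraction j π hj hπ hjπ hex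
  refine Module.Projective.of_split (ρ.prod π) (j.coprod σ) ?_
  ext x
  rw [LinearMap.comp_apply, LinearMap.prod_apply, LinearMap.id_apply]
  change j (ρ x) + σ (π x) = x
  exact h2 x

end Abstract

section Pn

variable (A B : Type u) [CommRing A] [CommRing B] [Algebra A B]

/-- `(B ⊗ B)/I^(n+1)` as a `B`-module through the left factor -/
abbrev Pn (n : ℕ) : Type u :=
  (B ⊗[A] B) ⧸ ((KaehlerDifferential.ideal A B ^ (n + 1)).restrictScalars B)

/-- the transition map `P_(n+1) → P_n` -/
noncomputable def piMap (n : ℕ) : Pn A B (n + 1) →ₗ[B] Pn A B n :=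
  Submodule.mapQ _ _ LinearMap.id (fun t ht => by
    rw [Submodule.mem_comap, LinearMap.id_apply]
    exact Ideal.pow_le_pow_right (Nat.le_succ (n + 1)) ht)

theorem piMap_mk (n : ℕ) (t : B ⊗[A] B) :
    piMap A B n (Submodule.Quotient.mk t) = Submodule.Quotient.mk t := rfl

theorem piMap_surjective (n : ℕ) : Function.Surjective (piMap A B n) := by
  intro x
  obtain ⟨t, rfl⟩ := Submodule.Quotient.mk_surjective _ x
  exact ⟨Submodule.Quotient.mk t, rfl⟩

theorem jmap_mk (n : ℕ) (t : B ⊗[A] B) (ht : t ∈ KaehlerDifferential.ideal A B ^ n) :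
    jmap A B n (Submodule.Quotient.mk ⟨t, ht⟩) = Submodule.Quotient.mk t := rfl

theorem piMap_jmap (n : ℕ) (g : PP16.grI A B (n + 1)) : piMap A B n (jmap A B (n + 1) g) = 0 := by
  obtain ⟨⟨t, ht⟩, rfl⟩ := Submodule.Quotient.mk_surjective _ g
  rw [jmap_mk, piMap_mk, Submodule.Quotient.mk_eq_zero]
  exact ht

theorem exists_jmap_eq (n : ℕ) (x : Pn A B (n + 1)) (hx : piMap A B n x = 0) :
    ∃ g, jmap A B (n + 1) g = x := by
  obtain ⟨t, rfl⟩ := Submodule.Quotient.mk_surjective _ x
  rw [piMap_mk, Submodule.Quotient.mk_eq_zero] at hx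
  exact ⟨Submodule.Quotient.mk ⟨t, hx⟩, rfl⟩

theorem projective_P0 : Module.Projective B (Pn A B 0) := by
  let f : (B ⊗[A] B) →ₗ[B] B := (Algebra.TensorProduct.lmul'' A : B ⊗[A] B →ₐ[B] B).toLinearMap
  have hf : Function.Surjective f := by
    intro b
    exact ⟨b ⊗ₜ 1, by simp [f, Algebra.TensorProduct.lmul'']⟩
  have hker : LinearMap.ker f =
      (KaehlerDifferential.ideal A B ^ (0 + 1)).restrictScalars B := by
    ext t
    rw [zero_add, pow_one]
    rfl
  have e : Pn A B 0 ≃ₗ[B] B :=
    (Submodule.quotEquivOfEq _ _ hker.symm).trans (LinearMap.quotKerEquivOfSurjective f hf)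
  exact Module.Projective.of_equiv e.symm

end Pn

section Smooth

variable (A B : Type u) [CommRing A] [CommRing B] [Algebra A B]

theorem projective_grI (h : PP16.IsDiffSmooth A B) (n : ℕ) :
    Module.Projective B (PP16.grI A B n) := by
  have hcard : Fintype.card (ULift.{u} (Fin n)) = n := by simp
  haveI : Module.Projective B (KaehlerDifferential.ideal A B).Cotangent := h.1
  haveI : Module.Projective B (Sym[B] (ULift.{u} (Fin n))
      (KaehlerDifferential.ideal A B).Cotangent) := SymProj.projective_sym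
  have h2 : Module.Projective B (PP16.grI A B (Fintype.card (ULift.{u} (Fin n)))) :=
    Module.Projective.of_equiv
      (LinearEquiv.ofBijective _ (phi_bijective_of_isDiffSmooth A B h (ULift.{u} (Fin n))))
  exact hcard ▸ h2

theorem projective_Pn (h : PP16.IsDiffSmooth A B) (n : ℕ) : Module.Projective B (Pn A B n) := by
  induction n with
  | zero => exact projective_P0 A B
  | succ n ih =>
    haveI := ih
    haveI := projective_grI A B h (n + 1)
    exact projective_of_exact (jmap A B (n + 1)) (piMap A B n) (jmap_injective A B (n + 1))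
      (piMap_surjective A B n) (piMap_jmap A B n) (exists_jmap_eq A B n)

/-- a `B`-linear retraction `(B ⊗ B)/I^(n+1) → I^n/I^(n+1)` -/
theorem exists_retraction_jmap (h : PP16.IsDiffSmooth A B) (n : ℕ) :
    ∃ ρ : Pn A B n →ₗ[B] PP16.grI A B n, ∀ g, ρ (jmap A B n g) = g := by
  cases n with
  | zero =>
    -- `I^0/I^1 = (B ⊗ B)/I`
    have hsurj : Function.Surjective (jmap A B 0) := by
      intro x
      obtain ⟨t, rfl⟩ := Submodule.Quotient.mk_surjective _ x
      exact ⟨Submodule.Quotient.mk ⟨t, by rw [pow_zero, Ideal.one_eq_top]; trivial⟩, rfl⟩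
    let e := LinearEquiv.ofBijective (jmap A B 0) ⟨jmap_injective A B 0, hsurj⟩
    exact ⟨e.symm.toLinearMap, fun g => e.symm_apply_apply g⟩
  | succ n =>
    haveI := projective_Pn A B h n
    obtain ⟨ρ, σ, h1, -⟩ := exists_retraction (jmap A B (n + 1)) (piMap A B n)
      (jmap_injective A B (n + 1)) (piMap_surjective A B n) (piMap_jmap A B n)
      (exists_jmap_eq A B n)
    exact ⟨ρ, h1⟩

/-- **Splitting**: a `B`-linear map `B ⊗ B → Sym^n Ω` inverse to `phi` on `I^n`. -/
theorem exists_symRetraction (h : PP16.IsDiffSmooth A B) (ι : Type u) [Fintype ι] :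
    ∃ r : (B ⊗[A] B) →ₗ[B] Sym[B] ι (KaehlerDifferential.ideal A B).Cotangent,
      (∀ t, t ∈ KaehlerDifferential.ideal A B ^ (Fintype.card ι + 1) → r t = 0) ∧
      (∀ t (ht : t ∈ KaehlerDifferential.ideal A B ^ Fintype.card ι),
        phi A B ι (r t) = Submodule.Quotient.mk ⟨t, ht⟩) := by
  obtain ⟨ρ, hρ⟩ := exists_retraction_jmap A B h (Fintype.card ι)
  let e := LinearEquiv.ofBijective (phi A B ι) (phi_bijective_of_isDiffSmooth A B h ι)
  refine ⟨e.symm.toLinearMap ∘ₗ ρ ∘ₗ
    Submodule.mkQ ((KaehlerDifferential.ideal A B ^ (Fintype.card ι + 1)).restrictScalars B),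
    fun t ht => ?_, fun t ht => ?_⟩
  · have : Submodule.mkQ ((KaehlerDifferential.ideal A B ^
        (Fintype.card ι + 1)).restrictScalars B) t = 0 := by
      rw [Submodule.mkQ_apply, Submodule.Quotient.mk_eq_zero]
      exact ht
    rw [LinearMap.comp_apply, LinearMap.comp_apply, this, map_zero, map_zero]
  · have h1 : Submodule.mkQ ((KaehlerDifferential.ideal A B ^
        (Fintype.card ι + 1)).restrictScalars B) t =
        jmap A B (Fintype.card ι) (Submodule.Quotient.mk ⟨t, ht⟩) := rfl
    rw [LinearMap.comp_apply, LinearMap.comp_apply, h1, hρ]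
    exact e.apply_symm_apply _

end Smooth

end Groth.Agent.Lib.Helper81.DiffSmoothSplit
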