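import Mathlib
import Groth.Prelude.Def_PP16
import Groth.Agent.Lib.Helper81.DiffSmoothNat
import Groth.Agent.Lib.Helper81.DiffSmoothSplit
import Groth.Agent.Lib.Helper81.DiffSmoothDescent
import Groth.Agent.Lib.Helper62.DiffQReg0

/-!
# Base change of differential smoothness (helper81)
-/

set_option autoImplicit false
universe u

open scoped TensorProduct

namespace Groth.Agent.Lib.Helper81.DiffSmoothBC

open Groth.Agent.Lib.Helper81.SymPow Groth.Agent.Lib.Helper81.DiffSmoothBridge
  Groth.Agent.Lib.Helper81.DiffSmoothNat Groth.Agent.Lib.Helper81.SymSemi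
  Groth.Agent.Lib.Helper81.DiffSmoothSplit Groth.Agent.Lib.Helper81.DiffSmoothDescent

variable (A B A' B' : Type u) [CommRing A] [CommRing B] [Algebra A B]
  [CommRing A'] [CommRing B'] [Algebra A' B'] [Algebra A A'] [Algebra B B'] [Algebra A B']
  [IsScalarTower A A' B'] [IsScalarTower A B B'] [SMulCommClass A' B B']

/-- `tensorMap` as a `B`-linear map -/
noncomputable def tauLin : (B ⊗[A] B) →ₗ[B] (B' ⊗[A'] B') where
  toFun := PP16.tensorMap A B A' B'
  map_add' := map_add _
  map_smul' := fun b t => by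
    rw [tensorMap_smul, algebraMap_smul]
    rfl

theorem tauLin_apply (t : B ⊗[A] B) : tauLin A B A' B' t = PP16.tensorMap A B A' B' t := rfl

/-- `B' ⊗_B (B ⊗_A B) ≃ B' ⊗_{A'} B'` -/
noncomputable def tensorEquiv [Algebra.IsPushout A A' B B'] :
    B' ⊗[B] (B ⊗[A] B) ≃ₗ[B'] B' ⊗[A'] B' :=
  (TensorProduct.AlgebraTensorModule.cancelBaseChange A B B' B' B) ≪≫ₗ
  (TensorProduct.AlgebraTensorModule.cancelBaseChange A A' B' B' B).symm ≪≫ₗ
  TensorProduct.AlgebraTensorModule.congr (LinearEquiv.refl B' B')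
    (Algebra.IsPushout.equiv A A' B B').toLinearEquiv

theorem tensorEquiv_one_tmul [Algebra.IsPushout A A' B B'] (t : B ⊗[A] B) :
    tensorEquiv A B A' B' ((1 : B') ⊗ₜ[B] t) = tauLin A B A' B' t := by
  induction t using TensorProduct.induction_on with
  | zero => simp
  | add x y hx hy => rw [TensorProduct.tmul_add, map_add, hx, hy, map_add]
  | tmul x y =>
    rw [tauLin_apply, PP16.tensorMap_tmul]
    simp [tensorEquiv, Algebra.IsPushout.equiv_tmul, Algebra.smul_def]

theorem isBaseChange_tauLin [Algebra.IsPushout A B A' B'] :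
    IsBaseChange B' (tauLin A B A' B') := by
  haveI : Algebra.IsPushout A A' B B' := Algebra.IsPushout.symm inferInstance
  exact IsBaseChange.of_equiv (tensorEquiv A B A' B') (tensorEquiv_one_tmul A B A' B')

section Ideals

variable [Algebra.IsPushout A B A' B']

/-- the extension of an ideal along `tensorMap` is spanned over `B'` by the images -/
theorem mem_span_of_mem_map (J : Ideal (B ⊗[A] B)) {x : B' ⊗[A'] B'}
    (hx : x ∈ J.map (PP16.tensorMap A B A' B')) :
    x ∈ Submodule.span B' ((PP16.tensorMap A B A' B') '' (J : Set (B ⊗[A] B))) := by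
  have hC := isBaseChange_tauLin A B A' B'
  have hmul : ∀ (s : B' ⊗[A'] B') (y : B' ⊗[A'] B'),
      y ∈ Submodule.span B' ((PP16.tensorMap A B A' B') '' (J : Set (B ⊗[A] B))) →
      s * y ∈ Submodule.span B' ((PP16.tensorMap A B A' B') '' (J : Set (B ⊗[A] B))) := by
    intro s
    refine hC.inductionOn s _ ?_ ?_ ?_ ?_
    · intro y _
      rw [zero_mul]
      exact zero_mem _
    · intro t y hy
      induction hy using Submodule.span_induction with
      | mem z hz =>
        obtain ⟨j, hj, rfl⟩ := hz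
        rw [tauLin_apply, ← map_mul]
        exact Submodule.subset_span ⟨t * j, Ideal.mul_mem_left _ _ hj, rfl⟩
      | zero => rw [mul_zero]; exact zero_mem _
      | add a b _ _ ha hb => rw [mul_add]; exact add_mem ha hb
      | smul c a _ ha => rw [mul_smul_comm]; exact Submodule.smul_mem _ _ ha
    · intro c s ih y hy
      rw [smul_mul_assoc]
      exact Submodule.smul_mem _ _ (ih y hy)
    · intro s₁ s₂ h₁ h₂ y hy
      rw [add_mul]
      exact add_mem (h₁ y hy) (h₂ y hy)
  rw [Ideal.map] at hx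
  induction hx using Submodule.span_induction with
  | mem z hz => exact Submodule.subset_span hz
  | zero => exact zero_mem _
  | add a b _ _ ha hb => exact add_mem ha hb
  | smul c a _ ha => exact hmul c a ha

theorem one_tmul_sub_mem_map (b' : B') :
    (1 : B') ⊗ₜ[A'] b' - b' ⊗ₜ[A'] (1 : B') ∈
      (KaehlerDifferential.ideal A B).map (PP16.tensorMap A B A' B') := by
  have hP : Algebra.IsPushout A A' B B' := Algebra.IsPushout.symm inferInstance
  refine hP.out.inductionOn b' _ ?_ ?_ ?_ ?_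
  · simp
  · intro b
    have : (1 : B') ⊗ₜ[A'] (IsScalarTower.toAlgHom A B B').toLinearMap b -
        (IsScalarTower.toAlgHom A B B').toLinearMap b ⊗ₜ[A'] (1 : B') =
        PP16.tensorMap A B A' B' ((1 : B) ⊗ₜ[A] b - b ⊗ₜ[A] (1 : B)) := by
      rw [map_sub, PP16.tensorMap_tmul, PP16.tensorMap_tmul, map_one]
      rfl
    rw [this]
    exact Ideal.mem_map_of_mem _ (KaehlerDifferential.one_smul_sub_smul_one_mem_ideal A b)
  · intro a' n hn
    have : (1 : B') ⊗ₜ[A'] (a' • n) - (a' • n) ⊗ₜ[A'] (1 : B') =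
        algebraMap A' (B' ⊗[A'] B') a' * ((1 : B') ⊗ₜ[A'] n - n ⊗ₜ[A'] (1 : B')) := by
      have e1 : (1 : B') ⊗ₜ[A'] (a' • n) = a' • ((1 : B') ⊗ₜ[A'] n) :=
        TensorProduct.tmul_smul a' 1 n
      have e2 : (a' • n) ⊗ₜ[A'] (1 : B') = a' • (n ⊗ₜ[A'] (1 : B')) :=
        (TensorProduct.smul_tmul' a' n 1).symm
      rw [← Algebra.smul_def, smul_sub, e1, e2]
    rw [this]
    exact Ideal.mul_mem_left _ _ hn
  · intro n₁ n₂ h₁ h₂
    have : (1 : B') ⊗ₜ[A'] (n₁ + n₂) - (n₁ + n₂) ⊗ₜ[A'] (1 : B') =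
        ((1 : B') ⊗ₜ[A'] n₁ - n₁ ⊗ₜ[A'] (1 : B')) +
          ((1 : B') ⊗ₜ[A'] n₂ - n₂ ⊗ₜ[A'] (1 : B')) := by
      rw [TensorProduct.tmul_add, TensorProduct.add_tmul]
      abel
    rw [this]
    exact Ideal.add_mem _ h₁ h₂

theorem ideal_map_tensorMap_eq :
    (KaehlerDifferential.ideal A B).map (PP16.tensorMap A B A' B') =
      KaehlerDifferential.ideal A' B' := by
  apply le_antisymm (PP16.ideal_map_tensorMap_le A B A' B')
  rw [← KaehlerDifferential.span_range_eq_ideal, Ideal.span_le]
  rintro _ ⟨b', rfl⟩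
  exact one_tmul_sub_mem_map A B A' B' b'

theorem mem_span_of_mem_pow (n : ℕ) {x : B' ⊗[A'] B'}
    (hx : x ∈ KaehlerDifferential.ideal A' B' ^ n) :
    x ∈ Submodule.span B' ((PP16.tensorMap A B A' B') ''
      ((KaehlerDifferential.ideal A B ^ n : Ideal (B ⊗[A] B)) : Set (B ⊗[A] B))) := by
  apply mem_span_of_mem_map
  rw [Ideal.map_pow, ideal_map_tensorMap_eq]
  exact hx

theorem span_D_algebraMap (hP : Algebra.IsPushout A A' B B') :
    Submodule.span B' (Set.range fun b : B => KaehlerDifferential.D A' B' (algebraMap B B' b)) =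
      ⊤ := by
  rw [eq_top_iff, ← KaehlerDifferential.span_range_derivation A' B', Submodule.span_le]
  rintro _ ⟨b', rfl⟩
  refine hP.out.inductionOn b' _ ?_ ?_ ?_ ?_
  · rw [map_zero]; exact zero_mem _
  · intro b
    exact Submodule.subset_span ⟨b, rfl⟩
  · intro a' n hn
    rw [Derivation.map_smul]
    exact Submodule.smul_of_tower_mem _ a' hn
  · intro n₁ n₂ h₁ h₂
    rw [map_add]
    exact add_mem h₁ h₂

end Ideals

section Final

variable [Algebra.IsPushout A B A' B']

theorem prod_tensorMap {ι : Type u} [Fintype ι] (b : ι → B) :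
    (∏ i, ((1 : B') ⊗ₜ[A'] algebraMap B B' (b i) - algebraMap B B' (b i) ⊗ₜ[A'] (1 : B'))) =
      PP16.tensorMap A B A' B' (∏ i, ((1 : B) ⊗ₜ[A] b i - b i ⊗ₜ[A] (1 : B))) := by
  rw [map_prod]
  refine Finset.prod_congr rfl (fun i _ => ?_)
  rw [map_sub, PP16.tensorMap_tmul, PP16.tensorMap_tmul, map_one]

theorem span_cot (hP : Algebra.IsPushout A A' B B') :
    Submodule.span B' (Set.range fun b : B => (KaehlerDifferential.ideal A' B').toCotangent
      ⟨(1 : B') ⊗ₜ[A'] algebraMap B B' b - algebraMap B B' b ⊗ₜ[A'] (1 : B'),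
        KaehlerDifferential.one_smul_sub_smul_one_mem_ideal A' (algebraMap B B' b)⟩) = ⊤ :=
  span_D_algebraMap A B A' B' hP

theorem span_tprod_cot (hP : Algebra.IsPushout A A' B B') (ι : Type u) [Fintype ι] :
    Submodule.span B' {t : Sym[B'] ι (KaehlerDifferential.ideal A' B').Cotangent |
      ∃ b : ι → B, SymmetricPower.tprod B' (fun i =>
        (KaehlerDifferential.ideal A' B').toCotangent
          ⟨(1 : B') ⊗ₜ[A'] algebraMap B B' (b i) - algebraMap B B' (b i) ⊗ₜ[A'] (1 : B'),
            KaehlerDifferential.one_smul_sub_smul_one_mem_ideal A' (algebraMap B B' (b i))⟩) =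
        t} = ⊤ := by
  rw [eq_top_iff, ← Groth.Agent.Lib.Helper62.DiffQReg.span_tprod_of_span (R := B') (ι := ι) _
    (span_cot A B A' B' hP)]
  apply Submodule.span_mono
  rintro _ ⟨v, hv, rfl⟩
  choose b hb using hv
  refine ⟨b, ?_⟩
  congr 1
  funext i
  exact hb i

theorem phi_injective_baseChange (h : PP16.IsDiffSmooth A B) (ι : Type u) [Fintype ι] :
    Function.Injective (phi A' B' ι) := by
  classical
  obtain ⟨r, hr0, hr1⟩ := exists_symRetraction A B h ι
  have hC := isBaseChange_tauLin A B A' B'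
  letI modB : Module B (Sym[B'] ι (KaehlerDifferential.ideal A' B').Cotangent) :=
    Module.compHom _ (algebraMap B B')
  haveI : IsScalarTower B B' (Sym[B'] ι (KaehlerDifferential.ideal A' B').Cotangent) :=
    IsScalarTower.of_algebraMap_smul (fun _ _ => rfl)
  let sL : Sym[B] ι (KaehlerDifferential.ideal A B).Cotangent →ₗ[B]
      Sym[B'] ι (KaehlerDifferential.ideal A' B').Cotangent :=
    { toFun := semi (B' := B') ι (uC A B A' B')
      map_add' := map_add _
      map_smul' := fun b x => semi_smul (uC A B A' B') b x }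
  let r' : (B' ⊗[A'] B') →ₗ[B'] Sym[B'] ι (KaehlerDifferential.ideal A' B').Cotangent :=
    hC.lift (sL ∘ₗ r)
  have hr' : ∀ t, r' (PP16.tensorMap A B A' B' t) = semi (B' := B') ι (uC A B A' B') (r t) :=
    fun t => hC.lift_eq (sL ∘ₗ r) t
  have hkill0 : ∀ x ∈ Submodule.span B' ((PP16.tensorMap A B A' B') ''
      ((KaehlerDifferential.ideal A B ^ (Fintype.card ι + 1) : Ideal (B ⊗[A] B)) :
        Set (B ⊗[A] B))), r' x = 0 := by
    intro x hx'
    induction hx' using Submodule.span_induction with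
    | mem z hz =>
      obtain ⟨t, ht, rfl⟩ := hz
      rw [hr', hr0 t ht, map_zero]
    | zero => exact map_zero _
    | add a b _ _ ha hb => rw [map_add, ha, hb, add_zero]
    | smul c a _ ha => rw [map_smul, ha, smul_zero]
  have hkill : ∀ x ∈ KaehlerDifferential.ideal A' B' ^ (Fintype.card ι + 1), r' x = 0 :=
    fun x hx => hkill0 x (mem_span_of_mem_pow A B A' B' _ hx)
  let R : PP16.grI A' B' (Fintype.card ι) →ₗ[B']
      Sym[B'] ι (KaehlerDifferential.ideal A' B').Cotangent :=
    Submodule.liftQ _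
      (r' ∘ₗ ((KaehlerDifferential.ideal A' B' ^ Fintype.card ι).restrictScalars B').subtype)
      (by
        intro x hx
        rw [Submodule.mem_comap] at hx
        rw [LinearMap.mem_ker, LinearMap.comp_apply]
        exact hkill _ hx)
  have hR : R ∘ₗ phi A' B' ι = LinearMap.id := by
    apply LinearMap.ext_on (span_tprod_cot A B A' B' (Algebra.IsPushout.symm inferInstance) ι)
    rintro _ ⟨b, rfl⟩
    rw [LinearMap.comp_apply, LinearMap.id_apply,
      phi_tprod A' B' ι (fun i => algebraMap B B' (b i))]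
    change r' (∏ i, ((1 : B') ⊗ₜ[A'] algebraMap B B' (b i) -
      algebraMap B B' (b i) ⊗ₜ[A'] (1 : B'))) = _
    rw [prod_tensorMap A B A' B' b, hr']
    have hmem : (∏ i, ((1 : B) ⊗ₜ[A] b i - b i ⊗ₜ[A] (1 : B))) ∈
        KaehlerDifferential.ideal A B ^ Fintype.card ι := by
      simpa using PP16.prod_mem_pow (KaehlerDifferential.ideal A B) Finset.univ
        (fun i => (1 : B) ⊗ₜ[A] b i - b i ⊗ₜ[A] (1 : B))
        (fun i _ => KaehlerDifferential.one_smul_sub_smul_one_mem_ideal A (b i))
    have h3 : r (∏ i, ((1 : B) ⊗ₜ[A] b i - b i ⊗ₜ[A] (1 : B))) =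
        SymmetricPower.tprod B (fun i => (KaehlerDifferential.ideal A B).toCotangent
          ⟨1 ⊗ₜ b i - b i ⊗ₜ 1, KaehlerDifferential.one_smul_sub_smul_one_mem_ideal A (b i)⟩) := by
      apply (phi_bijective_of_isDiffSmooth A B h ι).1
      rw [hr1 _ hmem, phi_tprod A B ι b]
      rfl
    rw [h3, semi_tprod]
    congr 1
    funext i
    rw [uC_toCotangent]
    exact congrArg (KaehlerDifferential.ideal A' B').toCotangent (Subtype.ext
      (show PP16.tensorMap A B A' B' ((1 : B) ⊗ₜ[A] b i - b i ⊗ₜ[A] (1 : B)) =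
        (1 : B') ⊗ₜ[A'] algebraMap B B' (b i) - algebraMap B B' (b i) ⊗ₜ[A'] (1 : B') by
      rw [map_sub, PP16.tensorMap_tmul, PP16.tensorMap_tmul, map_one]))
  intro x y hxy
  have hx := LinearMap.congr_fun hR x
  have hy := LinearMap.congr_fun hR y
  rw [LinearMap.comp_apply, LinearMap.id_apply] at hx hy
  rw [← hx, ← hy, hxy]

/-- **Base change of differential smoothness.** -/
theorem baseChange (h : PP16.IsDiffSmooth A B) : PP16.IsDiffSmooth A' B' := by
  haveI : Algebra.IsPushout A A' B B' := Algebra.IsPushout.symm inferInstance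
  haveI : Module.Projective B Ω[B⁄A] := h.1
  have hproj : Module.Projective B' (KaehlerDifferential A' B') :=
    Module.Projective.of_equiv (KaehlerDifferential.tensorKaehlerEquiv A A' B B')
  exact isDiffSmooth_of_phi_injective A' B' hproj
    (fun ι _ => phi_injective_baseChange A B A' B' h ι)

end Final

end Groth.Agent.Lib.Helper81.DiffSmoothBC
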