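import Mathlib

/-!
# Elements of `(A ⧸ J) ⊗_A B` (helper81)
-/

set_option autoImplicit false

open TensorProduct

namespace Groth.Agent.Lib.Helper81.FibreTensor

theorem exists_one_tmul {A : Type*} [CommRing A] (J : Ideal A) {B : Type*} [AddCommGroup B]
    [Module A B] (x : (A ⧸ J) ⊗[A] B) : ∃ b : B, x = (1 : A ⧸ J) ⊗ₜ[A] b := by
  induction x with
  | zero => exact ⟨0, by simp⟩
  | tmul c b =>
    obtain ⟨a, rfl⟩ := Ideal.Quotient.mk_surjective c
    refine ⟨a • b, ?_⟩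
    rw [TensorProduct.tmul_smul, TensorProduct.smul_tmul', Algebra.smul_def, mul_one]
    rfl
  | add x y hx hy =>
    obtain ⟨b, rfl⟩ := hx
    obtain ⟨b', rfl⟩ := hy
    exact ⟨b + b', by rw [TensorProduct.tmul_add]⟩

theorem one_tmul_eq_zero_iff {A : Type*} [CommRing A] (J : Ideal A) {B : Type*} [CommRing B]
    [Algebra A B] (b : B) :
    ((1 : A ⧸ J) ⊗ₜ[A] b = 0) ↔ b ∈ J.map (algebraMap A B) := by
  rw [← (TensorProduct.quotTensorEquivQuotSMul B J).map_eq_zero_iff,
    TensorProduct.quotTensorEquivQuotSMul_mk_one_tmul, Submodule.Quotient.mk_eq_zero,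
    Ideal.smul_top_eq_map]
  rfl

end Groth.Agent.Lib.Helper81.FibreTensor
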