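import Mathlib
import Groth.Prelude.Def_EGA41
import Groth.Agent.Lib.Helper47.FlatFibreSmooth
import Groth.Agent.Lib.Helper81.LiftIso
import Groth.Agent.Lib.Helper81.FibreFS
import Groth.Agent.Lib.Helper81.FibreTensor2

/-!
# Uniqueness of flat complete lifts of a formally smooth algebra (helper81)

EGA 0_IV 19.7.2, uniqueness part.
-/

set_option autoImplicit false
universe u

open IsLocalRing TensorProduct

namespace Groth.Agent.Lib.Helper81.FlatLiftUnique

theorem unique_lift {A : Type u} [CommRing A] [IsLocalRing A]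
    (J : Ideal A) (hJ : J ≤ maximalIdeal A) [IsLocalRing (A ⧸ J)]
    (B₀ : Type u) [CommRing B₀] [IsLocalRing B₀]
    [Algebra (A ⧸ J) B₀]
    (hfs : EGA41.IsFormallySmoothAdic (A ⧸ J) (maximalIdeal (A ⧸ J)) B₀ (maximalIdeal B₀))
    (B B' : Type u) [CommRing B] [IsLocalRing B] [IsNoetherianRing B] [Algebra A B]
    [IsLocalHom (algebraMap A B)]
    [CommRing B'] [IsLocalRing B'] [IsNoetherianRing B'] [Algebra A B']
    [IsLocalHom (algebraMap A B')]
    (hc : IsAdicComplete (maximalIdeal B) B) (hf : Module.Flat A B)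
    (hc' : IsAdicComplete (maximalIdeal B') B') (hf' : Module.Flat A B')
    (u : (A ⧸ J) ⊗[A] B ≃ₐ[A ⧸ J] B₀) (u' : (A ⧸ J) ⊗[A] B' ≃ₐ[A ⧸ J] B₀) :
    ∃ v : B ≃ₐ[A] B', (u' : (A ⧸ J) ⊗[A] B' →ₐ[A ⧸ J] B₀).comp
      (Algebra.TensorProduct.map (AlgHom.id (A ⧸ J) (A ⧸ J)) (v : B →ₐ[A] B')) =
        (u : (A ⧸ J) ⊗[A] B →ₐ[A ⧸ J] B₀) := by
  classical
  letI : Algebra A B₀ := ((algebraMap (A ⧸ J) B₀).comp (Ideal.Quotient.mk J)).toAlgebra
  haveI : IsScalarTower A (A ⧸ J) B₀ := IsScalarTower.of_algebraMap_eq (fun _ => rfl)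
  -- the two projections
  let p : B →ₐ[A] B₀ := ((u : (A ⧸ J) ⊗[A] B →ₐ[A ⧸ J] B₀).restrictScalars A).comp
    (Algebra.TensorProduct.includeRight : B →ₐ[A] (A ⧸ J) ⊗[A] B)
  let p' : B' →ₐ[A] B₀ := ((u' : (A ⧸ J) ⊗[A] B' →ₐ[A ⧸ J] B₀).restrictScalars A).comp
    (Algebra.TensorProduct.includeRight : B' →ₐ[A] (A ⧸ J) ⊗[A] B')
  have hpdef : ∀ b, p b = u ((1 : A ⧸ J) ⊗ₜ[A] b) := fun b => rfl
  have hp'def : ∀ b, p' b = u' ((1 : A ⧸ J) ⊗ₜ[A] b) := fun b => rfl
  have hp : Function.Surjective p := by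
    intro y
    obtain ⟨x, rfl⟩ := u.surjective y
    obtain ⟨b, rfl⟩ := FibreTensor.exists_one_tmul J x
    exact ⟨b, rfl⟩
  have hp' : Function.Surjective p' := by
    intro y
    obtain ⟨x, rfl⟩ := u'.surjective y
    obtain ⟨b, rfl⟩ := FibreTensor.exists_one_tmul J x
    exact ⟨b, rfl⟩
  have hkp : RingHom.ker p = J.map (algebraMap A B) := by
    ext b
    rw [RingHom.mem_ker, hpdef, map_eq_zero_iff u u.injective, FibreTensor.one_tmul_eq_zero_iff]
  have hkp' : RingHom.ker p' = J.map (algebraMap A B') := by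
    ext b
    rw [RingHom.mem_ker, hp'def, map_eq_zero_iff u' u'.injective,
      FibreTensor.one_tmul_eq_zero_iff]
  -- formal smoothness of `B`
  have hfsB : EGA41.IsFormallySmoothAdic A (maximalIdeal A) B (maximalIdeal B) := by
    apply Groth.Agent.Lib.Helper47.isFormallySmoothAdic_of_flat_of_fibre
    refine FibreFS.fibre_formallySmooth (Ideal.Quotient.mk J) Ideal.Quotient.mk_surjective hfs
      p.toRingHom hp (fun a => p.commutes a) ?_
    change RingHom.ker p ≤ _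
    rw [hkp]
    exact Ideal.map_mono hJ
  obtain ⟨v, hv⟩ := LiftIso.exists_algEquiv_of_common_quotient J hfsB p p' hp hp' hkp hkp'
  refine ⟨v, ?_⟩
  apply Algebra.TensorProduct.ext
  · ext
  · ext b
    have := AlgHom.congr_fun hv b
    simpa [hpdef, hp'def] using this

end Groth.Agent.Lib.Helper81.FlatLiftUnique
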