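import Mathlib
import Groth.Agent.Lib.Helper81.RegLocusFormal
import Groth.Agent.S0599
import Groth.Agent.H8.J2Semilocal
import Groth.Agent.H8.J2Descent
import Groth.Agent.H8.ExcellentLocalization
import Groth.Agent.H8.NagataRegQuot

/-!
# A semi-local G-ring is J-2 (helper81)
-/

set_option autoImplicit false
set_option linter.style.haveILetI false
universe u

namespace Groth.Agent.Lib.Helper81.GRingJ2

open IsLocalRing

theorem isRegularLocalRing_congr {D : Type u} [CommRing D] {p q : Ideal D} [hp : p.IsPrime]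
    [hq : q.IsPrime] (h : p = q) (hr : IsRegularLocalRing (Localization.AtPrime p)) :
    IsRegularLocalRing (Localization.AtPrime q) := by
  subst h
  exact hr

/-- In a Noetherian G-domain, for a prime `m` there is a nonzero `g` such that all primes
`p ≤ m` with `g ∉ p` are regular points. -/
theorem exists_ne_zero_forall_le (D : Type u) [CommRing D] [IsDomain D] (hD : CAlg.IsGRing D)
    (m : Ideal D) [hm : m.IsPrime] :
    ∃ g : D, g ≠ 0 ∧ ∀ (p : Ideal D) [p.IsPrime], p ≤ m → g ∉ p →
      IsRegularLocalRing (Localization.AtPrime p) := by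
  haveI : IsNoetherianRing D := hD.1
  let Dm := Localization.AtPrime m
  haveI : IsNoetherianRing Dm := IsLocalization.isNoetherianRing m.primeCompl _ inferInstance
  have hreg : CAlg.IsRegularHom Dm (EGA4.Cpl Dm) := hD.2 m
  have hopen : IsOpen (EGA4.regLocus Dm) :=
    Groth.Agent.Lib.Helper81.CompleteReg.isOpen_regLocus_of_isRegularHom_cpl Dm hreg
  have hne : (EGA4.regLocus Dm).Nonempty := ⟨_, Groth.Agent.H8.Nagata.bot_mem_regLocus Dm⟩
  obtain ⟨g', hg'0, hg'⟩ := Groth.Agent.H8.J2.exists_basicOpen_subset hopen hne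
  obtain ⟨a, s, rfl⟩ := IsLocalization.exists_mk'_eq m.primeCompl g'
  refine ⟨a, ?_, ?_⟩
  · rintro rfl
    exact hg'0 (by simp)
  · intro p hp hpm hap
    have hdisj : Disjoint (m.primeCompl : Set D) (p : Set D) := by
      rw [Set.disjoint_left]
      intro x hx hxp
      exact hx (hpm hxp)
    let P : Ideal Dm := p.map (algebraMap D Dm)
    haveI hP : P.IsPrime := IsLocalization.isPrime_of_isPrime_disjoint m.primeCompl Dm p hp hdisj
    have hcomap : P.comap (algebraMap D Dm) = p :=
      IsLocalization.comap_map_of_isPrime_disjoint m.primeCompl Dm hp hdisj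
    have hmem : (⟨P, hP⟩ : PrimeSpectrum Dm) ∈ EGA4.regLocus Dm := by
      apply hg'
      change (⟨P, hP⟩ : PrimeSpectrum Dm) ∈ PrimeSpectrum.basicOpen _
      rw [PrimeSpectrum.mem_basicOpen]
      intro hin
      apply hap
      rw [← hcomap, Ideal.mem_comap]
      have : algebraMap D Dm a = IsLocalization.mk' Dm a s * algebraMap D Dm s := by
        rw [IsLocalization.mk'_spec]
      rw [this]
      exact P.mul_mem_right _ hin
    have h1 : IsRegularLocalRing (Localization.AtPrime P) := hmem
    have h2 := (Groth.Agent.H8.GRing.isRegularLocalRing_atPrime_iff_of_isLocalization m.primeCompl Dm P).mp h1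
    exact isRegularLocalRing_congr hcomap h2

/-- A G-ring with finitely many maximal ideals is J-2. -/
theorem isJ2_of_isGRing_of_finite_maximal (A : Type u) [CommRing A] (hA : CAlg.IsGRing A)
    (hsl : {I : Ideal A | I.IsMaximal}.Finite) : EGA4.IsJ2 A := by
  haveI : IsNoetherianRing A := hA.1
  apply Groth.Agent.H8.J2.isJ2_of_finite_domains
  intro A' _ _ _ hfin
  haveI := hfin
  have hG' : CAlg.IsGRing A' := Groth.Agent.S0599.result A hA A'
  have hfin' : {I : Ideal A' | I.IsMaximal}.Finite :=
    Groth.Agent.H8.J2.finite_maximal_of_finite A A' hsl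
  have key : ∀ m : Ideal A', ∃ g : A', g ≠ 0 ∧ (m.IsPrime → ∀ (p : Ideal A') [p.IsPrime], p ≤ m →
      g ∉ p → IsRegularLocalRing (Localization.AtPrime p)) := by
    intro m
    by_cases hm : m.IsPrime
    · obtain ⟨g, hg0, hg⟩ := exists_ne_zero_forall_le A' hG' m
      exact ⟨g, hg0, fun _ p _ hpm hgp => hg p hpm hgp⟩
    · exact ⟨1, one_ne_zero, fun h => absurd h hm⟩
  choose g hg0 hg using key
  let f : A' := ∏ m ∈ hfin'.toFinset, g m
  have hf0 : f ≠ 0 := Finset.prod_ne_zero_iff.mpr fun m _ => hg0 m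
  refine ⟨PrimeSpectrum.basicOpen f, (PrimeSpectrum.basicOpen f).isOpen,
    Groth.Agent.H8.J2.basicOpen_nonempty hf0, ?_⟩
  intro p hp
  have hp' : f ∉ p.asIdeal := (PrimeSpectrum.mem_basicOpen _ _).mp hp
  obtain ⟨m, hm, hpm⟩ := Ideal.exists_le_maximal p.asIdeal p.2.ne_top
  have hmem : m ∈ hfin'.toFinset := by
    rw [Set.Finite.mem_toFinset]
    exact hm
  have hgp : g m ∉ p.asIdeal := by
    intro hin
    apply hp'
    exact Ideal.mem_of_dvd _ (Finset.dvd_prod_of_mem g hmem) hin
  haveI := p.2
  exact hg m hm.isPrime p.asIdeal hpm hgp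

/-- A Noetherian local G-ring is J-2. -/
theorem isJ2_of_isGRing_local (A : Type u) [CommRing A] [IsLocalRing A] (hA : CAlg.IsGRing A) :
    EGA4.IsJ2 A := by
  apply isJ2_of_isGRing_of_finite_maximal A hA
  have : {I : Ideal A | I.IsMaximal} = {maximalIdeal A} := by
    ext I
    simp only [Set.mem_setOf_eq, Set.mem_singleton_iff]
    exact ⟨fun h => IsLocalRing.eq_maximalIdeal h, fun h => h ▸ inferInstance⟩
  rw [this]
  exact Set.finite_singleton _

end Groth.Agent.Lib.Helper81.GRingJ2
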