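import Mathlib
import Groth.Agent.S2468
import Groth.Agent.S4521
import Groth.Agent.S2486
import Groth.Agent.Lib.Helper81.FrobDegree

/-!
# `{t}` is a `p`-basis of `k((t))` for `k` perfect (helper81)
-/

set_option autoImplicit false
universe u

namespace Groth.Agent.Lib.Helper81.LaurentPBasis

open PowerSeries

section PS

variable (p : ℕ) [Fact p.Prime] (k : Type u) [Field k] [CharP k p] [PerfectRing k p]

/-- the `p`-th power of a power series in characteristic `p` -/
theorem pow_p_eq (g : k⟦X⟧) :
    g ^ p = PowerSeries.map (frobenius k p) (PowerSeries.expand p (Fact.out : p.Prime).ne_zero g) :=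
  (MvPowerSeries.map_frobenius_expand p (Fact.out : p.Prime).ne_zero).symm

theorem coeff_pow_p (g : k⟦X⟧) (n : ℕ) :
    coeff n (g ^ p) = if p ∣ n then (coeff (n / p) g) ^ p else 0 := by
  rw [pow_p_eq, PowerSeries.coeff_map, PowerSeries.coeff_expand]
  split_ifs
  · rfl
  · simp [frobenius_def, (Fact.out : p.Prime).ne_zero]

theorem powerSeries_decomp (f : k⟦X⟧) :
    ∃ g : ℕ → k⟦X⟧, f = ∑ i ∈ Finset.range p, (X : k⟦X⟧) ^ i * (g i) ^ p := by
  have hp : p.Prime := Fact.out
  refine ⟨fun i => PowerSeries.mk fun m => (frobeniusEquiv k p).symm (coeff (p * m + i) f), ?_⟩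
  ext n
  rw [map_sum]
  have key : ∀ i ∈ Finset.range p, coeff n ((X : k⟦X⟧) ^ i *
      (PowerSeries.mk fun m => (frobeniusEquiv k p).symm (coeff (p * m + i) f)) ^ p) =
        if n % p = i then coeff n f else 0 := by
    intro i hi
    rw [Finset.mem_range] at hi
    rw [PowerSeries.coeff_X_pow_mul', coeff_pow_p]
    by_cases h1 : i ≤ n
    · rw [if_pos h1]
      by_cases h2 : p ∣ n - i
      · rw [if_pos h2, PowerSeries.coeff_mk]
        have h3 : n % p = i := by
          obtain ⟨c, hc⟩ := h2
          have : n = i + p * c := by omega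
          rw [this, Nat.add_mul_mod_self_left, Nat.mod_eq_of_lt hi]
        rw [if_pos h3]
        have h4 : p * ((n - i) / p) + i = n := by
          rw [Nat.mul_div_cancel' h2]
          omega
        rw [h4]
        exact frobeniusEquiv_symm_pow_p k p _
      · rw [if_neg h2]
        have h3 : ¬ n % p = i := by
          intro h
          apply h2
          rw [← h]
          exact Nat.dvd_sub_mod n
        rw [if_neg h3]
    · rw [if_neg h1]
      have h3 : ¬ n % p = i := by
        intro h
        apply h1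
        rw [← h]
        exact Nat.mod_le n p
      rw [if_neg h3]
  rw [Finset.sum_congr rfl key, Finset.sum_ite_eq]
  rw [if_pos (Finset.mem_range.2 (Nat.mod_lt n hp.pos))]

end PS

section Generic

open KaehlerDifferential Groth.Agent.Lib.Helper81.FrobDegree

/-- a field of characteristic `p` with a one-element `p`-basis over `L^p` has absolute
differentials of rank one -/
theorem kaehler_of_pBasis_singleton (p : ℕ) [Fact p.Prime] (L : Type u) [Field L] [CharP L p]
    (t : L) (hB : EGA41.IsPBasis p (↥(frobenius L p).fieldRange) (fun _ : PUnit.{u+1} => t)) :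
    Module.Finite L Ω[L⁄ℤ] ∧ Module.finrank L Ω[L⁄ℤ] = 1 := by
  obtain ⟨b, hb⟩ := (Groth.Agent.S2468.result p (k := ↥(frobenius L p).fieldRange)
    (K := L) (fun _ : PUnit.{u+1} => t)).2.2.1 hB
  let e := LinearEquiv.ofBijective (KaehlerDifferential.map ℤ
    (↥(frobenius L p).fieldRange) L L) (map_int_frob_bijective p L)
  haveI : Module.Finite L Ω[L⁄(↥(frobenius L p).fieldRange)] := Module.Finite.of_basis b
  haveI : Module.Finite L Ω[L⁄ℤ] := Module.Finite.equiv e.symm
  refine ⟨inferInstance, ?_⟩
  rw [e.finrank_eq, Module.finrank_eq_card_basis b]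
  simp

/-- `[K : K^p] = p ^ (d + 1)` for a finitely generated extension `K` of transcendence degree `d`
of a field `L` with a one-element `p`-basis. -/
theorem finrank_frobenius_of_essFiniteType (p : ℕ) [Fact p.Prime] (L K : Type u) [Field L]
    [Field K] [Algebra L K] [CharP L p] [CharP K p] [Algebra.EssFiniteType L K]
    (t : L) (hB : EGA41.IsPBasis p (↥(frobenius L p).fieldRange) (fun _ : PUnit.{u+1} => t))
    (d : ℕ) (hd : Algebra.trdeg L K = d) :
    Module.finrank (↥(frobenius K p).fieldRange) K = p ^ (d + 1) := by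
  obtain ⟨h1, h2⟩ := kaehler_of_pBasis_singleton p L t hB
  haveI := h1
  obtain ⟨h3, h4⟩ := kaehler_int_of_essFiniteType L K d hd
  haveI := h3
  rw [finrank_frobenius_fieldRange p K, h4, h2, add_comm]

end Generic

section Laurent

open Groth.Agent.Lib.Helper81.PBasisEGA

variable (p : ℕ) [Fact p.Prime] (k : Type u) [Field k] [CharP k p] [PerfectRing k p]

theorem charP_laurent : CharP (LaurentSeries k) p :=
  charP_of_injective_ringHom (HahnSeries.C_injective (Γ := ℤ) (R := k)) p

attribute [local instance] charP_laurent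

/-- the uniformizer -/
noncomputable def t : LaurentSeries k := HahnSeries.single 1 1

theorem t_notMem : t k ∉ (frobenius (LaurentSeries k) p).fieldRange := by
  rintro ⟨f, hf⟩
  have h := congrArg HahnSeries.order hf
  rw [frobenius_def, HahnSeries.order_pow, t, HahnSeries.order_single one_ne_zero] at h
  have hp : p.Prime := Fact.out
  have h2 : (p : ℤ) ∣ 1 := ⟨f.order, by rw [← h]; simp⟩
  have h3 : (p : ℤ) ≤ 1 := Int.le_of_dvd one_pos h2
  have h4 : 2 ≤ p := hp.two_le
  omega

theorem adjoin_eq_top :
    Algebra.adjoin (EGA41.pPowerSubalgebra p (↥(frobenius (LaurentSeries k) p).fieldRange)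
      (LaurentSeries k)) (Set.range fun _ : PUnit.{u+1} => t k) = ⊤ := by
  rw [Algebra.eq_top_iff]
  intro f
  have hp : p.Prime := Fact.out
  have hpow : ∀ h : LaurentSeries k, h ^ p ∈ Algebra.adjoin (EGA41.pPowerSubalgebra p
      (↥(frobenius (LaurentSeries k) p).fieldRange) (LaurentSeries k))
      (Set.range fun _ : PUnit.{u+1} => t k) := fun h => by
    have : h ^ p = algebraMap (EGA41.pPowerSubalgebra p
      (↥(frobenius (LaurentSeries k) p).fieldRange) (LaurentSeries k)) (LaurentSeries k)
        ⟨h ^ p, pow_mem_pPowerSubalgebra p h⟩ := rfl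
    rw [this]
    exact Subalgebra.algebraMap_mem _ _
  have ht : t k ∈ Algebra.adjoin (EGA41.pPowerSubalgebra p
      (↥(frobenius (LaurentSeries k) p).fieldRange) (LaurentSeries k))
      (Set.range fun _ : PUnit.{u+1} => t k) := Algebra.subset_adjoin ⟨PUnit.unit, rfl⟩
  have hps : ∀ F : k⟦X⟧, (HahnSeries.ofPowerSeries ℤ k F) ∈ Algebra.adjoin
      (EGA41.pPowerSubalgebra p (↥(frobenius (LaurentSeries k) p).fieldRange) (LaurentSeries k))
      (Set.range fun _ : PUnit.{u+1} => t k) := by
    intro F
    obtain ⟨g, hg⟩ := powerSeries_decomp p k F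
    rw [hg, map_sum]
    refine Subalgebra.sum_mem _ fun i _ => ?_
    rw [map_mul, map_pow, map_pow, HahnSeries.ofPowerSeries_X]
    exact Subalgebra.mul_mem _ (Subalgebra.pow_mem _ ht _) (hpow _)
  rw [← LaurentSeries.single_order_mul_powerSeriesPart f]
  refine Subalgebra.mul_mem _ ?_ (hps _)
  have hN : (HahnSeries.single f.order (1 : k) : LaurentSeries k) =
      (HahnSeries.single (f.order / p) 1) ^ p * (t k) ^ (f.order % p).toNat := by
    rw [HahnSeries.single_pow, t, HahnSeries.single_pow, HahnSeries.single_mul_single]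
    congr 1
    · have h1 : 0 ≤ f.order % (p : ℤ) := Int.emod_nonneg _ (by exact_mod_cast hp.ne_zero)
      have h2 := Int.mul_ediv_add_emod f.order p
      simp only [nsmul_eq_mul, mul_one]
      rw [Int.toNat_of_nonneg h1, h2]
    · simp
  rw [hN]
  exact Subalgebra.mul_mem _ (hpow _) (Subalgebra.pow_mem _ ht _)

theorem isPBasis_t : EGA41.IsPBasis p (↥(frobenius (LaurentSeries k) p).fieldRange)
    (fun _ : PUnit.{u+1} => t k) := by
  refine ⟨?_, ?_⟩
  · rw [Groth.Agent.S4521.result p (k := ↥(frobenius (LaurentSeries k) p).fieldRange)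
      (K := LaurentSeries k)]
    intro a ha
    have hle : IntermediateField.adjoin (↥(frobenius (LaurentSeries k) p).fieldRange)
        ((Set.range fun y : LaurentSeries k => y ^ p) ∪
          (fun _ : PUnit.{u+1} => t k) '' {b | b ≠ a}) ≤ ⊥ := by
      rw [IntermediateField.adjoin_le_iff]
      rintro y (⟨z, rfl⟩ | ⟨b, hb, -⟩)
      · exact IntermediateField.mem_bot.2 ⟨⟨z ^ p, ⟨z, rfl⟩⟩, rfl⟩
      · exact absurd (Subsingleton.elim b a) hb
    obtain ⟨c, hc⟩ := IntermediateField.mem_bot.1 (hle ha)
    exact t_notMem p k (hc ▸ c.2)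
  · exact (Groth.Agent.S2486.result p (A := ↥(frobenius (LaurentSeries k) p).fieldRange)
      (B := LaurentSeries k) _).1.1 (adjoin_eq_top p k)

end Laurent

end Groth.Agent.Lib.Helper81.LaurentPBasis
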