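import Mathlib
import Groth.Prelude.Def_PP16
import Groth.Agent.S3817
import Groth.Agent.S3820
import Groth.Agent.Lib.Helper81.DerivPoly

/-!
# Principal parts of a differentially smooth algebra with coordinates are truncated polynomials
(helper81)
-/

set_option autoImplicit false
universe u

open scoped TensorProduct

namespace Groth.Agent.Lib.Helper81.PPPoly

open MvPolynomial

section General

variable (A B : Type u) [CommRing A] [CommRing B] [Algebra A B] (n : ℕ)

/-- `ζ = d^n z - z` -/
noncomputable def zeta (z : B) : PP16.P n A B :=
  PP16.dn n A B z - algebraMap B (PP16.P n A B) z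

theorem zeta_eq_mk (z : B) : zeta A B n z =
    Ideal.Quotient.mk _ ((1 : B) ⊗ₜ[A] z - z ⊗ₜ[A] (1 : B)) := by
  rw [map_sub]
  rfl

theorem zeta_mem (z : B) : zeta A B n z ∈ PP16.augIdeal n A B := by
  rw [zeta_eq_mk]
  exact Ideal.mem_map_of_mem _ (KaehlerDifferential.one_smul_sub_smul_one_mem_ideal A z)

theorem augIdeal_pow : PP16.augIdeal n A B ^ (n + 1) = ⊥ := by
  rw [PP16.augIdeal, ← Ideal.map_pow, Ideal.map_quotient_self]

variable {r : ℕ} (z : Fin r → B)

theorem aeval_eq_zero_of_mem {f : MvPolynomial (Fin r) B}
    (hf : f ∈ idealOfVars (Fin r) B ^ (n + 1)) :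
    aeval (fun i => zeta A B n (z i)) f = 0 := by
  have := DerivPoly.aeval_mem_pow (PP16.augIdeal n A B) (fun i => zeta A B n (z i))
    (fun i => zeta_mem A B n (z i)) (n + 1) hf
  rwa [augIdeal_pow, Ideal.mem_bot] at this

theorem main (hB : PP16.IsDiffSmooth A B)
    (hz : ∃ b : Module.Basis (Fin r) B (KaehlerDifferential A B),
      ∀ i, b i = KaehlerDifferential.D A B (z i)) :
    Function.Surjective (aeval (R := B) (fun i => zeta A B n (z i))) ∧
      RingHom.ker (aeval (R := B) (fun i => zeta A B n (z i))).toRingHom =
        idealOfVars (Fin r) B ^ (n + 1) := by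
  classical
  obtain ⟨bP, hbP⟩ := Groth.Agent.S3817.result A B hB (Fin r) z hz n
  have hbP' : ∀ p, bP p = ∏ i, zeta A B n (z i) ^ (p.1 i) := hbP
  -- monomials
  have hmon : ∀ (s : Fin r →₀ ℕ) (c : B), aeval (fun i => zeta A B n (z i)) (monomial s c) =
      c • ∏ i, zeta A B n (z i) ^ (s i) := by
    intro s c
    rw [aeval_monomial, Algebra.smul_def]
    congr 1
    exact Finsupp.prod_fintype _ _ (fun i => pow_zero _)
  constructor
  · intro y
    have hy : y ∈ Submodule.span B (Set.range bP) := by rw [bP.span_eq]; trivial
    induction hy using Submodule.span_induction with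
    | mem y hy =>
      obtain ⟨p, rfl⟩ := hy
      refine ⟨monomial (Finsupp.equivFunOnFinite.symm p.1) 1, ?_⟩
      rw [hmon, one_smul, hbP']
      rfl
    | zero => exact ⟨0, map_zero _⟩
    | add a b _ _ ha hb =>
      obtain ⟨a', rfl⟩ := ha
      obtain ⟨b', rfl⟩ := hb
      exact ⟨a' + b', map_add _ _ _⟩
    | smul c a _ ha =>
      obtain ⟨a', rfl⟩ := ha
      exact ⟨c • a', map_smul _ _ _⟩
  · apply le_antisymm
    · intro f hf
      have hf0 : aeval (fun i => zeta A B n (z i)) f = 0 := hf
      rw [mem_pow_idealOfVars_iff']
      intro s hs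
      have hs' : ∑ i, s i ≤ n := by
        rw [Finsupp.degree_eq_sum] at hs
        omega
      -- the linear map reading off the coefficient at `s` through the basis
      let G : PP16.P n A B →ₗ[B] MvPolynomial (Fin r) B :=
        bP.constr B (fun p => monomial (Finsupp.equivFunOnFinite.symm p.1) (1 : B))
      have hG : ∀ p, G (bP p) = monomial (Finsupp.equivFunOnFinite.symm p.1) (1 : B) :=
        fun p => bP.constr_basis B _ p
      have key : (lcoeff B s) ∘ₗ G ∘ₗ (aeval (fun i => zeta A B n (z i))).toLinearMap =
          lcoeff B s := by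
        apply MvPolynomial.linearMap_ext
        intro t
        apply LinearMap.ext_ring
        simp only [LinearMap.comp_apply, AlgHom.toLinearMap_apply, lcoeff_apply]
        by_cases ht : ∑ i, t i ≤ n
        · have h1 : aeval (fun i => zeta A B n (z i)) (monomial t (1 : B)) =
              bP ⟨fun i => t i, ht⟩ := by
            rw [hmon, one_smul, hbP']
          have h2 : Finsupp.equivFunOnFinite.symm (fun i => t i) = t := by
            ext i
            rfl
          rw [h1, hG]
          change coeff s (monomial (Finsupp.equivFunOnFinite.symm (fun i => t i)) (1 : B)) = _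
          rw [h2]
        · have h1 : aeval (fun i => zeta A B n (z i)) (monomial t (1 : B)) = 0 := by
            apply aeval_eq_zero_of_mem
            rw [mem_pow_idealOfVars_iff]
            intro x hx
            rw [support_monomial] at hx
            split_ifs at hx with h0
            · simp at hx
            · rw [Finset.mem_singleton] at hx
              rw [hx, Finsupp.degree_eq_sum]
              omega
          rw [h1, map_zero, coeff_zero, coeff_monomial, if_neg]
          rintro rfl
          exact ht hs'
      have := LinearMap.congr_fun key f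
      simp only [LinearMap.comp_apply, AlgHom.toLinearMap_apply, lcoeff_apply] at this
      rw [← this, hf0, map_zero, coeff_zero]
    · intro f hf
      exact aeval_eq_zero_of_mem A B n z hf

end General

section Frac

variable (k : Type u) [Field k] (r : ℕ)

theorem formallySmooth_frac :
    Algebra.FormallySmooth k (FractionRing (MvPolynomial (Fin r) k)) := by
  haveI : Algebra.FormallySmooth (MvPolynomial (Fin r) k)
      (FractionRing (MvPolynomial (Fin r) k)) :=
    Algebra.FormallySmooth.of_isLocalization (nonZeroDivisors (MvPolynomial (Fin r) k))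
  exact Algebra.FormallySmooth.comp k (MvPolynomial (Fin r) k) _

theorem exists_basis_frac :
    ∃ b : Module.Basis (Fin r) (FractionRing (MvPolynomial (Fin r) k))
        (KaehlerDifferential k (FractionRing (MvPolynomial (Fin r) k))),
      ∀ i, b i = KaehlerDifferential.D k (FractionRing (MvPolynomial (Fin r) k))
        (algebraMap (MvPolynomial (Fin r) k) (FractionRing (MvPolynomial (Fin r) k)) (X i)) := by
  haveI : Algebra.FormallyEtale (MvPolynomial (Fin r) k)
      (FractionRing (MvPolynomial (Fin r) k)) :=
    Algebra.FormallyEtale.of_isLocalization (nonZeroDivisors (MvPolynomial (Fin r) k))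
  refine ⟨((KaehlerDifferential.mvPolynomialBasis k (Fin r)).baseChange
    (FractionRing (MvPolynomial (Fin r) k))).map
      (KaehlerDifferential.tensorKaehlerEquivOfFormallyEtale k (MvPolynomial (Fin r) k)
        (FractionRing (MvPolynomial (Fin r) k))), fun i => ?_⟩
  rw [Module.Basis.map_apply, Module.Basis.baseChange_apply,
    KaehlerDifferential.mvPolynomialBasis_apply,
    KaehlerDifferential.tensorKaehlerEquivOfFormallyEtale_apply,
    KaehlerDifferential.mapBaseChange_tmul, one_smul, KaehlerDifferential.map_D]

theorem main_frac (n : ℕ) :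
    Function.Surjective (aeval (R := FractionRing (MvPolynomial (Fin r) k))
      (fun i => zeta k (FractionRing (MvPolynomial (Fin r) k)) n
        (algebraMap (MvPolynomial (Fin r) k) (FractionRing (MvPolynomial (Fin r) k)) (X i)))) ∧
      RingHom.ker (aeval (R := FractionRing (MvPolynomial (Fin r) k))
        (fun i => zeta k (FractionRing (MvPolynomial (Fin r) k)) n
          (algebraMap (MvPolynomial (Fin r) k) (FractionRing (MvPolynomial (Fin r) k))
            (X i)))).toRingHom =
        idealOfVars (Fin r) (FractionRing (MvPolynomial (Fin r) k)) ^ (n + 1) := by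
  haveI := formallySmooth_frac k r
  exact main k (FractionRing (MvPolynomial (Fin r) k)) n _
    (Groth.Agent.S3820.result k (FractionRing (MvPolynomial (Fin r) k))) (exists_basis_frac k r)

end Frac

end Groth.Agent.Lib.Helper81.PPPoly
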