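import Mathlib

/-!
# Perfect closure of a ring with projective Frobenius: purity and products

General lemmas used for S16000.
-/

set_option autoImplicit false
universe u v w

namespace Groth.Agent.Lib.Helper81.PerfFlat

open TensorProduct

section Gen

/-- Transitivity of projectivity along restriction of scalars. -/
theorem projective_trans (R : Type u) (S : Type v) (M : Type w) [CommRing R] [CommRing S]
    [Algebra R S] [AddCommGroup M] [Module S M] [Module R M] [IsScalarTower R S M]
    [Module.Projective R S] [Module.Projective S M] : Module.Projective R M := by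
  classical
  obtain ⟨s, hs⟩ := (Module.projective_def' (R := S) (P := M)).1 inferInstance
  have hfree : Module.Projective R (M →₀ S) :=
    Module.Projective.of_equiv' (TensorProduct.finsuppScalarRight R R S M)
  refine Module.Projective.of_split (R := R) (M := M →₀ S) (s.restrictScalars R)
    ((Finsupp.linearCombination S (id : M → M)).restrictScalars R) ?_
  ext x
  exact LinearMap.congr_fun hs x

/-- For a free module with a basis, a tensor vanishes iff all its coordinates vanish; hence
jointly injective families stay jointly injective after tensoring. -/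
theorem pi_lTensor_injective_of_basis {R : Type u} [CommRing R] {T : Type v} [AddCommGroup T]
    [Module R T] {I : Type w} (b : Module.Basis I R T)
    {N : Type*} [AddCommGroup N] [Module R N] {ι : Type*} {M : ι → Type*}
    [∀ i, AddCommGroup (M i)] [∀ i, Module R (M i)] (g : ∀ i, N →ₗ[R] M i)
    (hg : ∀ x, (∀ i, g i x = 0) → x = 0) (z : T ⊗[R] N)
    (hz : ∀ i, LinearMap.lTensor T (g i) z = 0) : z = 0 := by
  classical
  apply (TensorProduct.equivFinsuppOfBasisLeft b).injective
  rw [map_zero]
  ext a
  rw [Finsupp.zero_apply, TensorProduct.equivFinsuppOfBasisLeft_apply]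
  apply hg
  intro i
  have h1 : ∀ z' : T ⊗[R] N, g i (TensorProduct.lid R N ((b.coord a).rTensor N z')) =
      TensorProduct.lid R (M i) ((b.coord a).rTensor (M i) (LinearMap.lTensor T (g i) z')) := by
    intro z'
    induction z' using TensorProduct.induction_on with
    | zero => simp
    | tmul t y => simp
    | add x y hx hy => simp only [map_add, hx, hy]
  rw [h1, hz i, map_zero, map_zero]

/-- Same for projective modules. -/
theorem pi_lTensor_injective_of_projective {R : Type u} [CommRing R] {T : Type v}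
    [AddCommGroup T] [Module R T] [Module.Projective R T]
    {N : Type*} [AddCommGroup N] [Module R N] {ι : Type*} {M : ι → Type*}
    [∀ i, AddCommGroup (M i)] [∀ i, Module R (M i)] (g : ∀ i, N →ₗ[R] M i)
    (hg : ∀ x, (∀ i, g i x = 0) → x = 0) (z : T ⊗[R] N)
    (hz : ∀ i, LinearMap.lTensor T (g i) z = 0) : z = 0 := by
  classical
  obtain ⟨s, hs⟩ := (Module.projective_def' (R := R) (P := T)).1 inferInstance
  have h0 : LinearMap.rTensor N s z = 0 := by
    apply pi_lTensor_injective_of_basis (Finsupp.basisSingleOne (R := R) (ι := T)) g hg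
    intro i
    have : LinearMap.lTensor (T →₀ R) (g i) (LinearMap.rTensor N s z) =
        LinearMap.rTensor (M i) s (LinearMap.lTensor T (g i) z) := by
      rw [← LinearMap.comp_apply, ← LinearMap.comp_apply, LinearMap.lTensor_comp_rTensor,
        LinearMap.rTensor_comp_lTensor]
    rw [this, hz i, map_zero]
  have h1 : LinearMap.rTensor N (Finsupp.linearCombination R (id : T → T))
      (LinearMap.rTensor N s z) = z := by
    rw [← LinearMap.comp_apply, ← LinearMap.rTensor_comp, hs, LinearMap.rTensor_id,
      LinearMap.id_apply]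
  rw [← h1, h0, map_zero]

/-- A faithfully flat extension `S → T` is pure, also after restricting to `R`-modules. -/
theorem rTensor_injective_of_faithfullyFlat (R : Type u) (S : Type v) (T : Type w) [CommRing R]
    [CommRing S] [CommRing T] [Algebra R S] [Algebra S T] [Algebra R T] [IsScalarTower R S T]
    [Module.FaithfullyFlat S T] (Q : Type*) [AddCommGroup Q] [Module R Q] :
    Function.Injective (LinearMap.rTensor Q (IsScalarTower.toAlgHom R S T).toLinearMap) := by
  have key : ∀ w : S ⊗[R] Q, LinearMap.rTensor Q (IsScalarTower.toAlgHom R S T).toLinearMap w =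
      TensorProduct.AlgebraTensorModule.cancelBaseChange R S S T Q ((1 : T) ⊗ₜ[S] w) := by
    intro w
    induction w using TensorProduct.induction_on with
    | zero => simp
    | tmul s q =>
      rw [LinearMap.rTensor_tmul, TensorProduct.AlgebraTensorModule.cancelBaseChange_tmul,
        Algebra.smul_def, mul_one]
      rfl
    | add x y hx hy => rw [map_add, hx, hy, tmul_add, map_add]
  rw [injective_iff_map_eq_zero]
  intro w hw
  rw [key, LinearEquiv.map_eq_zero_iff] at hw
  exact (Module.FaithfullyFlat.one_tmul_eq_zero_iff S (S ⊗[R] Q) w).1 hw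

end Gen

section Perf

variable (p : ℕ) [Fact p.Prime] (R : Type u) [CommRing R] [CharP R p]

set_option linter.unusedVariables false in
/-- `R` as an `R`-algebra through the `n`-th iterate of Frobenius (a copy of `R`). -/
@[nolint unusedArguments]
def Tw (p : ℕ) (R : Type u) (n : ℕ) : Type u := R

instance (n : ℕ) : CommRing (Tw p R n) := inferInstanceAs (CommRing R)

/-- identity of underlying rings -/
def Tw.e (n : ℕ) : R ≃+* Tw p R n := RingEquiv.refl R

instance Tw.algebra (n : ℕ) : Algebra R (Tw p R n) :=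
  ((Tw.e p R n : R →+* Tw p R n).comp (iterateFrobenius R p n)).toAlgebra

theorem Tw.algebraMap_apply (n : ℕ) (r : R) :
    algebraMap R (Tw p R n) r = Tw.e p R n (r ^ p ^ n) := by
  show Tw.e p R n (iterateFrobenius R p n r) = _
  rw [iterateFrobenius_def]

theorem Tw.smul_def (n : ℕ) (r : R) (x : Tw p R n) :
    r • x = Tw.e p R n (r ^ p ^ n) * x := by
  rw [Algebra.smul_def, Tw.algebraMap_apply]

open PerfectClosure in
theorem mk_shift (n k : ℕ) (x : R) :
    PerfectClosure.mk R p (n, x) = PerfectClosure.mk R p (n + k, x ^ p ^ k) := by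
  rw [PerfectClosure.R.sound R p k n x (x ^ p ^ k) (iterate_frobenius p k x), add_comm]

theorem mk_mul (n m : ℕ) (x y : R) :
    PerfectClosure.mk R p (n, x) * PerfectClosure.mk R p (m, y) =
      PerfectClosure.mk R p (n + m, x ^ p ^ m * y ^ p ^ n) := by
  rw [PerfectClosure.mk_mul_mk]
  simp only [iterate_frobenius]

theorem mk_add (n m : ℕ) (x y : R) :
    PerfectClosure.mk R p (n, x) + PerfectClosure.mk R p (m, y) =
      PerfectClosure.mk R p (n + m, x ^ p ^ m + y ^ p ^ n) := by
  rw [PerfectClosure.mk_add_mk]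
  simp only [iterate_frobenius]

theorem mk_eq_zero_iff (n : ℕ) (x : R) :
    PerfectClosure.mk R p (n, x) = 0 ↔ ∃ z, x ^ p ^ z = 0 := by
  rw [PerfectClosure.zero_def, PerfectClosure.mk_eq_iff]
  simp only [iterate_frobenius, zero_add]
  constructor
  · rintro ⟨z, hz⟩
    refine ⟨z, ?_⟩
    rw [hz, zero_pow (pow_ne_zero _ (Fact.out : p.Prime).ne_zero)]
  · rintro ⟨z, hz⟩
    refine ⟨z, ?_⟩
    rw [hz, zero_pow (pow_ne_zero _ (Fact.out : p.Prime).ne_zero)]

/-- The ring homomorphism `x ↦ x^(1/p^n)` into the perfect closure. -/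
noncomputable def iota (n : ℕ) : Tw p R n →+* PerfectClosure R p where
  toFun x := PerfectClosure.mk R p (n, (Tw.e p R n).symm x)
  map_one' := by
    rw [map_one, PerfectClosure.one_def, mk_shift p R 0 n 1, one_pow, zero_add]
  map_mul' x y := by
    rw [mk_mul, map_mul, mk_shift p R n n, mul_pow]
  map_zero' := by
    rw [map_zero]; exact PerfectClosure.mk_zero_right R p n
  map_add' x y := by
    rw [mk_add, map_add, mk_shift p R n n]
    congr 2
    exact map_add (iterateFrobenius R p n) _ _

theorem iota_apply (n : ℕ) (x : Tw p R n) :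
    iota p R n x = PerfectClosure.mk R p (n, (Tw.e p R n).symm x) := rfl

theorem mk_eq_iota (n : ℕ) (x : R) :
    PerfectClosure.mk R p (n, x) = iota p R n (Tw.e p R n x) := rfl

/-- `PerfectClosure R p` as an algebra over the `n`-th twist. -/
noncomputable instance algTwP (n : ℕ) : Algebra (Tw p R n) (PerfectClosure R p) :=
  (iota p R n).toAlgebra

/-- the `R`-algebra structure on the perfect closure through `PerfectClosure.of` -/
noncomputable instance algRP : Algebra R (PerfectClosure R p) := (PerfectClosure.of R p).toAlgebra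

instance towerTwP (n : ℕ) : IsScalarTower R (Tw p R n) (PerfectClosure R p) := by
  apply IsScalarTower.of_algebraMap_eq
  intro r
  show PerfectClosure.of R p r = iota p R n (algebraMap R (Tw p R n) r)
  rw [Tw.algebraMap_apply, ← mk_eq_iota, PerfectClosure.of_apply, mk_shift p R 0 n r, zero_add]

theorem exists_common_mk {l : ℕ} (x : Fin l → PerfectClosure R p) :
    ∃ (m : ℕ) (r : Fin l → R), ∀ i, x i = PerfectClosure.mk R p (m, r i) := by
  choose c hc using fun i => PerfectClosure.mk_surjective R p (x i)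
  refine ⟨∑ i, (c i).1, fun i => (c i).2 ^ p ^ ((∑ i, (c i).1) - (c i).1), fun i => ?_⟩
  have hle : (c i).1 ≤ ∑ i, (c i).1 :=
    Finset.single_le_sum (f := fun i => (c i).1) (fun _ _ => Nat.zero_le _) (Finset.mem_univ i)
  rw [← hc i]
  conv_lhs => rw [show c i = ((c i).1, (c i).2) from rfl,
    mk_shift p R (c i).1 ((∑ i, (c i).1) - (c i).1) (c i).2]
  rw [Nat.add_sub_cancel' hle]

theorem sum_mk {ι : Type*} (s : Finset ι) (k : ℕ) (c : ι → R) :
    ∑ i ∈ s, PerfectClosure.mk R p (k, c i) = PerfectClosure.mk R p (k, ∑ i ∈ s, c i) := by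
  simp only [mk_eq_iota]
  rw [← map_sum, ← map_sum]

theorem smul_mk (n m : ℕ) (a : Tw p R n) (r : R) :
    a • PerfectClosure.mk R p (m, r) =
      PerfectClosure.mk R p (n + m, ((Tw.e p R n).symm a) ^ p ^ m * r ^ p ^ n) := by
  rw [Algebra.smul_def]
  show iota p R n a * _ = _
  rw [iota_apply, mk_mul]

/-- The perfect closure is flat over every Frobenius twist as soon as all twists are flat. -/
theorem flat_perfectClosure (hflat : ∀ k, Module.Flat R (Tw p R k)) (n : ℕ) :
    Module.Flat (Tw p R n) (PerfectClosure R p) := by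
  apply Module.Flat.of_forall_isTrivialRelation
  intro l f x hfx
  obtain ⟨m, r, hr⟩ := exists_common_mk p R x
  have h1 : ∀ i, f i • x i = PerfectClosure.mk R p
      (n + m, ((Tw.e p R n).symm (f i)) ^ p ^ m * (r i) ^ p ^ n) := by
    intro i
    rw [hr i, smul_mk]
  simp only [h1] at hfx
  rw [sum_mk, mk_eq_zero_iff] at hfx
  obtain ⟨z, hz⟩ := hfx
  have h3 : ∑ i, ((Tw.e p R n).symm (f i)) ^ p ^ (m + z) * (r i) ^ p ^ (n + z) = 0 := by
    rw [← hz, ← iterateFrobenius_def (R := R) p z, map_sum]
    apply Finset.sum_congr rfl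
    intro i _
    rw [iterateFrobenius_def]
    ring
  have h4 : ∑ i, ((Tw.e p R n).symm (f i)) • (Tw.e p R (m + z) ((r i) ^ p ^ (n + z))) = 0 := by
    simp only [Tw.smul_def, ← map_mul, ← map_sum]
    rw [h3, map_zero]
  have := hflat (m + z)
  obtain ⟨K, a, y, hy, ha⟩ := Module.Flat.isTrivialRelation_of_sum_smul_eq_zero (R := R)
    (M := Tw p R (m + z)) (f := fun i => (Tw.e p R n).symm (f i))
    (x := fun i => Tw.e p R (m + z) ((r i) ^ p ^ (n + z))) h4
  refine ⟨K, fun i j => Tw.e p R n (a i j),
    fun j => PerfectClosure.mk R p (n + m + z, (Tw.e p R (m + z)).symm (y j)), ?_, ?_⟩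
  · intro i
    have h5 : ∀ j, Tw.e p R n (a i j) •
        PerfectClosure.mk R p (n + m + z, (Tw.e p R (m + z)).symm (y j)) =
        PerfectClosure.mk R p (n + m + z, (a i j) ^ p ^ (m + z) * (Tw.e p R (m + z)).symm (y j)) := by
      intro j
      rw [smul_mk, RingEquiv.symm_apply_apply,
        mk_shift p R (n + m + z) n ((a i j) ^ p ^ (m + z) * (Tw.e p R (m + z)).symm (y j))]
      congr 2
      · omega
      · ring
    simp only [h5]
    rw [sum_mk, hr i, mk_shift p R m (n + z) (r i)]
    congr 2
    · omega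
    · have := congrArg (Tw.e p R (m + z)).symm (hy i)
      rw [RingEquiv.symm_apply_apply] at this
      rw [this, map_sum]
      apply Finset.sum_congr rfl
      intro j _
      rw [Tw.smul_def, map_mul, RingEquiv.symm_apply_apply]
  · intro j
    have := ha j
    apply (Tw.e p R n).symm.injective
    rw [map_zero, map_sum, ← this]
    apply Finset.sum_congr rfl
    intro i _
    rw [map_mul, RingEquiv.symm_apply_apply]

/-- The perfect closure is faithfully flat over every Frobenius twist. -/
theorem faithfullyFlat_perfectClosure (hflat : ∀ k, Module.Flat R (Tw p R k)) (n : ℕ) :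
    Module.FaithfullyFlat (Tw p R n) (PerfectClosure R p) := by
  have := flat_perfectClosure p R hflat n
  refine ⟨?_⟩
  intro 𝔪 h𝔪 htop
  have hp0 : ∀ k, p ^ k ≠ 0 := fun k => pow_ne_zero _ (Fact.out : p.Prime).ne_zero
  have h1 : (1 : PerfectClosure R p) ∈ 𝔪 • (⊤ : Submodule (Tw p R n) (PerfectClosure R p)) := by
    rw [htop]; exact Submodule.mem_top
  have key : ∀ x ∈ 𝔪 • (⊤ : Submodule (Tw p R n) (PerfectClosure R p)),
      ∃ (k : ℕ) (s : Tw p R n), s ∈ 𝔪 ∧ x = PerfectClosure.mk R p (k, (Tw.e p R n).symm s) := by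
    intro x hx
    refine Submodule.smul_induction_on hx ?_ ?_
    · intro a ha y _
      obtain ⟨⟨m, r⟩, rfl⟩ := PerfectClosure.mk_surjective R p y
      refine ⟨n + m, a ^ p ^ m * Tw.e p R n (r ^ p ^ n),
        𝔪.mul_mem_right _ (𝔪.pow_mem_of_mem ha _ (Nat.pos_of_ne_zero (hp0 m))), ?_⟩
      rw [smul_mk, map_mul, map_pow, RingEquiv.symm_apply_apply]
    · rintro x y ⟨k, s, hs, rfl⟩ ⟨k', s', hs', rfl⟩
      refine ⟨k + k', s ^ p ^ k' + s' ^ p ^ k,
        add_mem (𝔪.pow_mem_of_mem hs _ (Nat.pos_of_ne_zero (hp0 k')))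
          (𝔪.pow_mem_of_mem hs' _ (Nat.pos_of_ne_zero (hp0 k))), ?_⟩
      rw [mk_add, map_add, map_pow, map_pow]
  obtain ⟨k, s, hs, h1s⟩ := key 1 h1
  rw [PerfectClosure.one_def, PerfectClosure.mk_eq_iff] at h1s
  obtain ⟨z, hz⟩ := h1s
  simp only [iterate_frobenius, one_pow, zero_add] at hz
  apply h𝔪.ne_top
  apply 𝔪.eq_top_of_isUnit_mem (𝔪.pow_mem_of_mem hs (p ^ z) (Nat.pos_of_ne_zero (hp0 z)))
  have : s ^ p ^ z = 1 := by
    apply (Tw.e p R n).symm.injective
    rw [map_pow, ← hz, map_one]
  rw [this]
  exact isUnit_one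

/-- purity of `Tw n → PerfectClosure R p` -/
theorem iota_pure (hflat : ∀ k, Module.Flat R (Tw p R k)) (n : ℕ)
    (Q : Type*) [AddCommGroup Q] [Module R Q] :
    Function.Injective (LinearMap.rTensor Q
      (IsScalarTower.toAlgHom R (Tw p R n) (PerfectClosure R p)).toLinearMap) := by
  have := faithfullyFlat_perfectClosure p R hflat n
  exact rTensor_injective_of_faithfullyFlat R (Tw p R n) (PerfectClosure R p) Q

/-- `Tw (k+1)` as a module over the ring `Tw k`, through Frobenius. -/
noncomputable instance Tw.stepModule (k : ℕ) : Module (Tw p R k) (Tw p R (k + 1)) :=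
  inferInstanceAs (Module R (Tw p R 1))

theorem Tw.step_smul_def (k : ℕ) (s : Tw p R k) (y : Tw p R (k + 1)) :
    s • y = Tw.e p R (k + 1) (((Tw.e p R k).symm s) ^ p) * y := by
  have := Tw.smul_def p R 1 ((Tw.e p R k).symm s) y
  rw [pow_one] at this
  exact this

instance Tw.stepTower (k : ℕ) : IsScalarTower R (Tw p R k) (Tw p R (k + 1)) := by
  refine ⟨fun r s y => ?_⟩
  rw [Tw.step_smul_def, Tw.step_smul_def, Tw.smul_def, Tw.smul_def, map_mul,
    RingEquiv.symm_apply_apply, mul_pow, map_mul, ← pow_mul, ← pow_succ, mul_assoc]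

/-- `Tw 0` is `R`. -/
def Tw.zeroEquiv : R ≃ₗ[R] Tw p R 0 :=
  { (Tw.e p R 0).toAddEquiv with
    map_smul' := fun r x => by
      show Tw.e p R 0 (r * x) = r • Tw.e p R 0 x
      rw [Tw.smul_def, pow_zero, pow_one, map_mul] }

theorem Tw.projective [h1 : Module.Projective R (Tw p R 1)] :
    ∀ k, Module.Projective R (Tw p R k)
  | 0 => Module.Projective.of_equiv' (Tw.zeroEquiv p R)
  | k + 1 => by
      have := Tw.projective k
      have : Module.Projective (Tw p R k) (Tw p R (k + 1)) := h1
      exact projective_trans R (Tw p R k) (Tw p R (k + 1))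

/-- the `R`-linear map `x ↦ x^(1/p^n)` -/
noncomputable def iotaL (n : ℕ) : Tw p R n →ₗ[R] PerfectClosure R p :=
  (IsScalarTower.toAlgHom R (Tw p R n) (PerfectClosure R p)).toLinearMap

theorem iotaL_apply (n : ℕ) (x : Tw p R n) :
    iotaL p R n x = PerfectClosure.mk R p (n, (Tw.e p R n).symm x) := rfl

/-- transition maps between the twists -/
noncomputable def Tw.transLE (n m : ℕ) (h : n ≤ m) : Tw p R n →ₗ[R] Tw p R m where
  toFun x := Tw.e p R m (((Tw.e p R n).symm x) ^ p ^ (m - n))
  map_add' x y := by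
    rw [map_add, ← map_add]
    exact congrArg _ (map_add (iterateFrobenius R p (m - n)) _ _)
  map_smul' r x := by
    rw [Tw.smul_def, Tw.smul_def, RingHom.id_apply, map_mul, RingEquiv.symm_apply_apply, mul_pow,
      map_mul, ← pow_mul, ← pow_add, Nat.add_sub_cancel' h]

theorem iotaL_transLE (n m : ℕ) (h : n ≤ m) (x : Tw p R n) :
    iotaL p R m (Tw.transLE p R n m h x) = iotaL p R n x := by
  rw [iotaL_apply, iotaL_apply]
  show PerfectClosure.mk R p (m, (Tw.e p R m).symm (Tw.e p R m _)) = _
  rw [RingEquiv.symm_apply_apply, mk_shift p R n (m - n), Nat.add_sub_cancel' h]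

theorem iotaL_comp_transLE (n m : ℕ) (h : n ≤ m) :
    iotaL p R m ∘ₗ Tw.transLE p R n m h = iotaL p R n :=
  LinearMap.ext (iotaL_transLE p R n m h)

theorem exists_rTensor_iotaL (N : Type*) [AddCommGroup N] [Module R N]
    (z : PerfectClosure R p ⊗[R] N) :
    ∃ (n : ℕ) (w : Tw p R n ⊗[R] N), LinearMap.rTensor N (iotaL p R n) w = z := by
  induction z using TensorProduct.induction_on with
  | zero => exact ⟨0, 0, map_zero _⟩
  | tmul x y =>
    obtain ⟨⟨n, r⟩, rfl⟩ := PerfectClosure.mk_surjective R p x
    exact ⟨n, Tw.e p R n r ⊗ₜ y, by rw [LinearMap.rTensor_tmul]; rfl⟩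
  | add z1 z2 h1 h2 =>
    obtain ⟨n1, w1, rfl⟩ := h1
    obtain ⟨n2, w2, rfl⟩ := h2
    refine ⟨max n1 n2, LinearMap.rTensor N (Tw.transLE p R n1 _ (le_max_left _ _)) w1 +
      LinearMap.rTensor N (Tw.transLE p R n2 _ (le_max_right _ _)) w2, ?_⟩
    rw [map_add, ← LinearMap.comp_apply, ← LinearMap.comp_apply, ← LinearMap.rTensor_comp,
      ← LinearMap.rTensor_comp, iotaL_comp_transLE, iotaL_comp_transLE]

/-- **Main statement**: for a ring of characteristic `p` whose Frobenius is projective, tensoring
with the perfect closure keeps jointly injective families jointly injective. -/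
theorem pi_lTensor_perfectClosure_injective [Module.Projective R (Tw p R 1)]
    {N : Type*} [AddCommGroup N] [Module R N] {ι : Type*} {M : ι → Type*}
    [∀ i, AddCommGroup (M i)] [∀ i, Module R (M i)] (g : ∀ i, N →ₗ[R] M i)
    (hg : ∀ x, (∀ i, g i x = 0) → x = 0) :
    Function.Injective
      (LinearMap.pi fun i => LinearMap.lTensor (PerfectClosure R p) (g i)) := by
  rw [injective_iff_map_eq_zero]
  intro z hz
  have hproj := Tw.projective p R
  have hflat : ∀ k, Module.Flat R (Tw p R k) := fun k => by
    have := hproj k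
    infer_instance
  obtain ⟨n, w, rfl⟩ := exists_rTensor_iotaL p R N z
  have hw : ∀ i, LinearMap.lTensor (Tw p R n) (g i) w = 0 := by
    intro i
    apply iota_pure p R hflat n (M i)
    rw [map_zero]
    have := congrFun hz i
    rw [← LinearMap.comp_apply, LinearMap.rTensor_comp_lTensor, ← LinearMap.lTensor_comp_rTensor,
      LinearMap.comp_apply]
    exact this
  have := hproj n
  rw [pi_lTensor_injective_of_projective g hg w hw, map_zero]

end Perf

end Groth.Agent.Lib.Helper81.PerfFlat
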