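import Mathlib
import Groth.Agent.Lib.Helper81.PopRegNZD
import Groth.Agent.Lib.Helper98.LocalFlatNilp
import Groth.Agent.Lib.Helper81.PopBaseMain

/-!
# Flatness of `S/(π^E)` over `k[x]/(x^E)` for regular parameters `π` (helper81)
-/

set_option autoImplicit false
universe u

namespace Groth.Agent.Lib.Helper81.Pop

open TensorProduct

section abstract
variable {A : Type*} [CommRing A] {M : Type*} [AddCommGroup M] [Module A M] {d : ℕ}
  (x : Fin d → A)

/-- The generators of the ideal `(x_1, …, x_d)`, as elements of it. -/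
def genI (j : Fin d) : Ideal.span (Set.range x) := ⟨x j, Ideal.subset_span ⟨j, rfl⟩⟩

theorem exists_sum_gen_tmul (z : (Ideal.span (Set.range x)) ⊗[A] M) :
    ∃ m : Fin d → M, z = ∑ j, genI x j ⊗ₜ[A] m j := by
  induction z using TensorProduct.induction_on with
  | zero => exact ⟨0, by simp⟩
  | tmul y m =>
    obtain ⟨a, ha⟩ := (Ideal.mem_span_range_iff_exists_fun).1 y.2
    refine ⟨fun j => a j • m, ?_⟩
    have hy : y = ∑ j, a j • genI x j := by
      apply Subtype.ext
      rw [← ha]
      simp [genI]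
    rw [hy, TensorProduct.sum_tmul]
    refine Finset.sum_congr rfl fun j _ => ?_
    rw [TensorProduct.smul_tmul]
  | add z₁ z₂ h₁ h₂ =>
    obtain ⟨m₁, rfl⟩ := h₁
    obtain ⟨m₂, rfl⟩ := h₂
    refine ⟨m₁ + m₂, ?_⟩
    rw [← Finset.sum_add_distrib]
    refine Finset.sum_congr rfl fun j _ => ?_
    rw [Pi.add_apply, TensorProduct.tmul_add]

/-- The local criterion `I ⊗ M → M` injective for `I = (x_1, …, x_d)` with `x_i^E = 0`, under a
regular-sequence type hypothesis on `M`. -/
theorem injective_rTensor_of_regular (E : ℕ) (hE : 1 ≤ E) (hx : ∀ i, x i ^ E = 0)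
    (H : ∀ (t : Fin d) (m : M) (n : Fin d → M),
      x t • m = ∑ j ∈ Finset.univ.filter (fun j : Fin d => j < t), x j • n j →
      ∃ (s : M) (n' : Fin d → M), m = x t ^ (E - 1) • s +
        ∑ j ∈ Finset.univ.filter (fun j : Fin d => j < t), x j • n' j) :
    Function.Injective ((Ideal.span (Set.range x)).subtype.rTensor M) := by
  classical
  have key : ∀ t : ℕ, t ≤ d → ∀ m : Fin d → M,
      ∑ j ∈ Finset.univ.filter (fun j : Fin d => (j : ℕ) < t), x j • m j = 0 →
      ∑ j ∈ Finset.univ.filter (fun j : Fin d => (j : ℕ) < t), genI x j ⊗ₜ[A] m j = 0 := by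
    intro t
    induction t with
    | zero =>
      intro _ m _
      simp
    | succ t ih =>
      intro ht m hm
      let i₀ : Fin d := ⟨t, by omega⟩
      have hS : Finset.univ.filter (fun j : Fin d => (j : ℕ) < t + 1) =
          insert i₀ (Finset.univ.filter (fun j : Fin d => (j : ℕ) < t)) := by
        ext j
        simp only [Finset.mem_filter, Finset.mem_univ, true_and, Finset.mem_insert, Fin.ext_iff, i₀]
        omega
      have hnot : i₀ ∉ Finset.univ.filter (fun j : Fin d => (j : ℕ) < t) := by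
        simp [i₀]
      have hfil : Finset.univ.filter (fun j : Fin d => j < i₀) =
          Finset.univ.filter (fun j : Fin d => (j : ℕ) < t) := by
        ext j
        simp [Fin.lt_def, i₀]
      rw [hS, Finset.sum_insert hnot] at hm ⊢
      have h1 : x i₀ • m i₀ = ∑ j ∈ Finset.univ.filter (fun j : Fin d => j < i₀),
          x j • (-m j) := by
        rw [hfil]
        simp only [smul_neg, Finset.sum_neg_distrib]
        exact eq_neg_of_add_eq_zero_left hm
      obtain ⟨s, n', hn'⟩ := H i₀ (m i₀) (fun j => -m j) h1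
      rw [hfil] at hn'
      have h2 : genI x i₀ ⊗ₜ[A] m i₀ =
          ∑ j ∈ Finset.univ.filter (fun j : Fin d => (j : ℕ) < t),
            genI x j ⊗ₜ[A] (x i₀ • n' j) := by
        rw [hn', TensorProduct.tmul_add, TensorProduct.tmul_sum]
        have h3 : genI x i₀ ⊗ₜ[A] (x i₀ ^ (E - 1) • s) = 0 := by
          rw [← TensorProduct.smul_tmul]
          have : x i₀ ^ (E - 1) • genI x i₀ = 0 := by
            apply Subtype.ext
            change x i₀ ^ (E - 1) * x i₀ = 0
            rw [← pow_succ, Nat.sub_add_cancel hE, hx]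
          rw [this, TensorProduct.zero_tmul]
        rw [h3, zero_add]
        refine Finset.sum_congr rfl fun j _ => ?_
        rw [← TensorProduct.smul_tmul, ← TensorProduct.smul_tmul]
        congr 1
        apply Subtype.ext
        change x j * x i₀ = x i₀ * x j
        ring
      rw [h2, ← Finset.sum_add_distrib]
      have h4 : ∀ j, genI x j ⊗ₜ[A] (x i₀ • n' j) + genI x j ⊗ₜ[A] m j =
          genI x j ⊗ₜ[A] (m j + x i₀ • n' j) := by
        intro j
        rw [← TensorProduct.tmul_add, add_comm]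
      simp only [h4]
      apply ih (by omega)
      simp only [smul_add, Finset.sum_add_distrib]
      have h5 : ∑ j ∈ Finset.univ.filter (fun j : Fin d => (j : ℕ) < t), x j • x i₀ • n' j =
          x i₀ • ∑ j ∈ Finset.univ.filter (fun j : Fin d => (j : ℕ) < t), x j • n' j := by
        rw [Finset.smul_sum]
        refine Finset.sum_congr rfl fun j _ => ?_
        rw [smul_comm]
      have h6 : ∑ j ∈ Finset.univ.filter (fun j : Fin d => (j : ℕ) < t), x j • n' j =
          m i₀ - x i₀ ^ (E - 1) • s := by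
        rw [hn']; abel
      rw [h5, h6, smul_sub, smul_smul, ← pow_succ', Nat.sub_add_cancel hE, hx, zero_smul, sub_zero,
        add_comm]
      exact hm
  rw [injective_iff_map_eq_zero]
  intro z hz
  obtain ⟨m, rfl⟩ := exists_sum_gen_tmul x z
  have hall : Finset.univ.filter (fun j : Fin d => (j : ℕ) < d) = Finset.univ := by
    ext j; simp
  have := key d le_rfl m
  rw [hall] at this
  apply this
  have hz' := congrArg (TensorProduct.lid A M) hz
  rw [map_sum, map_sum, map_zero] at hz'
  simpa [genI] using hz'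

end abstract

end Groth.Agent.Lib.Helper81.Pop

namespace Groth.Agent.Lib.Helper81.Pop

open MvPolynomial IsLocalRing

section concrete
variable {k : Type u} [Field k] {S : Type u} [CommRing S] [IsRegularLocalRing S] {d : ℕ}
  [Algebra (MvPolynomial (Fin d) k) S]

/-- The ideal `(x_1^E, …, x_d^E)` of the polynomial ring. -/
noncomputable def powIdeal (k : Type u) [Field k] (d E : ℕ) : Ideal (MvPolynomial (Fin d) k) :=
  Ideal.span (Set.range fun i : Fin d => (X i : MvPolynomial (Fin d) k) ^ E)

/-- The images of the variables in `k[x]/(x^E)`. -/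
noncomputable def xbar (k : Type u) [Field k] (d E : ℕ) (i : Fin d) :
    MvPolynomial (Fin d) k ⧸ powIdeal k d E :=
  Ideal.Quotient.mk _ (X i)

theorem xbar_pow (E : ℕ) (i : Fin d) : xbar k d E i ^ E = 0 := by
  rw [xbar, ← map_pow, Ideal.Quotient.eq_zero_iff_mem]
  exact Ideal.subset_span ⟨i, rfl⟩

/-- Evaluation at the origin on `k[x]/(x^E)`. -/
noncomputable def evalZero (k : Type u) [Field k] (d E : ℕ) (hE : 1 ≤ E) :
    (MvPolynomial (Fin d) k ⧸ powIdeal k d E) →+* k :=
  Ideal.Quotient.lift _ (MvPolynomial.eval (fun _ => (0 : k))) (by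
    intro a ha
    have : powIdeal k d E ≤ RingHom.ker (MvPolynomial.eval (fun _ : Fin d => (0 : k))) := by
      rw [powIdeal, Ideal.span_le]
      rintro _ ⟨i, rfl⟩
      rw [SetLike.mem_coe, RingHom.mem_ker, map_pow, eval_X, zero_pow (by omega)]
    exact this ha)

theorem aeval_zero_eq_C_eval (p : MvPolynomial (Fin d) k) :
    aeval (fun _ : Fin d => (0 : MvPolynomial (Fin d) k)) p =
      C (MvPolynomial.eval (fun _ : Fin d => (0 : k)) p) := by
  induction p using MvPolynomial.induction_on with
  | C a => rw [aeval_C, eval_C]; rfl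
  | add p q hp hq => rw [map_add, map_add, hp, hq, C_add]
  | mul_X p i hp => rw [map_mul, map_mul, aeval_X, eval_X, mul_zero, mul_zero, C_0]

theorem ker_evalZero (E : ℕ) (hE : 1 ≤ E) :
    RingHom.ker (evalZero k d E hE) = Ideal.span (Set.range (xbar k d E)) := by
  apply le_antisymm
  · intro r hr
    obtain ⟨p, rfl⟩ := Ideal.Quotient.mk_surjective r
    have hp : MvPolynomial.eval (fun _ : Fin d => (0 : k)) p = 0 := hr
    have h1 : p ∈ Ideal.span (Set.range fun i : Fin d => (X i : MvPolynomial (Fin d) k)) := by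
      have h2 := aeval_sub_aeval_mem (R := k)
        (Ideal.span (Set.range fun i : Fin d => (X i : MvPolynomial (Fin d) k)))
        (fun i => (X i : MvPolynomial (Fin d) k)) (fun _ => 0)
        (fun i => by rw [sub_zero]; exact Ideal.subset_span ⟨i, rfl⟩) p
      have h3 : aeval (fun _ : Fin d => (0 : MvPolynomial (Fin d) k)) p = 0 := by
        rw [aeval_zero_eq_C_eval, hp, C_0]
      rw [aeval_X_left, AlgHom.id_apply, h3, sub_zero] at h2
      exact h2
    have h4 := Ideal.mem_map_of_mem (Ideal.Quotient.mk (powIdeal k d E)) h1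
    rw [Ideal.map_span, ← Set.range_comp] at h4
    exact h4
  · rw [Ideal.span_le]
    rintro _ ⟨i, rfl⟩
    rw [SetLike.mem_coe, RingHom.mem_ker]
    change MvPolynomial.eval (fun _ => (0 : k)) (X i) = 0
    rw [eval_X]

theorem isMaximal_span_xbar (E : ℕ) (hE : 1 ≤ E) :
    (Ideal.span (Set.range (xbar k d E))).IsMaximal := by
  rw [← ker_evalZero E hE]
  refine RingHom.ker_isMaximal_of_surjective _ ?_
  intro c
  exact ⟨Ideal.Quotient.mk _ (C c), by change MvPolynomial.eval _ (C c) = c; rw [eval_C]⟩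

theorem isNilpotent_span_xbar (E : ℕ) :
    IsNilpotent (Ideal.span (Set.range (xbar k d E))) := by
  rw [Ideal.FG.isNilpotent_iff_le_nilradical (Submodule.fg_span (Set.finite_range _)),
    Ideal.span_le]
  rintro _ ⟨i, rfl⟩
  exact ⟨E, xbar_pow E i⟩

/-- Flatness of `S/(π^E)` over `k[x]/(x^E)` when the `π_i` (images of the `x_i`) are regular
parameters of the regular local ring `S`. -/
theorem flat_quotient_pow_of_regular (hd : (maximalIdeal S).spanFinrank = d)
    (hπ : Ideal.span (Set.range fun i : Fin d =>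
      algebraMap (MvPolynomial (Fin d) k) S (X i)) = maximalIdeal S)
    (E : ℕ) (hE : 1 ≤ E) :
    Module.Flat (MvPolynomial (Fin d) k ⧸ powIdeal k d E)
      (S ⧸ (powIdeal k d E).map (algebraMap (MvPolynomial (Fin d) k) S)) := by
  classical
  set π : Fin d → S := fun i => algebraMap (MvPolynomial (Fin d) k) S (X i) with hπdef
  set KS : Ideal S := (powIdeal k d E).map (algebraMap (MvPolynomial (Fin d) k) S) with hKS
  have hKS' : KS = Ideal.span (Set.range fun i : Fin d => π i ^ E) := by
    rw [hKS, powIdeal, Ideal.map_span, ← Set.range_comp]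
    congr 2
    funext i
    simp [π]
  have hsmul : ∀ (i : Fin d) (s : S), xbar k d E i • (Ideal.Quotient.mk KS s) =
      Ideal.Quotient.mk KS (π i * s) := by
    intro i s
    exact Ideal.Quotient.mk_smul_mk_quotient_map_quotient _ _
  have hsmulpow : ∀ (i : Fin d) (e : ℕ) (s : S), xbar k d E i ^ e • (Ideal.Quotient.mk KS s) =
      Ideal.Quotient.mk KS (π i ^ e * s) := by
    intro i e s
    have halg : algebraMap (MvPolynomial (Fin d) k ⧸ powIdeal k d E) (S ⧸ KS) (xbar k d E i) =
        Ideal.Quotient.mk KS (π i) := rfl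
    rw [Algebra.smul_def, map_pow, halg, ← map_pow, ← map_mul]
  have hb : Function.Injective ((Ideal.span (Set.range (xbar k d E))).subtype.rTensor
      (S ⧸ KS)) := by
    refine injective_rTensor_of_regular (xbar k d E) E hE (xbar_pow E) ?_
    intro t m n hmn
    obtain ⟨s₀, rfl⟩ := Ideal.Quotient.mk_surjective m
    choose sn hsn using fun j => Ideal.Quotient.mk_surjective (n j)
    -- ideals of S
    set Jlt : Ideal S := Ideal.span (Set.range fun j : {j : Fin d // j < t} => π j) with hJlt
    set Jgt : Ideal S := Ideal.span (Set.range fun j : {j : Fin d // t < j} => π j ^ E) with hJgt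
    let v : Fin d → ℕ := fun j => if j < t then 1 else E
    have hv : ∀ j, 1 ≤ v j := by
      intro j; simp only [v]; split_ifs <;> omega
    set Jt : Ideal S := Ideal.span (Set.range fun j : {j : Fin d // j ≠ t} => π j ^ v j) with hJt
    have hJltJt : Jlt ≤ Jt := by
      rw [hJlt, Ideal.span_le]
      rintro _ ⟨⟨j, hj⟩, rfl⟩
      refine Ideal.subset_span ⟨⟨j, ne_of_lt hj⟩, ?_⟩
      simp only [v, if_pos hj, pow_one]
    have hJgtJt : Jgt ≤ Jt := by
      rw [hJgt, Ideal.span_le]
      rintro _ ⟨⟨j, hj⟩, rfl⟩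
      refine Ideal.subset_span ⟨⟨j, ne_of_gt hj⟩, ?_⟩
      simp only [v, if_neg (not_lt_of_gt hj)]
    have hJtle : Jt ≤ Jlt ⊔ Jgt := by
      rw [hJt, Ideal.span_le]
      rintro _ ⟨⟨j, hj⟩, rfl⟩
      rcases lt_or_gt_of_ne hj with h | h
      · apply Ideal.mem_sup_left
        simp only [v, if_pos h, pow_one]
        exact Ideal.subset_span ⟨⟨j, h⟩, rfl⟩
      · apply Ideal.mem_sup_right
        simp only [v, if_neg (not_lt_of_gt h)]
        exact Ideal.subset_span ⟨⟨j, h⟩, rfl⟩
    have hKSle : KS ≤ (Jlt ⊔ Ideal.span {π t ^ E}) ⊔ Jgt := by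
      rw [hKS', Ideal.span_le]
      rintro _ ⟨j, rfl⟩
      rcases lt_trichotomy j t with h | h | h
      · apply Ideal.mem_sup_left
        apply Ideal.mem_sup_left
        have hpow : π j ^ E = π j ^ (E - 1) * π j := by
          rw [← pow_succ, Nat.sub_add_cancel hE]
        change π j ^ E ∈ Jlt
        rw [hpow]
        exact Ideal.mul_mem_left _ _ (Ideal.subset_span ⟨⟨j, h⟩, rfl⟩)
      · subst h
        apply Ideal.mem_sup_left
        apply Ideal.mem_sup_right
        exact Ideal.mem_span_singleton_self _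
      · apply Ideal.mem_sup_right
        exact Ideal.subset_span ⟨⟨j, h⟩, rfl⟩
    have hJgtKS : Jgt ≤ KS := by
      rw [hJgt, hKS', Ideal.span_le]
      rintro _ ⟨⟨j, hj⟩, rfl⟩
      exact Ideal.subset_span ⟨j, rfl⟩
    -- translate the hypothesis
    have h1 : π t * s₀ - ∑ j ∈ Finset.univ.filter (fun j : Fin d => j < t), π j * sn j ∈ KS := by
      rw [← Ideal.Quotient.eq, map_sum, ← hsmul, hmn]
      refine Finset.sum_congr rfl fun j _ => ?_
      rw [← hsmul, hsn]
    have h2 : ∑ j ∈ Finset.univ.filter (fun j : Fin d => j < t), π j * sn j ∈ Jlt := by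
      refine Ideal.sum_mem _ fun j hj => ?_
      rw [Finset.mem_filter] at hj
      exact Ideal.mul_mem_right _ _ (Ideal.subset_span ⟨⟨j, hj.2⟩, rfl⟩)
    have h3 : π t * s₀ ∈ (Jlt ⊔ Ideal.span {π t ^ E}) ⊔ Jgt := by
      have := add_mem (hKSle h1)
        (Ideal.mem_sup_left (Ideal.mem_sup_left h2) : _ ∈ (Jlt ⊔ Ideal.span {π t ^ E}) ⊔ Jgt)
      rwa [sub_add_cancel] at this
    obtain ⟨ab, hab, b, hb, habb⟩ := Submodule.mem_sup.1 h3
    obtain ⟨a, ha, c, hc, hac⟩ := Submodule.mem_sup.1 hab
    obtain ⟨u, rfl⟩ := Ideal.mem_span_singleton'.1 hc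
    have h4 : π t * (s₀ - π t ^ (E - 1) * u) ∈ Jt := by
      have : π t * (s₀ - π t ^ (E - 1) * u) = a + b := by
        have hpow : π t * π t ^ (E - 1) = π t ^ E := by
          rw [← pow_succ', Nat.sub_add_cancel hE]
        rw [mul_sub, ← mul_assoc, hpow, ← habb, ← hac]
        ring
      rw [this]
      exact add_mem (hJltJt ha) (hJgtJt hb)
    have h5 := hJtle (mem_span_pow_of_mul_mem hd π hπ v hv t _ h4)
    obtain ⟨a', ha', b', hb', hab'⟩ := Submodule.mem_sup.1 h5
    obtain ⟨cf, hcf⟩ := (Ideal.mem_span_range_iff_exists_fun).1 ha'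
    refine ⟨Ideal.Quotient.mk KS u,
      fun j => if h : j < t then Ideal.Quotient.mk KS (cf ⟨j, h⟩) else 0, ?_⟩
    have h6 : s₀ = π t ^ (E - 1) * u + a' + b' := by
      rw [add_assoc, hab']; ring
    have h7 : ∑ j ∈ Finset.univ.filter (fun j : Fin d => j < t), xbar k d E j •
        (if h : j < t then Ideal.Quotient.mk KS (cf ⟨j, h⟩) else 0) = Ideal.Quotient.mk KS a' := by
      rw [Finset.sum_subtype (Finset.univ.filter (fun j : Fin d => j < t)) (p := fun j => j < t)
        (fun j => by simp), ← hcf, map_sum]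
      refine Finset.sum_congr rfl fun j _ => ?_
      rw [dif_pos j.2, hsmul, mul_comm]
    rw [h7, h6, map_add, map_add, Ideal.Quotient.eq_zero_iff_mem.2 (hJgtKS hb'), add_zero]
    congr 1
    exact (hsmulpow t (E - 1) u).symm
  haveI := isMaximal_span_xbar (k := k) (d := d) E hE
  letI := Ideal.Quotient.field (Ideal.span (Set.range (xbar k d E)))
  obtain ⟨n, hn⟩ := isNilpotent_span_xbar (k := k) (d := d) E
  refine Groth.Agent.Lib.Helper98.flat_of_nilpotent (Ideal.span (Set.range (xbar k d E)))
    (S ⧸ KS) hb (n + 1) (Nat.le_add_left 1 n) ?_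
  rw [pow_succ]
  change Ideal.span (Set.range (xbar k d E)) ^ n * _ = ⊥
  have : Ideal.span (Set.range (xbar k d E)) ^ n = ⊥ := hn
  rw [this, Ideal.bot_mul]

end concrete

end Groth.Agent.Lib.Helper81.Pop
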