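import Mathlib
import Groth.Agent.Lib.Helper81.PopRegFlat

/-!
# The Artinian local ring `k[x]/(x^E)` (helper81)
-/

set_option autoImplicit false
universe u

namespace Groth.Agent.Lib.Helper81.Pop

open MvPolynomial IsLocalRing

variable {k : Type u} [Field k] {d : ℕ}

theorem isLocalRing_quotient_powIdeal (E : ℕ) (hE : 1 ≤ E) :
    IsLocalRing (MvPolynomial (Fin d) k ⧸ powIdeal k d E) := by
  have hmax := isMaximal_span_xbar (k := k) (d := d) E hE
  refine IsLocalRing.of_unique_max_ideal ⟨Ideal.span (Set.range (xbar k d E)), hmax, ?_⟩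
  intro J hJ
  have hle : Ideal.span (Set.range (xbar k d E)) ≤ J := by
    rw [Ideal.span_le]
    rintro _ ⟨i, rfl⟩
    exact hJ.isPrime.mem_of_pow_mem E (by rw [xbar_pow]; exact zero_mem _)
  exact (hmax.eq_of_le hJ.ne_top hle).symm

theorem maximalIdeal_quotient_powIdeal (E : ℕ) (hE : 1 ≤ E) :
    haveI := isLocalRing_quotient_powIdeal (k := k) (d := d) E hE
    maximalIdeal (MvPolynomial (Fin d) k ⧸ powIdeal k d E) =
      Ideal.span (Set.range (xbar k d E)) := by
  haveI := isLocalRing_quotient_powIdeal (k := k) (d := d) E hE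
  exact (IsLocalRing.eq_maximalIdeal (isMaximal_span_xbar (k := k) (d := d) E hE)).symm

theorem exists_C_sub_mem_span_xbar (E : ℕ) (hE : 1 ≤ E)
    (r : MvPolynomial (Fin d) k ⧸ powIdeal k d E) :
    ∃ c : k, r - algebraMap k _ c ∈ Ideal.span (Set.range (xbar k d E)) := by
  refine ⟨evalZero k d E hE r, ?_⟩
  rw [← ker_evalZero E hE, RingHom.mem_ker, map_sub, sub_eq_zero]
  change _ = evalZero k d E hE (Ideal.Quotient.mk _ (C _))
  change _ = MvPolynomial.eval _ (C _)
  rw [eval_C]

end Groth.Agent.Lib.Helper81.Pop
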