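import Mathlib
import Groth.Prelude.Def_Smoothing

/-!
# Local tricks for smoothing ring maps: delocalization (helper81)
-/

set_option autoImplicit false
universe u

namespace Groth.Agent.Lib.Helper81.Pop

open Smoothing

/-- If `Θ : C → L` is "almost bijective" at the prime `Q₂` of `L`, then smoothness of `L` at `Q₂`
implies smoothness of `C` at the contraction of `Q₂`. -/
theorem isSmoothAt_comap_of_almost_bijective {R C L : Type u} [CommRing R] [CommRing C]
    [CommRing L] [Algebra R C] [Algebra R L] (Θ : C →ₐ[R] L) (Q₂ : Ideal L) [Q₂.IsPrime]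
    (hsurj : ∀ ℓ : L, ∃ m : C, Θ m ∉ Q₂ ∧ ∃ x : C, Θ m * ℓ = Θ x)
    (hinj : ∃ e : C, Θ e ∉ Q₂ ∧ ∀ x, Θ x = 0 → e * x = 0)
    (hsm : Algebra.IsSmoothAt R Q₂) : Algebra.IsSmoothAt R (Q₂.comap Θ) := by
  letI : Algebra C L := Θ.toRingHom.toAlgebra
  haveI : IsScalarTower R C L := IsScalarTower.of_algebraMap_eq fun r => (Θ.commutes r).symm
  have halg : ∀ x : C, algebraMap C L x = Θ x := fun _ => rfl
  set Q₀ : Ideal C := Q₂.comap Θ with hQ₀
  have hmem : ∀ x : C, x ∈ Q₀ ↔ Θ x ∈ Q₂ := fun x => Iff.rfl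
  haveI : IsLocalization.AtPrime (Localization.AtPrime Q₂) Q₀ := by
    refine ⟨?_, ?_, ?_⟩
    · rintro ⟨m, hm⟩
      rw [IsScalarTower.algebraMap_apply C L (Localization.AtPrime Q₂), halg]
      exact IsLocalization.map_units (M := Q₂.primeCompl) (Localization.AtPrime Q₂)
        ⟨Θ m, fun h => hm ((hmem m).2 h)⟩
    · intro z
      obtain ⟨ℓ, ⟨w, hw⟩, rfl⟩ := IsLocalization.exists_mk'_eq Q₂.primeCompl z
      obtain ⟨m₁, hm₁, x₁, hx₁⟩ := hsurj ℓ
      obtain ⟨m₂, hm₂, x₂, hx₂⟩ := hsurj w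
      have hx₂' : Θ x₂ ∉ Q₂ := by
        rw [← hx₂]
        intro h
        rcases Ideal.IsPrime.mem_or_mem inferInstance h with h | h
        · exact hm₂ h
        · exact hw h
      have hmx : m₁ * x₂ ∈ Q₀.primeCompl := by
        intro h
        have h' : Θ (m₁ * x₂) ∈ Q₂ := h
        rw [map_mul] at h'
        rcases Ideal.IsPrime.mem_or_mem inferInstance h' with h' | h'
        · exact hm₁ h'
        · exact hx₂' h'
      refine ⟨(x₁ * m₂, ⟨m₁ * x₂, hmx⟩), ?_⟩
      simp only [IsScalarTower.algebraMap_apply C L (Localization.AtPrime Q₂), halg]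
      have hspec := IsLocalization.mk'_spec (Localization.AtPrime Q₂) ℓ ⟨w, hw⟩
      simp only at hspec
      rw [map_mul Θ, map_mul Θ, ← hx₁, ← hx₂]
      calc IsLocalization.mk' (Localization.AtPrime Q₂) ℓ ⟨w, hw⟩ *
            algebraMap L (Localization.AtPrime Q₂) (Θ m₁ * (Θ m₂ * w))
          = (IsLocalization.mk' (Localization.AtPrime Q₂) ℓ ⟨w, hw⟩ *
              algebraMap L (Localization.AtPrime Q₂) w) *
              algebraMap L (Localization.AtPrime Q₂) (Θ m₁ * Θ m₂) := by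
            simp only [map_mul]; ring
        _ = algebraMap L (Localization.AtPrime Q₂) (Θ m₁ * ℓ * Θ m₂) := by
            rw [hspec]; simp only [map_mul]; ring
    · intro x y hxy
      simp only [IsScalarTower.algebraMap_apply C L (Localization.AtPrime Q₂), halg] at hxy
      obtain ⟨⟨w, hw⟩, hwxy⟩ := IsLocalization.exists_of_eq (M := Q₂.primeCompl) hxy
      simp only at hwxy
      obtain ⟨m, hm, x₂, hx₂⟩ := hsurj w
      obtain ⟨e, he, hek⟩ := hinj
      have hx₂' : Θ x₂ ∉ Q₂ := by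
        rw [← hx₂]
        intro h
        rcases Ideal.IsPrime.mem_or_mem inferInstance h with h | h
        · exact hm h
        · exact hw h
      have hc : e * x₂ ∈ Q₀.primeCompl := by
        intro h
        have h' : Θ (e * x₂) ∈ Q₂ := h
        rw [map_mul] at h'
        rcases Ideal.IsPrime.mem_or_mem inferInstance h' with h' | h'
        · exact he h'
        · exact hx₂' h'
      refine ⟨⟨e * x₂, hc⟩, ?_⟩
      have h0 : Θ (x₂ * (x - y)) = 0 := by
        rw [map_mul, map_sub, ← hx₂, mul_assoc, mul_sub, hwxy, sub_self, mul_zero]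
      have := hek _ h0
      show e * x₂ * x = e * x₂ * y
      rw [← sub_eq_zero, ← mul_sub, mul_assoc]
      exact this
  exact Algebra.FormallySmooth.of_equiv (A := Localization.AtPrime Q₂)
    ((IsLocalization.algEquiv Q₀.primeCompl (Localization.AtPrime Q₂)
      (Localization.AtPrime Q₀)).restrictScalars R)

section Construction

open MvPolynomial

variable {R A B' Λ Λq : Type u} [CommRing R] [CommRing A] [Algebra R A] [CommRing B']
  [Algebra R B'] [CommRing Λ] [Algebra R Λ] [CommRing Λq] [Algebra Λ Λq] [Algebra R Λq]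
  [IsScalarTower R Λ Λq]
  (g' : A →ₐ[R] B') (φ : A →ₐ[R] Λ) (h' : B' →ₐ[R] Λq) {N : ℕ} (y : Fin N → B') (t u : Λ)
  (μ : Fin N → Λ)

/-- the polynomial ring `A[X_1..X_N, τ]` -/
abbrev PP (A : Type u) [CommRing A] (N : ℕ) : Type u := MvPolynomial (Option (Fin N)) A

/-- the ring `B'[τ]` -/
abbrev LL1 (B' : Type u) [CommRing B'] : Type u := MvPolynomial Unit B'

/-- `ϖ : A[X, τ] → B'[τ]`, `X_i ↦ τ y_i`, `τ ↦ τ` -/
noncomputable def varpi : PP A N →ₐ[R] LL1 B' where
  toRingHom := eval₂Hom ((C : B' →+* LL1 B').comp g'.toRingHom)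
    (fun o => o.elim (X ()) (fun i => C (y i) * X ()))
  commutes' r := by
    show eval₂Hom _ _ (algebraMap R (PP A N) r) = _
    rw [MvPolynomial.algebraMap_apply, eval₂Hom_C, MvPolynomial.algebraMap_apply]
    simp

theorem varpi_C (a : A) : varpi g' y (C a) = C (g' a) := by
  show eval₂Hom _ _ (C a) = _
  rw [eval₂Hom_C]; rfl

theorem varpi_X_none : varpi g' y (X none) = X () := by
  show eval₂Hom _ _ (X none) = _
  rw [eval₂Hom_X']
  rfl

theorem varpi_X_some (i : Fin N) : varpi g' y (X (some i)) = C (y i) * X () := by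
  show eval₂Hom _ _ (X (some i)) = _
  rw [eval₂Hom_X']
  rfl

/-- `ev : A[X, τ] → Λ`, `X_i ↦ μ_i`, `τ ↦ t` -/
noncomputable def evP : PP A N →ₐ[R] Λ where
  toRingHom := eval₂Hom φ.toRingHom (fun o => o.elim t μ)
  commutes' r := by
    show eval₂Hom _ _ (algebraMap R (PP A N) r) = _
    rw [MvPolynomial.algebraMap_apply, eval₂Hom_C]
    simp

theorem evP_C (a : A) : evP φ t μ (C a) = φ a := by
  show eval₂Hom _ _ (C a) = _
  rw [eval₂Hom_C]; rfl

theorem evP_X_none : evP φ t μ (X none) = t := by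
  show eval₂Hom _ _ (X none) = _
  rw [eval₂Hom_X']
  rfl

theorem evP_X_some (i : Fin N) : evP φ t μ (X (some i)) = μ i := by
  show eval₂Hom _ _ (X (some i)) = _
  rw [eval₂Hom_X']
  rfl

/-- `evq₁ : B'[τ] → Λq`, `τ ↦ t` -/
noncomputable def evq1 : LL1 B' →ₐ[R] Λq where
  toRingHom := eval₂Hom h'.toRingHom (fun _ => algebraMap Λ Λq t)
  commutes' r := by
    show eval₂Hom _ _ (algebraMap R (LL1 B') r) = _
    rw [MvPolynomial.algebraMap_apply, eval₂Hom_C]
    simp

theorem evq1_C (b : B') : evq1 (Λ := Λ) h' t (C b) = h' b := by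
  show eval₂Hom _ _ (C b) = _
  rw [eval₂Hom_C]; rfl

theorem evq1_X : evq1 (Λ := Λ) h' t (X ()) = algebraMap Λ Λq t := by
  show eval₂Hom _ _ (X ()) = _
  rw [eval₂Hom_X']

include g' φ in
theorem evq1_varpi (hcomp : ∀ a, h' (g' a) = algebraMap Λ Λq (φ a))
    (hμ : ∀ i, algebraMap Λ Λq (μ i) = h' (y i) * algebraMap Λ Λq t) (p : PP A N) :
    evq1 h' t (varpi g' y p) = algebraMap Λ Λq (evP φ t μ p) := by
  induction p using MvPolynomial.induction_on with
  | C a => rw [varpi_C, evq1_C, evP_C, hcomp]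
  | add p q hp hq => rw [map_add, map_add, map_add, map_add, hp, hq]
  | mul_X p o hp =>
    rw [map_mul, map_mul, map_mul, map_mul, hp]
    congr 1
    cases o with
    | none => rw [varpi_X_none, evq1_X, evP_X_none]
    | some i => rw [varpi_X_some, map_mul, evq1_C, evq1_X, evP_X_some, hμ]

end Construction

section Construction2

open MvPolynomial

variable {R A B' Λ Λq : Type u} [CommRing R] [CommRing A] [Algebra R A] [CommRing B']
  [Algebra R B'] [CommRing Λ] [Algebra R Λ] [CommRing Λq] [Algebra Λ Λq] [Algebra R Λq]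
  [IsScalarTower R Λ Λq]
  (g' : A →ₐ[R] B') (φ : A →ₐ[R] Λ) (h' : B' →ₐ[R] Λq) {N : ℕ} (y : Fin N → B') (t u : Λ)
  (μ : Fin N → Λ) {l : ℕ} (k : Fin l → PP A N)

/-- the polynomial ring `A[X, τ][τ']` -/
abbrev PP2 (A : Type u) [CommRing A] (N : ℕ) : Type u := MvPolynomial Unit (PP A N)

/-- the ring `B'[τ][τ']` -/
abbrev LL2 (B' : Type u) [CommRing B'] : Type u := MvPolynomial Unit (LL1 B')

/-- the ideal `(τ' k_j)` -/
noncomputable def JJ2 : Ideal (PP2 A N) := Ideal.span (Set.range fun j => X () * C (k j))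

/-- the algebra `C = A[X, τ, τ']/(τ' k_j)` -/
abbrev CC2 : Type u := PP2 A N ⧸ JJ2 k

/-- `ϖ₂ : A[X, τ, τ'] → B'[τ, τ']` -/
noncomputable def varpi2 : PP2 A N →ₐ[R] LL2 B' := mapAlgHom (varpi g' y)

theorem varpi2_C (p : PP A N) : varpi2 g' y (C p) = C (varpi g' y p) := by
  show map _ (C p) = _
  rw [map_C]; rfl

theorem varpi2_X : varpi2 g' y (X ()) = X () := by
  show map _ (X ()) = _
  rw [map_X]

/-- `ev₂ : A[X, τ, τ'] → Λ`, `τ' ↦ u` -/
noncomputable def evP2 : PP2 A N →ₐ[R] Λ where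
  toRingHom := eval₂Hom (evP φ t μ).toRingHom (fun _ => u)
  commutes' r := by
    show eval₂Hom _ _ (algebraMap R (PP2 A N) r) = _
    rw [MvPolynomial.algebraMap_apply, eval₂Hom_C]
    exact (evP φ t μ).commutes r

theorem evP2_C (p : PP A N) : evP2 φ t u μ (C p) = evP φ t μ p := by
  show eval₂Hom _ _ (C p) = _
  rw [eval₂Hom_C]; rfl

theorem evP2_X : evP2 φ t u μ (X ()) = u := by
  show eval₂Hom _ _ (X ()) = _
  rw [eval₂Hom_X']

/-- `evq₂ : B'[τ, τ'] → Λq` -/
noncomputable def evq2 : LL2 B' →ₐ[R] Λq where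
  toRingHom := eval₂Hom (evq1 h' t).toRingHom (fun _ => algebraMap Λ Λq u)
  commutes' r := by
    show eval₂Hom _ _ (algebraMap R (LL2 B') r) = _
    rw [MvPolynomial.algebraMap_apply, eval₂Hom_C]
    exact (evq1 h' t).commutes r

theorem evq2_C (p : LL1 B') : evq2 h' t u (C p) = evq1 h' t p := by
  show eval₂Hom _ _ (C p) = _
  rw [eval₂Hom_C]; rfl

theorem evq2_X : evq2 h' t u (X ()) = algebraMap Λ Λq u := by
  show eval₂Hom _ _ (X ()) = _
  rw [eval₂Hom_X']

include g' φ in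
theorem evq2_varpi2 (hcomp : ∀ a, h' (g' a) = algebraMap Λ Λq (φ a))
    (hμ : ∀ i, algebraMap Λ Λq (μ i) = h' (y i) * algebraMap Λ Λq t) (p : PP2 A N) :
    evq2 h' t u (varpi2 g' y p) = algebraMap Λ Λq (evP2 φ t u μ p) := by
  induction p using MvPolynomial.induction_on with
  | C a => rw [varpi2_C, evq2_C, evP2_C, evq1_varpi g' φ h' y t μ hcomp hμ]
  | add p q hp hq => rw [map_add, map_add, map_add, map_add, hp, hq]
  | mul_X p o hp =>
    rw [map_mul, map_mul, map_mul, map_mul, hp, varpi2_X, evq2_X, evP2_X]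

/-- `Θ : C → B'[τ, τ']` -/
noncomputable def Theta (hk : ∀ j, varpi g' y (k j) = 0) : CC2 k →ₐ[R] LL2 B' :=
  Ideal.Quotient.liftₐ (JJ2 k) (varpi2 g' y) (by
    intro p hp
    have hle : JJ2 k ≤ RingHom.ker (varpi2 g' y).toRingHom := by
      rw [JJ2, Ideal.span_le]
      rintro _ ⟨j, rfl⟩
      rw [SetLike.mem_coe, RingHom.mem_ker]
      show varpi2 g' y (X () * C (k j)) = 0
      rw [map_mul, varpi2_C, hk, map_zero, mul_zero]
    exact hle hp)

theorem Theta_mk (hk : ∀ j, varpi g' y (k j) = 0) (p : PP2 A N) :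
    Theta g' y k hk (Ideal.Quotient.mk (JJ2 k) p) = varpi2 g' y p := rfl

/-- `γ : C → Λ` -/
noncomputable def gammaC (hu : ∀ j, u * evP φ t μ (k j) = 0) : CC2 k →ₐ[R] Λ :=
  Ideal.Quotient.liftₐ (JJ2 k) (evP2 φ t u μ) (by
    intro p hp
    have hle : JJ2 k ≤ RingHom.ker (evP2 φ t u μ).toRingHom := by
      rw [JJ2, Ideal.span_le]
      rintro _ ⟨j, rfl⟩
      rw [SetLike.mem_coe, RingHom.mem_ker]
      show evP2 φ t u μ (X () * C (k j)) = 0
      rw [map_mul, evP2_C, evP2_X, hu]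
    exact hle hp)

theorem gammaC_mk (hu : ∀ j, u * evP φ t μ (k j) = 0) (p : PP2 A N) :
    gammaC φ t u μ k hu (Ideal.Quotient.mk (JJ2 k) p) = evP2 φ t u μ p := rfl

/-- the kernel of `Θ` is killed by `τ'` -/
theorem X_mul_eq_zero_of_Theta_eq_zero (hk : ∀ j, varpi g' y (k j) = 0)
    (hker : RingHom.ker (varpi g' y).toRingHom = Ideal.span (Set.range k)) (x : CC2 k)
    (hx : Theta g' y k hk x = 0) : Ideal.Quotient.mk (JJ2 k) (X ()) * x = 0 := by
  obtain ⟨p, rfl⟩ := Ideal.Quotient.mk_surjective x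
  rw [Theta_mk] at hx
  have hp : p ∈ RingHom.ker (map (varpi g' y).toRingHom : PP2 A N →+* LL2 B') := hx
  rw [MvPolynomial.ker_map, hker, Ideal.map_span] at hp
  rw [← map_mul, Ideal.Quotient.eq_zero_iff_mem]
  clear hx
  induction hp using Submodule.span_induction with
  | mem x hx =>
    obtain ⟨_, ⟨j, rfl⟩, rfl⟩ := hx
    exact Ideal.subset_span ⟨j, rfl⟩
  | zero => simp
  | add x y _ _ hx hy => rw [mul_add]; exact Ideal.add_mem _ hx hy
  | smul r x _ hx => rw [smul_eq_mul, mul_left_comm]; exact Ideal.mul_mem_left _ _ hx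

end Construction2

section FracSubring

variable {C L : Type*} [CommRing C] [CommRing L] (Θ : C →+* L) (Q₂ : Ideal L) [Q₂.IsPrime]

theorem map_one_notMem : Θ 1 ∉ Q₂ := by
  rw [map_one]
  exact fun h => (Ideal.IsPrime.ne_top inferInstance) ((Ideal.eq_top_iff_one _).2 h)

/-- the subring of elements of `L` which are, up to a denominator outside `Q₂`, in the image -/
def fracSubring : Subring L where
  carrier := {ℓ | ∃ m : C, Θ m ∉ Q₂ ∧ ∃ x : C, Θ m * ℓ = Θ x}
  mul_mem' := by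
    rintro a b ⟨m₁, hm₁, x₁, h₁⟩ ⟨m₂, hm₂, x₂, h₂⟩
    refine ⟨m₁ * m₂, ?_, x₁ * x₂, ?_⟩
    · rw [map_mul]
      intro h
      rcases Ideal.IsPrime.mem_or_mem inferInstance h with h | h
      · exact hm₁ h
      · exact hm₂ h
    · rw [map_mul, map_mul, ← h₁, ← h₂]; ring
  one_mem' := ⟨1, map_one_notMem Θ Q₂, 1, by simp⟩
  add_mem' := by
    rintro a b ⟨m₁, hm₁, x₁, h₁⟩ ⟨m₂, hm₂, x₂, h₂⟩
    refine ⟨m₁ * m₂, ?_, m₂ * x₁ + m₁ * x₂, ?_⟩
    · rw [map_mul]
      intro h
      rcases Ideal.IsPrime.mem_or_mem inferInstance h with h | h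
      · exact hm₁ h
      · exact hm₂ h
    · rw [map_mul, map_add, map_mul, map_mul, ← h₁, ← h₂]; ring
  zero_mem' := ⟨1, map_one_notMem Θ Q₂, 0, by simp⟩
  neg_mem' := by
    rintro a ⟨m₁, hm₁, x₁, h₁⟩
    exact ⟨m₁, hm₁, -x₁, by rw [map_neg, ← h₁]; ring⟩

theorem mem_fracSubring_of_mul_eq {ℓ : L} (m x : C) (hm : Θ m ∉ Q₂) (h : Θ m * ℓ = Θ x) :
    ℓ ∈ fracSubring Θ Q₂ := ⟨m, hm, x, h⟩

theorem map_mem_fracSubring (x : C) : Θ x ∈ fracSubring Θ Q₂ :=
  ⟨1, map_one_notMem Θ Q₂, x, by simp⟩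

end FracSubring

section Construction3

open MvPolynomial

variable {R A B' Λ Λq Rₚ : Type u} [CommRing R] [CommRing A] [Algebra R A] [CommRing B']
  [Algebra R B'] [CommRing Λ] [Algebra R Λ] [CommRing Λq] [Algebra Λ Λq] [Algebra R Λq]
  [IsScalarTower R Λ Λq] [CommRing Rₚ] [Algebra R Rₚ] [Algebra Rₚ B'] [IsScalarTower R Rₚ B']
  (𝔮 : Ideal Λ) [𝔮.IsPrime] [IsLocalization.AtPrime Λq 𝔮] [IsLocalRing Λq]
  [IsLocalization.AtPrime Rₚ (𝔮.comap (algebraMap R Λ))]
  (g' : A →ₐ[R] B') (φ : A →ₐ[R] Λ) (h' : B' →ₐ[R] Λq) {N : ℕ} (y : Fin N → B') (t u : Λ)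
  (μ : Fin N → Λ) {l : ℕ} (k : Fin l → PP A N)

/-- the prime of `B'[τ, τ']` under the maximal ideal of `Λq` -/
noncomputable abbrev QQ2 : Ideal (LL2 B') := (IsLocalRing.maximalIdeal Λq).comap (evq2 h' t u)

include 𝔮 in
theorem fracSubring_eq_top (hk : ∀ j, varpi g' y (k j) = 0) (ht : t ∉ 𝔮)
    (hy : Algebra.adjoin Rₚ (Set.range y) = ⊤) :
    fracSubring (C := CC2 k) (L := LL2 B') (Theta g' y k hk).toRingHom (QQ2 h' t u) = ⊤ := by
  set Θ := Theta g' y k hk with hΘ
  set W := fracSubring (C := CC2 k) (L := LL2 B') Θ.toRingHom (QQ2 h' t u) with hW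
  have hnot : ∀ ℓ : LL2 B', IsUnit (evq2 h' t u ℓ) → (Θ.toRingHom : CC2 k →+* LL2 B') = Θ →
      ℓ ∉ QQ2 h' t u := by
    intro ℓ hℓ _ hmem
    exact (IsLocalRing.mem_maximalIdeal _).1 hmem hℓ
  have htunit : IsUnit (algebraMap Λ Λq t) :=
    (IsLocalization.AtPrime.isUnit_to_map_iff Λq 𝔮 t).2 ht
  -- step 1: constants from `B'`
  have h1 : ∀ b : B', (C (C b) : LL2 B') ∈ W := by
    intro b
    have hb : b ∈ Algebra.adjoin Rₚ (Set.range y) := by rw [hy]; trivial
    induction hb using Algebra.adjoin_induction with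
    | mem x hx =>
      obtain ⟨i, rfl⟩ := hx
      refine mem_fracSubring_of_mul_eq _ _ (Ideal.Quotient.mk (JJ2 k) (C (X none)))
        (Ideal.Quotient.mk (JJ2 k) (C (X (some i)))) ?_ ?_
      · show Θ (Ideal.Quotient.mk (JJ2 k) (C (X none))) ∉ QQ2 h' t u
        rw [hΘ, Theta_mk, varpi2_C, varpi_X_none]
        refine hnot _ ?_ rfl
        rw [evq2_C, evq1_X]
        exact htunit
      · show Θ (Ideal.Quotient.mk (JJ2 k) (C (X none))) * _ =
          Θ (Ideal.Quotient.mk (JJ2 k) (C (X (some i))))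
        rw [hΘ, Theta_mk, Theta_mk, varpi2_C, varpi2_C, varpi_X_none, varpi_X_some, ← map_mul,
          mul_comm]
    | algebraMap ρ =>
      obtain ⟨⟨r, ⟨s, hs⟩⟩, hrs⟩ :=
        IsLocalization.surj (𝔮.comap (algebraMap R Λ)).primeCompl ρ
      simp only at hrs
      refine mem_fracSubring_of_mul_eq _ _ (algebraMap R (CC2 k) s) (algebraMap R (CC2 k) r) ?_ ?_
      · show Θ (algebraMap R (CC2 k) s) ∉ QQ2 h' t u
        rw [Θ.commutes]
        refine hnot _ ?_ rfl
        rw [AlgHom.commutes, IsScalarTower.algebraMap_apply R Λ Λq]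
        exact (IsLocalization.AtPrime.isUnit_to_map_iff Λq 𝔮 _).2 hs
      · show Θ (algebraMap R (CC2 k) s) * _ = Θ (algebraMap R (CC2 k) r)
        rw [Θ.commutes, Θ.commutes, MvPolynomial.algebraMap_apply, MvPolynomial.algebraMap_apply,
          MvPolynomial.algebraMap_apply, MvPolynomial.algebraMap_apply, ← map_mul, ← map_mul,
          IsScalarTower.algebraMap_apply R Rₚ B', IsScalarTower.algebraMap_apply R Rₚ B' r,
          ← map_mul, ← hrs, mul_comm]
    | add x z _ _ hx hz =>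
      rw [map_add, map_add]
      exact W.add_mem hx hz
    | mul x z _ _ hx hz =>
      rw [map_mul, map_mul]
      exact W.mul_mem hx hz
  -- step 2: `B'[τ]`
  have hτ : (C (X ()) : LL2 B') ∈ W := by
    have : (C (X ()) : LL2 B') = Θ (Ideal.Quotient.mk (JJ2 k) (C (X none))) := by
      rw [hΘ, Theta_mk, varpi2_C, varpi_X_none]
    rw [this]
    exact map_mem_fracSubring _ _ _
  have h2 : ∀ p : LL1 B', (C p : LL2 B') ∈ W := by
    intro p
    induction p using MvPolynomial.induction_on with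
    | C b => exact h1 b
    | add p q hp hq => rw [map_add]; exact W.add_mem hp hq
    | mul_X p o hp => rw [map_mul]; exact W.mul_mem hp hτ
  -- step 3: `B'[τ][τ']`
  have hτ' : (X () : LL2 B') ∈ W := by
    have : (X () : LL2 B') = Θ (Ideal.Quotient.mk (JJ2 k) (X ())) := by
      rw [hΘ, Theta_mk, varpi2_X]
    rw [this]
    exact map_mem_fracSubring _ _ _
  rw [eq_top_iff]
  intro ℓ hℓ
  clear hℓ
  induction ℓ using MvPolynomial.induction_on with
  | C p => exact h2 p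
  | add p q hp hq => exact W.add_mem hp hq
  | mul_X p o hp => exact W.mul_mem hp hτ'

end Construction3

section Main

open MvPolynomial

theorem isSmoothAt_congr {R C : Type*} [CommRing R] [CommRing C] [Algebra R C] {I J : Ideal C}
    [I.IsPrime] [J.IsPrime] (h : I = J) (hJ : Algebra.IsSmoothAt R J) :
    Algebra.IsSmoothAt R I := by
  subst h
  exact hJ

/-- a finite family of elements killed in the localization at a prime has a common killer -/
theorem exists_notMem_forall_mul_eq_zero {Λ : Type*} [CommRing Λ] (𝔮 : Ideal Λ) [𝔮.IsPrime]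
    {l : ℕ} (v : Fin l → Λ) (hv : ∀ j, ∃ m, m ∉ 𝔮 ∧ m * v j = 0) :
    ∃ u, u ∉ 𝔮 ∧ ∀ j, u * v j = 0 := by
  choose m hm hm0 using hv
  refine ⟨∏ j, m j, ?_, fun j => ?_⟩
  · intro h
    obtain ⟨j, _, hj⟩ := (Ideal.IsPrime.prod_mem_iff (hp := inferInstance)).1 h
    exact hm j hj
  · obtain ⟨w, hw⟩ := Finset.dvd_prod_of_mem m (Finset.mem_univ j)
    rw [hw, mul_right_comm, hm0, zero_mul]

/-- Delocalization: a factorization of the localized problem through a smooth `Rₚ`-algebra gives a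
factorization `A → C → Λ` with `C` smooth at the prime under `𝔮`. -/
theorem delocalize {R A Λ Rₚ Λq B' : Type u} [CommRing R] [IsNoetherianRing R] [CommRing A]
    [Algebra R A] [Algebra.FinitePresentation R A] [CommRing Λ] [Algebra R Λ] (φ : A →ₐ[R] Λ)
    (𝔮 : Ideal Λ) [𝔮.IsPrime] [CommRing Rₚ] [Algebra R Rₚ]
    [IsLocalization.AtPrime Rₚ (𝔮.comap (algebraMap R Λ))]
    [CommRing Λq] [Algebra Λ Λq] [IsLocalization.AtPrime Λq 𝔮] [Algebra R Λq]
    [IsScalarTower R Λ Λq] [CommRing B'] [Algebra Rₚ B'] [Algebra R B'] [IsScalarTower R Rₚ B']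
    [Algebra.Smooth Rₚ B'] (g' : A →ₐ[R] B') (h' : B' →ₐ[R] Λq)
    (hcomp : ∀ a, h' (g' a) = algebraMap Λ Λq (φ a)) :
    ∃ (C : Type u) (_ : CommRing C) (_ : Algebra R C), Algebra.FinitePresentation R C ∧
      ∃ (g : A →ₐ[R] C) (h : C →ₐ[R] Λ), h.comp g = φ ∧ Algebra.IsSmoothAt R (𝔮.comap h) := by
  classical
  haveI : IsLocalRing Λq := IsLocalization.AtPrime.isLocalRing Λq 𝔮
  -- generators of `B'`
  obtain ⟨sgen, hsgen⟩ := (inferInstance : Algebra.FiniteType Rₚ B').out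
  obtain ⟨N, y, hy⟩ : ∃ (N : ℕ) (y : Fin N → B'), Set.range y = ↑sgen := by
    refine ⟨sgen.card, fun j => (sgen.equivFin.symm j).1, ?_⟩
    ext x
    constructor
    · rintro ⟨j, rfl⟩; exact (sgen.equivFin.symm j).2
    · intro hx; exact ⟨sgen.equivFin ⟨x, hx⟩, by simp⟩
  have hyadj : Algebra.adjoin Rₚ (Set.range y) = ⊤ := by rw [hy, hsgen]
  -- denominators
  obtain ⟨⟨t, ht⟩, hint⟩ := IsLocalization.exist_integer_multiples 𝔮.primeCompl
    (Finset.univ : Finset (Fin N)) (fun i => h' (y i))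
  have hμ' : ∀ i, ∃ μ : Λ, algebraMap Λ Λq μ = h' (y i) * algebraMap Λ Λq t := by
    intro i
    obtain ⟨μ, hμ⟩ := hint i (Finset.mem_univ i)
    refine ⟨μ, ?_⟩
    rw [hμ, Algebra.smul_def, mul_comm]
  choose μ hμ using hμ'
  have ht' : t ∉ 𝔮 := ht
  -- the kernel
  haveI : IsNoetherianRing A := Algebra.FiniteType.isNoetherianRing R A
  have hfg : (RingHom.ker (varpi g' y).toRingHom).FG := IsNoetherian.noetherian _
  obtain ⟨l, k, hk⟩ := Submodule.fg_iff_exists_fin_generating_family.1 hfg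
  have hk' : RingHom.ker (varpi g' y).toRingHom = Ideal.span (Set.range k) := hk.symm
  have hk0 : ∀ j, varpi g' y (k j) = 0 := by
    intro j
    have : k j ∈ RingHom.ker (varpi g' y).toRingHom := by
      rw [hk']; exact Ideal.subset_span ⟨j, rfl⟩
    exact this
  obtain ⟨u, hu, hu0⟩ := exists_notMem_forall_mul_eq_zero 𝔮 (fun j => evP φ t μ (k j)) (by
    intro j
    have h0 : algebraMap Λ Λq (evP φ t μ (k j)) = 0 := by
      rw [← evq1_varpi g' φ h' y t μ hcomp hμ, hk0, map_zero]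
    obtain ⟨⟨m, hm⟩, hm0⟩ := (IsLocalization.map_eq_zero_iff 𝔮.primeCompl Λq _).1 h0
    exact ⟨m, hm, hm0⟩)
  have huunit : IsUnit (algebraMap Λ Λq u) :=
    (IsLocalization.AtPrime.isUnit_to_map_iff Λq 𝔮 u).2 hu
  refine ⟨CC2 k, inferInstance, inferInstance, ?_, IsScalarTower.toAlgHom R A (CC2 k),
    gammaC φ t u μ k hu0, ?_, ?_⟩
  · exact Algebra.FinitePresentation.quotient
      ⟨Finset.univ.image (fun j => X () * C (k j)), by simp [JJ2]⟩
  · ext a
    show gammaC φ t u μ k hu0 (algebraMap A (CC2 k) a) = φ a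
    have : algebraMap A (CC2 k) a = Ideal.Quotient.mk (JJ2 k) (C (C a)) := rfl
    rw [this, gammaC_mk, evP2_C, evP_C]
  · set Θ := Theta g' y k hk0 with hΘ
    have hcomap : 𝔮.comap (gammaC φ t u μ k hu0) = (QQ2 h' t u).comap Θ := by
      ext x
      obtain ⟨p, rfl⟩ := Ideal.Quotient.mk_surjective x
      rw [Ideal.mem_comap, Ideal.mem_comap, Ideal.mem_comap, gammaC_mk, hΘ, Theta_mk,
        evq2_varpi2 g' φ h' y t u μ hcomp hμ, IsLocalization.AtPrime.to_map_mem_maximal_iff Λq 𝔮]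
    have hsm : Algebra.IsSmoothAt R (QQ2 h' t u) := by
      haveI : Algebra.FormallySmooth R Rₚ :=
        Algebra.FormallySmooth.of_isLocalization (𝔮.comap (algebraMap R Λ)).primeCompl
      haveI : Algebra.FormallySmooth R B' := Algebra.FormallySmooth.comp R Rₚ B'
      haveI : Algebra.FormallySmooth R (LL1 B') := Algebra.FormallySmooth.comp R B' (LL1 B')
      haveI : Algebra.FormallySmooth R (LL2 B') := Algebra.FormallySmooth.comp R (LL1 B') (LL2 B')
      haveI : Algebra.FormallySmooth (LL2 B') (Localization.AtPrime (QQ2 h' t u)) :=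
        Algebra.FormallySmooth.of_isLocalization (QQ2 h' t u).primeCompl
      exact Algebra.FormallySmooth.comp R (LL2 B') (Localization.AtPrime (QQ2 h' t u))
    have hres := isSmoothAt_comap_of_almost_bijective (C := CC2 k) (L := LL2 B') Θ (QQ2 h' t u)
      ?_ ?_ hsm
    · exact isSmoothAt_congr (C := CC2 k) hcomap hres
    · intro ℓ
      have hℓ : ℓ ∈ fracSubring (C := CC2 k) (L := LL2 B') Θ.toRingHom (QQ2 h' t u) := by
        rw [hΘ, fracSubring_eq_top 𝔮 g' h' y t u k hk0 ht' hyadj]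
        trivial
      obtain ⟨m, hm, x, hx⟩ := hℓ
      exact ⟨m, hm, x, hx⟩
    · refine ⟨Ideal.Quotient.mk (JJ2 k) (X ()), ?_, ?_⟩
      · rw [hΘ, Theta_mk, varpi2_X]
        intro hmem
        have : evq2 h' t u (X ()) ∈ IsLocalRing.maximalIdeal Λq := hmem
        rw [evq2_X] at this
        exact (IsLocalRing.mem_maximalIdeal _).1 this huunit
      · intro x hx
        exact X_mul_eq_zero_of_Theta_eq_zero g' y k hk0 hk' x hx

end Main

end Groth.Agent.Lib.Helper81.Pop
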