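import Mathlib
import Groth.Agent.Lib.Helper81.PopLocal
import Groth.Agent.Lib.Helper81.PopDeloc

/-!
# Weak delocalization (Stacks 07F8) (helper81)
-/

set_option autoImplicit false
universe u

namespace Groth.Agent.Lib.Helper81.Pop

open Smoothing TensorProduct

/-- Stacks 07F8 (weak delocalization), in the form of statement S2033. -/
theorem delocalize_weak {R A Λ Rₚ Λq : Type u} [CommRing R] [IsNoetherianRing R] [CommRing A]
    [Algebra R A] [Algebra.FinitePresentation R A] [CommRing Λ] [Algebra R Λ] (φ : A →ₐ[R] Λ)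
    (𝔮 : Ideal Λ) [𝔮.IsPrime]
    [CommRing Rₚ] [Algebra R Rₚ] [IsLocalization.AtPrime Rₚ (𝔮.comap (algebraMap R Λ))]
    [CommRing Λq] [Algebra Λ Λq] [IsLocalization.AtPrime Λq 𝔮] [Algebra R Λq] [IsScalarTower R Λ Λq]
    [Algebra Rₚ Λq] [IsScalarTower R Rₚ Λq]
    (hres : Smoothing.Resolvable Rₚ
      (Algebra.TensorProduct.lift (Algebra.ofId Rₚ Λq) ((IsScalarTower.toAlgHom R Λ Λq).comp φ)
        (fun _ _ => Commute.all _ _) : Rₚ ⊗[R] A →ₐ[Rₚ] Λq) (𝔮.map (algebraMap Λ Λq))) :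
    ∃ (C : Type u) (_ : CommRing C) (_ : Algebra R C), Algebra.FinitePresentation R C ∧
      ∃ (g : A →ₐ[R] C) (h : C →ₐ[R] Λ), h.comp g = φ ∧
        ¬ (Smoothing.singularIdeal R C).map h ≤ 𝔮 := by
  classical
  haveI : IsLocalRing Λq := IsLocalization.AtPrime.isLocalRing Λq 𝔮
  obtain ⟨B₀, _, _, hfp, g₀, h₀, hgh, -, hne⟩ := hres
  -- an element of the singular ideal mapping to a unit
  have hmax : 𝔮.map (algebraMap Λ Λq) = IsLocalRing.maximalIdeal Λq :=
    IsLocalization.AtPrime.map_eq_maximalIdeal 𝔮 Λq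
  rw [hmax, singRad, Ideal.IsPrime.radical_le_iff inferInstance, Ideal.map_le_iff_le_comap,
    SetLike.not_le_iff_exists] at hne
  obtain ⟨b₀, hb₀, hb₀'⟩ := hne
  have hunit : IsUnit (h₀ b₀) := by
    by_contra h
    exact hb₀' ((IsLocalRing.mem_maximalIdeal _).2 h)
  -- the smooth algebra `B' = B₀[1/b₀]`
  haveI : Algebra.Smooth Rₚ (Localization.Away b₀) := smooth_away_of_mem_singularIdeal hb₀
  letI : Algebra R B₀ := ((algebraMap Rₚ B₀).comp (algebraMap R Rₚ)).toAlgebra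
  haveI : IsScalarTower R Rₚ B₀ := IsScalarTower.of_algebraMap_eq fun _ => rfl
  haveI : IsScalarTower R Rₚ (Localization.Away b₀) := inferInstance
  haveI : IsScalarTower R B₀ (Localization.Away b₀) := inferInstance
  let h' : Localization.Away b₀ →ₐ[Rₚ] Λq :=
    IsLocalization.liftAlgHom (M := Submonoid.powers b₀) (f := h₀) (by
      rintro ⟨_, n, rfl⟩
      rw [map_pow]
      exact hunit.pow n)
  have hh' : ∀ b, h' (algebraMap B₀ (Localization.Away b₀) b) = h₀ b := fun b =>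
    IsLocalization.lift_eq _ b
  let g' : A →ₐ[R] Localization.Away b₀ :=
    (IsScalarTower.toAlgHom R B₀ (Localization.Away b₀)).comp
      ((g₀.restrictScalars R).comp Algebra.TensorProduct.includeRight)
  have hcomp : ∀ a, (h'.restrictScalars R) (g' a) = algebraMap Λ Λq (φ a) := by
    intro a
    show h' (algebraMap B₀ (Localization.Away b₀) (g₀ ((1 : Rₚ) ⊗ₜ[R] a))) = _
    rw [hh']
    have := DFunLike.congr_fun hgh ((1 : Rₚ) ⊗ₜ[R] a)
    rw [AlgHom.comp_apply] at this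
    rw [this, Algebra.TensorProduct.lift_tmul, map_one, one_mul]
    rfl
  obtain ⟨C, _, _, hC, g, h, hgφ, hsm⟩ :=
    delocalize φ 𝔮 (Rₚ := Rₚ) (Λq := Λq) g' (h'.restrictScalars R) hcomp
  exact ⟨C, inferInstance, inferInstance, hC, g, h, hgφ, not_map_singularIdeal_le h 𝔮 hsm⟩

end Groth.Agent.Lib.Helper81.Pop
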