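import Mathlib
import Groth.Agent.Lib.Helper81.PopJac
import Groth.Agent.Lib.Helper81.PopLocal
import Groth.Agent.Lib.Helper81.PopLocal2
import Groth.Agent.Lib.Helper81.PopDeloc

/-!
# The dimension zero trick (Stacks 07F9) (helper81)

`B = A[x, y, z, t]/(f_j(x) − Σ_i y_i t_ij, z y_i)` where `C = A[x]/(f_j)`.
-/

set_option autoImplicit false
universe u

namespace Groth.Agent.Lib.Helper81.Pop

open MvPolynomial Smoothing

/-- variables of the algebra `B` -/
inductive DZVar (n r m : ℕ) : Type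
  | x (i : Fin n) | y (i : Fin r) | z | t (i : Fin r) (j : Fin m)
  deriving DecidableEq, Fintype

section Defs

variable {A S : Type u} [CommRing A] [CommRing S] [Algebra A S] {n m : ℕ} (r : ℕ)
  (ρ : MvPolynomial (Fin n) A →ₐ[A] S) (f : Fin m → MvPolynomial (Fin n) A)

/-- the polynomial ring `A[x, y, z, t]` -/
abbrev DZP (A : Type u) [CommRing A] (n r m : ℕ) : Type u := MvPolynomial (DZVar n r m) A

/-- inclusion of `A[x]` -/
noncomputable def dzInx : MvPolynomial (Fin n) A →ₐ[A] DZP A n r m := rename DZVar.x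

/-- the relation `f_j − Σ y_i t_ij` -/
noncomputable def dzF (j : Fin m) : DZP A n r m :=
  dzInx r (f j) - ∑ i : Fin r, X (DZVar.y i) * X (DZVar.t i j)

/-- the relation `z y_i` -/
noncomputable def dzZY (i : Fin r) : DZP A n r m := X DZVar.z * X (DZVar.y i)

/-- the ideal of relations of `B` -/
noncomputable def dzJ : Ideal (DZP A n r m) :=
  Ideal.span (Set.range (dzF r f) ∪ Set.range (dzZY (A := A) (n := n) (m := m) r))

/-- the algebra `B` -/
abbrev DZB : Type u := DZP A n r m ⧸ dzJ r f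

/-- the auxiliary ideal `(f_j, y_i)` -/
noncomputable def dzK : Ideal (DZP A n r m) :=
  Ideal.span (Set.range fun j => dzInx (m := m) r (f j)) ⊔
    Ideal.span (Set.range fun i : Fin r => (X (DZVar.y i) : DZP A n r m))

theorem dzJ_le_dzK : dzJ r f ≤ dzK r f := by
  rw [dzJ, Ideal.span_le]
  rintro _ (⟨j, rfl⟩ | ⟨i, rfl⟩)
  · refine Ideal.sub_mem _ (Ideal.mem_sup_left (Ideal.subset_span ⟨j, rfl⟩))
      (Ideal.sum_mem _ fun i _ => Ideal.mem_sup_right
        (Ideal.mul_mem_right _ _ (Ideal.subset_span ⟨i, rfl⟩)))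
  · exact Ideal.mem_sup_right (Ideal.mul_mem_left _ _ (Ideal.subset_span ⟨i, rfl⟩))

theorem X_z_mul_mem_dzJ {p : DZP A n r m} (hp : p ∈ dzK r f) : X DZVar.z * p ∈ dzJ r f := by
  obtain ⟨p₁, hp₁, p₂, hp₂, rfl⟩ := Submodule.mem_sup.1 hp
  rw [mul_add]
  refine Ideal.add_mem _ ?_ ?_
  · clear hp
    induction hp₁ using Submodule.span_induction with
    | mem x hx =>
      obtain ⟨j, rfl⟩ := hx
      have : X DZVar.z * dzInx (m := m) r (f j) =
          X DZVar.z * dzF r f j + ∑ i : Fin r, X (DZVar.t i j) * dzZY r i := by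
        rw [dzF, mul_sub, sub_add_eq_add_sub, eq_sub_iff_add_eq, add_right_inj, Finset.mul_sum]
        refine Finset.sum_congr rfl fun i _ => ?_
        rw [dzZY]; ring
      rw [this]
      refine Ideal.add_mem _ (Ideal.mul_mem_left _ _ (Ideal.subset_span (Or.inl ⟨j, rfl⟩)))
        (Ideal.sum_mem _ fun i _ => Ideal.mul_mem_left _ _
          (Ideal.subset_span (Or.inr ⟨i, rfl⟩)))
    | zero => simp
    | add x y _ _ hx hy => rw [mul_add]; exact Ideal.add_mem _ hx hy
    | smul a x _ hx => rw [smul_eq_mul, mul_left_comm]; exact Ideal.mul_mem_left _ _ hx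
  · clear hp
    induction hp₂ using Submodule.span_induction with
    | mem x hx =>
      obtain ⟨i, rfl⟩ := hx
      exact Ideal.subset_span (Or.inr ⟨i, rfl⟩)
    | zero => simp
    | add x y _ _ hx hy => rw [mul_add]; exact Ideal.add_mem _ hx hy
    | smul a x _ hx => rw [smul_eq_mul, mul_left_comm]; exact Ideal.mul_mem_left _ _ hx

/-- the values of the variables in `C[z, t]` -/
noncomputable def dzVal : DZVar n r m → MvPolynomial (Option (Fin r × Fin m)) S
  | .x i => C (ρ (X i))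
  | .y _ => 0
  | .z => X none
  | .t i j => X (some (i, j))

/-- `Θ_P : A[x, y, z, t] → C[z, t]` -/
noncomputable def dzThetaP : DZP A n r m →ₐ[A] MvPolynomial (Option (Fin r × Fin m)) S :=
  aeval (dzVal r ρ)

theorem dzThetaP_inx (p : MvPolynomial (Fin n) A) :
    dzThetaP (m := m) r ρ (dzInx r p) = C (ρ p) := by
  have : (dzThetaP (m := m) r ρ).comp (dzInx r) =
      (IsScalarTower.toAlgHom A S (MvPolynomial (Option (Fin r × Fin m)) S)).comp ρ := by
    apply MvPolynomial.algHom_ext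
    intro i
    simp only [AlgHom.comp_apply, dzInx, dzThetaP, rename_X, aeval_X, dzVal]
    rfl
  exact DFunLike.congr_fun this p

theorem dzThetaP_X_y (i : Fin r) : dzThetaP (m := m) r ρ (X (DZVar.y i)) = 0 := by
  rw [dzThetaP, aeval_X, dzVal]

theorem dzThetaP_X_z : dzThetaP (m := m) r ρ (X DZVar.z) = X none := by
  rw [dzThetaP, aeval_X, dzVal]

theorem dzThetaP_X_t (i : Fin r) (j : Fin m) :
    dzThetaP (m := m) r ρ (X (DZVar.t i j)) = X (some (i, j)) := by
  rw [dzThetaP, aeval_X, dzVal]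

theorem dzThetaP_dzF (hf : ∀ j, ρ (f j) = 0) (j : Fin m) : dzThetaP r ρ (dzF r f j) = 0 := by
  rw [dzF, map_sub, dzThetaP_inx, hf, map_zero, map_sum, zero_sub, neg_eq_zero]
  refine Finset.sum_eq_zero fun i _ => ?_
  rw [map_mul, dzThetaP_X_y, zero_mul]

theorem dzThetaP_dzZY (i : Fin r) : dzThetaP (m := m) r ρ (dzZY r i) = 0 := by
  rw [dzZY, map_mul, dzThetaP_X_y, mul_zero]

/-- `Θ : B → C[z, t]` -/
noncomputable def dzTheta (hf : ∀ j, ρ (f j) = 0) :
    DZB r f →ₐ[A] MvPolynomial (Option (Fin r × Fin m)) S :=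
  Ideal.Quotient.liftₐ (dzJ r f) (dzThetaP r ρ) (by
    intro p hp
    have hle : dzJ r f ≤ RingHom.ker (dzThetaP (m := m) r ρ).toRingHom := by
      rw [dzJ, Ideal.span_le]
      rintro _ (⟨j, rfl⟩ | ⟨i, rfl⟩)
      · exact dzThetaP_dzF r ρ f hf j
      · exact dzThetaP_dzZY r ρ i
    exact hle hp)

theorem dzTheta_mk (hf : ∀ j, ρ (f j) = 0) (p : DZP A n r m) :
    dzTheta r ρ f hf (Ideal.Quotient.mk (dzJ r f) p) = dzThetaP r ρ p := rfl

theorem dzTheta_surjective (hρ : Function.Surjective ρ) (hf : ∀ j, ρ (f j) = 0) :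
    Function.Surjective (dzTheta r ρ f hf) := by
  intro ℓ
  induction ℓ using MvPolynomial.induction_on with
  | C c =>
    obtain ⟨p, rfl⟩ := hρ c
    exact ⟨Ideal.Quotient.mk _ (dzInx r p), by rw [dzTheta_mk, dzThetaP_inx]⟩
  | add p q hp hq =>
    obtain ⟨a, rfl⟩ := hp
    obtain ⟨b, rfl⟩ := hq
    exact ⟨a + b, map_add _ _ _⟩
  | mul_X p o hp =>
    obtain ⟨a, rfl⟩ := hp
    cases o with
    | none =>
      exact ⟨a * Ideal.Quotient.mk _ (X DZVar.z), by rw [map_mul, dzTheta_mk, dzThetaP_X_z]⟩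
    | some ij =>
      exact ⟨a * Ideal.Quotient.mk _ (X (DZVar.t ij.1 ij.2)),
        by rw [map_mul, dzTheta_mk, dzThetaP_X_t]⟩

/-- the inverse map `C[z, t] → A[x, y, z, t]/(f_j, y_i)` -/
noncomputable def dzPhi (hρ : Function.Surjective ρ)
    (hker : RingHom.ker ρ.toRingHom = Ideal.span (Set.range f)) :
    MvPolynomial (Option (Fin r × Fin m)) S →+* DZP A n r m ⧸ dzK r f :=
  eval₂Hom (RingHom.liftOfSurjective ρ.toRingHom hρ
      ⟨(Ideal.Quotient.mk (dzK r f)).comp (dzInx (m := m) r).toRingHom, by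
        rw [hker, Ideal.span_le]
        rintro _ ⟨j, rfl⟩
        rw [SetLike.mem_coe, RingHom.mem_ker, RingHom.comp_apply, Ideal.Quotient.eq_zero_iff_mem]
        exact Ideal.mem_sup_left (Ideal.subset_span ⟨j, rfl⟩)⟩)
    (fun o => Ideal.Quotient.mk (dzK r f)
      (o.elim (X DZVar.z) (fun ij => X (DZVar.t ij.1 ij.2))))

theorem dzPhi_dzThetaP (hρ : Function.Surjective ρ)
    (hker : RingHom.ker ρ.toRingHom = Ideal.span (Set.range f)) (p : DZP A n r m) :
    dzPhi r ρ f hρ hker (dzThetaP r ρ p) = Ideal.Quotient.mk (dzK r f) p := by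
  have hC : ∀ q : MvPolynomial (Fin n) A, dzPhi r ρ f hρ hker (C (ρ q)) =
      Ideal.Quotient.mk (dzK r f) (dzInx r q) := by
    intro q
    rw [dzPhi, eval₂Hom_C]
    exact RingHom.liftOfRightInverse_comp_apply _ _ _ _ q
  induction p using MvPolynomial.induction_on with
  | C a =>
    have h1 : dzThetaP (m := m) r ρ (C a) = C (ρ (C a)) := by
      rw [← dzThetaP_inx (m := m) r ρ (C a), dzInx, rename_C]
    rw [h1, hC, dzInx, rename_C]
  | add p q hp hq => rw [map_add, map_add, map_add, hp, hq]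
  | mul_X p v hp =>
    rw [map_mul, map_mul, map_mul, hp]
    congr 1
    cases v with
    | x i =>
      have h1 : dzThetaP (m := m) r ρ (X (DZVar.x i)) = C (ρ (X i)) := by
        rw [← dzThetaP_inx (m := m) r ρ (X i), dzInx, rename_X]
      rw [h1, hC, dzInx, rename_X]
    | y i =>
      rw [dzThetaP_X_y, map_zero, eq_comm, Ideal.Quotient.eq_zero_iff_mem]
      exact Ideal.mem_sup_right (Ideal.subset_span ⟨i, rfl⟩)
    | z => rw [dzThetaP_X_z, dzPhi, eval₂Hom_X']; rfl
    | t i j => rw [dzThetaP_X_t, dzPhi, eval₂Hom_X']; rfl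

/-- the kernel of `Θ` is killed by `z` -/
theorem z_mul_eq_zero_of_dzTheta_eq_zero (hρ : Function.Surjective ρ)
    (hker : RingHom.ker ρ.toRingHom = Ideal.span (Set.range f)) (hf : ∀ j, ρ (f j) = 0)
    (x : DZB r f) (hx : dzTheta r ρ f hf x = 0) :
    Ideal.Quotient.mk (dzJ r f) (X DZVar.z) * x = 0 := by
  obtain ⟨p, rfl⟩ := Ideal.Quotient.mk_surjective x
  rw [dzTheta_mk] at hx
  have hp : p ∈ dzK r f := by
    rw [← Ideal.Quotient.eq_zero_iff_mem, ← dzPhi_dzThetaP r ρ f hρ hker, hx, map_zero]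
  rw [← map_mul, Ideal.Quotient.eq_zero_iff_mem]
  exact X_z_mul_mem_dzJ r f hp

end Defs

section SmoothZ

variable {R A S : Type u} [CommRing R] [CommRing A] [CommRing S] [Algebra R A] [Algebra A S]
  [Algebra R S] [IsScalarTower R A S] {n m : ℕ} (r : ℕ) (ρ : MvPolynomial (Fin n) A →ₐ[A] S)
  (f : Fin m → MvPolynomial (Fin n) A)

/-- `B` is smooth over `R` at the primes not containing `z c` with `c` in the singular ideal of
`C`. -/
theorem dz_isSmoothAt_of_z (hρ : Function.Surjective ρ)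
    (hker : RingHom.ker ρ.toRingHom = Ideal.span (Set.range f)) (hf : ∀ j, ρ (f j) = 0)
    (ct : MvPolynomial (Fin n) A) (hc : ρ ct ∈ singularIdeal R S) (Q : Ideal (DZB r f))
    [Q.IsPrime] (hQ : Ideal.Quotient.mk (dzJ r f) (X DZVar.z * dzInx r ct) ∉ Q) :
    Algebra.IsSmoothAt R Q := by
  set Θ : DZB r f →ₐ[R] MvPolynomial (Option (Fin r × Fin m)) S :=
    (dzTheta r ρ f hf).restrictScalars R with hΘ
  have hΘapp : ∀ x, Θ x = dzTheta r ρ f hf x := fun _ => rfl
  have hsurjΘ : Function.Surjective Θ := dzTheta_surjective r ρ f hρ hf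
  have hzQ : Ideal.Quotient.mk (dzJ r f) (X DZVar.z) ∉ Q := fun h =>
    hQ (by rw [map_mul]; exact Ideal.mul_mem_right _ _ h)
  have hcQ : Ideal.Quotient.mk (dzJ r f) (dzInx r ct) ∉ Q := fun h =>
    hQ (by rw [map_mul]; exact Ideal.mul_mem_left _ _ h)
  have hkerQ : RingHom.ker Θ ≤ Q := by
    intro x hx
    have h0 := z_mul_eq_zero_of_dzTheta_eq_zero r ρ f hρ hker hf x hx
    have h1 : Ideal.Quotient.mk (dzJ r f) (X DZVar.z) * x ∈ Q := by rw [h0]; exact Q.zero_mem
    rcases Ideal.IsPrime.mem_or_mem inferInstance h1 with h | h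
    · exact absurd h hzQ
    · exact h
  set Q₂ : Ideal (MvPolynomial (Option (Fin r × Fin m)) S) := Q.map Θ with hQ₂
  haveI : Q₂.IsPrime := Ideal.map_isPrime_of_surjective hsurjΘ hkerQ
  have hcomap : Q₂.comap Θ = Q := by
    rw [hQ₂, Ideal.comap_map_of_surjective _ hsurjΘ, sup_eq_left]
    exact hkerQ
  have hsm2 : Algebra.IsSmoothAt R Q₂ := by
    apply isSmoothAt_trans (A := S) Q₂
    · by_contra hns
      have h1 := (mem_singularIdeal_iff (ρ ct)).1 hc _ hns
      rw [Ideal.mem_comap] at h1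
      apply hcQ
      rw [← hcomap, Ideal.mem_comap, hΘapp, dzTheta_mk, dzThetaP_inx]
      exact h1
    · exact isSmoothAt_of_formallySmooth Q₂
  have hres := isSmoothAt_comap_of_almost_bijective (C := DZB r f)
    (L := MvPolynomial (Option (Fin r × Fin m)) S) Θ Q₂ ?_ ?_ hsm2
  · exact isSmoothAt_congr hcomap.symm hres
  · intro ℓ
    obtain ⟨x, hx⟩ := hsurjΘ ℓ
    exact ⟨1, map_one_notMem Θ.toRingHom Q₂, x, by rw [map_one, one_mul, hx]⟩
  · refine ⟨Ideal.Quotient.mk (dzJ r f) (X DZVar.z), ?_, ?_⟩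
    · intro h
      apply hzQ
      rw [← hcomap, Ideal.mem_comap]
      exact h
    · intro x hx
      exact z_mul_eq_zero_of_dzTheta_eq_zero r ρ f hρ hker hf x hx

end SmoothZ

section SmoothY

variable {A : Type u} [CommRing A] {n m : ℕ} (r : ℕ) (f : Fin m → MvPolynomial (Fin n) A)

theorem pderiv_dzInx_of_ne (v : DZVar n r m) (hv : ∀ i, v ≠ DZVar.x i)
    (p : MvPolynomial (Fin n) A) : pderiv v (dzInx (m := m) r p) = 0 := by
  classical
  apply pderiv_eq_zero_of_notMem_vars
  intro h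
  have h1 := vars_rename (DZVar.x : Fin n → DZVar n r m) p h
  rw [Finset.mem_image] at h1
  obtain ⟨i, _, hi⟩ := h1
  exact hv i hi.symm

/-- the local generators at a prime not containing `y_ℓ` -/
noncomputable def dzG (ℓ : Fin r) : Option (Fin m) → DZP A n r m
  | none => dzZY r ℓ
  | some j => dzF r f j

/-- the variables against which we differentiate -/
def dzv (ℓ : Fin r) : Option (Fin m) → DZVar n r m
  | none => DZVar.z
  | some j => DZVar.t ℓ j

theorem dzv_injective (ℓ : Fin r) : Function.Injective (dzv (n := n) (m := m) r ℓ) := by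
  rintro (_ | j) (_ | j') h
  · rfl
  · simp [dzv] at h
  · simp [dzv] at h
  · simp only [dzv, DZVar.t.injEq, true_and] at h
    rw [h]

theorem dz_det (ℓ : Fin r) :
    Matrix.det (Matrix.of fun j k : Option (Fin m) => pderiv (dzv (n := n) r ℓ k) (dzG r f ℓ j)) =
      X (DZVar.y ℓ) * (- X (DZVar.y ℓ)) ^ m := by
  classical
  have hmat : (Matrix.of fun j k : Option (Fin m) =>
      pderiv (dzv (n := n) r ℓ k) (dzG r f ℓ j)) =
      Matrix.diagonal (fun o : Option (Fin m) => o.elim (X (DZVar.y ℓ)) (fun _ => - X (DZVar.y ℓ))) := by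
    apply Matrix.ext
    intro j k
    rw [Matrix.of_apply, Matrix.diagonal_apply]
    have ezy : ∀ i : Fin r, pderiv DZVar.z (X (DZVar.y i) : DZP A n r m) = 0 :=
      fun i => pderiv_X_of_ne (by simp)
    have ezt : ∀ (i : Fin r) (j : Fin m), pderiv DZVar.z (X (DZVar.t i j) : DZP A n r m) = 0 :=
      fun i j => pderiv_X_of_ne (by simp)
    have ety : ∀ (k : Fin m) (i : Fin r),
        pderiv (DZVar.t ℓ k) (X (DZVar.y i) : DZP A n r m) = 0 :=
      fun k i => pderiv_X_of_ne (by simp)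
    have etz : ∀ (k : Fin m), pderiv (DZVar.t ℓ k) (X DZVar.z : DZP A n r m) = 0 :=
      fun k => pderiv_X_of_ne (by simp)
    cases j with
    | none =>
      cases k with
      | none =>
        simp only [dzG, dzv, dzZY, if_true, Option.elim]
        rw [Derivation.leibniz, pderiv_X_self, ezy]
        simp
      | some k =>
        simp only [dzG, dzv, dzZY, reduceCtorEq, if_false]
        rw [Derivation.leibniz, ety, etz]
        simp
    | some j =>
      cases k with
      | none =>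
        simp only [dzG, dzv, dzF, reduceCtorEq, if_false, map_sub, map_sum]
        rw [pderiv_dzInx_of_ne r _ (by simp), zero_sub, neg_eq_zero]
        refine Finset.sum_eq_zero fun i _ => ?_
        rw [Derivation.leibniz, ezy, ezt]
        simp
      | some k =>
        simp only [dzG, dzv, dzF, map_sub, map_sum, Option.some.injEq, Option.elim]
        rw [pderiv_dzInx_of_ne r _ (by simp), zero_sub]
        have hterm : ∀ i : Fin r, pderiv (DZVar.t ℓ k) (X (DZVar.y i) * X (DZVar.t i j) :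
            DZP A n r m) = if i = ℓ ∧ j = k then X (DZVar.y ℓ) else 0 := by
          intro i
          rw [Derivation.leibniz, ety, smul_zero, add_zero]
          by_cases h : i = ℓ ∧ j = k
          · obtain ⟨rfl, rfl⟩ := h
            rw [pderiv_X_self, if_pos ⟨rfl, rfl⟩, smul_eq_mul, mul_one]
          · rw [if_neg h, pderiv_X_of_ne, smul_zero]
            intro h'
            simp only [DZVar.t.injEq] at h'
            exact h ⟨h'.1, h'.2⟩
        simp only [hterm]
        by_cases hjk : j = k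
        · subst hjk
          simp
        · simp [hjk]
  rw [hmat, Matrix.det_diagonal, Fintype.prod_option]
  simp

/-- `B` is smooth over `A` at the primes not containing `y_ℓ`. -/
theorem dz_isSmoothAt_of_y (ℓ : Fin r) (Q : Ideal (DZB r f)) [Q.IsPrime]
    (hQ : Ideal.Quotient.mk (dzJ r f) (X (DZVar.y ℓ)) ∉ Q) : Algebra.IsSmoothAt A Q := by
  classical
  refine isSmoothAt_quotient_of_jacobian (dzJ r f) (dzG r f ℓ) ?_ (dzv r ℓ) (dzv_injective r ℓ) Q
    ?_ ?_
  · rintro (_ | j)
    · exact Ideal.subset_span (Or.inr ⟨ℓ, rfl⟩)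
    · exact Ideal.subset_span (Or.inl ⟨j, rfl⟩)
  · rw [dz_det, map_mul, map_pow, map_neg]
    intro h
    rcases Ideal.IsPrime.mem_or_mem inferInstance h with h | h
    · exact hQ h
    · exact hQ (neg_mem_iff.1 (Ideal.IsPrime.mem_of_pow_mem inferInstance _ h))
  · refine exists_mul_mem_of_span (dzJ r f) Q _ _ rfl ?_
    rintro _ (⟨j, rfl⟩ | ⟨i, rfl⟩)
    · refine ⟨1, map_one_notMem (Ideal.Quotient.mk (dzJ r f)) Q, ?_⟩
      rw [one_mul]
      exact Ideal.subset_span ⟨some j, rfl⟩
    · refine ⟨X (DZVar.y ℓ), hQ, ?_⟩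
      have : X (DZVar.y ℓ) * dzZY (A := A) (n := n) (m := m) r i =
          X (DZVar.y i) * dzG r f ℓ none := by
        simp only [dzZY, dzG]; ring
      rw [this]
      exact Ideal.mul_mem_left _ _ (Ideal.subset_span ⟨none, rfl⟩)

end SmoothY

end Groth.Agent.Lib.Helper81.Pop
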