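import Mathlib
import Groth.Agent.Lib.Helper81.PopDimZero
import Groth.Agent.Lib.Helper81.PopDelocWeak

/-!
# The dimension zero trick (Stacks 07F9): assembly (helper81)
-/

set_option autoImplicit false
universe u

namespace Groth.Agent.Lib.Helper81.Pop

open MvPolynomial Smoothing TensorProduct

section EvB

variable {R A S Λ : Type u} [CommRing R] [CommRing A] [CommRing S] [Algebra R A] [Algebra A S]
  [Algebra R S] [IsScalarTower R A S] [CommRing Λ] [Algebra R Λ] {n m : ℕ} (r : ℕ)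
  (ρ : MvPolynomial (Fin n) A →ₐ[A] S) (f : Fin m → MvPolynomial (Fin n) A)
  (φ : A →ₐ[R] Λ) (h : S →ₐ[R] Λ) (yv : Fin r → Λ) (zv : Λ)

/-- the values of the variables of `B` in `Λ` -/
noncomputable def dzValΛ : DZVar n r m → Λ
  | .x i => h (ρ (X i))
  | .y i => yv i
  | .z => zv
  | .t _ _ => 0

/-- the evaluation `A[x, y, z, t] → Λ` -/
noncomputable def dzEv : DZP A n r m →ₐ[R] Λ where
  toRingHom := eval₂Hom φ.toRingHom (dzValΛ r ρ h yv zv)
  commutes' a := by
    show eval₂Hom _ _ (algebraMap R (DZP A n r m) a) = _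
    rw [MvPolynomial.algebraMap_apply, eval₂Hom_C]
    exact φ.commutes a

theorem dzEv_C (a : A) : dzEv (m := m) r ρ φ h yv zv (C a) = φ a := by
  show eval₂Hom _ _ (C a) = _
  rw [eval₂Hom_C]; rfl

theorem dzEv_X (v : DZVar n r m) : dzEv r ρ φ h yv zv (X v) = dzValΛ r ρ h yv zv v := by
  show eval₂Hom _ _ (X v) = _
  rw [eval₂Hom_X']

theorem dzEv_inx (hg : ∀ a, h (algebraMap A S a) = φ a) (p : MvPolynomial (Fin n) A) :
    dzEv (m := m) r ρ φ h yv zv (dzInx r p) = h (ρ p) := by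
  induction p using MvPolynomial.induction_on with
  | C a =>
    rw [dzInx, rename_C, dzEv_C, ← algebraMap_eq, AlgHom.commutes, hg]
  | add p q hp hq => rw [map_add, map_add, map_add, map_add, hp, hq]
  | mul_X p i hp =>
    rw [map_mul, map_mul, map_mul, map_mul, hp, dzInx, rename_X, dzEv_X]
    rfl

end EvB

section Main

/-- Stacks 07F9 (dimension zero), in the form of statement S2034. -/
theorem resolvable_of_dim_zero {R A Λ Rₚ Λq : Type u} [CommRing R] [IsNoetherianRing R]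
    [CommRing A] [Algebra R A] [Algebra.FinitePresentation R A] [CommRing Λ] [Algebra R Λ]
    (φ : A →ₐ[R] Λ) (𝔮 : Ideal Λ) [𝔮.IsPrime]
    (hmin : 𝔮 ∈ (Smoothing.singRad R φ).minimalPrimes)
    [CommRing Rₚ] [Algebra R Rₚ] [IsLocalization.AtPrime Rₚ (𝔮.comap (algebraMap R Λ))]
    [CommRing Λq] [Algebra Λ Λq] [IsLocalization.AtPrime Λq 𝔮] [Algebra R Λq] [IsScalarTower R Λ Λq]
    [Algebra Rₚ Λq] [IsScalarTower R Rₚ Λq] (hdim : ringKrullDim Λq = 0)
    (hres : Smoothing.Resolvable Rₚ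
      (Algebra.TensorProduct.lift (Algebra.ofId Rₚ Λq) ((IsScalarTower.toAlgHom R Λ Λq).comp φ)
        (fun _ _ => Commute.all _ _) : Rₚ ⊗[R] A →ₐ[Rₚ] Λq) (𝔮.map (algebraMap Λ Λq))) :
    Smoothing.Resolvable R φ 𝔮 := by
  classical
  haveI : IsLocalRing Λq := IsLocalization.AtPrime.isLocalRing Λq 𝔮
  haveI : Ring.KrullDimLE 0 Λq := ringKrullDimZero_iff_ringKrullDim_eq_zero.2 hdim
  obtain ⟨S, _, _, hS, g, h, hgh, hne⟩ := delocalize_weak φ 𝔮 hres
  -- an element of the singular ideal of `S` mapping outside `𝔮`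
  rw [Ideal.map_le_iff_le_comap, SetLike.not_le_iff_exists] at hne
  obtain ⟨c, hc, hc𝔮⟩ := hne
  rw [Ideal.mem_comap] at hc𝔮
  -- `S` as an `A`-algebra
  letI : Algebra A S := g.toRingHom.toAlgebra
  haveI : IsScalarTower R A S := IsScalarTower.of_algebraMap_eq fun x => (g.commutes x).symm
  have hgalg : ∀ a, h (algebraMap A S a) = φ a := fun a => DFunLike.congr_fun hgh a
  haveI : Algebra.FinitePresentation A S :=
    Algebra.FinitePresentation.of_restrict_scalars_finitePresentation R A S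
  obtain ⟨n, ρ, hρ, hfg⟩ := Algebra.FinitePresentation.out (R := A) (A := S)
  obtain ⟨m, f, hf⟩ := Submodule.fg_iff_exists_fin_generating_family.1 hfg
  have hker : RingHom.ker ρ.toRingHom = Ideal.span (Set.range f) := hf.symm
  have hf0 : ∀ j, ρ (f j) = 0 := by
    intro j
    have : f j ∈ RingHom.ker ρ.toRingHom := by rw [hker]; exact Ideal.subset_span ⟨j, rfl⟩
    exact this
  obtain ⟨ct, rfl⟩ := hρ c
  -- generators of the singular ideal of `A`
  haveI : IsNoetherianRing A := Algebra.FiniteType.isNoetherianRing R A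
  obtain ⟨r, a, ha⟩ := Submodule.fg_iff_exists_fin_generating_family.1
    (IsNoetherian.noetherian (singularIdeal R A))
  have ha' : Ideal.span (Set.range a) = singularIdeal R A := ha
  have ha_mem : ∀ i, a i ∈ singularIdeal R A := fun i => by
    rw [← ha']; exact Ideal.subset_span ⟨i, rfl⟩
  -- nilpotency
  have hφa : ∀ i, φ (a i) ∈ 𝔮 := by
    intro i
    apply hmin.1.2
    exact Ideal.le_radical (Ideal.mem_map_of_mem _ (ha_mem i))
  have hnil : ∀ i, ∃ N : ℕ, ∃ l, l ∉ 𝔮 ∧ l * φ (a i) ^ N = 0 := by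
    intro i
    have h1 : algebraMap Λ Λq (φ (a i)) ∈ IsLocalRing.maximalIdeal Λq :=
      (IsLocalization.AtPrime.to_map_mem_maximal_iff Λq 𝔮 _).2 (hφa i)
    obtain ⟨N, hN⟩ := Ring.KrullDimLE.isNilpotent_iff_mem_maximalIdeal.2 h1
    rw [← map_pow] at hN
    obtain ⟨⟨l, hl⟩, hl0⟩ := (IsLocalization.map_eq_zero_iff 𝔮.primeCompl Λq _).1 hN
    exact ⟨N, l, hl, hl0⟩
  choose Ni li hli hli0 using hnil
  set N := Finset.univ.sup Ni with hNdef
  obtain ⟨lam, hlam, hlam0⟩ := exists_notMem_forall_mul_eq_zero 𝔮 (fun i => φ (a i) ^ N) (by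
    intro i
    refine ⟨li i, hli i, ?_⟩
    have hle : Ni i ≤ N := Finset.le_sup (Finset.mem_univ i)
    rw [← Nat.sub_add_cancel hle, pow_add, ← mul_assoc, mul_comm (li i), mul_assoc, hli0,
      mul_zero])
  -- the algebra `B`
  set ev := dzEv (m := m) r ρ φ h (fun i => φ (a i) ^ N) lam with hev
  have hevJ : ∀ p ∈ dzJ r f, ev p = 0 := by
    intro p hp
    have hle : dzJ r f ≤ RingHom.ker ev.toRingHom := by
      rw [dzJ, Ideal.span_le]
      rintro _ (⟨j, rfl⟩ | ⟨i, rfl⟩)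
      · rw [SetLike.mem_coe, RingHom.mem_ker]
        show ev (dzF r f j) = 0
        rw [dzF, map_sub, hev, dzEv_inx r ρ φ h _ _ hgalg, hf0, map_zero, zero_sub, neg_eq_zero,
          map_sum]
        refine Finset.sum_eq_zero fun i _ => ?_
        rw [map_mul, dzEv_X, dzEv_X]
        simp only [dzValΛ, mul_zero]
      · rw [SetLike.mem_coe, RingHom.mem_ker]
        show ev (dzZY r i) = 0
        rw [dzZY, map_mul, hev, dzEv_X, dzEv_X]
        simp only [dzValΛ]
        exact hlam0 i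
    exact hle hp
  let β : DZB r f →ₐ[R] Λ := Ideal.Quotient.liftₐ (dzJ r f) ev hevJ
  have hβ : ∀ p, β (Ideal.Quotient.mk (dzJ r f) p) = ev p := fun _ => rfl
  -- smoothness statements
  have hsing_y : ∀ ℓ : Fin r, Ideal.Quotient.mk (dzJ r f) (C (a ℓ) * X (DZVar.y ℓ)) ∈
      singularIdeal R (DZB r f) := by
    intro ℓ
    rw [mem_singularIdeal_iff]
    intro Q _ hQ
    by_contra hmem
    apply hQ
    have hy : Ideal.Quotient.mk (dzJ r f) (X (DZVar.y ℓ)) ∉ Q := fun hh =>
      hmem (by rw [map_mul]; exact Ideal.mul_mem_left _ _ hh)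
    have ha : Ideal.Quotient.mk (dzJ r f) (C (a ℓ)) ∉ Q := fun hh =>
      hmem (by rw [map_mul]; exact Ideal.mul_mem_right _ _ hh)
    apply isSmoothAt_trans (A := A) Q
    · by_contra hns
      exact ha ((mem_singularIdeal_iff (a ℓ)).1 (ha_mem ℓ) _ hns)
    · exact dz_isSmoothAt_of_y r f ℓ Q hy
  have hsing_z : Ideal.Quotient.mk (dzJ r f) (X DZVar.z * dzInx r ct) ∈
      singularIdeal R (DZB r f) := by
    rw [mem_singularIdeal_iff]
    intro Q _ hQ
    by_contra hmem
    exact hQ (dz_isSmoothAt_of_z r ρ f hρ hker hf0 ct hc Q hmem)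
  refine ⟨DZB r f, inferInstance, inferInstance, ?_, IsScalarTower.toAlgHom R A (DZB r f), β,
    ?_, ?_, ?_⟩
  · exact Algebra.FinitePresentation.quotient
      ⟨Finset.univ.image (dzF r f) ∪ Finset.univ.image (dzZY r), by simp [dzJ]⟩
  · ext x
    show β (algebraMap A (DZB r f) x) = φ x
    have : algebraMap A (DZB r f) x = Ideal.Quotient.mk (dzJ r f) (C x) := rfl
    rw [this, hβ, hev, dzEv_C]
  · -- the singular radical grows
    rw [singRad, singRad]
    apply Ideal.radical_le_radical_iff.2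
    rw [← ha', Ideal.map_span, Ideal.span_le]
    rintro _ ⟨_, ⟨ℓ, rfl⟩, rfl⟩
    refine ⟨N + 1, ?_⟩
    have h1 : φ (a ℓ) ^ (N + 1) = β (Ideal.Quotient.mk (dzJ r f) (C (a ℓ) * X (DZVar.y ℓ))) := by
      rw [hβ, map_mul, hev, dzEv_C, dzEv_X]
      simp only [dzValΛ]
      rw [pow_succ']
    rw [h1]
    exact Ideal.mem_map_of_mem _ (hsing_y ℓ)
  · -- and is not contained in `𝔮`
    intro hle
    have h1 : β (Ideal.Quotient.mk (dzJ r f) (X DZVar.z * dzInx r ct)) ∈ 𝔮 :=
      hle (Ideal.le_radical (Ideal.mem_map_of_mem _ hsing_z))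
    rw [hβ, map_mul, hev, dzEv_X, dzEv_inx r ρ φ h _ _ hgalg] at h1
    simp only [dzValΛ] at h1
    rcases Ideal.IsPrime.mem_or_mem inferInstance h1 with h1 | h1
    · exact hlam h1
    · exact hc𝔮 h1

end Main

end Groth.Agent.Lib.Helper81.Pop
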