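import Mathlib
import Groth.Prelude.Def_Smoothing
import Groth.Agent.S2034
import Groth.Agent.Lib.Helper81.PopFieldInd

/-!
# Resolving a local problem over an Artinian local base with ind-smooth localization (helper81)
-/

set_option autoImplicit false
universe u

namespace Groth.Agent.Lib.Helper81.Pop

open Smoothing IsLocalRing TensorProduct

/-- If `A → Λ` factors through a smooth algebra then the problem is resolved at any prime. -/
theorem resolvable_of_factor_smooth {R A Λ B : Type u} [CommRing R] [CommRing A] [Algebra R A]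
    [CommRing Λ] [Algebra R Λ] (φ : A →ₐ[R] Λ) (𝔮 : Ideal Λ) [𝔮.IsPrime] [CommRing B]
    [Algebra R B] [Algebra.Smooth R B] (g : A →ₐ[R] B) (h : B →ₐ[R] Λ) (hgh : h.comp g = φ) :
    Resolvable R φ 𝔮 := by
  have htop : singRad R h = ⊤ := by
    rw [singRad, singularIdeal_eq_top_of_smooth, Ideal.map_top, Ideal.radical_top]
  refine ⟨B, inferInstance, inferInstance, inferInstance, g, h, hgh, ?_, ?_⟩
  · rw [htop]; exact le_top
  · rw [htop]
    intro hle
    exact (‹𝔮.IsPrime›).ne_top (top_le_iff.1 hle)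

theorem resolvable_of_indSmooth_localization {R₀ A₀ Λ₀ : Type u} [CommRing R₀]
    [IsNoetherianRing R₀] [IsLocalRing R₀] (hnil : IsNilpotent (maximalIdeal R₀)) [CommRing A₀]
    [Algebra R₀ A₀] [Algebra.FinitePresentation R₀ A₀] [CommRing Λ₀] [Algebra R₀ Λ₀]
    (φ₀ : A₀ →ₐ[R₀] Λ₀) (𝔮₀ : Ideal Λ₀) [𝔮₀.IsPrime] (Λq : Type u) [CommRing Λq] [Algebra Λ₀ Λq]
    [IsLocalization.AtPrime Λq 𝔮₀] [Algebra R₀ Λq] [IsScalarTower R₀ Λ₀ Λq]
    (hdim : ringKrullDim Λq = 0) (hind : IndSmooth R₀ Λq) : Resolvable R₀ φ₀ 𝔮₀ := by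
  by_cases hle : singRad R₀ φ₀ ≤ 𝔮₀
  swap
  · exact ⟨A₀, inferInstance, inferInstance, inferInstance, AlgHom.id R₀ A₀, φ₀,
      AlgHom.comp_id φ₀, le_rfl, hle⟩
  haveI : IsLocalRing Λq := IsLocalization.AtPrime.isLocalRing Λq 𝔮₀
  haveI : Ring.KrullDimLE 0 Λq := ringKrullDimZero_iff_ringKrullDim_eq_zero.2 hdim
  -- `𝔮₀` is a minimal prime
  have hmin : 𝔮₀ ∈ (singRad R₀ φ₀).minimalPrimes := by
    refine ⟨⟨inferInstance, hle⟩, ?_⟩
    rintro P ⟨hP, -⟩ hPq
    have hdisj : Disjoint (𝔮₀.primeCompl : Set Λ₀) (P : Set Λ₀) := by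
      rw [Set.disjoint_left]
      intro x hx hxP
      exact hx (hPq hxP)
    have hPmap : (P.map (algebraMap Λ₀ Λq)).IsPrime :=
      IsLocalization.isPrime_of_isPrime_disjoint 𝔮₀.primeCompl Λq P hP hdisj
    have hmax : (P.map (algebraMap Λ₀ Λq)).IsMaximal := hPmap.isMaximal'
    have heq : P.map (algebraMap Λ₀ Λq) = 𝔮₀.map (algebraMap Λ₀ Λq) := by
      rw [IsLocalization.AtPrime.map_eq_maximalIdeal 𝔮₀ Λq]
      exact IsLocalRing.eq_maximalIdeal hmax
    have h1 := IsLocalization.under_map_of_isPrime_disjoint 𝔮₀.primeCompl Λq hP hdisj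
    have h2 := IsLocalization.under_map_of_isPrime_disjoint 𝔮₀.primeCompl Λq
      (inferInstance : 𝔮₀.IsPrime) (by
        rw [Set.disjoint_left]
        intro x hx hxq
        exact hx hxq)
    rw [heq, h2] at h1
    exact h1.le
  -- `R₀` is its own localization at the contraction of `𝔮₀`
  haveI : IsLocalization.AtPrime R₀ (𝔮₀.comap (algebraMap R₀ Λ₀)) := by
    refine IsLocalization.of_le_isUnit ?_
    intro x hx
    change x ∉ 𝔮₀.comap (algebraMap R₀ Λ₀) at hx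
    by_contra hxu
    apply hx
    have hxm : x ∈ maximalIdeal R₀ := hxu
    obtain ⟨n, hn⟩ := hnil
    have hxn : x ^ n = 0 := by
      have : x ^ n ∈ maximalIdeal R₀ ^ n := Ideal.pow_mem_pow hxm n
      rw [hn] at this
      exact this
    apply Ideal.IsPrime.mem_of_pow_mem (inferInstance : (𝔮₀.comap (algebraMap R₀ Λ₀)).IsPrime) n
    rw [hxn]
    exact zero_mem _
  refine Groth.Agent.S2034.result (Rₚ := R₀) (Λq := Λq) φ₀ 𝔮₀ hmin hdim ?_
  obtain ⟨B, _, _, hsm, g, h, hgh⟩ := hind (R₀ ⊗[R₀] A₀) inferInstance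
    (Algebra.TensorProduct.lift (Algebra.ofId R₀ Λq) ((IsScalarTower.toAlgHom R₀ Λ₀ Λq).comp φ₀)
        (fun _ _ => Commute.all _ _))
  haveI : (𝔮₀.map (algebraMap Λ₀ Λq)).IsPrime :=
    (IsLocalization.AtPrime.isMaximal_map 𝔮₀ Λq).isPrime
  exact resolvable_of_factor_smooth _ _ g h hgh

end Groth.Agent.Lib.Helper81.Pop
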