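import Mathlib
import Groth.Prelude.Def_Smoothing
import Groth.Agent.Lib.Helper81.PopLocal
import Groth.Agent.Lib.Helper81.PopFinalStep

/-!
# Pieces for the assembly of the separable residue field case (helper81)
-/

set_option autoImplicit false
set_option linter.style.haveILetI false
universe u

namespace Groth.Agent.Lib.Helper81.Pop

open MvPolynomial Smoothing IsLocalRing

/-- the map induced on quotients by an ideal of the base, as a map of algebras over the quotient
of the base -/
theorem exists_quotientMapAlgHom {R A Λ : Type u} [CommRing R] [CommRing A] [Algebra R A]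
    [CommRing Λ] [Algebra R Λ] (φ : A →ₐ[R] Λ) (K : Ideal R) :
    ∃ φK : (A ⧸ K.map (algebraMap R A)) →ₐ[R ⧸ K] (Λ ⧸ K.map (algebraMap R Λ)),
      ∀ a, φK (Ideal.Quotient.mk _ a) = Ideal.Quotient.mk _ (φ a) := by
  have hle : K.map (algebraMap R A) ≤ (K.map (algebraMap R Λ)).comap φ.toRingHom := by
    rw [Ideal.map_le_iff_le_comap]
    intro r hr
    rw [Ideal.mem_comap, Ideal.mem_comap]
    change φ (algebraMap R A r) ∈ _
    rw [AlgHom.commutes]
    exact Ideal.mem_map_of_mem _ hr
  refine ⟨{ Ideal.quotientMap (K.map (algebraMap R Λ)) φ.toRingHom hle with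
    commutes' := ?_ }, fun a => rfl⟩
  intro rbar
  obtain ⟨r, rfl⟩ := Ideal.Quotient.mk_surjective rbar
  change Ideal.quotientMap (K.map (algebraMap R Λ)) φ.toRingHom hle
    (Ideal.Quotient.mk _ (algebraMap R A r)) = Ideal.Quotient.mk _ (algebraMap R Λ r)
  rw [Ideal.quotientMap_mk]
  change Ideal.Quotient.mk _ (φ (algebraMap R A r)) = _
  rw [AlgHom.commutes]

theorem finitePresentation_quotient_map {R C : Type u} [CommRing R] [IsNoetherianRing R]
    [CommRing C] [Algebra R C] [Algebra.FinitePresentation R C] (K : Ideal R) :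
    Algebra.FinitePresentation (R ⧸ K) (C ⧸ K.map (algebraMap R C)) := by
  haveI : Algebra.FinitePresentation R (C ⧸ K.map (algebraMap R C)) :=
    Algebra.FinitePresentation.quotient (Ideal.FG.map (IsNoetherian.noetherian K) _)
  haveI : Algebra.FiniteType R (R ⧸ K) :=
    Algebra.FiniteType.of_surjective (Algebra.ofId R (R ⧸ K)) Ideal.Quotient.mk_surjective
  exact Algebra.FinitePresentation.of_restrict_scalars_finitePresentation (R := R) (A := R ⧸ K)
    (B := C ⧸ K.map (algebraMap R C))

/-- smoothness at a prime over a formally smooth base passes to the smaller base -/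
theorem singularIdeal_le_of_formallySmooth {k R D : Type u} [CommRing k] [CommRing R]
    [Algebra k R] [Algebra.FormallySmooth k R] [CommRing D] [Algebra R D] [Algebra k D]
    [IsScalarTower k R D] : singularIdeal R D ≤ singularIdeal k D := by
  intro c hc
  rw [mem_singularIdeal_iff] at hc ⊢
  intro Q _ hQ
  apply hc Q
  intro hsm
  apply hQ
  haveI : IsScalarTower k R (Localization.AtPrime Q) := IsScalarTower.of_algebraMap_eq fun y => by
    rw [IsScalarTower.algebraMap_apply k D (Localization.AtPrime Q),
      IsScalarTower.algebraMap_apply R D (Localization.AtPrime Q),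
      IsScalarTower.algebraMap_apply k R D]
  haveI : Algebra.FormallySmooth R (Localization.AtPrime Q) := hsm
  exact Algebra.FormallySmooth.comp k R (Localization.AtPrime Q)

/-- transfer of a resolution from a smooth base to the ground ring -/
theorem resolvable_of_resolvable_tower {k R A C Λ : Type u} [CommRing k] [CommRing R]
    [Algebra k R] [Algebra.FinitePresentation k R] [Algebra.FormallySmooth k R]
    [CommRing A] [Algebra k A] [CommRing C] [Algebra R C] [CommRing Λ] [Algebra k Λ]
    [Algebra R Λ] [IsScalarTower k R Λ]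
    (φ : A →ₐ[k] Λ) (ι : A →+* C) (φC : C →ₐ[R] Λ) (hι : ∀ a, φC (ι a) = φ a)
    (hιk : ∀ c : k, ι (algebraMap k A c) = algebraMap R C (algebraMap k R c))
    (𝔮 : Ideal Λ)
    (hsing : ∀ a ∈ singularIdeal k A, ι a ∈ singularIdeal R C)
    (hres : Resolvable R φC 𝔮) : Resolvable k φ 𝔮 := by
  obtain ⟨D, _, _, hfp, g, h, hgh, h1, h2⟩ := hres
  letI algkD : Algebra k D := ((algebraMap R D).comp (algebraMap k R)).toAlgebra
  haveI : IsScalarTower k R D := IsScalarTower.of_algebraMap_eq (fun _ => rfl)
  haveI : Algebra.FinitePresentation k D := Algebra.FinitePresentation.trans k R D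
  let g' : A →ₐ[k] D :=
    { (g.toRingHom.comp ι) with
      commutes' := fun c => by
        change g (ι (algebraMap k A c)) = algebraMap R D (algebraMap k R c)
        rw [hιk, AlgHom.commutes] }
  let h' : D →ₐ[k] Λ := h.restrictScalars k
  have hle : singRad R h ≤ singRad k h' := by
    apply Ideal.radical_mono
    rw [Ideal.map_le_iff_le_comap]
    intro y hy
    rw [Ideal.mem_comap]
    exact Ideal.mem_map_of_mem h' (singularIdeal_le_of_formallySmooth (k := k) hy)
  refine ⟨D, inferInstance, algkD, inferInstance, g', h', ?_, ?_, ?_⟩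
  · ext a
    change h (g (ι a)) = φ a
    rw [← hι]
    exact congrArg (fun F : C →ₐ[R] Λ => F (ι a)) hgh
  · refine le_trans ?_ (le_trans h1 hle)
    apply Ideal.radical_mono
    rw [Ideal.map_le_iff_le_comap]
    intro a ha
    rw [Ideal.mem_comap, ← hι]
    exact Ideal.mem_map_of_mem φC (hsing a ha)
  · intro hq
    exact h2 (hle.trans hq)

/-- the case of dimension zero over a field -/
theorem resolvable_of_spanFinrank_eq_zero {k A Λ : Type u} [Field k] [CommRing A] [Algebra k A]
    [Algebra.FinitePresentation k A] [CommRing Λ] [Algebra k Λ] [IsNoetherianRing Λ]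
    (φ : A →ₐ[k] Λ) (𝔮 : Ideal Λ) [𝔮.IsPrime]
    (hd : (maximalIdeal (Localization.AtPrime 𝔮)).spanFinrank = 0)
    [Algebra.IsGeometricallyReduced k 𝔮.ResidueField] : Resolvable k φ 𝔮 := by
  have hbot : maximalIdeal (Localization.AtPrime 𝔮) = ⊥ :=
    (Submodule.spanFinrank_eq_zero_iff_eq_bot
      (maximalIdeal (Localization.AtPrime 𝔮)).fg_of_isNoetherianRing).1 hd
  have hfield : IsField (Localization.AtPrime 𝔮) := IsLocalRing.isField_iff_maximalIdeal_eq.2 hbot
  have hdim : ringKrullDim (Localization.AtPrime 𝔮) = 0 := ringKrullDim_eq_zero_of_isField hfield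
  have hinj : Function.Injective (IsScalarTower.toAlgHom k (Localization.AtPrime 𝔮)
      𝔮.ResidueField) := by
    letI := hfield.toField
    exact RingHom.injective
      (IsScalarTower.toAlgHom k (Localization.AtPrime 𝔮) 𝔮.ResidueField).toRingHom
  haveI : Algebra.IsGeometricallyReduced k (Localization.AtPrime 𝔮) :=
    Algebra.IsGeometricallyReduced.of_injective _ hinj
  have hind : IndSmooth k (Localization.AtPrime 𝔮) :=
    indSmooth_of_isGeometricallyReduced (k := k) (K₀ := k) (Field.toIsField k) hfield
      Function.surjective_id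
  have hnil : IsNilpotent (maximalIdeal k) := by
    rw [IsLocalRing.maximalIdeal_eq_bot]
    exact ⟨1, pow_one _⟩
  exact resolvable_of_indSmooth_localization hnil φ 𝔮 (Localization.AtPrime 𝔮) hdim hind

section
variable {k : Type u} [CommRing k] {d : ℕ}

/-- In a polynomial ring, a power of a variable is a nonzerodivisor modulo powers of the
previous variables. -/
theorem mem_span_X_pow_of_X_pow_mul_mem (i : Fin d) (e N : ℕ) (y : MvPolynomial (Fin d) k)
    (h : X i ^ e * y ∈ Ideal.span (Set.range fun j : {j : Fin d // (j : ℕ) < (i : ℕ)} =>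
      (X (j : Fin d) : MvPolynomial (Fin d) k) ^ N)) :
    y ∈ Ideal.span (Set.range fun j : {j : Fin d // (j : ℕ) < (i : ℕ)} =>
      (X (j : Fin d) : MvPolynomial (Fin d) k) ^ N) := by
  classical
  have hset : (Set.range fun j : {j : Fin d // (j : ℕ) < (i : ℕ)} =>
      (X (j : Fin d) : MvPolynomial (Fin d) k) ^ N) =
      (fun s => monomial s (1 : k)) ''
        (Set.range fun j : {j : Fin d // (j : ℕ) < (i : ℕ)} => Finsupp.single (j : Fin d) N) := by
    rw [← Set.range_comp]
    congr 1
    funext j
    exact X_pow_eq_monomial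
  rw [hset, mem_ideal_span_monomial_image] at h ⊢
  intro m hm
  have hm' : Finsupp.single i e + m ∈ (X i ^ e * y).support := by
    rw [mem_support_iff, X_pow_eq_monomial, coeff_monomial_mul, one_mul]
    exact mem_support_iff.1 hm
  obtain ⟨_, ⟨j, rfl⟩, hj⟩ := h _ hm'
  refine ⟨_, ⟨j, rfl⟩, ?_⟩
  have hji : (j : Fin d) ≠ i := fun h => by
    have := j.2
    rw [h] at this
    exact lt_irrefl _ this
  rw [Finsupp.single_le_iff] at hj ⊢
  rw [Finsupp.add_apply, Finsupp.single_apply, if_neg (fun h => hji h.symm), zero_add] at hj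
  exact hj

end

section
variable {Λ : Type u} [CommRing Λ]

theorem mul_mem_of_pow_mul_mem (J : Ideal Λ) (p : Λ) (h : ∀ y, p ^ 2 * y ∈ J → p * y ∈ J) :
    ∀ (m : ℕ), 1 ≤ m → ∀ y, p ^ m * y ∈ J → p * y ∈ J := by
  intro m
  induction m with
  | zero => intro h0; omega
  | succ m ih =>
    intro _ y hy
    by_cases hm : m = 0
    · subst hm
      simpa using hy
    · apply ih (by omega)
      have h1 : p ^ (m + 1) * y = p ^ 2 * (p ^ (m - 1) * y) := by
        rw [← mul_assoc, ← pow_add]
        congr 2
        omega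
      rw [h1] at hy
      have h2 := h _ hy
      have h3 : p * (p ^ (m - 1) * y) = p ^ m * y := by
        rw [← mul_assoc, ← pow_succ']
        congr 2
        omega
      rwa [h3] at h2

theorem pow_mul_mem_of_pow_sq_mul_mem (J : Ideal Λ) (p : Λ) (h : ∀ y, p ^ 2 * y ∈ J → p * y ∈ J)
    (c : ℕ) (hc : 1 ≤ c) (y : Λ) (hy : (p ^ c) ^ 2 * y ∈ J) : p ^ c * y ∈ J := by
  have h1 : p * y ∈ J := by
    refine mul_mem_of_pow_mul_mem J p h (c * 2) (by omega) y ?_
    rwa [pow_mul]
  have h2 : p ^ c * y = p ^ (c - 1) * (p * y) := by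
    rw [← mul_assoc, ← pow_succ]
    congr 2
    omega
  rw [h2]
  exact Ideal.mul_mem_left _ _ h1

end

end Groth.Agent.Lib.Helper81.Pop
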