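import Mathlib
import Groth.Prelude.Def_Smoothing
import Groth.Agent.S2026
import Groth.Agent.S6829
import Groth.Agent.Lib.Helper81.PopJac
import Groth.Agent.Lib.Helper81.PopLocal2

/-!
# The auxiliary algebra `B = (R ⊗ A)[z]/(x_i^n - ∑ a_j z_ij)` (helper81)
-/

set_option autoImplicit false
set_option linter.style.haveILetI false
universe u

namespace Groth.Agent.Lib.Helper81.Pop

open MvPolynomial Smoothing TensorProduct

section
variable {k : Type u} [CommRing k] {R : Type u} [CommRing R] [Algebra k R] {d : ℕ} (x : Fin d → R)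
  {A : Type u} [CommRing A] [Algebra k A] {r : ℕ} (a : Fin r → A) (n : ℕ)

/-- the defining relations of `B` -/
noncomputable def relB (i : Fin d) : MvPolynomial (Fin d × Fin r) (R ⊗[k] A) :=
  C (x i ⊗ₜ[k] (1 : A)) ^ n - ∑ j, C ((1 : R) ⊗ₜ[k] a j) * X (i, j)

/-- the algebra `B` (a type synonym, so that instance search only sees the instances declared
below) -/
def BAlg : Type u :=
  MvPolynomial (Fin d × Fin r) (R ⊗[k] A) ⧸ Ideal.span (Set.range (relB (k := k) x a n))

noncomputable instance : CommRing (BAlg (k := k) x a n) :=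
  inferInstanceAs (CommRing (MvPolynomial (Fin d × Fin r) (R ⊗[k] A) ⧸
    Ideal.span (Set.range (relB (k := k) x a n))))

noncomputable instance : Algebra (R ⊗[k] A) (BAlg (k := k) x a n) :=
  inferInstanceAs (Algebra (R ⊗[k] A) (MvPolynomial (Fin d × Fin r) (R ⊗[k] A) ⧸
    Ideal.span (Set.range (relB (k := k) x a n))))

noncomputable instance : Algebra R (BAlg (k := k) x a n) :=
  inferInstanceAs (Algebra R (MvPolynomial (Fin d × Fin r) (R ⊗[k] A) ⧸
    Ideal.span (Set.range (relB (k := k) x a n))))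

noncomputable instance : Algebra k (BAlg (k := k) x a n) :=
  inferInstanceAs (Algebra k (MvPolynomial (Fin d × Fin r) (R ⊗[k] A) ⧸
    Ideal.span (Set.range (relB (k := k) x a n))))

instance : IsScalarTower k R (BAlg (k := k) x a n) :=
  inferInstanceAs (IsScalarTower k R (MvPolynomial (Fin d × Fin r) (R ⊗[k] A) ⧸
    Ideal.span (Set.range (relB (k := k) x a n))))

instance : IsScalarTower k (R ⊗[k] A) (BAlg (k := k) x a n) :=
  inferInstanceAs (IsScalarTower k (R ⊗[k] A) (MvPolynomial (Fin d × Fin r) (R ⊗[k] A) ⧸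
    Ideal.span (Set.range (relB (k := k) x a n))))

instance : IsScalarTower R (R ⊗[k] A) (BAlg (k := k) x a n) :=
  inferInstanceAs (IsScalarTower R (R ⊗[k] A) (MvPolynomial (Fin d × Fin r) (R ⊗[k] A) ⧸
    Ideal.span (Set.range (relB (k := k) x a n))))

/-- the quotient map onto `B` -/
noncomputable def mkB : MvPolynomial (Fin d × Fin r) (R ⊗[k] A) →ₐ[R ⊗[k] A] BAlg (k := k) x a n :=
  Ideal.Quotient.mkₐ (R ⊗[k] A) (Ideal.span (Set.range (relB (k := k) x a n)))

theorem mkB_surjective : Function.Surjective (mkB (k := k) x a n) :=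
  Ideal.Quotient.mk_surjective

theorem mkB_eq_zero_iff (p : MvPolynomial (Fin d × Fin r) (R ⊗[k] A)) :
    mkB (k := k) x a n p = 0 ↔ p ∈ Ideal.span (Set.range (relB (k := k) x a n)) :=
  Ideal.Quotient.eq_zero_iff_mem

theorem pderiv_relB (i i' : Fin d) (j : Fin r) :
    pderiv (i', j) (relB (k := k) x a n i) =
      if i = i' then - C ((1 : R) ⊗ₜ[k] a j) else 0 := by
  classical
  rw [relB, map_sub, map_sum]
  have h1 : pderiv (i', j) (C (x i ⊗ₜ[k] (1 : A)) ^ n :
      MvPolynomial (Fin d × Fin r) (R ⊗[k] A)) = 0 := by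
    rw [← C_pow, pderiv_C]
  have h2 : ∀ j' : Fin r, pderiv (i', j) (C ((1 : R) ⊗ₜ[k] a j') * X (i, j') :
      MvPolynomial (Fin d × Fin r) (R ⊗[k] A)) =
      if (i, j') = (i', j) then C ((1 : R) ⊗ₜ[k] a j') else 0 := by
    intro j'
    rw [Derivation.leibniz, pderiv_C, pderiv_X, smul_zero, add_zero, smul_eq_mul]
    by_cases h : (i, j') = (i', j)
    · rw [if_pos h, Pi.single_apply, if_pos h, mul_one]
    · rw [if_neg h, Pi.single_apply, if_neg h, mul_zero]
  rw [h1, zero_sub]
  simp only [h2]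
  by_cases hi : i = i'
  · subst hi
    rw [if_pos rfl]
    congr 1
    rw [Finset.sum_eq_single j]
    · rw [if_pos rfl]
    · intro j' _ hj'
      rw [if_neg]
      intro h
      exact hj' (Prod.ext_iff.1 h).2
    · intro h; exact absurd (Finset.mem_univ j) h
  · rw [if_neg hi, Finset.sum_eq_zero, neg_zero]
    intro j' _
    rw [if_neg]
    intro h
    exact hi (Prod.ext_iff.1 h).1

end

section
variable {k : Type u} [CommRing k] {R : Type u} [CommRing R] [Algebra k R] {d : ℕ} (x : Fin d → R)
  {A : Type u} [CommRing A] [Algebra k A]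
  {r : ℕ} (a : Fin r → A) (n : ℕ)

instance [Algebra.FinitePresentation k A] :
    Algebra.FinitePresentation (R ⊗[k] A) (BAlg (k := k) x a n) :=
  Algebra.FinitePresentation.quotient (Submodule.fg_span (Set.finite_range _))

instance [Algebra.FinitePresentation k A] : Algebra.FinitePresentation R (BAlg (k := k) x a n) :=
  Algebra.FinitePresentation.trans R (R ⊗[k] A) (BAlg (k := k) x a n)

/-- the map `A → B` -/
noncomputable def ιB : A →ₐ[k] BAlg (k := k) x a n :=
  (IsScalarTower.toAlgHom k (R ⊗[k] A) (BAlg (k := k) x a n)).comp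
    Algebra.TensorProduct.includeRight

theorem ιB_apply (y : A) : ιB (k := k) x a n y = mkB (k := k) x a n (C ((1 : R) ⊗ₜ[k] y)) := rfl

theorem algebraMap_BAlg (y : R) : algebraMap R (BAlg (k := k) x a n) y =
    mkB (k := k) x a n (C (y ⊗ₜ[k] (1 : A))) := rfl

theorem algebraMap_tensor_BAlg (t : R ⊗[k] A) : algebraMap (R ⊗[k] A) (BAlg (k := k) x a n) t =
    mkB (k := k) x a n (C t) := rfl

/-- the relation in `B` -/
theorem relation_BAlg (i : Fin d) : algebraMap R (BAlg (k := k) x a n) (x i) ^ n =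
    ∑ j, ιB (k := k) x a n (a j) * mkB (k := k) x a n (X (i, j)) := by
  have h : mkB (k := k) x a n (relB (k := k) x a n i) = 0 :=
    (mkB_eq_zero_iff x a n _).2 (Ideal.subset_span ⟨i, rfl⟩)
  rw [relB, map_sub, sub_eq_zero, map_pow, map_sum] at h
  rw [algebraMap_BAlg, h]
  refine Finset.sum_congr rfl fun j _ => ?_
  rw [map_mul, ιB_apply]

theorem pow_mem_span_BAlg (i : Fin d) : algebraMap R (BAlg (k := k) x a n) (x i) ^ n ∈
    Ideal.span (Set.range fun j => ιB (k := k) x a n (a j)) := by
  rw [relation_BAlg]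
  refine Ideal.sum_mem _ fun j _ => ?_
  exact Ideal.mul_mem_right _ _ (Ideal.subset_span ⟨j, rfl⟩)

section toΛ
variable {Λ : Type u} [CommRing Λ] [Algebra k Λ] [Algebra R Λ] [IsScalarTower k R Λ]
  (φ : A →ₐ[k] Λ) (lam : Fin d → Fin r → Λ)
  (hlam : ∀ i, algebraMap R Λ (x i) ^ n = ∑ j, φ (a j) * lam i j)

/-- the map `R ⊗ A → Λ` -/
noncomputable def τB : R ⊗[k] A →ₐ[R] Λ :=
  Algebra.TensorProduct.lift (Algebra.ofId R Λ) φ (fun _ _ => Commute.all _ _)

/-- the map `B → Λ` -/
noncomputable def βB : BAlg (k := k) x a n →ₐ[R] Λ :=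
  Ideal.Quotient.liftₐ (Ideal.span (Set.range (relB (k := k) x a n)))
    (MvPolynomial.aevalTower (τB φ) (fun p : Fin d × Fin r => lam p.1 p.2)) (by
      intro p hp
      have hle : Ideal.span (Set.range (relB (k := k) x a n)) ≤
          RingHom.ker (MvPolynomial.aevalTower (τB (R := R) φ)
            (fun p : Fin d × Fin r => lam p.1 p.2)).toRingHom := by
        rw [Ideal.span_le]
        rintro _ ⟨i, rfl⟩
        rw [SetLike.mem_coe, RingHom.mem_ker]
        change (MvPolynomial.aevalTower (τB (R := R) φ)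
            (fun p : Fin d × Fin r => lam p.1 p.2)) (relB (k := k) x a n i) = 0
        rw [relB, map_sub, map_pow, map_sum, aevalTower_C, sub_eq_zero]
        simp only [map_mul, aevalTower_C, aevalTower_X, τB, Algebra.TensorProduct.lift_tmul,
          map_one, one_mul, mul_one, Algebra.ofId_apply]
        exact hlam i
      exact hle hp)

theorem βB_mkB (p : MvPolynomial (Fin d × Fin r) (R ⊗[k] A)) :
    βB (k := k) x a n φ lam hlam (mkB (k := k) x a n p) =
      MvPolynomial.aevalTower (τB φ) (fun p : Fin d × Fin r => lam p.1 p.2) p := rfl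

theorem βB_ιB (y : A) : βB (k := k) x a n φ lam hlam (ιB (k := k) x a n y) = φ y := by
  rw [ιB_apply, βB_mkB, aevalTower_C, τB, Algebra.TensorProduct.lift_tmul, map_one, one_mul]

end toΛ

section smooth

theorem det_jac_relB (j : Fin r) :
    Matrix.det (Matrix.of fun i i' : Fin d => pderiv ((fun t : Fin d => (t, j)) i')
      (relB (k := k) x a n i)) = (- C ((1 : R) ⊗ₜ[k] a j)) ^ d := by
  have h : (Matrix.of fun i i' : Fin d => pderiv ((fun t : Fin d => (t, j)) i')
      (relB (k := k) x a n i)) =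
      Matrix.diagonal (fun _ : Fin d => - C ((1 : R) ⊗ₜ[k] a j)) := by
    ext i i'
    rw [Matrix.of_apply, pderiv_relB, Matrix.diagonal_apply]
  rw [h, Matrix.det_diagonal, Finset.prod_const, Finset.card_univ, Fintype.card_fin]

variable [Algebra.FinitePresentation k A]

theorem isSmoothAt_BAlg (j : Fin r) (haj : IsStrictlyStandard k A (a j))
    (Q : Ideal (BAlg (k := k) x a n)) [Q.IsPrime] (hQ : ιB (k := k) x a n (a j) ∉ Q) :
    Algebra.IsSmoothAt R Q := by
  classical
  refine isSmoothAt_trans (R := R) (A := R ⊗[k] A) Q ?_ ?_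
  · refine Groth.Agent.S2026.isSmoothAt_of_isStrictlyStandard ((1 : R) ⊗ₜ[k] a j)
      ((Groth.Agent.S6829.result (R' := R) (a j)).2 haj) _ ?_
    intro h
    exact hQ h
  · set b : BAlg (k := k) x a n := mkB (k := k) x a n
      (Matrix.det (Matrix.of fun i i' : Fin d => pderiv ((fun t : Fin d => (t, j)) i')
        (relB (k := k) x a n i))) with hb
    have hss : Algebra.IsStandardSmooth (R ⊗[k] A) (Localization.Away b) :=
      isStandardSmooth_away_of_dvd (relB (k := k) x a n) (fun t : Fin d => (t, j))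
        (fun t t' h => (Prod.ext_iff.1 h).1) b (dvd_refl _)
    have hsub := (Algebra.basicOpen_subset_smoothLocus_iff (R := R ⊗[k] A)
      (A := BAlg (k := k) x a n) (f := b)).2 inferInstance
    have hmem : (⟨Q, inferInstance⟩ : PrimeSpectrum (BAlg (k := k) x a n)) ∈
        (PrimeSpectrum.basicOpen b : Set (PrimeSpectrum (BAlg (k := k) x a n))) := by
      rw [SetLike.mem_coe, PrimeSpectrum.mem_basicOpen]
      intro hbQ
      rw [hb, det_jac_relB, map_pow, map_neg] at hbQ
      have h1 := Ideal.IsPrime.mem_of_pow_mem inferInstance d hbQ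
      rw [neg_mem_iff] at h1
      exact hQ h1
    exact hsub hmem

end smooth

end
end Groth.Agent.Lib.Helper81.Pop
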