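import Mathlib

/-!
# Right inverses of rectangular matrices and maximal minors (helper81)
-/

set_option autoImplicit false

namespace Groth.Agent.Lib.Helper81.Pop

open Matrix

section
variable {B : Type*} [CommRing B] {m n : Type*} [Fintype m] [Fintype n] [DecidableEq m]
  [DecidableEq n]

/-- If a combination of the maximal minors is `1`, the matrix has a right inverse. -/
theorem exists_right_inverse_of_minors (M : Matrix m n B) (coef : (m → n) → B)
    (h : ∑ g : m → n, coef g * (M.submatrix id g).det = 1) :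
    ∃ N : Matrix n m B, M * N = 1 := by
  let E : (m → n) → Matrix n m B := fun g => Matrix.of fun i k => if i = g k then 1 else 0
  have hME : ∀ g, M * E g = M.submatrix id g := by
    intro g
    apply Matrix.ext
    intro j k
    simp only [Matrix.mul_apply, E, Matrix.of_apply, mul_ite, mul_one, mul_zero,
      Finset.sum_ite_eq', Finset.mem_univ, if_true, Matrix.submatrix_apply, id_eq]
  refine ⟨∑ g : m → n, coef g • (E g * (M.submatrix id g).adjugate), ?_⟩
  rw [Matrix.mul_sum]
  have : ∀ g : m → n, M * (coef g • (E g * (M.submatrix id g).adjugate)) =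
      (coef g * (M.submatrix id g).det) • (1 : Matrix m m B) := by
    intro g
    rw [Matrix.mul_smul, ← Matrix.mul_assoc, hME, Matrix.mul_adjugate, smul_smul]
  simp only [this]
  rw [← Finset.sum_smul, h, one_smul]

/-- If a rectangular matrix has a right inverse, its maximal minors generate the unit ideal. -/
theorem one_mem_span_minors_of_right_inverse (M : Matrix m n B) (N : Matrix n m B)
    (h : M * N = 1) :
    (1 : B) ∈ Ideal.span (Set.range fun g : m → n => (M.submatrix id g).det) := by
  have h1 : (Nᵀ * Mᵀ).det = 1 := by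
    rw [← Matrix.transpose_mul, h, Matrix.transpose_one, Matrix.det_one]
  have h2 : (Nᵀ * Mᵀ) = fun k => ∑ i, Nᵀ k i • Mᵀ i := by
    funext k j
    simp only [Matrix.mul_apply, Finset.sum_apply, Pi.smul_apply, smul_eq_mul]
  have h3 : (Nᵀ * Mᵀ).det = ∑ g : m → n, (∏ k, Nᵀ k (g k)) * (M.submatrix id g).det := by
    have h5 := (Matrix.detRowAlternating (n := m) (R := B)).toMultilinearMap.map_sum
      (fun k i => Nᵀ k i • Mᵀ i)
    have h6 : (Nᵀ * Mᵀ).det = (Matrix.detRowAlternating (n := m) (R := B)).toMultilinearMap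
        (fun k => ∑ i, Nᵀ k i • Mᵀ i) := by
      rw [← h2]; rfl
    rw [h6, h5]
    refine Finset.sum_congr rfl fun g _ => ?_
    have h4 := (Matrix.detRowAlternating (n := m) (R := B)).toMultilinearMap.map_smul_univ
      (fun k => Nᵀ k (g k)) (fun k => Mᵀ (g k))
    refine h4.trans ?_
    rw [smul_eq_mul]
    congr 1
    change Matrix.det (fun k => Mᵀ (g k)) = _
    rw [← Matrix.det_transpose (M.submatrix id g)]
    rfl
  rw [← h1, h3]
  exact Ideal.sum_mem _ fun g _ => Ideal.mul_mem_left _ _ (Ideal.subset_span ⟨g, rfl⟩)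

end

section
variable {B : Type*} [CommRing B] {Ω : Type*} [AddCommGroup Ω] [Module B Ω]
  {m n : Type*} [Fintype m] [Fintype n] [DecidableEq m] [DecidableEq n]

/-- A surjection from a free module whose kernel is the row space of a matrix with a right inverse
has stably free target. -/
theorem nonempty_linearEquiv_of_right_inverse (π : (n → B) →ₗ[B] Ω) (hπ : Function.Surjective π)
    (M : Matrix m n B) (N : Matrix n m B) (hMN : M * N = 1)
    (hker : ∀ w, π w = 0 ↔ ∃ v : m → B, v ᵥ* M = w) :
    Nonempty ((Ω × (m → B)) ≃ₗ[B] (n → B)) := by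
  let Φ : (n → B) →ₗ[B] Ω × (m → B) := π.prod (Matrix.vecMulLinear N)
  have hσρ : ∀ v : m → B, (v ᵥ* M) ᵥ* N = v := by
    intro v
    rw [Matrix.vecMul_vecMul, hMN, Matrix.vecMul_one]
  have hinj : Function.Injective Φ := by
    rw [← LinearMap.ker_eq_bot, LinearMap.ker_eq_bot']
    intro w hw
    have h1 : π w = 0 := congrArg Prod.fst hw
    have h2 : w ᵥ* N = 0 := congrArg Prod.snd hw
    obtain ⟨v, rfl⟩ := (hker w).1 h1
    rw [hσρ] at h2
    rw [h2, Matrix.zero_vecMul]
  have hsurj : Function.Surjective Φ := by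
    rintro ⟨ω, v⟩
    obtain ⟨w₀, hw₀⟩ := hπ ω
    refine ⟨w₀ - (w₀ ᵥ* N) ᵥ* M + v ᵥ* M, ?_⟩
    have h1 : ∀ v' : m → B, π (v' ᵥ* M) = 0 := fun v' => (hker _).2 ⟨v', rfl⟩
    change (π _, Matrix.vecMulLinear N _) = _
    rw [map_add, map_sub, h1, h1, sub_zero, add_zero, hw₀, Matrix.vecMulLinear_apply,
      Matrix.add_vecMul, Matrix.sub_vecMul, hσρ, hσρ, sub_self, zero_add]
  exact ⟨(LinearEquiv.ofBijective Φ ⟨hinj, hsurj⟩).symm⟩

end

end Groth.Agent.Lib.Helper81.Pop
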