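import Mathlib

/-!
# The conormal sequence of a presentation, in coordinates (helper81)
-/

set_option autoImplicit false
universe u

namespace Groth.Agent.Lib.Helper81.Pop

open MvPolynomial KaehlerDifferential

section
variable {R A : Type u} [CommRing R] [CommRing A] [Algebra R A] {ι : Type} [Fintype ι]
  [DecidableEq ι] (hom : MvPolynomial ι R →ₐ[R] A)

/-- The Jacobian row of a polynomial: the images of its partial derivatives. -/
noncomputable def jacRow (f : MvPolynomial ι R) : ι → A := fun i => hom (pderiv i f)

theorem jacRow_add (f g : MvPolynomial ι R) : jacRow hom (f + g) = jacRow hom f + jacRow hom g := by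
  funext i; simp [jacRow]

theorem jacRow_mul_of_mem (h f : MvPolynomial ι R) (hf : hom f = 0) :
    jacRow hom (h * f) = hom h • jacRow hom f := by
  funext i
  simp only [jacRow, Derivation.leibniz, map_add, smul_eq_mul, map_mul, hf, zero_mul, add_zero,
    Pi.smul_apply]

/-- The canonical map `A^ι → Ω_{A/R}`, `e_i ↦ d(x_i)`. -/
noncomputable def piK : (ι → A) →ₗ[A] Ω[A⁄R] :=
  Fintype.linearCombination A (fun i => D R A (hom (X i)))

theorem piK_apply (w : ι → A) : piK hom w = ∑ i, w i • D R A (hom (X i)) := by
  simp [piK, Fintype.linearCombination_apply]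

variable (hsurj : Function.Surjective hom)

/-- The generators attached to a surjection from a polynomial ring. -/
noncomputable def gens : Algebra.Generators R A ι :=
  Algebra.Generators.ofSurjective (fun i => hom (X i)) (by
    have : (aeval (R := R) fun i => hom (X i)) = hom := by
      apply MvPolynomial.algHom_ext
      intro i
      simp
    rw [this]
    exact hsurj)

theorem aeval_gens_val : (aeval (gens hom hsurj).val : MvPolynomial ι R →ₐ[R] A) = hom := by
  apply MvPolynomial.algHom_ext
  intro i
  simp [gens]

theorem gens_ker (f : MvPolynomial ι R) : f ∈ (gens hom hsurj).ker ↔ hom f = 0 := by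
  rw [Algebra.Generators.ker_eq_ker_aeval_val, RingHom.mem_ker]
  change aeval (gens hom hsurj).val f = 0 ↔ _
  rw [aeval_gens_val]

theorem piK_eq (w : ι → A) :
    piK hom w = (gens hom hsurj).toExtension.toKaehler
      ((gens hom hsurj).cotangentSpaceBasis.equivFun.symm w) := by
  rw [piK_apply, Module.Basis.equivFun_symm_apply, map_sum]
  refine Finset.sum_congr rfl fun i _ => ?_
  rw [map_smul, Algebra.Generators.toKaehler_cotangentSpaceBasis]
  rfl

include hsurj in
theorem piK_surjective : Function.Surjective (piK hom) := by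
  intro ω
  obtain ⟨x, hx⟩ := (gens hom hsurj).toExtension.toKaehler_surjective ω
  refine ⟨(gens hom hsurj).cotangentSpaceBasis.equivFun x, ?_⟩
  rw [piK_eq hom hsurj, LinearEquiv.symm_apply_apply, hx]

theorem equivFun_cotangentComplex_mk (f : (gens hom hsurj).ker) :
    (gens hom hsurj).cotangentSpaceBasis.equivFun
      ((gens hom hsurj).toExtension.cotangentComplex (Algebra.Extension.Cotangent.mk f)) =
      jacRow hom f.1 := by
  funext i
  rw [Algebra.Extension.cotangentComplex_mk, Module.Basis.equivFun_apply]
  have := (gens hom hsurj).cotangentSpaceBasis_repr_one_tmul f.1 i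
  rw [aeval_gens_val] at this
  exact this

include hsurj in
/-- Exactness of the conormal sequence in the middle, in coordinates. -/
theorem piK_eq_zero_iff (w : ι → A) :
    piK hom w = 0 ↔ ∃ f : MvPolynomial ι R, hom f = 0 ∧ jacRow hom f = w := by
  rw [piK_eq hom hsurj]
  have hex := (gens hom hsurj).toExtension.exact_cotangentComplex_toKaehler
  rw [hex _]
  constructor
  · rintro ⟨x, hx⟩
    obtain ⟨f, rfl⟩ := Algebra.Extension.Cotangent.mk_surjective x
    refine ⟨f.1, (gens_ker hom hsurj f.1).1 f.2, ?_⟩
    rw [← equivFun_cotangentComplex_mk hom hsurj f, hx, LinearEquiv.apply_symm_apply]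
  · rintro ⟨f, hf, rfl⟩
    refine ⟨Algebra.Extension.Cotangent.mk ⟨f, (gens_ker hom hsurj f).2 hf⟩, ?_⟩
    rw [← equivFun_cotangentComplex_mk hom hsurj ⟨f, (gens_ker hom hsurj f).2 hf⟩,
      LinearEquiv.symm_apply_apply]
    rfl

include hsurj in
/-- Left exactness up to torsion: if the first cotangent homology is `a`-power torsion, a relation
with vanishing Jacobian row lies in the square of the relation ideal after multiplying by a power
of (a lift of) `a`. -/
theorem exists_pow_mul_mem_sq_of_jacRow_eq_zero (a : A)
    (htors : ∀ x : Algebra.H1Cotangent R A, ∃ k : ℕ, a ^ k • x = 0)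
    (a' : MvPolynomial ι R) (ha' : hom a' = a) (f : MvPolynomial ι R) (hf : hom f = 0)
    (hrow : jacRow hom f = 0) :
    ∃ k : ℕ, a' ^ k * f ∈ (RingHom.ker hom.toRingHom) ^ 2 := by
  set G := gens hom hsurj with hG
  let fk : G.ker := ⟨f, (gens_ker hom hsurj f).2 hf⟩
  have hcc : G.toExtension.cotangentComplex (Algebra.Extension.Cotangent.mk fk) = 0 := by
    apply G.cotangentSpaceBasis.equivFun.injective
    rw [equivFun_cotangentComplex_mk hom hsurj fk, map_zero]
    exact hrow
  let y : G.toExtension.H1Cotangent := ⟨Algebra.Extension.Cotangent.mk fk, hcc⟩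
  obtain ⟨k, hk⟩ := htors (G.equivH1Cotangent y)
  rw [← map_smul, LinearEquiv.map_eq_zero_iff] at hk
  have hk' : a ^ k • (Algebra.Extension.Cotangent.mk fk : G.toExtension.Cotangent) = 0 := by
    have := congrArg Subtype.val hk
    exact this
  let ak : G.toExtension.Ring := a' ^ k
  have hak : a ^ k = algebraMap G.toExtension.Ring A ak := by
    change a ^ k = algebraMap G.Ring A (a' ^ k)
    rw [map_pow]
    congr 1
    rw [Algebra.Generators.algebraMap_apply, aeval_gens_val, ha']
  have h3 : ak • (Algebra.Extension.Cotangent.mk fk : G.toExtension.Cotangent) = 0 := by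
    rw [← hk', hak]
    exact (algebraMap_smul A ak (Algebra.Extension.Cotangent.mk fk : G.toExtension.Cotangent)).symm
  rw [← map_smul, Algebra.Extension.Cotangent.mk_eq_zero_iff] at h3
  refine ⟨k, ?_⟩
  have h4 : (RingHom.ker hom.toRingHom) = G.ker := by
    ext x
    rw [gens_ker hom hsurj, RingHom.mem_ker]
    rfl
  rw [h4]
  exact h3

end

/-- The first cotangent homology is `a`-power torsion when the localization is formally smooth. -/
theorem h1Cotangent_torsion_of_formallySmooth_away {R A : Type u} [CommRing R] [CommRing A]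
    [Algebra R A] (a : A) [Algebra.FormallySmooth R (Localization.Away a)]
    (x : Algebra.H1Cotangent R A) : ∃ k : ℕ, a ^ k • x = 0 := by
  haveI : IsLocalizedModule (Submonoid.powers a)
      (Algebra.H1Cotangent.map R R A (Localization.Away a)) :=
    Algebra.H1Cotangent.isLocalizedModule R (Localization.Away a) (Submonoid.powers a)
  have h0 : Algebra.H1Cotangent.map R R A (Localization.Away a) x =
      Algebra.H1Cotangent.map R R A (Localization.Away a) 0 := Subsingleton.elim _ _
  obtain ⟨⟨_, k, rfl⟩, hc⟩ := IsLocalizedModule.exists_of_eq (S := Submonoid.powers a) h0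
  refine ⟨k, ?_⟩
  rw [smul_zero] at hc
  exact hc

end Groth.Agent.Lib.Helper81.Pop
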