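import Mathlib
import Groth.Agent.Lib.Helper81.PopConormal

/-!
# The conormal sequence of a presentation after inverting an element (helper81)
-/

set_option autoImplicit false
universe u

namespace Groth.Agent.Lib.Helper81.Pop

open MvPolynomial KaehlerDifferential

section
variable {R A : Type u} [CommRing R] [CommRing A] [Algebra R A] {ι : Type} [Fintype ι]
  [DecidableEq ι] (hom : MvPolynomial ι R →ₐ[R] A) (a : A)

/-- The Jacobian row of a polynomial, in the localization. -/
noncomputable def jacRowB (f : MvPolynomial ι R) : ι → Localization.Away a :=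
  fun i => algebraMap A (Localization.Away a) (hom (pderiv i f))

theorem jacRowB_eq (f : MvPolynomial ι R) :
    jacRowB hom a f = fun i => algebraMap A (Localization.Away a) (jacRow hom f i) := rfl

theorem jacRowB_add (f g : MvPolynomial ι R) :
    jacRowB hom a (f + g) = jacRowB hom a f + jacRowB hom a g := by
  funext i; simp [jacRowB]

theorem jacRowB_sub (f g : MvPolynomial ι R) :
    jacRowB hom a (f - g) = jacRowB hom a f - jacRowB hom a g := by
  funext i; simp [jacRowB]

theorem jacRowB_zero : jacRowB hom a (0 : MvPolynomial ι R) = 0 := by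
  funext i; simp [jacRowB]

theorem jacRowB_sum {κ : Type*} (s : Finset κ) (g : κ → MvPolynomial ι R) :
    jacRowB hom a (∑ j ∈ s, g j) = ∑ j ∈ s, jacRowB hom a (g j) := by
  funext i; simp [jacRowB, Finset.sum_apply]

theorem jacRowB_mul_of_mem (h f : MvPolynomial ι R) (hf : hom f = 0) :
    jacRowB hom a (h * f) = algebraMap A (Localization.Away a) (hom h) • jacRowB hom a f := by
  funext i
  simp only [jacRowB, Derivation.leibniz, map_add, smul_eq_mul, map_mul, hf, zero_mul, add_zero,
    Pi.smul_apply]

/-- The canonical map `B^ι → Ω_{B/R}` for `B = A_a`, `e_i ↦ d(x_i)`. -/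
noncomputable def piKB : (ι → Localization.Away a) →ₗ[Localization.Away a] Ω[Localization.Away a⁄R] :=
  Fintype.linearCombination (Localization.Away a)
    (fun i => D R (Localization.Away a) (algebraMap A (Localization.Away a) (hom (X i))))

theorem piKB_apply (w : ι → Localization.Away a) :
    piKB hom a w = ∑ i, w i • D R (Localization.Away a)
      (algebraMap A (Localization.Away a) (hom (X i))) := by
  simp [piKB, Fintype.linearCombination_apply]

theorem map_piK (w : ι → A) :
    KaehlerDifferential.map R R A (Localization.Away a) (piK hom w) =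
      piKB hom a (fun i => algebraMap A (Localization.Away a) (w i)) := by
  rw [piK_apply, piKB_apply, map_sum]
  refine Finset.sum_congr rfl fun i _ => ?_
  rw [map_smul, KaehlerDifferential.map_D, algebraMap_smul]

/-- Jacobian rows of elements of an ideal generated by relations stay in a given submodule. -/
theorem jacRowB_mem_of_mem_span (Q : Submodule (Localization.Away a) (ι → Localization.Away a))
    (s : Set (MvPolynomial ι R)) (hs : ∀ x ∈ s, hom x = 0 ∧ jacRowB hom a x ∈ Q)
    (f : MvPolynomial ι R) (hf : f ∈ Ideal.span s) : hom f = 0 ∧ jacRowB hom a f ∈ Q := by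
  refine Submodule.span_induction (p := fun f _ => hom f = 0 ∧ jacRowB hom a f ∈ Q)
    (fun x hx => hs x hx) ⟨map_zero _, ?_⟩ ?_ ?_ hf
  · rw [jacRowB_zero]; exact Q.zero_mem
  · rintro x y _ _ ⟨hx1, hx2⟩ ⟨hy1, hy2⟩
    refine ⟨by rw [map_add, hx1, hy1, add_zero], ?_⟩
    rw [jacRowB_add]; exact Q.add_mem hx2 hy2
  · rintro h x _ ⟨hx1, hx2⟩
    refine ⟨by rw [smul_eq_mul, map_mul, hx1, mul_zero], ?_⟩
    rw [smul_eq_mul, jacRowB_mul_of_mem hom a h x hx1]
    exact Q.smul_mem _ hx2

/-- Jacobian rows vanish on the square of the relation ideal. -/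
theorem jacRowB_eq_zero_of_mem_sq (z : MvPolynomial ι R)
    (hz : z ∈ (RingHom.ker hom.toRingHom) ^ 2) : jacRowB hom a z = 0 := by
  rw [pow_two] at hz
  refine Submodule.mul_induction_on hz ?_ ?_
  · intro x hx y hy
    have hy' : hom y = 0 := hy
    have hx' : hom x = 0 := hx
    rw [jacRowB_mul_of_mem hom a x y hy', hx', map_zero, zero_smul]
  · intro x y hx hy
    rw [jacRowB_add, hx, hy, add_zero]

variable (hsurj : Function.Surjective hom)

include hsurj in
theorem piKB_surjective : Function.Surjective (piKB hom a) := by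
  rw [← LinearMap.range_eq_top, eq_top_iff,
    ← KaehlerDifferential.span_range_map_derivation_of_isLocalization R A (Localization.Away a)
      (Submonoid.powers a), Submodule.span_le]
  rintro _ ⟨x, rfl⟩
  obtain ⟨w, hw⟩ := piK_surjective hom hsurj (D R A x)
  refine ⟨fun i => algebraMap A (Localization.Away a) (w i), ?_⟩
  rw [← map_piK, hw]
  rfl

include hsurj in
theorem piKB_jacRowB (f : MvPolynomial ι R) (hf : hom f = 0) : piKB hom a (jacRowB hom a f) = 0 := by
  rw [jacRowB_eq, ← map_piK, (piK_eq_zero_iff hom hsurj _).2 ⟨f, hf, rfl⟩, map_zero]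

include hsurj in
/-- Localized exactness in the middle. -/
theorem exists_jacRowB_eq_of_piKB_eq_zero (w : ι → Localization.Away a) (hw : piKB hom a w = 0) :
    ∃ (k : ℕ) (f : MvPolynomial ι R), hom f = 0 ∧
      jacRowB hom a f = (algebraMap A (Localization.Away a) a) ^ k • w := by
  obtain ⟨⟨_, k, rfl⟩, hb⟩ :=
    IsLocalization.exist_integer_multiples_of_finite (Submonoid.powers a) w
  choose w₀ hw₀ using hb
  have h1 : KaehlerDifferential.map R R A (Localization.Away a) (piK hom w₀) =
      KaehlerDifferential.map R R A (Localization.Away a) 0 := by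
    rw [map_piK, map_zero]
    have : (fun i => algebraMap A (Localization.Away a) (w₀ i)) =
        (algebraMap A (Localization.Away a) a) ^ k • w := by
      funext i
      rw [hw₀ i, Pi.smul_apply, Algebra.smul_def, map_pow, smul_eq_mul]
    rw [this, map_smul, hw, smul_zero]
  obtain ⟨⟨_, j, rfl⟩, hc⟩ := IsLocalizedModule.exists_of_eq (S := Submonoid.powers a) h1
  rw [smul_zero] at hc
  change a ^ j • piK hom w₀ = 0 at hc
  rw [← map_smul] at hc
  obtain ⟨f, hf, hrow⟩ := (piK_eq_zero_iff hom hsurj _).1 hc
  refine ⟨j + k, f, hf, ?_⟩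
  funext i
  rw [jacRowB_eq, hrow]
  change algebraMap A (Localization.Away a) (a ^ j • w₀ i) =
    (algebraMap A (Localization.Away a) a) ^ (j + k) * w i
  rw [smul_eq_mul, map_mul, hw₀ i, Algebra.smul_def, map_pow]
  change _ * (algebraMap A (Localization.Away a) (a ^ k) * w i) = _
  rw [map_pow, pow_add, mul_assoc]

end

end Groth.Agent.Lib.Helper81.Pop
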