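import Mathlib
import Groth.Agent.Lib.Helper81.PopConormalLoc
import Groth.Agent.Lib.Helper81.PopBaseMain

/-!
# Adding variables to make the conormal module free (helper81)
-/

set_option autoImplicit false
universe u

namespace Groth.Agent.Lib.Helper81.Pop

open MvPolynomial KaehlerDifferential Matrix

section extend
variable {R A : Type u} [CommRing R] [CommRing A] [Algebra R A] {n m : ℕ} (q : ℕ)
  (hom₀ : MvPolynomial (Fin n) R →ₐ[R] A) (f₀ : Fin m → MvPolynomial (Fin n) R)

/-- The presentation with `q` extra variables, all mapped to zero. -/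
noncomputable def extHom : MvPolynomial (Fin n ⊕ Fin q) R →ₐ[R] A :=
  aeval (Sum.elim (fun i => hom₀ (X i)) (fun _ => 0))

/-- The relations of the extended presentation. -/
noncomputable def extRel : Fin m ⊕ Fin q → MvPolynomial (Fin n ⊕ Fin q) R :=
  Sum.elim (fun ℓ => rename Sum.inl (f₀ ℓ)) (fun k => X (Sum.inr k))

@[simp] theorem extHom_X_inl (i : Fin n) : extHom q hom₀ (X (Sum.inl i)) = hom₀ (X i) := by
  simp [extHom]

@[simp] theorem extHom_X_inr (k : Fin q) : extHom q hom₀ (X (Sum.inr k)) = 0 := by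
  simp [extHom]

theorem extHom_rename (g : MvPolynomial (Fin n) R) :
    extHom q hom₀ (rename Sum.inl g) = hom₀ g := by
  have : (extHom q hom₀).comp (rename Sum.inl) = hom₀ := by
    apply MvPolynomial.algHom_ext
    intro i
    simp
  exact DFunLike.congr_fun this g

theorem extHom_surjective (h : Function.Surjective hom₀) : Function.Surjective (extHom q hom₀) := by
  intro x
  obtain ⟨g, rfl⟩ := h x
  exact ⟨rename Sum.inl g, extHom_rename q hom₀ g⟩

/-- Setting the extra variables to zero. -/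
noncomputable def extBack : MvPolynomial (Fin n ⊕ Fin q) R →ₐ[R] MvPolynomial (Fin n) R :=
  aeval (Sum.elim (fun i => X i) (fun _ => 0))

theorem extHom_eq_comp : extHom q hom₀ = hom₀.comp (extBack q) := by
  apply MvPolynomial.algHom_ext
  rintro (i | k) <;> simp [extBack]

theorem sub_rename_extBack_mem (f : MvPolynomial (Fin n ⊕ Fin q) R) :
    f - rename Sum.inl (extBack q f) ∈
      Ideal.span (Set.range fun k : Fin q => (X (Sum.inr k) : MvPolynomial (Fin n ⊕ Fin q) R)) := by
  have h1 : f = aeval (fun v => (X v : MvPolynomial (Fin n ⊕ Fin q) R)) f := by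
    rw [aeval_X_left, AlgHom.id_apply]
  have h2 : rename Sum.inl (extBack q f) =
      aeval (Sum.elim (fun i => (X (Sum.inl i) : MvPolynomial (Fin n ⊕ Fin q) R))
        (fun _ => 0)) f := by
    have : ((rename Sum.inl : MvPolynomial (Fin n) R →ₐ[R] MvPolynomial (Fin n ⊕ Fin q) R).comp
        (extBack q)) = aeval (Sum.elim (fun i => (X (Sum.inl i) : MvPolynomial (Fin n ⊕ Fin q) R))
        (fun _ => 0)) := by
      apply MvPolynomial.algHom_ext
      rintro (i | k) <;> simp [extBack]
    exact DFunLike.congr_fun this f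
  rw [h2]
  nth_rewrite 1 [h1]
  apply aeval_sub_aeval_mem
  rintro (i | k)
  · simp
  · simp only [Sum.elim_inr, sub_zero]
    exact Ideal.subset_span ⟨k, rfl⟩

theorem ker_extHom (hker : RingHom.ker hom₀.toRingHom = Ideal.span (Set.range f₀)) :
    RingHom.ker (extHom q hom₀).toRingHom = Ideal.span (Set.range (extRel q f₀)) := by
  apply le_antisymm
  · intro f hf
    have hf' : hom₀ (extBack q f) = 0 := by
      have : extHom q hom₀ f = 0 := hf
      rwa [extHom_eq_comp] at this
    have h1 : extBack q f ∈ Ideal.span (Set.range f₀) := by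
      rw [← hker]; exact hf'
    have h2 : rename Sum.inl (extBack q f) ∈ Ideal.span (Set.range (extRel q f₀)) := by
      have h3 := Ideal.mem_map_of_mem
        (rename Sum.inl : MvPolynomial (Fin n) R →ₐ[R] MvPolynomial (Fin n ⊕ Fin q) R).toRingHom h1
      rw [Ideal.map_span] at h3
      refine Ideal.span_mono ?_ h3
      rintro _ ⟨_, ⟨ℓ, rfl⟩, rfl⟩
      exact ⟨Sum.inl ℓ, rfl⟩
    have h4 : f - rename Sum.inl (extBack q f) ∈ Ideal.span (Set.range (extRel q f₀)) := by
      refine Ideal.span_mono ?_ (sub_rename_extBack_mem q f)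
      rintro _ ⟨k, rfl⟩
      exact ⟨Sum.inr k, rfl⟩
    have := add_mem h4 h2
    rwa [sub_add_cancel] at this
  · rw [Ideal.span_le]
    rintro _ ⟨ℓ | k, rfl⟩
    · rw [SetLike.mem_coe, RingHom.mem_ker]
      change extHom q hom₀ (rename Sum.inl (f₀ ℓ)) = 0
      rw [extHom_rename]
      have : f₀ ℓ ∈ RingHom.ker hom₀.toRingHom := by
        rw [hker]; exact Ideal.subset_span ⟨ℓ, rfl⟩
      exact this
    · rw [SetLike.mem_coe, RingHom.mem_ker]
      change extHom q hom₀ (X (Sum.inr k)) = 0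
      simp

theorem piKB_extHom (a : A) (w : Fin n ⊕ Fin q → Localization.Away a) :
    piKB (extHom q hom₀) a w = piKB hom₀ a (fun i => w (Sum.inl i)) := by
  rw [piKB_apply, piKB_apply, Fintype.sum_sum_type]
  simp

end extend

section kernel
variable {R A : Type u} [CommRing R] [CommRing A] [Algebra R A] {n : ℕ}
  (hom₀ : MvPolynomial (Fin n) R →ₐ[R] A)

/-- With `q` extra variables, the kernel of `B^(n+q) → Ω_B` is free with a split basis. -/
theorem exists_kernel_matrix (hsurj₀ : Function.Surjective hom₀) (a : A)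
    [Algebra.FormallySmooth R (Localization.Away a)] (p q : ℕ)
    (e : (Ω[Localization.Away a⁄R] × (Fin p → Localization.Away a)) ≃ₗ[Localization.Away a]
      (Fin q → Localization.Away a)) :
    ∃ (Mκ : Matrix (Fin n ⊕ Fin p) (Fin n ⊕ Fin q) (Localization.Away a))
      (N : Matrix (Fin n ⊕ Fin q) (Fin n ⊕ Fin p) (Localization.Away a)),
      Mκ * N = 1 ∧ ∀ w, piKB (extHom q hom₀) a w = 0 ↔ ∃ v, v ᵥ* Mκ = w := by
  classical
  let π₀ := piKB hom₀ a
  have hπ₀ : Function.Surjective π₀ := piKB_surjective hom₀ a hsurj₀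
  obtain ⟨s, hs⟩ := Module.projective_lifting_property π₀ LinearMap.id hπ₀
  have hs' : ∀ ω, π₀ (s ω) = ω := fun ω => LinearMap.congr_fun hs ω
  let sT := LinearEquiv.sumArrowLequivProdArrow (Fin n) (Fin p) (Localization.Away a)
    (Localization.Away a)
  let sI := LinearEquiv.sumArrowLequivProdArrow (Fin n) (Fin q) (Localization.Away a)
    (Localization.Away a)
  let Γ' : (Fin n → Localization.Away a) × (Fin p → Localization.Away a) →ₗ[Localization.Away a]
      (Fin n → Localization.Away a) × (Fin q → Localization.Away a) :=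
    (LinearMap.fst _ _ _ - s ∘ₗ π₀ ∘ₗ LinearMap.fst _ _ _).prod
      (e.toLinearMap ∘ₗ ((π₀ ∘ₗ LinearMap.fst _ _ _).prod (LinearMap.snd _ _ _)))
  let Δ' : (Fin n → Localization.Away a) × (Fin q → Localization.Away a) →ₗ[Localization.Away a]
      (Fin n → Localization.Away a) × (Fin p → Localization.Away a) :=
    (LinearMap.fst _ _ _ +
      s ∘ₗ LinearMap.fst _ _ _ ∘ₗ e.symm.toLinearMap ∘ₗ LinearMap.snd _ _ _).prod
      (LinearMap.snd _ _ _ ∘ₗ e.symm.toLinearMap ∘ₗ LinearMap.snd _ _ _)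
  have hΓ' : ∀ x y, Γ' (x, y) = (x - s (π₀ x), e (π₀ x, y)) := fun x y => rfl
  have hΔ' : ∀ u z, Δ' (u, z) = (u + s (e.symm z).1, (e.symm z).2) := fun u z => rfl
  have hΔΓ' : ∀ xy, Δ' (Γ' xy) = xy := by
    rintro ⟨x, y⟩
    rw [hΓ', hΔ', LinearEquiv.symm_apply_apply]
    simp
  have hΓΔ' : ∀ u z, π₀ u = 0 → Γ' (Δ' (u, z)) = (u, z) := by
    intro u z hu
    rw [hΔ', hΓ', map_add, hu, zero_add, hs']
    simp
  let Γ := sI.symm.toLinearMap ∘ₗ Γ' ∘ₗ sT.toLinearMap
  let Δ := sT.symm.toLinearMap ∘ₗ Δ' ∘ₗ sI.toLinearMap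
  have hΔΓ : Δ ∘ₗ Γ = LinearMap.id := by
    apply LinearMap.ext
    intro v
    change sT.symm (Δ' (sI (sI.symm (Γ' (sT v))))) = v
    rw [LinearEquiv.apply_symm_apply, hΔΓ', LinearEquiv.symm_apply_apply]
  have hπB : ∀ w, piKB (extHom q hom₀) a w = π₀ (sI w).1 := by
    intro w
    rw [piKB_extHom]
    rfl
  have hker : ∀ w, piKB (extHom q hom₀) a w = 0 ↔ ∃ v, Γ v = w := by
    intro w
    rw [hπB]
    constructor
    · intro hw
      refine ⟨Δ w, ?_⟩
      change sI.symm (Γ' (sT (sT.symm (Δ' (sI w))))) = w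
      rw [LinearEquiv.apply_symm_apply]
      have : sI w = ((sI w).1, (sI w).2) := rfl
      rw [this, hΓΔ' _ _ hw, ← this, LinearEquiv.symm_apply_apply]
    · rintro ⟨v, rfl⟩
      change π₀ (sI (sI.symm (Γ' (sT v)))).1 = 0
      rw [LinearEquiv.apply_symm_apply]
      have : sT v = ((sT v).1, (sT v).2) := rfl
      rw [this, hΓ']
      simp only [map_sub, hs', sub_self]
  refine ⟨(LinearMap.toMatrix' Γ)ᵀ, (LinearMap.toMatrix' Δ)ᵀ, ?_, ?_⟩
  · rw [← Matrix.transpose_mul, ← LinearMap.toMatrix'_comp, hΔΓ, LinearMap.toMatrix'_id,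
      Matrix.transpose_one]
  · intro w
    rw [hker]
    simp only [Matrix.vecMul_transpose, LinearMap.toMatrix'_mulVec]

end kernel

end Groth.Agent.Lib.Helper81.Pop
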