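import Mathlib
import Groth.Prelude.Def_Smoothing

/-!
# Strictly standard elements from charts with general finite index types (helper81)
-/

set_option autoImplicit false
universe u

namespace Groth.Agent.Lib.Helper81.Pop

open MvPolynomial Smoothing

/-- `Fin`-indexed chart gives a strictly standard element. -/
theorem isStrictlyStandard_of_fin_chart {R A : Type u} [CommRing R] [CommRing A] [Algebra R A]
    {n m c : ℕ} (hcn : c ≤ n) (f : Fin m → MvPolynomial (Fin n) R)
    (φ : MvPolynomial (Fin n) R →ₐ[R] A)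
    (hφ : Function.Surjective φ) (hker : RingHom.ker φ.toRingHom = Ideal.span (Set.range f))
    (rows : Fin c → Fin m) (a : A)
    (ha : a ∈ Ideal.span (Set.range fun cols : Fin c → Fin n => φ (jacobianMinor f rows cols)))
    (hkt : ∀ a₁ : MvPolynomial (Fin n) R, φ a₁ = a → ∀ ℓ : Fin m,
        a₁ * f ℓ ∈ Ideal.span (Set.range (f ∘ rows)) ⊔ Ideal.span (Set.range f) ^ 2) :
    IsStrictlyStandard R A a := by
  classical
  let rel : Fin (c + m) → MvPolynomial (Fin n) R := Fin.append (f ∘ rows) f
  have hrelL : ∀ i : Fin c, rel (Fin.castLE (Nat.le_add_right c m) i) = f (rows i) := by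
    intro i
    change Fin.append (f ∘ rows) f (Fin.castAdd m i) = _
    rw [Fin.append_left]; rfl
  have hrelR : ∀ i : Fin m, rel (Fin.natAdd c i) = f i := by
    intro i
    change Fin.append (f ∘ rows) f (Fin.natAdd c i) = _
    rw [Fin.append_right]
  have hrel_mem : ∀ j, ∃ i, rel j = f i := by
    intro j
    refine Fin.addCases (fun i => ⟨rows i, ?_⟩) (fun i => ⟨i, hrelR i⟩) j
    exact hrelL i
  have hI : Ideal.span (Set.range f) = Ideal.span (Set.range rel) := by
    apply le_antisymm
    · rw [Ideal.span_le]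
      rintro _ ⟨i, rfl⟩
      exact Ideal.subset_span ⟨Fin.natAdd c i, hrelR i⟩
    · rw [Ideal.span_le]
      rintro _ ⟨j, rfl⟩
      obtain ⟨i, hi⟩ := hrel_mem j
      rw [hi]
      exact Ideal.subset_span ⟨i, rfl⟩
  let P : MarkedPresentation R A :=
    { n := n, m := c + m, c := c, hcn := hcn, hcm := Nat.le_add_right c m, rel := rel,
      hom := φ, surj := hφ, ker_eq := hker.trans hI }
  refine ⟨P, ?_, ?_⟩
  · have h1 : ∀ cols : Fin c → Fin n,
        jacobianMinor rel (Fin.castLE (Nat.le_add_right c m)) cols = jacobianMinor f rows cols := by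
      intro cols
      rw [jacobianMinor, jacobianMinor]
      congr 1
      apply Matrix.ext
      intro j k
      simp only [Matrix.of_apply]
      rw [hrelL]
    change a ∈ Ideal.span (Set.range fun cols : Fin c → Fin n =>
      φ (jacobianMinor rel (Fin.castLE (Nat.le_add_right c m)) cols))
    simp only [h1]
    exact ha
  · intro a'' ha'' j hj
    change φ a'' = a at ha''
    change a'' * rel j ∈ Ideal.span (rel '' {j' : Fin (c + m) | (j' : ℕ) < c}) ⊔
      Ideal.span (Set.range rel) ^ 2
    have hj' : c ≤ (j : ℕ) := hj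
    have hjlt : (j : ℕ) < c + m := j.2
    obtain ⟨i, rfl⟩ : ∃ i : Fin m, Fin.natAdd c i = j :=
      ⟨⟨j - c, by omega⟩, by ext; simp; omega⟩
    have h1 := hkt a'' ha'' i
    rw [hrelR, ← hI]
    have hle : Ideal.span (Set.range (f ∘ rows)) ⊔ Ideal.span (Set.range f) ^ 2 ≤
        Ideal.span (rel '' {j' : Fin (c + m) | (j' : ℕ) < c}) ⊔ Ideal.span (Set.range f) ^ 2 := by
      refine sup_le_sup_right (Ideal.span_mono ?_) _
      rintro _ ⟨i', rfl⟩
      exact ⟨Fin.castLE (Nat.le_add_right c m) i', by simp, hrelL i'⟩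
    exact hle h1

/-- A chart with arbitrary finite index types gives a strictly standard element. -/
theorem isStrictlyStandard_of_chart {R A : Type u} [CommRing R] [CommRing A] [Algebra R A]
    {V M T : Type} [Finite V] [Finite M] [Fintype T] [DecidableEq T]
    (hTV : Nat.card T ≤ Nat.card V)
    (f : M → MvPolynomial V R) (φ : MvPolynomial V R →ₐ[R] A)
    (hφ : Function.Surjective φ) (hker : RingHom.ker φ.toRingHom = Ideal.span (Set.range f))
    (rows : T → M) (a : A)
    (ha : a ∈ Ideal.span (Set.range fun cols : T → V =>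
      φ (Matrix.det (Matrix.of fun j k : T => pderiv (cols k) (f (rows j))))))
    (hkt : ∀ a₁ : MvPolynomial V R, φ a₁ = a → ∀ ℓ : M,
        a₁ * f ℓ ∈ Ideal.span (Set.range (f ∘ rows)) ⊔ Ideal.span (Set.range f) ^ 2) :
    IsStrictlyStandard R A a := by
  classical
  haveI := Fintype.ofFinite V
  haveI := Fintype.ofFinite M
  let eV : V ≃ Fin (Fintype.card V) := Fintype.equivFin V
  let eM : M ≃ Fin (Fintype.card M) := Fintype.equivFin M
  let eT : T ≃ Fin (Fintype.card T) := Fintype.equivFin T
  let ρ : MvPolynomial V R ≃ₐ[R] MvPolynomial (Fin (Fintype.card V)) R := renameEquiv R eV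
  let f' : Fin (Fintype.card M) → MvPolynomial (Fin (Fintype.card V)) R :=
    fun j => ρ (f (eM.symm j))
  let rows' : Fin (Fintype.card T) → Fin (Fintype.card M) := fun j => eM (rows (eT.symm j))
  have hrange : Set.range f' =
      (ρ : MvPolynomial V R →+* MvPolynomial (Fin (Fintype.card V)) R) '' Set.range f := by
    ext x
    constructor
    · rintro ⟨j, rfl⟩
      exact ⟨f (eM.symm j), ⟨_, rfl⟩, rfl⟩
    · rintro ⟨_, ⟨i, rfl⟩, rfl⟩
      exact ⟨eM i, by simp [f']⟩
  have hrange2 : Set.range (f' ∘ rows') =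
      (ρ : MvPolynomial V R →+* MvPolynomial (Fin (Fintype.card V)) R) '' Set.range (f ∘ rows) := by
    ext x
    constructor
    · rintro ⟨j, rfl⟩
      exact ⟨f (rows (eT.symm j)), ⟨_, rfl⟩, by simp [f', rows']⟩
    · rintro ⟨_, ⟨i, rfl⟩, rfl⟩
      exact ⟨eT i, by simp [f', rows']⟩
  have hmapI : (Ideal.span (Set.range f)).map
      (ρ : MvPolynomial V R →+* MvPolynomial (Fin (Fintype.card V)) R) =
      Ideal.span (Set.range f') := by
    rw [Ideal.map_span, hrange]
  have hmapI2 : (Ideal.span (Set.range (f ∘ rows))).map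
      (ρ : MvPolynomial V R →+* MvPolynomial (Fin (Fintype.card V)) R) =
      Ideal.span (Set.range (f' ∘ rows')) := by
    rw [Ideal.map_span, hrange2]
  have hker' : RingHom.ker (φ.comp ρ.symm.toAlgHom).toRingHom = Ideal.span (Set.range f') := by
    rw [← hmapI]
    ext x
    rw [RingHom.mem_ker]
    change φ (ρ.symm x) = 0 ↔ _
    rw [← RingHom.mem_ker]
    change ρ.symm x ∈ RingHom.ker φ.toRingHom ↔ _
    rw [hker]
    constructor
    · intro h
      have := Ideal.mem_map_of_mem
        (ρ : MvPolynomial V R →+* MvPolynomial (Fin (Fintype.card V)) R) h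
      simpa using this
    · intro h
      have := Ideal.mem_map_of_mem
        (ρ.symm : MvPolynomial (Fin (Fintype.card V)) R →+* MvPolynomial V R) h
      rw [Ideal.map_map] at this
      have h2 : ((ρ.symm : MvPolynomial (Fin (Fintype.card V)) R →+* MvPolynomial V R).comp
          (ρ : MvPolynomial V R →+* MvPolynomial (Fin (Fintype.card V)) R)) = RingHom.id _ := by
        ext x <;> simp
      rw [h2, Ideal.map_id] at this
      exact this
  have hjac : ∀ cols : T → V, jacobianMinor f' rows' (fun k => eV (cols (eT.symm k))) =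
      ρ (Matrix.det (Matrix.of fun j k : T => pderiv (cols k) (f (rows j)))) := by
    intro cols
    rw [jacobianMinor, AlgEquiv.map_det]
    rw [← Matrix.det_reindex_self eT]
    congr 1
    refine Matrix.ext fun j k => ?_
    simp only [Matrix.of_apply, AlgEquiv.mapMatrix_apply, Matrix.map_apply, Matrix.reindex_apply,
      Matrix.submatrix_apply]
    change pderiv (eV (cols (eT.symm k))) (ρ (f (eM.symm (eM (rows (eT.symm j)))))) = _
    rw [Equiv.symm_apply_apply]
    exact pderiv_rename eV.injective (cols (eT.symm k)) (f (rows (eT.symm j)))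
  have hcn : Fintype.card T ≤ Fintype.card V := by
    rwa [Nat.card_eq_fintype_card, Nat.card_eq_fintype_card] at hTV
  refine isStrictlyStandard_of_fin_chart hcn f' (φ.comp ρ.symm.toAlgHom)
    (hφ.comp ρ.symm.surjective) hker' rows' a ?_ ?_
  · refine Ideal.span_mono ?_ ha
    rintro _ ⟨cols, rfl⟩
    refine ⟨fun k => eV (cols (eT.symm k)), ?_⟩
    change φ (ρ.symm (jacobianMinor f' rows' _)) = _
    rw [hjac, AlgEquiv.symm_apply_apply]
  · intro a₁ ha₁ ℓ
    change φ (ρ.symm a₁) = a at ha₁
    have h1 := hkt (ρ.symm a₁) ha₁ (eM.symm ℓ)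
    have h2 := Ideal.mem_map_of_mem
      (ρ : MvPolynomial V R →+* MvPolynomial (Fin (Fintype.card V)) R) h1
    rw [map_mul, Ideal.map_sup, Ideal.map_pow, hmapI, hmapI2] at h2
    have h3 : (ρ : MvPolynomial V R →+* MvPolynomial (Fin (Fintype.card V)) R) (ρ.symm a₁) = a₁ :=
      ρ.apply_symm_apply a₁
    rw [h3] at h2
    exact h2

end Groth.Agent.Lib.Helper81.Pop
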