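import Mathlib
import Groth.Agent.Lib.Helper81.PopStablyFree
import Groth.Agent.Lib.Helper81.PopMinors
import Groth.Agent.Lib.Helper81.PopStrict

/-!
# Smooth with stably free differentials implies powers are strictly standard (Stacks 07ES)
(helper81)
-/

set_option autoImplicit false
universe u

namespace Groth.Agent.Lib.Helper81.Pop

open MvPolynomial KaehlerDifferential Matrix Smoothing

section
variable {R A : Type u} [CommRing R] [CommRing A] [Algebra R A] {ι : Type} [Fintype ι]
  [DecidableEq ι] (hom : MvPolynomial ι R →ₐ[R] A) (hsurj : Function.Surjective hom) (a : A)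
  (a' : MvPolynomial ι R) (ha' : hom a' = a)

include hsurj ha' in
theorem exists_forall_jacRowB_eq (w : ι → Localization.Away a) (hw : piKB hom a w = 0) :
    ∃ k₀ : ℕ, ∀ k, k₀ ≤ k → ∃ f : MvPolynomial ι R, hom f = 0 ∧
      jacRowB hom a f = (algebraMap A (Localization.Away a) a) ^ k • w := by
  obtain ⟨k₀, f₀, hf₀, hrow⟩ := exists_jacRowB_eq_of_piKB_eq_zero hom a hsurj w hw
  refine ⟨k₀, fun k hk => ⟨a' ^ (k - k₀) * f₀, by rw [map_mul, hf₀, mul_zero], ?_⟩⟩
  rw [jacRowB_mul_of_mem hom a _ f₀ hf₀, hrow, map_pow, ha', smul_smul, map_pow, ← pow_add,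
    Nat.sub_add_cancel hk]

include hsurj ha' in
theorem exists_family_jacRowB_eq {T : Type} [Fintype T] (κ : T → ι → Localization.Away a)
    (hκ : ∀ j, piKB hom a (κ j) = 0) :
    ∃ (k₀ : ℕ) (F : T → MvPolynomial ι R), ∀ j, hom (F j) = 0 ∧
      jacRowB hom a (F j) = (algebraMap A (Localization.Away a) a) ^ k₀ • κ j := by
  have h1 := fun j => exists_forall_jacRowB_eq hom hsurj a a' ha' (κ j) (hκ j)
  choose k hk using h1
  have h2 : ∀ j, ∃ f : MvPolynomial ι R, hom f = 0 ∧
      jacRowB hom a f = (algebraMap A (Localization.Away a) a) ^ (∑ j, k j) • κ j :=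
    fun j => hk j _ (Finset.single_le_sum (fun _ _ => Nat.zero_le _) (Finset.mem_univ j))
  choose F hF using h2
  exact ⟨_, F, hF⟩

include hsurj ha' in
/-- A relation whose Jacobian row dies in the localization lies in the square of the relation
ideal up to a power of `a`. -/
theorem exists_pow_mul_mem_sq_of_jacRowB_eq_zero
    (htors : ∀ x : Algebra.H1Cotangent R A, ∃ k : ℕ, a ^ k • x = 0)
    (G : MvPolynomial ι R) (hG : hom G = 0) (hrow : jacRowB hom a G = 0) :
    ∃ k : ℕ, a' ^ k * G ∈ (RingHom.ker hom.toRingHom) ^ 2 := by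
  have h1 : ∀ i, ∃ k : ℕ, a ^ k * jacRow hom G i = 0 := by
    intro i
    have h0 : algebraMap A (Localization.Away a) (jacRow hom G i) = 0 := congrFun hrow i
    obtain ⟨⟨_, k, rfl⟩, hk⟩ :=
      (IsLocalization.map_eq_zero_iff (Submonoid.powers a) (Localization.Away a) _).1 h0
    exact ⟨k, hk⟩
  choose k hk using h1
  have h2 : jacRow hom (a' ^ (∑ i, k i) * G) = 0 := by
    rw [jacRow_mul_of_mem hom _ G hG, map_pow, ha']
    funext i
    rw [Pi.smul_apply, smul_eq_mul, Pi.zero_apply,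
      ← Nat.sub_add_cancel (Finset.single_le_sum (fun _ _ => Nat.zero_le _) (Finset.mem_univ i)
        : k i ≤ ∑ i, k i), pow_add, mul_assoc, hk i, mul_zero]
  obtain ⟨k₃, hk₃⟩ := exists_pow_mul_mem_sq_of_jacRow_eq_zero hom hsurj a htors a' ha'
    (a' ^ (∑ i, k i) * G) (by rw [map_mul, hG, mul_zero]) h2
  refine ⟨k₃ + ∑ i, k i, ?_⟩
  rw [pow_add, mul_assoc]
  exact hk₃

include hsurj ha' in
/-- Tail relations are killed by large powers of `a`. -/
theorem exists_forall_pow_mul_mem {T : Type} [Fintype T]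
    (htors : ∀ x : Algebra.H1Cotangent R A, ∃ k : ℕ, a ^ k • x = 0)
    (F : T → MvPolynomial ι R) (hF : ∀ j, hom (F j) = 0) (G : MvPolynomial ι R) (hG : hom G = 0)
    (v : T → Localization.Away a) (hv : jacRowB hom a G = ∑ j, v j • jacRowB hom a (F j)) :
    ∃ E : ℕ, ∀ k, E ≤ k →
      a' ^ k * G ∈ Ideal.span (Set.range F) ⊔ (RingHom.ker hom.toRingHom) ^ 2 := by
  obtain ⟨⟨_, k₁, rfl⟩, hb⟩ :=
    IsLocalization.exist_integer_multiples_of_finite (Submonoid.powers a) v
  choose c hc using hb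
  have hc' : ∀ j, algebraMap A (Localization.Away a) (c j) =
      (algebraMap A (Localization.Away a) a) ^ k₁ * v j := by
    intro j
    rw [hc j, ← map_pow]
    exact Algebra.smul_def _ _
  have hCex : ∀ j, ∃ C : MvPolynomial ι R, hom C = c j := fun j => hsurj (c j)
  choose C hC using hCex
  set G' : MvPolynomial ι R := a' ^ k₁ * G - ∑ j, C j * F j with hG'
  have hG'0 : hom G' = 0 := by
    rw [hG', map_sub, map_mul, hG, mul_zero, map_sum, zero_sub, neg_eq_zero]
    exact Finset.sum_eq_zero fun j _ => by rw [map_mul, hF j, mul_zero]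
  have hrow : jacRowB hom a G' = 0 := by
    rw [hG', jacRowB_sub, jacRowB_mul_of_mem hom a _ G hG, jacRowB_sum, hv, Finset.smul_sum,
      sub_eq_zero]
    refine Finset.sum_congr rfl fun j _ => ?_
    rw [jacRowB_mul_of_mem hom a _ (F j) (hF j), hC, hc' j, smul_smul, map_pow, ha', map_pow]
  obtain ⟨k₂, hk₂⟩ := exists_pow_mul_mem_sq_of_jacRowB_eq_zero hom hsurj a a' ha' htors G' hG'0 hrow
  refine ⟨k₂ + k₁, fun k hk => ?_⟩
  have h3 : a' ^ (k₂ + k₁) * G = a' ^ k₂ * G' + ∑ j, (a' ^ k₂ * C j) * F j := by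
    rw [hG', mul_sub, Finset.mul_sum, pow_add, mul_assoc]
    simp only [mul_assoc]
    ring
  have h4 : a' ^ (k₂ + k₁) * G ∈ Ideal.span (Set.range F) ⊔ (RingHom.ker hom.toRingHom) ^ 2 := by
    rw [h3, add_comm]
    exact Submodule.add_mem_sup
      (Ideal.sum_mem _ fun j _ => Ideal.mul_mem_left _ _ (Ideal.subset_span ⟨j, rfl⟩)) hk₂
  have h5 : a' ^ k * G = a' ^ (k - (k₂ + k₁)) * (a' ^ (k₂ + k₁) * G) := by
    rw [← mul_assoc, ← pow_add, Nat.sub_add_cancel hk]
  rw [h5]
  exact Ideal.mul_mem_left _ _ h4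

/-- Large powers of `a` lie in the ideal of maximal minors. -/
theorem exists_forall_pow_mem_span_minors {T : Type} [Fintype T] [DecidableEq T]
    (F : T → MvPolynomial ι R) (N : Matrix ι T (Localization.Away a))
    (hN : (Matrix.of fun j i => jacRowB hom a (F j) i) * N = 1) :
    ∃ k₀ : ℕ, ∀ k, k₀ ≤ k → a ^ k ∈ Ideal.span (Set.range fun cols : T → ι =>
      hom (Matrix.det (Matrix.of fun j k : T => pderiv (cols k) (F j)))) := by
  set MF : Matrix T ι (Localization.Away a) := Matrix.of fun j i => jacRowB hom a (F j) i with hMF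
  have h1 := one_mem_span_minors_of_right_inverse MF N hN
  obtain ⟨β, hβ⟩ := (Ideal.mem_span_range_iff_exists_fun).1 h1
  have hminor : ∀ cols : T → ι, (MF.submatrix id cols).det =
      algebraMap A (Localization.Away a)
        (hom (Matrix.det (Matrix.of fun j k : T => pderiv (cols k) (F j)))) := by
    intro cols
    rw [AlgHom.map_det, RingHom.map_det]
    congr 1
  obtain ⟨⟨_, k₄, rfl⟩, hb⟩ :=
    IsLocalization.exist_integer_multiples_of_finite (Submonoid.powers a) β
  choose α hα using hb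
  have h2 : algebraMap A (Localization.Away a) (a ^ k₄) = algebraMap A (Localization.Away a)
      (∑ cols : T → ι, α cols * hom (Matrix.det (Matrix.of fun j k : T => pderiv (cols k) (F j)))) := by
    rw [map_sum]
    simp only [map_mul, hα, ← hminor]
    have : ∀ cols : T → ι, ((⟨a ^ k₄, k₄, rfl⟩ : Submonoid.powers a) : A) • β cols *
        (MF.submatrix id cols).det = algebraMap A (Localization.Away a) (a ^ k₄) *
          (β cols * (MF.submatrix id cols).det) := by
      intro cols
      rw [Algebra.smul_def, mul_assoc]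
    simp only [this]
    rw [← Finset.mul_sum, hβ, mul_one]
  obtain ⟨⟨_, k₅, rfl⟩, hk₅⟩ :=
    (IsLocalization.eq_iff_exists (Submonoid.powers a) (Localization.Away a)).1 h2
  simp only at hk₅
  refine ⟨k₅ + k₄, fun k hk => ?_⟩
  have h3 : a ^ k = a ^ (k - (k₅ + k₄)) * (a ^ k₅ * a ^ k₄) := by
    rw [← pow_add, ← pow_add, Nat.sub_add_cancel hk]
  rw [h3, hk₅]
  refine Ideal.mul_mem_left _ _ (Ideal.mul_mem_left _ _ (Ideal.sum_mem _ fun cols _ => ?_))
  exact Ideal.mul_mem_left _ _ (Ideal.subset_span ⟨cols, rfl⟩)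

end

end Groth.Agent.Lib.Helper81.Pop
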