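import Mathlib
import Groth.Prelude.Def_Smoothing
import Groth.Agent.S2031
import Groth.Agent.Lib.Helper62.RetractKaehler
import Groth.Agent.Lib.Helper81.PopLocal2

/-!
# The retract algebra with strictly standard powers (helper81)
-/

set_option autoImplicit false
set_option linter.style.haveILetI false
universe u

namespace Groth.Agent.Lib.Helper81.Pop

open Smoothing TensorProduct KaehlerDifferential Groth.Agent.Lib.Helper62.RetractKaehler

theorem exists_retract_strictlyStandard {R B : Type u} [CommRing R] [IsNoetherianRing R]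
    [CommRing B] [Algebra R B] [Algebra.FinitePresentation R B] :
    ∃ (C : Type u) (_ : CommRing C) (_ : Algebra R C) (_ : Algebra B C) (_ : IsScalarTower R B C),
      Algebra.FinitePresentation R C ∧ Nonempty (C →ₐ[B] B) ∧
      ∀ b : B, (∀ (Q : Ideal B) [Q.IsPrime], b ∉ Q → Algebra.IsSmoothAt R Q) →
        (∀ (Q' : Ideal C) [Q'.IsPrime], algebraMap B C b ∉ Q' → Algebra.IsSmoothAt R Q') ∧
        ∃ e₀ : ℕ, ∀ m, e₀ ≤ m → IsStrictlyStandard R C (algebraMap B C b ^ m) := by
  classical
  obtain ⟨t, ht⟩ := (Algebra.FiniteType.out : (⊤ : Subalgebra R B).FG)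
  let n := t.card
  let x : Fin n → B := fun i => (t.equivFin.symm i : B)
  have hx : Algebra.adjoin R (Set.range x) = ⊤ := by
    rw [← ht]
    congr 1
    ext a
    constructor
    · rintro ⟨i, rfl⟩
      exact (t.equivFin.symm i).2
    · intro ha
      exact ⟨t.equivFin ⟨a, ha⟩, by simp [x]⟩
  have hq := q_surjective (R := R) x hx
  haveI hfin : Module.Finite B (Hmod (R := R) x) :=
    Module.Finite.iff_fg.mpr (Module.FinitePresentation.fg_ker (q (R := R) x) hq)
  letI algRC : Algebra R (Calg (R := R) x) :=
    ((algebraMap B (Calg (R := R) x)).comp (algebraMap R B)).toAlgebra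
  haveI tower : IsScalarTower R B (Calg (R := R) x) :=
    IsScalarTower.of_algebraMap_eq (fun _ => rfl)
  haveI : IsNoetherianRing B := Algebra.FiniteType.isNoetherianRing R B
  haveI hftC : Algebra.FiniteType B (Calg (R := R) x) := finiteType_C x
  haveI hfpBC : Algebra.FinitePresentation B (Calg (R := R) x) :=
    Algebra.FinitePresentation.of_finiteType.1 hftC
  haveI hfpC : Algebra.FinitePresentation R (Calg (R := R) x) :=
    Algebra.FinitePresentation.trans R B (Calg (R := R) x)
  refine ⟨Calg (R := R) x, inferInstance, algRC, inferInstance, tower, hfpC, ⟨retrC x⟩, ?_⟩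
  intro b hb
  -- `B_b` is smooth over `R`
  haveI hsmB : Algebra.Smooth R (Localization.Away b) := by
    rw [← Algebra.basicOpen_subset_smoothLocus_iff_smooth]
    intro y hy
    exact hb y.asIdeal hy
  haveI := hsmB.formallySmooth
  have hetS : Algebra.FormallyEtale B (Localization.Away b) :=
    Algebra.FormallyEtale.of_isLocalization (Submonoid.powers b)
  haveI hprojΩ : Module.Projective (Localization.Away b) (Localization.Away b ⊗[B] Ω[B⁄R]) :=
    Module.Projective.of_equiv (tensorKaehlerEquivOfFormallyEtale R B (Localization.Away b)).symm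
  haveI hprojH : Module.Projective (Localization.Away b)
      (Localization.Away b ⊗[B] Hmod (R := R) x) :=
    projective_baseChange_Hmod (R := R) x (Localization.Away b) hx
  set c : Calg (R := R) x := algebraMap B (Calg (R := R) x) b with hc
  haveI hfsC : Algebra.FormallySmooth B (Localization.Away c) := formallySmooth_away (R := R) x b
  have hsubC := (Algebra.basicOpen_subset_smoothLocus_iff (R := B) (A := Calg (R := R) x)
    (f := c)).2 hfsC
  have hsmoothAt : ∀ (Q' : Ideal (Calg (R := R) x)) [Q'.IsPrime], c ∉ Q' →
      Algebra.IsSmoothAt R Q' := by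
    intro Q' _ hcQ'
    refine isSmoothAt_trans (R := R) (A := B) Q' ?_ ?_
    · exact hb _ (fun h => hcQ' h)
    · exact hsubC (show (⟨Q', inferInstance⟩ : PrimeSpectrum (Calg (R := R) x)) ∈
        (PrimeSpectrum.basicOpen c : Set (PrimeSpectrum (Calg (R := R) x))) from hcQ')
  refine ⟨hsmoothAt, ?_⟩
  haveI hsmC : Algebra.Smooth R (Localization.Away c) := by
    rw [← Algebra.basicOpen_subset_smoothLocus_iff_smooth]
    intro y hy
    exact hsmoothAt y.asIdeal hy
  haveI hfree : Module.Free (Localization.Away c) Ω[Localization.Away c⁄R] :=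
    free_kaehler_away x b hx
  haveI hfinΩ : Module.Finite (Localization.Away c) Ω[Localization.Away c⁄R] := inferInstance
  let bas := Module.Free.chooseBasis (Localization.Away c) Ω[Localization.Away c⁄R]
  let q₀ := Fintype.card (Module.Free.ChooseBasisIndex (Localization.Away c)
    Ω[Localization.Away c⁄R])
  let e1 : Ω[Localization.Away c⁄R] ≃ₗ[Localization.Away c] (Fin q₀ → Localization.Away c) :=
    (bas.reindex (Fintype.equivFin _)).equivFun
  let e : (Ω[Localization.Away c⁄R] × (Fin 0 → Localization.Away c)) ≃ₗ[Localization.Away c]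
      (Fin q₀ → Localization.Away c) := LinearEquiv.prodUnique.trans e1
  exact Groth.Agent.S2031.result c 0 q₀ e

end Groth.Agent.Lib.Helper81.Pop
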