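import Mathlib
import Groth.Agent.S9282

/-!
# Preparations for the positive characteristic case of the local smoothing problem (helper81)

* finiteness of `H₁(L_{K/k})` for the residue field of a formally smooth local algebra,
* transport of differential bases along isomorphisms of fields.
-/

set_option autoImplicit false
set_option linter.style.haveILetI false
universe u

namespace Groth.Agent.Lib.Helper81.Pop

open Algebra IsLocalRing KaehlerDifferential


theorem finite_h1Cotangent_of_algEquiv {k K K' : Type u} [Field k] [Field K] [Field K']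
    [Algebra k K] [Algebra k K'] (e : K ≃ₐ[k] K') (h : Module.Finite K (H1Cotangent k K)) :
    Module.Finite K' (H1Cotangent k K') := by
  classical
  letI := e.toRingHom.toAlgebra
  haveI : IsScalarTower k K K' := .of_algebraMap_eq' e.toAlgHom.comp_algebraMap.symm
  obtain ⟨s, hs⟩ := h.fg_top
  let E := H1Cotangent.mapEquiv k K K' e
  have hE : ∀ x, E x = H1Cotangent.map k k K K' x := fun x => rfl
  refine ⟨⟨s.image E, ?_⟩⟩
  rw [_root_.eq_top_iff]
  rintro y -
  obtain ⟨x, rfl⟩ := E.surjective y
  have hx : x ∈ Submodule.span K (s : Set (H1Cotangent k K)) := by rw [hs]; trivial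
  induction hx using Submodule.span_induction with
  | mem x hx =>
    apply Submodule.subset_span
    rw [Finset.coe_image]
    exact ⟨x, hx, rfl⟩
  | zero => rw [map_zero]; exact Submodule.zero_mem _
  | add x y _ _ hx hy => rw [map_add]; exact Submodule.add_mem _ hx hy
  | smul c x _ hx =>
    have : E (c • x) = (algebraMap K K' c) • E x := by
      rw [hE, hE, LinearMap.map_smul, algebraMap_smul]
    rw [this]
    exact Submodule.smul_mem _ _ hx

theorem finite_h1Cotangent_residueField {k L : Type u} [Field k] [CommRing L] [IsLocalRing L]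
    [IsNoetherianRing L] [Algebra k L]
    (hfs : CAlgX.IsAdicFormallySmooth k L (maximalIdeal L)) :
    Module.Finite (ResidueField L) (H1Cotangent k (ResidueField L)) := by
  have hinj := Groth.Agent.S9282.result k L hfs
  haveI : Algebra.FinitePresentation L (ResidueField L) :=
    Algebra.FinitePresentation.quotient (IsNoetherian.noetherian _)
  haveI : Subsingleton (Ω[ResidueField L⁄L]) :=
    (KaehlerDifferential.subsingleton_of_surjective L (ResidueField L) residue_surjective)
  haveI : Module.Finite (ResidueField L) (H1Cotangent L (ResidueField L)) := inferInstance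
  exact Module.Finite.of_injective _ hinj

/-- the residue field of a quotient of a local ring -/
noncomputable def residueFieldQuotientEquiv (k : Type u) {L : Type u} [Field k] [CommRing L]
    [IsLocalRing L] [Algebra k L] (I : Ideal L) [IsLocalRing (L ⧸ I)] :
    ResidueField L ≃ₐ[k] ResidueField (L ⧸ I) := by
  haveI : IsLocalHom (Ideal.Quotient.mk I) :=
    IsLocalHom.of_surjective _ Ideal.Quotient.mk_surjective
  exact AlgEquiv.ofBijective
    { ResidueField.map (Ideal.Quotient.mk I) with
      commutes' := fun c => rfl } (by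
      constructor
      · exact RingHom.injective _
      · intro y
        obtain ⟨x, rfl⟩ := residue_surjective y
        obtain ⟨z, rfl⟩ := Ideal.Quotient.mk_surjective x
        exact ⟨residue L z, rfl⟩)

theorem finite_h1Cotangent_residueField_quotient {k L : Type u} [Field k] [CommRing L]
    [IsLocalRing L] [IsNoetherianRing L] [Algebra k L]
    (hfs : CAlgX.IsAdicFormallySmooth k L (maximalIdeal L)) (I : Ideal L) [IsLocalRing (L ⧸ I)] :
    Module.Finite (ResidueField (L ⧸ I)) (H1Cotangent k (ResidueField (L ⧸ I))) :=
  finite_h1Cotangent_of_algEquiv (residueFieldQuotientEquiv k I)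
    (finite_h1Cotangent_residueField hfs)


section
variable {k K₁ K₂ : Type u} [Field k] [Field K₁] [Field K₂] [Algebra k K₁] [Algebra k K₂]
  (e : K₁ ≃ₐ[k] K₂) {ι : Type*} (x : ι → K₁)

theorem span_D_algEquiv
    (hsp : Submodule.span K₁ (Set.range fun i => KaehlerDifferential.D k K₁ (x i)) = ⊤) :
    Submodule.span K₂ (Set.range fun i => KaehlerDifferential.D k K₂ (e (x i))) = ⊤ := by
  letI := e.toRingHom.toAlgebra
  haveI : IsScalarTower k K₁ K₂ := .of_algebraMap_eq' e.toAlgHom.comp_algebraMap.symm
  have halg : ∀ c : K₁, algebraMap K₁ K₂ c = e c := fun c => rfl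
  let M := KaehlerDifferential.map k k K₁ K₂
  have hM : ∀ a : K₁, M (KaehlerDifferential.D k K₁ a) = KaehlerDifferential.D k K₂ (e a) := by
    intro a
    exact KaehlerDifferential.map_D k k K₁ K₂ a
  rw [_root_.eq_top_iff, ← KaehlerDifferential.span_range_derivation k K₂, Submodule.span_le]
  rintro _ ⟨z, rfl⟩
  have hz : KaehlerDifferential.D k K₂ z = M (KaehlerDifferential.D k K₁ (e.symm z)) := by
    rw [hM, AlgEquiv.apply_symm_apply]
  rw [hz]
  have hmem : KaehlerDifferential.D k K₁ (e.symm z) ∈
      Submodule.span K₁ (Set.range fun i => KaehlerDifferential.D k K₁ (x i)) := by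
    rw [hsp]; trivial
  generalize KaehlerDifferential.D k K₁ (e.symm z) = w₀ at hmem
  induction hmem using Submodule.span_induction with
  | mem w hw =>
    obtain ⟨i, rfl⟩ := hw
    rw [hM]
    exact Submodule.subset_span ⟨i, rfl⟩
  | zero => rw [map_zero]; exact Submodule.zero_mem _
  | add u v _ _ hu hv => rw [map_add]; exact Submodule.add_mem _ hu hv
  | smul c u _ hu =>
    have : M (c • u) = (algebraMap K₁ K₂ c) • M u := by
      rw [LinearMap.map_smul, algebraMap_smul]
    rw [this]
    exact Submodule.smul_mem _ _ hu

theorem linearIndependent_D_algEquiv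
    (hli : LinearIndependent K₁ (fun i => KaehlerDifferential.D k K₁ (x i))) :
    LinearIndependent K₂ (fun i => KaehlerDifferential.D k K₂ (e (x i))) := by
  classical
  letI := e.symm.toRingHom.toAlgebra
  haveI : IsScalarTower k K₂ K₁ := .of_algebraMap_eq' e.symm.toAlgHom.comp_algebraMap.symm
  have halg : ∀ c : K₂, algebraMap K₂ K₁ c = e.symm c := fun c => rfl
  let M := KaehlerDifferential.map k k K₂ K₁
  have hM : ∀ a : K₂, M (KaehlerDifferential.D k K₂ a) = KaehlerDifferential.D k K₁ (e.symm a) := by
    intro a
    exact KaehlerDifferential.map_D k k K₂ K₁ a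
  rw [linearIndependent_iff'] at hli ⊢
  intro s g hg i hi
  have h1 := congrArg M hg
  rw [map_zero, map_sum] at h1
  have h2 : ∑ j ∈ s, (e.symm (g j)) • KaehlerDifferential.D k K₁ (x j) = 0 := by
    rw [← h1]
    refine Finset.sum_congr rfl fun j _ => ?_
    rw [LinearMap.map_smul, hM, AlgEquiv.symm_apply_apply, ← halg, algebraMap_smul]
  have h3 := hli s (fun j => e.symm (g j)) h2 i hi
  exact (map_eq_zero_iff e.symm e.symm.injective).1 h3

end

section
variable {k K₁ K₂ : Type u} [Field k] [Field K₁] [Field K₂] [Algebra k K₁] [Algebra k K₂]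
  (g : K₁ →ₐ[k] K₂) {ι : Type*} (x : ι → K₁)

/-- a field is isomorphic to its image under an algebra map -/
noncomputable def equivFieldRange : K₁ ≃ₐ[k] g.fieldRange :=
  AlgEquiv.ofBijective (g.codRestrict g.fieldRange.toSubalgebra (fun x => ⟨x, rfl⟩)) (by
    constructor
    · exact RingHom.injective _
    · rintro ⟨y, z, rfl⟩
      exact ⟨z, rfl⟩)

theorem equivFieldRange_apply (a : K₁) : ((equivFieldRange g a : g.fieldRange) : K₂) = g a := rfl

theorem basis_D_fieldRange
    (hli : LinearIndependent K₁ (fun i => KaehlerDifferential.D k K₁ (x i)))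
    (hsp : Submodule.span K₁ (Set.range fun i => KaehlerDifferential.D k K₁ (x i)) = ⊤) :
    LinearIndependent g.fieldRange
        (fun i => KaehlerDifferential.D k g.fieldRange ⟨g (x i), ⟨x i, rfl⟩⟩) ∧
      Submodule.span g.fieldRange (Set.range
        fun i => KaehlerDifferential.D k g.fieldRange ⟨g (x i), ⟨x i, rfl⟩⟩) = ⊤ :=
  ⟨linearIndependent_D_algEquiv (equivFieldRange g) x hli,
    span_D_algEquiv (equivFieldRange g) x hsp⟩

end

end Groth.Agent.Lib.Helper81.Pop
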