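import Mathlib

/-!
# Localization at a prime of a quotient ring, as a quotient of the localization (helper81)
-/

set_option autoImplicit false
universe u

namespace Groth.Agent.Lib.Helper81.Pop

open IsLocalRing

section
variable {Λ : Type u} [CommRing Λ] (𝔮 : Ideal Λ) [𝔮.IsPrime] (J : Ideal Λ) (hJ : J ≤ 𝔮)

include hJ in
theorem isPrime_map_mk : (𝔮.map (Ideal.Quotient.mk J)).IsPrime := by
  apply Ideal.map_isPrime_of_surjective Ideal.Quotient.mk_surjective
  rw [Ideal.mk_ker]
  exact hJ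

include hJ in
theorem mem_map_mk_iff (x : Λ) : Ideal.Quotient.mk J x ∈ 𝔮.map (Ideal.Quotient.mk J) ↔ x ∈ 𝔮 := by
  constructor
  · intro hx
    have h1 := Ideal.mem_comap.2 hx
    rw [Ideal.comap_map_of_surjective _ Ideal.Quotient.mk_surjective, ← RingHom.ker_eq_comap_bot,
      Ideal.mk_ker, sup_eq_left.2 hJ] at h1
    exact h1
  · exact Ideal.mem_map_of_mem _

include hJ in
theorem algebraMapSubmonoid_primeCompl_eq :
    haveI := isPrime_map_mk 𝔮 J hJ
    Algebra.algebraMapSubmonoid (Λ ⧸ J) 𝔮.primeCompl =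
      (𝔮.map (Ideal.Quotient.mk J)).primeCompl := by
  haveI := isPrime_map_mk 𝔮 J hJ
  ext y
  constructor
  · rintro ⟨x, hx, rfl⟩
    intro hmem
    exact hx ((mem_map_mk_iff 𝔮 J hJ x).1 hmem)
  · intro hy
    obtain ⟨x, rfl⟩ := Ideal.Quotient.mk_surjective y
    refine ⟨x, ?_, rfl⟩
    intro hx
    exact hy ((mem_map_mk_iff 𝔮 J hJ x).2 hx)

include hJ in
/-- `Λ_𝔮 / JΛ_𝔮` is the localization of `Λ/J` at `𝔮/J`. -/
theorem isLocalization_atPrime_quotient :
    haveI := isPrime_map_mk 𝔮 J hJ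
    IsLocalization.AtPrime
      (Localization.AtPrime 𝔮 ⧸ J.map (algebraMap Λ (Localization.AtPrime 𝔮)))
      (𝔮.map (Ideal.Quotient.mk J)) := by
  haveI := isPrime_map_mk 𝔮 J hJ
  have h : IsLocalization (Algebra.algebraMapSubmonoid (Λ ⧸ J) 𝔮.primeCompl)
      (Localization.AtPrime 𝔮 ⧸ J.map (algebraMap Λ (Localization.AtPrime 𝔮))) := inferInstance
  rw [algebraMapSubmonoid_primeCompl_eq 𝔮 J hJ] at h
  exact h

end

section
variable {S : Type u} [CommRing S] [IsLocalRing S] (J' : Ideal S)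

/-- A quotient of a local ring by an ideal whose radical is the maximal ideal has dimension zero. -/
theorem ringKrullDim_quotient_eq_zero (hne : J' ≠ ⊤) (hrad : maximalIdeal S ≤ J'.radical) :
    ringKrullDim (S ⧸ J') = 0 := by
  haveI : Nontrivial (S ⧸ J') := Ideal.Quotient.nontrivial_iff.2 hne
  rw [← ringKrullDimZero_iff_ringKrullDim_eq_zero]
  refine Ring.KrullDimLE.mk₀ fun P hP => ?_
  have h1 : (P.comap (Ideal.Quotient.mk J')).IsPrime := Ideal.comap_isPrime _ P
  have h2 : J' ≤ P.comap (Ideal.Quotient.mk J') := by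
    intro x hx
    rw [Ideal.mem_comap, Ideal.Quotient.eq_zero_iff_mem.2 hx]
    exact zero_mem _
  have h3 : maximalIdeal S ≤ P.comap (Ideal.Quotient.mk J') :=
    hrad.trans (h1.radical_le_iff.2 h2)
  have h4 : P.comap (Ideal.Quotient.mk J') = maximalIdeal S :=
    ((maximalIdeal.isMaximal S).eq_of_le h1.ne_top h3).symm
  have h5 : P = (maximalIdeal S).map (Ideal.Quotient.mk J') := by
    rw [← h4, Ideal.map_comap_of_surjective _ Ideal.Quotient.mk_surjective]
  rw [h5]
  refine Ideal.IsMaximal.map_of_surjective_of_ker_le Ideal.Quotient.mk_surjective ?_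
  rw [Ideal.mk_ker]
  exact le_maximalIdeal hne

end

end Groth.Agent.Lib.Helper81.Pop
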