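import Mathlib
import Groth.Agent.S2022
import Groth.Agent.Lib.Helper81.PopArtinBase
import Groth.Agent.Lib.Helper81.PopLocQuot
import Groth.Agent.Lib.Helper81.PopFinalStep

/-!
# Resolving the reduced problem over `k[x]/(x^E)` (helper81)
-/

set_option autoImplicit false
set_option linter.style.haveILetI false
universe u

namespace Groth.Agent.Lib.Helper81.Pop

open MvPolynomial IsLocalRing Smoothing

section
variable {k : Type u} [Field k] {d : ℕ} (E : ℕ) (hE : 1 ≤ E)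
  {Λ : Type u} [CommRing Λ] [Algebra k Λ] [Algebra (MvPolynomial (Fin d) k) Λ]
  [IsScalarTower k (MvPolynomial (Fin d) k) Λ]
  (𝔮 : Ideal Λ) [𝔮.IsPrime] [IsRegularLocalRing (Localization.AtPrime 𝔮)]
  (hd : (maximalIdeal (Localization.AtPrime 𝔮)).spanFinrank = d)
  (hπ : Ideal.span (Set.range fun i : Fin d => algebraMap Λ (Localization.AtPrime 𝔮)
      (algebraMap (MvPolynomial (Fin d) k) Λ (X i))) = maximalIdeal (Localization.AtPrime 𝔮))

include hπ in
theorem algebraMap_X_mem (i : Fin d) : algebraMap (MvPolynomial (Fin d) k) Λ (X i) ∈ 𝔮 := by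
  rw [← IsLocalization.AtPrime.to_map_mem_maximal_iff (Localization.AtPrime 𝔮) 𝔮, ← hπ]
  exact Ideal.subset_span ⟨i, rfl⟩

include hπ hE in
theorem map_powIdeal_le : (powIdeal k d E).map (algebraMap (MvPolynomial (Fin d) k) Λ) ≤ 𝔮 := by
  rw [powIdeal, Ideal.map_span, Ideal.span_le]
  rintro _ ⟨_, ⟨i, rfl⟩, rfl⟩
  rw [map_pow]
  exact Ideal.pow_mem_of_mem _ (algebraMap_X_mem 𝔮 hπ i) E (by omega)

end

section
variable {k : Type u} [Field k] {d : ℕ} (E : ℕ) (hE : 1 ≤ E)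
  {Λ : Type u} [CommRing Λ] [Algebra k Λ] [Algebra (MvPolynomial (Fin d) k) Λ]
  [IsScalarTower k (MvPolynomial (Fin d) k) Λ]
  (𝔮 : Ideal Λ) [𝔮.IsPrime] [IsRegularLocalRing (Localization.AtPrime 𝔮)]
  (hd : (maximalIdeal (Localization.AtPrime 𝔮)).spanFinrank = d)
  (hπ : Ideal.span (Set.range fun i : Fin d => algebraMap Λ (Localization.AtPrime 𝔮)
      (algebraMap (MvPolynomial (Fin d) k) Λ (X i))) = maximalIdeal (Localization.AtPrime 𝔮))
  [Algebra.IsGeometricallyReduced k 𝔮.ResidueField]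
  {A₀ : Type u} [CommRing A₀] [Algebra (MvPolynomial (Fin d) k ⧸ powIdeal k d E) A₀]
  [Algebra.FinitePresentation (MvPolynomial (Fin d) k ⧸ powIdeal k d E) A₀]
  (φ₀ : A₀ →ₐ[MvPolynomial (Fin d) k ⧸ powIdeal k d E]
    (Λ ⧸ (powIdeal k d E).map (algebraMap (MvPolynomial (Fin d) k) Λ)))

local notation "R" => MvPolynomial (Fin d) k
local notation "K" => powIdeal k d E
local notation "S" => Localization.AtPrime 𝔮

include hE hd hπ in
theorem resolvable_reduced :
    Resolvable (MvPolynomial (Fin d) k ⧸ powIdeal k d E) φ₀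
      (𝔮.map (Ideal.Quotient.mk ((powIdeal k d E).map (algebraMap (MvPolynomial (Fin d) k) Λ)))) := by
  classical
  set J : Ideal Λ := (K).map (algebraMap R Λ) with hJ
  have hJq : J ≤ 𝔮 := map_powIdeal_le E hE 𝔮 hπ
  set J' : Ideal S := J.map (algebraMap Λ S) with hJ'
  haveI hprime : (𝔮.map (Ideal.Quotient.mk J)).IsPrime := isPrime_map_mk 𝔮 J hJq
  haveI hloc : IsLocalization.AtPrime (S ⧸ J') (𝔮.map (Ideal.Quotient.mk J)) :=
    isLocalization_atPrime_quotient 𝔮 J hJq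
  letI algΛq : Algebra (R ⧸ K) (S ⧸ J') :=
    ((algebraMap (Λ ⧸ J) (S ⧸ J')).comp (algebraMap (R ⧸ K) (Λ ⧸ J))).toAlgebra
  haveI : IsScalarTower (R ⧸ K) (Λ ⧸ J) (S ⧸ J') := IsScalarTower.of_algebraMap_eq fun x => rfl
  haveI : IsLocalRing (R ⧸ K) := isLocalRing_quotient_powIdeal E hE
  have hmax : maximalIdeal (R ⧸ K) = Ideal.span (Set.range (xbar k d E)) :=
    maximalIdeal_quotient_powIdeal E hE
  have hnil : IsNilpotent (maximalIdeal (R ⧸ K)) := by
    rw [hmax]; exact isNilpotent_span_xbar E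
  -- the images of the variables in `S`
  set π : Fin d → S := fun i => algebraMap Λ S (algebraMap R Λ (X i)) with hπdef
  have hπJ' : ∀ i, π i ^ E ∈ J' := by
    intro i
    rw [hπdef]
    simp only
    rw [← map_pow, ← map_pow]
    apply Ideal.mem_map_of_mem
    apply Ideal.mem_map_of_mem
    exact Ideal.subset_span ⟨i, rfl⟩
  have hJ'le : J' ≤ maximalIdeal S := by
    rw [hJ', ← IsLocalization.AtPrime.map_eq_maximalIdeal 𝔮 S]
    exact Ideal.map_mono hJq
  have hne : J' ≠ ⊤ := fun h => (maximalIdeal.isMaximal S).ne_top (top_le_iff.1 (h ▸ hJ'le))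
  have hrad : maximalIdeal S ≤ J'.radical := by
    rw [← hπ, Ideal.span_le]
    rintro _ ⟨i, rfl⟩
    exact ⟨E, hπJ' i⟩
  have hdim : ringKrullDim (S ⧸ J') = 0 := ringKrullDim_quotient_eq_zero J' hne hrad
  -- flatness
  have hKS : (K).map (algebraMap R S) = J' := by
    rw [hJ', hJ, Ideal.map_map, ← IsScalarTower.algebraMap_eq]
  haveI hflat : Module.Flat (R ⧸ K) (S ⧸ J') := by
    have h0 : Module.Flat (R ⧸ K) (S ⧸ (K).map (algebraMap R S)) := by
      refine flat_quotient_pow_of_regular hd ?_ E hE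
      rw [← hπ]
      congr 2
    let e : (S ⧸ (K).map (algebraMap R S)) ≃ₗ[R ⧸ K] (S ⧸ J') :=
      { (Ideal.quotEquivOfEq hKS).toAddEquiv with
        map_smul' := by
          intro r x
          obtain ⟨p, rfl⟩ := Ideal.Quotient.mk_surjective r
          obtain ⟨s, rfl⟩ := Ideal.Quotient.mk_surjective x
          change Ideal.quotEquivOfEq hKS (_ • _) = _ • Ideal.quotEquivOfEq hKS _
          rw [Ideal.Quotient.mk_smul_mk_quotient_map_quotient, Ideal.quotEquivOfEq_mk,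
            Ideal.quotEquivOfEq_mk, RingHom.id_apply, Algebra.smul_def,
            map_mul, IsScalarTower.algebraMap_apply R Λ S]
          rfl }
    exact Module.Flat.of_linearEquiv e.symm
  -- the residue fields
  set 𝔪₀ : Ideal (R ⧸ K) := Ideal.span (Set.range (xbar k d E)) with h𝔪₀
  have h𝔪₀max : 𝔪₀.IsMaximal := isMaximal_span_xbar E hE
  have hnil0 : IsNilpotent 𝔪₀ := isNilpotent_span_xbar E
  set M' : Ideal (S ⧸ J') := 𝔪₀.map (algebraMap (R ⧸ K) (S ⧸ J')) with hM'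
  have hM'eq : M' = (maximalIdeal S).map (Ideal.Quotient.mk J') := by
    rw [hM', h𝔪₀, Ideal.map_span, ← hπ, Ideal.map_span, ← Set.range_comp, ← Set.range_comp]
    rfl
  have hM'max : M'.IsMaximal := by
    rw [hM'eq]
    refine Ideal.IsMaximal.map_of_surjective_of_ker_le Ideal.Quotient.mk_surjective ?_
    rw [Ideal.mk_ker]; exact hJ'le
  have hK₀ : IsField ((R ⧸ K) ⧸ 𝔪₀) :=
    (Ideal.Quotient.maximal_ideal_iff_isField_quotient _).1 h𝔪₀max
  have hKf : IsField ((S ⧸ J') ⧸ M') :=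
    (Ideal.Quotient.maximal_ideal_iff_isField_quotient _).1 hM'max
  have hsurj : Function.Surjective (algebraMap k ((R ⧸ K) ⧸ 𝔪₀) : k →+* ((R ⧸ K) ⧸ 𝔪₀)) := by
    intro x
    obtain ⟨r, rfl⟩ := Ideal.Quotient.mk_surjective x
    obtain ⟨c, hc⟩ := exists_C_sub_mem_span_xbar E hE r
    refine ⟨c, ?_⟩
    symm
    rw [IsScalarTower.algebraMap_apply k (R ⧸ K) ((R ⧸ K) ⧸ 𝔪₀)]
    exact Ideal.Quotient.eq.2 hc
  haveI hST : @IsScalarTower k ((R ⧸ K) ⧸ 𝔪₀) ((S ⧸ J') ⧸ M') Algebra.toSMul Algebra.toSMul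
      Algebra.toSMul :=
    IsScalarTower.of_algebraMap_eq fun c => by
      have h1 : algebraMap k S c = algebraMap Λ S (algebraMap R Λ (C c)) := by
        rw [IsScalarTower.algebraMap_apply k Λ S, IsScalarTower.algebraMap_apply k R Λ]; rfl
      change Ideal.Quotient.mk M' (Ideal.Quotient.mk J' (algebraMap k S c)) =
        Ideal.Quotient.mk M' (Ideal.Quotient.mk J' (algebraMap Λ S (algebraMap R Λ (C c))))
      rw [h1]
  -- geometric reducedness
  let ι₀ : (S ⧸ J') →+* 𝔮.ResidueField := Ideal.Quotient.lift J' (IsLocalRing.residue S)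
    (fun a ha => (IsLocalRing.residue_eq_zero_iff a).2 (hJ'le ha))
  have hι₀ : M' ≤ RingHom.ker ι₀ := by
    rw [hM'eq, Ideal.map_le_iff_le_comap]
    intro s hs
    rw [Ideal.mem_comap, RingHom.mem_ker]
    exact (IsLocalRing.residue_eq_zero_iff s).2 hs
  let ι₁ : ((S ⧸ J') ⧸ M') →ₐ[k] 𝔮.ResidueField :=
    { Ideal.Quotient.lift M' ι₀ (fun a ha => hι₀ ha) with
      commutes' := fun c => rfl }
  have hinj : Function.Injective ι₁ := by
    letI := hKf.toField
    exact RingHom.injective ι₁.toRingHom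
  haveI : Algebra.IsGeometricallyReduced k ((S ⧸ J') ⧸ M') :=
    Algebra.IsGeometricallyReduced.of_injective ι₁ hinj
  have hind0 : IndSmooth ((R ⧸ K) ⧸ 𝔪₀) ((S ⧸ J') ⧸ M') :=
    indSmooth_of_isGeometricallyReduced (k := k) hK₀ hKf hsurj
  have hind : IndSmooth (R ⧸ K) (S ⧸ J') := Groth.Agent.S2022.result 𝔪₀ hnil0 hind0
  exact resolvable_of_indSmooth_localization hnil φ₀ _ (S ⧸ J') hdim hind

end
end Groth.Agent.Lib.Helper81.Pop
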