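import Mathlib
import Groth.Prelude.Def_Smoothing
import Groth.Agent.S2026
import Groth.Agent.Lib.Helper87.Smoothing3
import Groth.Agent.Lib.Helper81.PopReduced
import Groth.Agent.Lib.Helper81.PopBAlg
import Groth.Agent.Lib.Helper81.PopCAlg
import Groth.Agent.Lib.Helper81.PopAssembly1

/-!
# Preparations for the separable residue field case (helper81)
-/

set_option autoImplicit false
set_option linter.style.haveILetI false
universe u

namespace Groth.Agent.Lib.Helper81.Pop

open MvPolynomial Smoothing IsLocalRing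

/-- the statement of the reduction modulo eighth powers (07FA), as a hypothesis -/
def ReductionStatement : Prop :=
  ∀ {R A Λ : Type u} [CommRing R] [IsNoetherianRing R]
    [CommRing A] [Algebra R A] [Algebra.FinitePresentation R A] [CommRing Λ] [Algebra R Λ]
    (φ : A →ₐ[R] Λ) (𝔮 : Ideal Λ) [𝔮.IsPrime] {r : ℕ} (_ : 0 < r) (π : Fin r → R)
    (_ : ∀ i, algebraMap R Λ (π i) ∈ 𝔮)
    (_ : ∀ i : Fin r, ∀ x : R ⧸ Ideal.span (Set.range fun j : {j : Fin r // (j : ℕ) < (i : ℕ)} => π j ^ 8),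
      Ideal.Quotient.mk _ (π i) ^ 2 * x = 0 → Ideal.Quotient.mk _ (π i) * x = 0)
    (_ : ∀ i : Fin r, ∀ x : Λ ⧸ Ideal.span (Set.range fun j : {j : Fin r // (j : ℕ) < (i : ℕ)} =>
        algebraMap R Λ (π j) ^ 8),
      Ideal.Quotient.mk _ (algebraMap R Λ (π i)) ^ 2 * x = 0 → Ideal.Quotient.mk _ (algebraMap R Λ (π i)) * x = 0)
    (_ : ∀ i, Smoothing.IsStrictlyStandard R A (algebraMap R A (π i)))
    (K : Ideal R) (_ : K = Ideal.span (Set.range fun i => π i ^ 8))
    (φK : (A ⧸ K.map (algebraMap R A)) →ₐ[R ⧸ K] (Λ ⧸ K.map (algebraMap R Λ)))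
    (_ : ∀ a : A, φK (Ideal.Quotient.mk _ a) = Ideal.Quotient.mk _ (φ a))
    (_ : Smoothing.Resolvable (R ⧸ K) φK (𝔮.map (Ideal.Quotient.mk (K.map (algebraMap R Λ))))),
    Smoothing.Resolvable R φ 𝔮

/-- finitely many strictly standard elements cutting out the singular locus -/
theorem exists_strictlyStandard_family {k A : Type u} [CommRing k] [CommRing A] [Algebra k A]
    [Algebra.FinitePresentation k A] [IsNoetherianRing A] :
    ∃ (r : ℕ) (a : Fin r → A), (∀ j, IsStrictlyStandard k A (a j)) ∧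
      singularIdeal k A = (Ideal.span (Set.range a)).radical := by
  classical
  have h1 := (Groth.Agent.S2026.result (R := k) (A := A)).1
  have hfg : (Ideal.span {a : A | IsStrictlyStandard k A a}).FG := IsNoetherian.noetherian _
  obtain ⟨s', hs', hspan⟩ := (Submodule.fg_span_iff_fg_span_finset_subset _).1 hfg
  refine ⟨s'.card, fun j => (s'.equivFin.symm j : A), fun j => hs' (s'.equivFin.symm j).2, ?_⟩
  rw [h1]
  congr 1
  change Submodule.span A _ = _
  rw [hspan]
  congr 1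
  ext y
  constructor
  · intro hy
    exact ⟨s'.equivFin ⟨y, hy⟩, by simp⟩
  · rintro ⟨j, rfl⟩
    exact (s'.equivFin.symm j).2

theorem exists_pow_map_le {Λ : Type u} [CommRing Λ] [IsNoetherianRing Λ] (I 𝔮 : Ideal Λ)
    [𝔮.IsPrime] (hmin : 𝔮 ∈ I.radical.minimalPrimes) :
    ∃ n : ℕ, 0 < n ∧ (𝔮 ^ n).map (algebraMap Λ (Localization.AtPrime 𝔮)) ≤
      I.map (algebraMap Λ (Localization.AtPrime 𝔮)) := by
  have hle : maximalIdeal (Localization.AtPrime 𝔮) ≤
      (I.map (algebraMap Λ (Localization.AtPrime 𝔮))).radical := by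
    rw [Ideal.radical_eq_sInf]
    refine le_sInf ?_
    rintro P' ⟨hIP', hP'⟩
    have hP : (P'.comap (algebraMap Λ (Localization.AtPrime 𝔮))).IsPrime := Ideal.comap_isPrime _ _
    have hIP : I ≤ P'.comap (algebraMap Λ (Localization.AtPrime 𝔮)) :=
      Ideal.map_le_iff_le_comap.1 hIP'
    have hPq : P'.comap (algebraMap Λ (Localization.AtPrime 𝔮)) ≤ 𝔮 := by
      have h1 := Ideal.comap_mono (f := algebraMap Λ (Localization.AtPrime 𝔮))
        (le_maximalIdeal hP'.ne_top)
      have h2 : Ideal.comap (algebraMap Λ (Localization.AtPrime 𝔮))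
          (maximalIdeal (Localization.AtPrime 𝔮)) = 𝔮 :=
        IsLocalization.AtPrime.under_maximalIdeal (Localization.AtPrime 𝔮) 𝔮
      rwa [h2] at h1
    have hqP : 𝔮 ≤ P'.comap (algebraMap Λ (Localization.AtPrime 𝔮)) :=
      hmin.2 ⟨hP, hP.radical_le_iff.2 hIP⟩ hPq
    rw [← IsLocalization.AtPrime.map_eq_maximalIdeal 𝔮 (Localization.AtPrime 𝔮)]
    exact (Ideal.map_mono hqP).trans Ideal.map_comap_le
  obtain ⟨n₀, hn₀⟩ := Ideal.exists_pow_le_of_le_radical_of_fg hle
    (maximalIdeal (Localization.AtPrime 𝔮)).fg_of_isNoetherianRing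
  refine ⟨n₀ + 1, Nat.succ_pos _, ?_⟩
  rw [Ideal.map_pow, IsLocalization.AtPrime.map_eq_maximalIdeal 𝔮 (Localization.AtPrime 𝔮)]
  exact (Ideal.pow_le_pow_right (Nat.le_succ n₀)).trans hn₀

end Groth.Agent.Lib.Helper81.Pop
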