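import Mathlib
import Groth.Prelude.Def_Smoothing
import Groth.Agent.S6822
import Groth.Agent.Lib.Helper81.PopSepPrep
import Groth.Agent.Lib.Helper86.PhiNat
import Groth.Agent.Lib.Helper86.SingBC

/-!
# Popescu, characteristic `p`: the reduction to an Artinian problem over a general smooth base
(helper81)
-/

set_option autoImplicit false
set_option linter.style.haveILetI false
set_option linter.unusedSectionVars false
universe u

namespace Groth.Agent.Lib.Helper81.Pop

open MvPolynomial Smoothing IsLocalRing TensorProduct Groth.Agent.Lib.Helper86.PhiNat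

/-- the auxiliary algebra `C` over `k[x₁, …, x_d]`, with its retraction onto `B`, the exponent `c`
making the `x_i ^ c` strictly standard, and the compatibility of singular ideals -/
theorem exists_CData {k A : Type u} [Field k] [CommRing A] [Algebra k A]
    [Algebra.FinitePresentation k A] {r : ℕ} (a : Fin r → A)
    (hass : ∀ j, IsStrictlyStandard k A (a j))
    (hrad : singularIdeal k A = (Ideal.span (Set.range a)).radical) (d N : ℕ) :
    ∃ (C : Type u) (_ : CommRing C) (_ : Algebra (MvPolynomial (Fin d) k) C)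
      (_ : Algebra (BAlg (k := k) (fun i : Fin d => (X i : MvPolynomial (Fin d) k)) a N) C)
      (_ : IsScalarTower (MvPolynomial (Fin d) k)
        (BAlg (k := k) (fun i : Fin d => (X i : MvPolynomial (Fin d) k)) a N) C)
      (_ : Algebra.FinitePresentation (MvPolynomial (Fin d) k) C)
      (_ : C →ₐ[BAlg (k := k) (fun i : Fin d => (X i : MvPolynomial (Fin d) k)) a N]
        BAlg (k := k) (fun i : Fin d => (X i : MvPolynomial (Fin d) k)) a N) (c : ℕ), 1 ≤ c ∧
      (∀ i : Fin d, IsStrictlyStandard (MvPolynomial (Fin d) k) C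
        (algebraMap (MvPolynomial (Fin d) k) C (X i ^ c))) ∧
      (∀ y ∈ singularIdeal k A,
        algebraMap (BAlg (k := k) (fun i : Fin d => (X i : MvPolynomial (Fin d) k)) a N) C
          (ιB (k := k) (fun i : Fin d => (X i : MvPolynomial (Fin d) k)) a N y) ∈
          singularIdeal (MvPolynomial (Fin d) k) C) := by
  classical
  let xR : Fin d → MvPolynomial (Fin d) k := fun i => X i
  have hsmB : ∀ (i : Fin d) (Q : Ideal (BAlg (k := k) xR a N)) [Q.IsPrime],
      algebraMap (MvPolynomial (Fin d) k) (BAlg (k := k) xR a N) (xR i) ∉ Q →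
        Algebra.IsSmoothAt (MvPolynomial (Fin d) k) Q := by
    intro i Q _ hQ
    by_contra hns
    apply hQ
    have hall : ∀ j, ιB (k := k) xR a N (a j) ∈ Q := by
      intro j
      by_contra hj
      exact hns (isSmoothAt_BAlg xR a N j (hass j) Q hj)
    have hmem := pow_mem_span_BAlg (k := k) xR a N i
    have hle : Ideal.span (Set.range fun j => ιB (k := k) xR a N (a j)) ≤ Q :=
      Ideal.span_le.2 (by rintro _ ⟨j, rfl⟩; exact hall j)
    exact Ideal.IsPrime.mem_of_pow_mem inferInstance N (hle hmem)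
  obtain ⟨C, _, _, _, _, hfpC, ⟨ρ⟩, hC⟩ := exists_retract_strictlyStandard
    (R := MvPolynomial (Fin d) k) (B := BAlg (k := k) xR a N)
  choose hsmC e₀ he₀ using fun i : Fin d =>
    hC (algebraMap (MvPolynomial (Fin d) k) (BAlg (k := k) xR a N) (xR i)) (hsmB i)
  set c : ℕ := max 1 (Finset.univ.sup e₀) with hc
  have hc1 : 1 ≤ c := le_max_left _ _
  have hce : ∀ i, e₀ i ≤ c := fun i =>
    (Finset.le_sup (Finset.mem_univ i)).trans (le_max_right _ _)
  refine ⟨C, inferInstance, inferInstance, inferInstance, inferInstance, hfpC, ρ, c, hc1, ?_, ?_⟩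
  · intro i
    have h1 := he₀ i c (hce i)
    rwa [← map_pow, ← map_pow, ← IsScalarTower.algebraMap_apply] at h1
  · intro y hy
    rw [mem_singularIdeal_iff]
    intro Q' _ hQ'
    have hall : ∀ j, algebraMap (BAlg (k := k) xR a N) C (ιB (k := k) xR a N (a j)) ∈ Q' := by
      intro j
      by_contra hj
      exact hQ' ((hC (ιB (k := k) xR a N (a j))
        (fun Q _ hQ => isSmoothAt_BAlg xR a N j (hass j) Q hQ)).1 Q' hj)
    rw [hrad] at hy
    obtain ⟨M, hM⟩ := hy
    let ιC : A →+* C :=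
      (algebraMap (BAlg (k := k) xR a N) C).comp (ιB (k := k) xR a N).toRingHom
    have h1 : ιC (y ^ M) ∈ (Ideal.span (Set.range a)).map ιC := Ideal.mem_map_of_mem _ hM
    rw [Ideal.map_span, ← Set.range_comp] at h1
    have hle : Ideal.span (Set.range (ιC ∘ a)) ≤ Q' :=
      Ideal.span_le.2 (by rintro _ ⟨j, rfl⟩; exact hall j)
    have h2 := hle h1
    rw [map_pow] at h2
    exact Ideal.IsPrime.mem_of_pow_mem inferInstance M h2

theorem one_tmul_algebraMap {R₁ R C : Type*} [CommRing R₁] [CommRing R] [CommRing C]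
    [Algebra R₁ R] [Algebra R₁ C] (t : R₁) :
    (1 : R) ⊗ₜ[R₁] algebraMap R₁ C t = algebraMap R (R ⊗[R₁] C) (algebraMap R₁ R t) := by
  rw [Algebra.TensorProduct.algebraMap_apply, Algebra.algebraMap_self_apply,
    Algebra.algebraMap_eq_smul_one, Algebra.algebraMap_eq_smul_one (A := R), TensorProduct.tmul_smul,
    TensorProduct.smul_tmul']

section
variable {k A Λ : Type u} [Field k] [CommRing A] [Algebra k A] [Algebra.FinitePresentation k A]
  [CommRing Λ] [Algebra k Λ] (φ : A →ₐ[k] Λ) (𝔮 : Ideal Λ) [𝔮.IsPrime]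
  {r : ℕ} (a : Fin r → A) {d : ℕ} (hd : 0 < d) (N : ℕ)

local notation "kx" => MvPolynomial (Fin d) k
local notation "xR" => (fun i : Fin d => (X i : MvPolynomial (Fin d) k))
local notation "B" => BAlg (k := k) (fun i : Fin d => (X i : MvPolynomial (Fin d) k)) a N

include hd in
theorem resolvable_of_reduced
    {C : Type u} [CommRing C] [Algebra kx C] [Algebra B C] [IsScalarTower kx B C]
    [Algebra.FinitePresentation kx C] (ρ : C →ₐ[B] B) (c : ℕ) (hc : 1 ≤ c)
    (hstd : ∀ i : Fin d, IsStrictlyStandard kx C (algebraMap kx C (X i ^ c)))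
    (hsingC : ∀ y ∈ singularIdeal k A,
      algebraMap B C (ιB (k := k) xR a N y) ∈ singularIdeal kx C)
    (R : Type u) [CommRing R] [IsNoetherianRing R] [Algebra k R] [Algebra.FinitePresentation k R]
    [Algebra.FormallySmooth k R] [Algebra kx R] [IsScalarTower k kx R]
    [Algebra kx Λ] [IsScalarTower k kx Λ] [Algebra R Λ] [IsScalarTower kx R Λ]
    [IsScalarTower k R Λ]
    (lam : Fin d → Fin r → Λ) (hlam : ∀ i, algebraMap kx Λ (X i) ^ N = ∑ j, φ (a j) * lam i j)
    (γ : Fin d → R) (hγ : ∀ i, algebraMap kx R (X i) = γ i)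
    (hq : ∀ i, algebraMap R Λ (γ i) ∈ 𝔮)
    (hR : ∀ (i : Fin d) (y : R),
      γ i ^ 2 * y ∈ Ideal.span (Set.range fun j : {j : Fin d // (j : ℕ) < (i : ℕ)} =>
        γ j ^ (c * 8)) →
      γ i * y ∈ Ideal.span (Set.range fun j : {j : Fin d // (j : ℕ) < (i : ℕ)} => γ j ^ (c * 8)))
    (hΛ : ∀ (i : Fin d) (y : Λ),
      algebraMap R Λ (γ i) ^ 2 * y ∈
        Ideal.span (Set.range fun j : {j : Fin d // (j : ℕ) < (i : ℕ)} =>
          algebraMap R Λ (γ j) ^ (c * 8)) →
      algebraMap R Λ (γ i) * y ∈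
        Ideal.span (Set.range fun j : {j : Fin d // (j : ℕ) < (i : ℕ)} =>
          algebraMap R Λ (γ j) ^ (c * 8)))
    (K : Ideal R) (hK : K = Ideal.span (Set.range fun i => γ i ^ (c * 8)))
    (φK : ((R ⊗[kx] C) ⧸ K.map (algebraMap R (R ⊗[kx] C))) →ₐ[R ⧸ K]
      (Λ ⧸ K.map (algebraMap R Λ)))
    (hφK : ∀ t, φK (Ideal.Quotient.mk _ t) =
      Ideal.Quotient.mk _ (PhiC xR a N ρ R φ lam hlam t))
    (hres : Resolvable (R ⧸ K) φK (𝔮.map (Ideal.Quotient.mk (K.map (algebraMap R Λ))))) :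
    Resolvable k φ 𝔮 := by
  classical
  let φCR : R ⊗[kx] C →ₐ[R] Λ := PhiC xR a N ρ R φ lam hlam
  let ιCR : A →+* R ⊗[kx] C :=
    (Algebra.TensorProduct.includeRight : C →ₐ[kx] R ⊗[kx] C).toRingHom.comp
      ((algebraMap B C).comp (ιB (k := k) xR a N).toRingHom)
  have hιCR : ∀ y, ιCR y = (1 : R) ⊗ₜ[kx] algebraMap B C (ιB (k := k) xR a N y) := fun _ => rfl
  have hι : ∀ y, φCR (ιCR y) = φ y := fun y => by
    rw [hιCR]
    exact PhiC_one_tmul_ιB xR a N ρ R φ lam hlam y
  have hιk : ∀ y : k, ιCR (algebraMap k A y) =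
      algebraMap R (R ⊗[kx] C) (algebraMap k R y) := by
    intro y
    rw [hιCR, AlgHom.commutes, IsScalarTower.algebraMap_apply k kx B,
      ← IsScalarTower.algebraMap_apply kx B C, one_tmul_algebraMap,
      ← IsScalarTower.algebraMap_apply k kx R]
  have hsing : ∀ y ∈ singularIdeal k A, ιCR y ∈ singularIdeal R (R ⊗[kx] C) := by
    intro y hy
    rw [hιCR]
    exact Groth.Agent.Lib.Helper86.SingBC.tmul_mem_singularIdeal _ (hsingC y hy)
  refine resolvable_of_resolvable_tower (k := k) (R := R) φ ιCR φCR hι hιk 𝔮 hsing ?_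
  have hK' : K = Ideal.span (Set.range fun i : Fin d => (γ i ^ c) ^ 8) := by
    rw [hK]
    congr 2
    funext i
    rw [pow_mul]
  refine Groth.Agent.S6822.result φCR 𝔮 hd (fun i => γ i ^ c) ?_ ?_ ?_ ?_ K hK' φK hφK hres
  · intro i
    rw [map_pow]
    exact Ideal.pow_mem_of_mem _ (hq i) c (by omega)
  · intro i x hx
    obtain ⟨y, rfl⟩ := Ideal.Quotient.mk_surjective x
    rw [← map_pow, ← map_mul, Ideal.Quotient.eq_zero_iff_mem] at hx
    rw [← map_mul, Ideal.Quotient.eq_zero_iff_mem]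
    have hgen : (fun j : {j : Fin d // (j : ℕ) < (i : ℕ)} => (γ (j : Fin d) ^ c) ^ 8) =
        fun j : {j : Fin d // (j : ℕ) < (i : ℕ)} => γ (j : Fin d) ^ (c * 8) := by
      funext j
      rw [pow_mul]
    rw [hgen] at hx ⊢
    exact pow_mul_mem_of_pow_sq_mul_mem _ (γ i) (hR i) c hc y hx
  · intro i x hx
    obtain ⟨y, rfl⟩ := Ideal.Quotient.mk_surjective x
    rw [← map_pow, ← map_mul, Ideal.Quotient.eq_zero_iff_mem] at hx
    rw [← map_mul, Ideal.Quotient.eq_zero_iff_mem]
    have hgen : (fun j : {j : Fin d // (j : ℕ) < (i : ℕ)} =>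
        algebraMap R Λ (γ (j : Fin d) ^ c) ^ 8) =
        fun j : {j : Fin d // (j : ℕ) < (i : ℕ)} => algebraMap R Λ (γ (j : Fin d)) ^ (c * 8) := by
      funext j
      rw [map_pow, pow_mul]
    rw [hgen] at hx ⊢
    rw [map_pow] at hx ⊢
    exact pow_mul_mem_of_pow_sq_mul_mem _ (algebraMap R Λ (γ i)) (hΛ i) c hc y hx
  · intro i
    have h1 := (Groth.Agent.S6829.result (R' := R) (algebraMap kx C (X i ^ c))).2 (hstd i)
    rwa [one_tmul_algebraMap, map_pow, hγ] at h1

end

end Groth.Agent.Lib.Helper81.Pop
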