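import Mathlib
import Groth.Prelude.Def_Smoothing
import Groth.Agent.Lib.Helper90.GeomRegBridge
import Groth.Agent.Lib.Helper50.GeomReduced
import Groth.Agent.Lib.Helper81.PopAssembly1

/-!
# Popescu, characteristic `p`: the case of dimension zero and some ideal-theoretic lemmas (helper81)
-/

set_option autoImplicit false
set_option linter.style.haveILetI false
universe u

namespace Groth.Agent.Lib.Helper81.Pop

open MvPolynomial Smoothing IsLocalRing TensorProduct

theorem isGeometricallyRegular_localization {k Λ : Type u} [Field k] [CommRing Λ] [Algebra k Λ]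
    (hreg : CAlg.IsGeometricallyRegular k Λ) (𝔮 : Ideal Λ) [𝔮.IsPrime] :
    CAlg.IsGeometricallyRegular k (Localization.AtPrime 𝔮) :=
  fun k' _ _ hfin =>
    Groth.Agent.Lib.Helper90.GeomRegBridge.isRegularRing_tensor_localization k' 𝔮 (hreg k' hfin)

theorem isGeometricallyReduced_of_isGeometricallyRegular {k S : Type u} [Field k] [CommRing S]
    [Algebra k S] (h : CAlg.IsGeometricallyRegular k S) : Algebra.IsGeometricallyReduced k S := by
  apply Groth.Agent.Lib.Helper50.isGeometricallyReduced_of_forall_finite_isPurelyInseparable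
  intro k' _ _ hfin _
  haveI := h k' hfin
  exact Groth.Agent.Lib.Helper90.SmoothRegular.isReduced_of_isRegularRing _

/-- the case of dimension zero over a field, for a geometrically regular algebra -/
theorem resolvable_of_spanFinrank_eq_zero' {k A Λ : Type u} [Field k] [CommRing A] [Algebra k A]
    [Algebra.FinitePresentation k A] [CommRing Λ] [Algebra k Λ] [IsNoetherianRing Λ]
    (hreg : CAlg.IsGeometricallyRegular k Λ)
    (φ : A →ₐ[k] Λ) (𝔮 : Ideal Λ) [𝔮.IsPrime]
    (hd : (maximalIdeal (Localization.AtPrime 𝔮)).spanFinrank = 0) : Resolvable k φ 𝔮 := by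
  have hbot : maximalIdeal (Localization.AtPrime 𝔮) = ⊥ :=
    (Submodule.spanFinrank_eq_zero_iff_eq_bot
      (maximalIdeal (Localization.AtPrime 𝔮)).fg_of_isNoetherianRing).1 hd
  have hfield : IsField (Localization.AtPrime 𝔮) := IsLocalRing.isField_iff_maximalIdeal_eq.2 hbot
  have hdim : ringKrullDim (Localization.AtPrime 𝔮) = 0 := ringKrullDim_eq_zero_of_isField hfield
  haveI : Algebra.IsGeometricallyReduced k (Localization.AtPrime 𝔮) :=
    isGeometricallyReduced_of_isGeometricallyRegular (isGeometricallyRegular_localization hreg 𝔮)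
  have hind : IndSmooth k (Localization.AtPrime 𝔮) :=
    indSmooth_of_isGeometricallyReduced (k := k) (K₀ := k) (Field.toIsField k) hfield
      Function.surjective_id
  have hnil : IsNilpotent (maximalIdeal k) := by
    rw [IsLocalRing.maximalIdeal_eq_bot]
    exact ⟨1, pow_one _⟩
  exact resolvable_of_indSmooth_localization hnil φ 𝔮 (Localization.AtPrime 𝔮) hdim hind

section pigeonhole
variable {R : Type u} [CommRing R]

theorem span_image_pow_le {ι : Type*} (g : ι → R) (e : ℕ) (s : Finset ι) :
    Ideal.span (g '' (s : Set ι)) ^ (s.card * e + 1) ≤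
      Ideal.span ((fun i => g i ^ e) '' (s : Set ι)) := by
  classical
  induction s using Finset.induction_on with
  | empty => simp
  | insert a s ha ih =>
    rw [Finset.coe_insert, Set.image_insert_eq, Set.image_insert_eq, Ideal.span_insert,
      Ideal.span_insert, Finset.card_insert_of_notMem ha]
    have h1 : (s.card + 1) * e + 1 = e + (s.card * e + 1) := by ring
    rw [h1]
    refine Ideal.sup_pow_add_le_pow_sup_pow.trans (sup_le_sup ?_ ih)
    rw [Ideal.span_singleton_pow]

theorem span_range_pow_le {d : ℕ} (g : Fin d → R) (e : ℕ) :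
    Ideal.span (Set.range g) ^ (d * e + 1) ≤ Ideal.span (Set.range fun i => g i ^ e) := by
  have h := span_image_pow_le g e (Finset.univ : Finset (Fin d))
  rwa [Finset.coe_univ, Set.image_univ, Set.image_univ, Finset.card_univ, Fintype.card_fin] at h

end pigeonhole

end Groth.Agent.Lib.Helper81.Pop
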