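import Mathlib
import Groth.Agent.S2036
import Groth.Agent.Lib.Helper81.PopCharP1
import Groth.Agent.Lib.Helper81.ArtSubRefined
import Groth.Agent.Lib.Helper81.DiffBasisFlat

set_option autoImplicit false
set_option linter.style.haveILetI false
universe u

namespace Groth.Agent.Lib.Helper81.Pop

open Algebra IsLocalRing KaehlerDifferential

section FirstBatch

variable {k L : Type u} [Field k] (p : ℕ) [hp : Fact p.Prime] [CharP k p] [CommRing L]
  [IsLocalRing L] [IsNoetherianRing L] [Algebra k L]

/-- the canonical map from a quotient by a power of the maximal ideal to the residue field -/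
noncomputable def quotPowToResidue (k : Type u) [Field k] (L : Type u) [CommRing L]
    [IsLocalRing L] [Algebra k L] (n : ℕ) (hn : 1 ≤ n) :
    (L ⧸ maximalIdeal L ^ n) →ₐ[k] ResidueField L :=
  Ideal.Quotient.liftₐ (maximalIdeal L ^ n) (IsScalarTower.toAlgHom k L (ResidueField L)) (by
    intro a ha
    have : a ∈ maximalIdeal L := Ideal.pow_le_self (by omega) ha
    exact (residue_eq_zero_iff a).2 this)

theorem quotPowToResidue_mk (n : ℕ) (hn : 1 ≤ n) (a : L) :
    quotPowToResidue k L n hn (Ideal.Quotient.mk _ a) = residue L a := rfl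

include hp in
theorem exists_firstBatch (hgr : CAlg.IsGeometricallyRegular k L) (Λ₁ : Subalgebra k L)
    (hΛ₁ : ∀ x : L, ∃ a ∈ Λ₁, ∃ u ∈ Λ₁, IsUnit u ∧ x * u = a) (n : ℕ) (hn : 1 ≤ n)
    [IsLocalRing (L ⧸ maximalIdeal L ^ n)] [IsArtinianRing (L ⧸ maximalIdeal L ^ n)]
    (E : Finset L) :
    ∃ (D : Subalgebra k (L ⧸ maximalIdeal L ^ n)) (_ : IsLocalRing D) (m : ℕ) (y : Fin m → L)
      (yD : Fin m → D),
      (∀ j, y j ∈ Λ₁) ∧ (∀ j, (yD j : L ⧸ maximalIdeal L ^ n) = Ideal.Quotient.mk _ (y j)) ∧
      (∀ x ∈ E, Ideal.Quotient.mk (maximalIdeal L ^ n) x ∈ D) ∧ IsArtinianRing D ∧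
      Module.Flat D (L ⧸ maximalIdeal L ^ n) ∧ Algebra.EssFiniteType k D ∧
      (maximalIdeal D).map (algebraMap D (L ⧸ maximalIdeal L ^ n)) =
        maximalIdeal (L ⧸ maximalIdeal L ^ n) ∧
      Submodule.span (ResidueField D) (Set.range fun j =>
        KaehlerDifferential.D k (ResidueField D) (residue D (yD j))) = ⊤ ∧
      (letI := (MvPolynomial.aeval y : MvPolynomial (Fin m) k →ₐ[k] L).toRingHom.toAlgebra
       Module.Flat (MvPolynomial (Fin m) k) L) ∧
      IsRegularLocalRing (L ⧸ Ideal.map (MvPolynomial.aeval y : MvPolynomial (Fin m) k →ₐ[k] L).toRingHom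
        (Ideal.comap (MvPolynomial.aeval y : MvPolynomial (Fin m) k →ₐ[k] L).toRingHom
          (maximalIdeal L))) := by
  classical
  have hfs : CAlgX.IsAdicFormallySmooth k L (maximalIdeal L) :=
    (Groth.Agent.S2036.result (k := k) (A := L) p).1 hgr
  have hH := finite_h1Cotangent_residueField_quotient hfs (maximalIdeal L ^ n)
  set Λb := L ⧸ maximalIdeal L ^ n with hΛb
  let mkₐ : L →ₐ[k] Λb := Ideal.Quotient.mkₐ k (maximalIdeal L ^ n)
  have hmkₐ : ∀ a, mkₐ a = Ideal.Quotient.mk _ a := fun a => rfl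
  let Λb₁ : Subalgebra k Λb := Λ₁.map mkₐ
  have hΛb₁ : ∀ x : Λb, ∃ a ∈ Λb₁, ∃ u ∈ Λb₁, IsUnit u ∧ x * u = a := by
    intro x
    obtain ⟨x', rfl⟩ := Ideal.Quotient.mk_surjective x
    obtain ⟨a, ha, u, hu, huu, hxu⟩ := hΛ₁ x'
    refine ⟨mkₐ a, ⟨a, ha, rfl⟩, mkₐ u, ⟨u, hu, rfl⟩, huu.map mkₐ, ?_⟩
    rw [hmkₐ, hmkₐ, ← map_mul, hxu]
  obtain ⟨D, hloc, hED, hart, hflat, hess, hmax, T, hT, hspan⟩ :=
    ArtSub.exists_subalgebra_refined p hH Λb₁ hΛb₁ (E.image (Ideal.Quotient.mk _))
  haveI := hloc
  -- extract a basis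
  let v : T → Ω[ResidueField D⁄k] := fun t => KaehlerDifferential.D k (ResidueField D) (residue D t.1)
  obtain ⟨b, hbsub, hbspan, hbli⟩ := exists_linearIndependent (ResidueField D) (Set.range v)
  have hbfin : b.Finite := (Set.finite_range v).subset hbsub
  haveI : Fintype b := hbfin.fintype
  let eb : b ≃ Fin (Fintype.card b) := Fintype.equivFin b
  have hpre : ∀ ω : b, ∃ t : T, v t = ω.1 := fun ω => hbsub ω.2
  choose tOf htOf using hpre
  have hlift : ∀ t : T, ∃ a : L, a ∈ Λ₁ ∧ Ideal.Quotient.mk (maximalIdeal L ^ n) a = (t.1 : Λb) := by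
    intro t
    obtain ⟨a, ha, hat⟩ := hT t.1 t.2
    exact ⟨a, ha, hat⟩
  choose aOf haOf haOf' using hlift
  refine ⟨D, hloc, Fintype.card b, fun j => aOf (tOf (eb.symm j)), fun j => (tOf (eb.symm j)).1,
    fun j => haOf _, fun j => (haOf' _).symm, ?_, hart, hflat, hess, hmax, ?_, ?_⟩
  · intro x hx
    exact hED (Finset.mem_coe.2 (Finset.mem_image_of_mem _ hx))
  · -- span
    have hrange : (Set.range fun j : Fin (Fintype.card b) =>
        KaehlerDifferential.D k (ResidueField D) (residue D (tOf (eb.symm j)).1)) = b := by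
      ext ω
      constructor
      · rintro ⟨j, rfl⟩
        have := htOf (eb.symm j)
        change v (tOf (eb.symm j)) ∈ b
        rw [this]
        exact (eb.symm j).2
      · intro hω
        refine ⟨eb ⟨ω, hω⟩, ?_⟩
        change v (tOf (eb.symm (eb ⟨ω, hω⟩))) = ω
        rw [Equiv.symm_apply_apply, htOf]
    rw [hrange, hbspan, hspan]
  · -- apply the differential basis criterion
    set y : Fin (Fintype.card b) → L := fun j => aOf (tOf (eb.symm j)) with hy
    let yD : Fin (Fintype.card b) → D := fun j => (tOf (eb.symm j)).1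
    have hyD : ∀ j, (yD j : Λb) = Ideal.Quotient.mk _ (y j) := fun j => (haOf' _).symm
    have hvfun : (fun j => KaehlerDifferential.D k (ResidueField D) (residue D (yD j))) =
        fun j => ((eb.symm j : b) : Ω[ResidueField D⁄k]) := by
      funext j
      exact htOf (eb.symm j)
    have hli' : LinearIndependent (ResidueField D)
        (fun j => KaehlerDifferential.D k (ResidueField D) (residue D (yD j))) := by
      rw [hvfun]
      exact hbli.comp _ eb.symm.injective
    have hsp' : Submodule.span (ResidueField D) (Set.range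
        fun j => KaehlerDifferential.D k (ResidueField D) (residue D (yD j))) = ⊤ := by
      rw [hvfun]
      have : (Set.range fun j => ((eb.symm j : b) : Ω[ResidueField D⁄k])) = b := by
        ext ω
        constructor
        · rintro ⟨j, rfl⟩
          exact (eb.symm j).2
        · intro hω
          exact ⟨eb ⟨ω, hω⟩, by simp only [Equiv.symm_apply_apply]⟩
      rw [this, hbspan, hspan]
    -- the map on residue fields
    let ρn := quotPowToResidue k L n hn
    let ιD : ResidueField D →ₐ[k] ResidueField L :=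
      Ideal.Quotient.liftₐ (maximalIdeal D) (ρn.comp D.val) (by
        intro a ha
        have h1 : (a : Λb) ∈ maximalIdeal Λb := by
          rw [← hmax]
          exact Ideal.mem_map_of_mem (algebraMap D Λb) ha
        obtain ⟨a', ha'⟩ := Ideal.Quotient.mk_surjective (a : Λb)
        show ρn (a : Λb) = 0
        rw [← ha', quotPowToResidue_mk, residue_eq_zero_iff]
        by_contra hnot
        have hu : IsUnit a' := by
          by_contra hnu
          exact hnot ((mem_maximalIdeal _).2 hnu)
        have h2 : IsUnit (Ideal.Quotient.mk (maximalIdeal L ^ n) a') := hu.map _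
        rw [ha'] at h2
        exact (mem_maximalIdeal _).1 h1 h2)
    have hιD : ∀ a : D, ιD (residue D a) = ρn (a : Λb) := fun a => rfl
    let φ' : MvPolynomial (Fin (Fintype.card b)) k →ₐ[k] L := MvPolynomial.aeval y
    have hres : ∀ j, residue L (φ' (MvPolynomial.X j)) = ιD (residue D (yD j)) := by
      intro j
      rw [MvPolynomial.aeval_X, hιD, hyD, quotPowToResidue_mk]
    have hφ : ∀ j, residue L (φ' (MvPolynomial.X j)) ∈ ιD.fieldRange :=
      fun j => ⟨_, (hres j).symm⟩
    have hb0 := basis_D_fieldRange ιD (fun j => residue D (yD j)) hli' hsp'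
    have hfun : (fun j => KaehlerDifferential.D k ιD.fieldRange
          ⟨residue L (φ' (MvPolynomial.X j)), hφ j⟩) =
        fun j => KaehlerDifferential.D k ιD.fieldRange
          ⟨ιD (residue D (yD j)), ⟨residue D (yD j), rfl⟩⟩ := by
      funext j
      congr 1
      exact Subtype.ext (hres j)
    exact Groth.Agent.Lib.Helper81.DiffBasisFlat.main p k L hgr ιD.fieldRange _ φ' hφ
      (by rw [hfun]; exact hb0)
end FirstBatch

end Groth.Agent.Lib.Helper81.Pop
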