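import Mathlib
import Groth.Agent.S2470
import Groth.Agent.S2471
import Groth.Agent.S2036
import Groth.Agent.Lib.Helper81.PopBaseMain
import Groth.Agent.Lib.Helper81.PopCharP2
import Groth.Agent.Lib.Helper85.RegularGens

/-!
# Local structure in positive characteristic: parameters (helper81)

Given a geometrically regular Noetherian local `k`-algebra `L` (char. `p`), a subalgebra `Λ₁` of which
`L` is a localization, we find a polynomial ring `P = k[y]` mapping to `L` through `Λ₁` such that
`P_𝔭 → L` is flat with `𝔭 L = 𝔪_L`, together with an Artinian subalgebra `D` of `L/𝔪ⁿ`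
whose residue field is finite separable over `κ(𝔭)`.
-/

set_option autoImplicit false
set_option linter.style.haveILetI false
universe u

namespace Groth.Agent.Lib.Helper81.Pop

open IsLocalRing MvPolynomial

section LocMap

variable {P L : Type*} [CommRing P] [CommRing L] [IsLocalRing L] (φ : P →+* L)

theorem isUnit_of_mem_primeCompl_comap (y : ((maximalIdeal L).comap φ).primeCompl) :
    IsUnit (φ y) := by
  by_contra h
  exact y.2 ((mem_maximalIdeal _).2 h)

/-- the local homomorphism from the localization at the contraction of the maximal ideal -/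
noncomputable def locMap : Localization.AtPrime ((maximalIdeal L).comap φ) →+* L :=
  IsLocalization.lift (M := ((maximalIdeal L).comap φ).primeCompl) (g := φ)
    (isUnit_of_mem_primeCompl_comap φ)

theorem locMap_algebraMap (x : P) :
    locMap φ (algebraMap P (Localization.AtPrime ((maximalIdeal L).comap φ)) x) = φ x :=
  IsLocalization.lift_eq _ x

theorem locMap_comp : (locMap φ).comp
    (algebraMap P (Localization.AtPrime ((maximalIdeal L).comap φ))) = φ :=
  RingHom.ext (locMap_algebraMap φ)

theorem map_maximalIdeal_locMap :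
    (maximalIdeal (Localization.AtPrime ((maximalIdeal L).comap φ))).map (locMap φ) =
      ((maximalIdeal L).comap φ).map φ := by
  rw [← Localization.AtPrime.map_eq_maximalIdeal, Ideal.map_map, locMap_comp]

instance isLocalHom_locMap : IsLocalHom (locMap φ) := by
  constructor
  intro a ha
  obtain ⟨x, s, rfl⟩ := IsLocalization.exists_mk'_eq ((maximalIdeal L).comap φ).primeCompl a
  have h1 : locMap φ (IsLocalization.mk' _ x s) * φ s = φ x := by
    rw [← locMap_algebraMap φ (s : P), ← locMap_algebraMap φ x, ← map_mul,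
      IsLocalization.mk'_spec]
  have h2 : IsUnit (φ x) := by
    rw [← h1]
    exact IsUnit.mul ha (isUnit_of_mem_primeCompl_comap φ s)
  have h3 : x ∈ ((maximalIdeal L).comap φ).primeCompl := by
    intro hx
    exact (mem_maximalIdeal _).1 hx h2
  exact (IsLocalization.AtPrime.isUnit_mk'_iff _ ((maximalIdeal L).comap φ) x s).mpr h3

end LocMap



section SumVars

variable {R : Type*} [CommRing R] {σ₁ σ₂ : Type*}

theorem eq_map_comap_rename_sup_span (I : Ideal (MvPolynomial (σ₁ ⊕ σ₂) R))
    (hI : ∀ j : σ₂, (X (Sum.inr j) : MvPolynomial (σ₁ ⊕ σ₂) R) ∈ I) :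
    I = (I.comap (rename Sum.inl : MvPolynomial σ₁ R →ₐ[R] MvPolynomial (σ₁ ⊕ σ₂) R)).map
        (rename Sum.inl : MvPolynomial σ₁ R →ₐ[R] MvPolynomial (σ₁ ⊕ σ₂) R) ⊔
      Ideal.span (Set.range fun j : σ₂ => (X (Sum.inr j) : MvPolynomial (σ₁ ⊕ σ₂) R)) := by
  set ι : MvPolynomial σ₁ R →ₐ[R] MvPolynomial (σ₁ ⊕ σ₂) R := rename Sum.inl with hι
  set J : Ideal (MvPolynomial (σ₁ ⊕ σ₂) R) :=
    Ideal.span (Set.range fun j : σ₂ => (X (Sum.inr j) : MvPolynomial (σ₁ ⊕ σ₂) R)) with hJ
  have hJI : J ≤ I := by
    rw [hJ, Ideal.span_le]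
    rintro _ ⟨j, rfl⟩
    exact hI j
  apply le_antisymm
  · intro f hf
    let ev : MvPolynomial (σ₁ ⊕ σ₂) R →ₐ[R] MvPolynomial σ₁ R :=
      aeval (Sum.elim (fun i => X i) (fun _ => 0))
    have hcomp : ι.comp ev = aeval (Sum.elim (fun i => X (Sum.inl i)) (fun _ => 0)) := by
      apply MvPolynomial.algHom_ext
      rintro (i | j)
      · simp [ev, hι]
      · simp [ev]
    have h1 : f - ι (ev f) ∈ J := by
      have := aeval_sub_aeval_mem (R := R) J (fun i => (X i : MvPolynomial (σ₁ ⊕ σ₂) R))
        (Sum.elim (fun i => X (Sum.inl i)) (fun _ => 0)) (by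
          rintro (i | j)
          · simp
          · simp only [Sum.elim_inr, sub_zero]
            exact Ideal.subset_span ⟨j, rfl⟩) f
      rw [aeval_X_left, AlgHom.id_apply, ← hcomp] at this
      exact this
    have h2 : ι (ev f) ∈ I := by
      have : ι (ev f) = f - (f - ι (ev f)) := by ring
      rw [this]
      exact I.sub_mem hf (hJI h1)
    have h3 : f = ι (ev f) + (f - ι (ev f)) := by ring
    rw [h3]
    exact Ideal.add_mem _ (Ideal.mem_sup_left (Ideal.mem_map_of_mem _ (Ideal.mem_comap.2 h2)))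
      (Ideal.mem_sup_right h1)
  · exact sup_le Ideal.map_comap_le hJI

end SumVars



/-- from a finite generating family of the maximal ideal of a Noetherian local ring one can extract
a generating subfamily of minimal size -/
theorem exists_subfamily_span_eq_maximalIdeal {R : Type*} [CommRing R] [IsLocalRing R]
    [IsNoetherianRing R] {s : ℕ} (g : Fin s → R) (hg : Ideal.span (Set.range g) = maximalIdeal R) :
    ∃ f : Fin (maximalIdeal R).spanFinrank → Fin s,
      Ideal.span (Set.range fun j => g (f j)) = maximalIdeal R := by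
  classical
  have hmem : ∀ i, g i ∈ maximalIdeal R := fun i => hg ▸ Ideal.subset_span ⟨i, rfl⟩
  let g' : Fin s → maximalIdeal R := fun i => ⟨g i, hmem i⟩
  let v : Fin s → CotangentSpace R := fun i => (maximalIdeal R).toCotangent (g' i)
  have hspanR : Submodule.span R (Set.range g') = ⊤ := by
    apply Submodule.map_injective_of_injective (Submodule.injective_subtype (maximalIdeal R))
    rw [Submodule.map_span, Submodule.map_top, Submodule.range_subtype, ← Set.range_comp]
    exact hg
  have hspan : Submodule.span (ResidueField R) (Set.range v) = ⊤ := by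
    have := (CotangentSpace.span_image_eq_top_iff (R := R) (s := Set.range g')).mpr hspanR
    rwa [← Set.range_comp] at this
  obtain ⟨b, hbsub, hbspan, hbli⟩ := exists_linearIndependent (ResidueField R) (Set.range v)
  rw [hspan] at hbspan
  have hbfin : b.Finite := (Set.finite_range v).subset hbsub
  haveI : Fintype b := hbfin.fintype
  let B : Module.Basis b (ResidueField R) (CotangentSpace R) :=
    Module.Basis.mk hbli (by rw [Subtype.range_coe_subtype, Set.setOf_mem_eq, hbspan])
  have hcard : Fintype.card b = (maximalIdeal R).spanFinrank := by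
    rw [spanFinrank_maximalIdeal_eq_finrank_cotangentSpace, Module.finrank_eq_card_basis B]
  let eb : b ≃ Fin (maximalIdeal R).spanFinrank := (Fintype.equivFin b).trans (finCongr hcard)
  have hpre : ∀ ω : b, ∃ i : Fin s, v i = ω.1 := fun ω => hbsub ω.2
  choose iOf hiOf using hpre
  refine ⟨fun j => iOf (eb.symm j), ?_⟩
  have h1 : Submodule.span R (Set.range fun j => g' (iOf (eb.symm j))) = ⊤ := by
    rw [← CotangentSpace.span_image_eq_top_iff, ← Set.range_comp]
    have : (Set.range ((maximalIdeal R).toCotangent ∘ fun j => g' (iOf (eb.symm j)))) = b := by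
      ext ω
      constructor
      · rintro ⟨j, rfl⟩
        change v (iOf (eb.symm j)) ∈ b
        rw [hiOf]
        exact (eb.symm j).2
      · intro hω
        refine ⟨eb ⟨ω, hω⟩, ?_⟩
        change v (iOf (eb.symm (eb ⟨ω, hω⟩))) = ω
        rw [Equiv.symm_apply_apply, hiOf]
    rw [this, hbspan]
  have h2 := congrArg (Submodule.map (Submodule.subtype (maximalIdeal R))) h1
  rw [Submodule.map_span, Submodule.map_top, Submodule.range_subtype, ← Set.range_comp] at h2
  exact h2


section Main

variable {k L : Type u} [Field k] (p : ℕ) [hp : Fact p.Prime] [CharP k p] [CommRing L]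
  [IsLocalRing L] [IsNoetherianRing L] [Algebra k L]

/-- evaluation of polynomials, as a ring homomorphism -/
noncomputable def evalHom (k : Type u) [Field k] {L : Type u} [CommRing L] [Algebra k L]
    {σ : Type} (y : σ → L) : MvPolynomial σ k →+* L :=
  (MvPolynomial.aeval y : MvPolynomial σ k →ₐ[k] L).toRingHom

theorem evalHom_X {σ : Type} (y : σ → L) (i : σ) : evalHom k y (X i) = y i :=
  MvPolynomial.aeval_X y i

theorem evalHom_C {σ : Type} (y : σ → L) (c : k) : evalHom k y (C c) = algebraMap k L c := by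
  change MvPolynomial.aeval y (C c) = _
  rw [← MvPolynomial.algebraMap_eq, AlgHom.commutes]

theorem map_maximalIdeal_mk (I : Ideal L) [IsLocalRing (L ⧸ I)] :
    (maximalIdeal L).map (Ideal.Quotient.mk I) = maximalIdeal (L ⧸ I) := by
  haveI : IsLocalHom (Ideal.Quotient.mk I) :=
    IsLocalHom.of_surjective _ Ideal.Quotient.mk_surjective
  apply le_antisymm
  · rw [Ideal.map_le_iff_le_comap]
    intro x hx
    rw [Ideal.mem_comap, mem_maximalIdeal, mem_nonunits_iff]
    intro h
    exact (mem_maximalIdeal _).1 hx (isUnit_of_map_unit (Ideal.Quotient.mk I) x h)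
  · intro x hx
    obtain ⟨z, rfl⟩ := Ideal.Quotient.mk_surjective x
    apply Ideal.mem_map_of_mem
    rw [mem_maximalIdeal, mem_nonunits_iff]
    intro h
    exact (mem_maximalIdeal _).1 hx (h.map _)

end Main


section Main2

variable {k L : Type u} [Field k] (p : ℕ) [hp : Fact p.Prime] [CharP k p] [CommRing L]
  [IsLocalRing L] [IsNoetherianRing L] [Algebra k L]

include hp in
theorem exists_local_structure (hgr : CAlg.IsGeometricallyRegular k L) (Λ₁ : Subalgebra k L)
    (hΛ₁ : ∀ x : L, ∃ a ∈ Λ₁, ∃ u ∈ Λ₁, IsUnit u ∧ x * u = a) (n : ℕ) (hn : 1 ≤ n)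
    [IsLocalRing (L ⧸ maximalIdeal L ^ n)] [IsArtinianRing (L ⧸ maximalIdeal L ^ n)]
    (E : Finset L) {s : ℕ} (g : Fin s → L) (hgΛ₁ : ∀ i, g i ∈ Λ₁)
    (hg : Ideal.span (Set.range g) = maximalIdeal L) :
    ∃ (D : Subalgebra k (L ⧸ maximalIdeal L ^ n)) (_ : IsLocalRing D) (m r : ℕ)
      (y : Fin m ⊕ Fin r → L) (yD : Fin m ⊕ Fin r → D),
      (∀ j, y j ∈ Λ₁) ∧ (∀ j, (yD j : L ⧸ maximalIdeal L ^ n) = Ideal.Quotient.mk _ (y j)) ∧
      (∀ x ∈ E, Ideal.Quotient.mk (maximalIdeal L ^ n) x ∈ D) ∧ IsArtinianRing D ∧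
      Module.Flat D (L ⧸ maximalIdeal L ^ n) ∧ Algebra.EssFiniteType k D ∧
      (maximalIdeal D).map (algebraMap D (L ⧸ maximalIdeal L ^ n)) =
        maximalIdeal (L ⧸ maximalIdeal L ^ n) ∧
      Submodule.span (ResidueField D) (Set.range fun j =>
        KaehlerDifferential.D k (ResidueField D) (residue D (yD j))) = ⊤ ∧
      (letI := (locMap (evalHom k y)).toAlgebra
       Module.Flat (Localization.AtPrime ((maximalIdeal L).comap (evalHom k y))) L) ∧
      (maximalIdeal (Localization.AtPrime ((maximalIdeal L).comap (evalHom k y)))).map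
        (locMap (evalHom k y)) = maximalIdeal L ∧
      IsRegularLocalRing (Localization.AtPrime ((maximalIdeal L).comap (evalHom k y))) ∧
      (maximalIdeal (Localization.AtPrime ((maximalIdeal L).comap (evalHom k y)))).spanFinrank =
        (maximalIdeal L).spanFinrank := by
  classical
  obtain ⟨D, hloc, m, y₁, yD₁, hy₁Λ, hyD₁, hED, hart, hflat, hess, hmax, hspan, hflatP', hregL'⟩ :=
    exists_firstBatch p hgr Λ₁ hΛ₁ n hn (E ∪ Finset.univ.image g)
  haveI := hloc
  -- notation for the first stage
  set φ' : MvPolynomial (Fin m) k →+* L := evalHom k y₁ with hφ'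
  set 𝔭' : Ideal (MvPolynomial (Fin m) k) := (maximalIdeal L).comap φ' with h𝔭'
  letI algA₀'L : Algebra (Localization.AtPrime 𝔭') L := (locMap φ').toAlgebra
  haveI : IsLocalHom (algebraMap (Localization.AtPrime 𝔭') L) := isLocalHom_locMap φ'
  set I' : Ideal L := (maximalIdeal (Localization.AtPrime 𝔭')).map
    (algebraMap (Localization.AtPrime 𝔭') L) with hI'
  have hI'eq : I' = Ideal.map φ' 𝔭' := map_maximalIdeal_locMap φ'
  haveI hregI' : IsRegularLocalRing (L ⧸ I') := by
    have key : ∀ J : Ideal L, J = Ideal.map φ' 𝔭' → IsRegularLocalRing (L ⧸ J) := by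
      rintro _ rfl
      exact hregL'
    exact key I' hI'eq
  -- the second batch: minimal generators of the maximal ideal of `L ⧸ I'`
  have hgbar : Ideal.span (Set.range fun i => Ideal.Quotient.mk I' (g i)) =
      maximalIdeal (L ⧸ I') := by
    rw [← map_maximalIdeal_mk I', ← hg, Ideal.map_span, ← Set.range_comp]
    rfl
  obtain ⟨r, hr, f, hf⟩ : ∃ r, (maximalIdeal (L ⧸ I')).spanFinrank = r ∧ ∃ f : Fin r → Fin s,
      Ideal.span (Set.range fun j => Ideal.Quotient.mk I' (g (f j))) = maximalIdeal (L ⧸ I') :=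
    ⟨_, rfl, exists_subfamily_span_eq_maximalIdeal (fun i => Ideal.Quotient.mk I' (g i)) hgbar⟩
  let y₂ : Fin r → L := fun j => g (f j)
  have hgD : ∀ i, Ideal.Quotient.mk (maximalIdeal L ^ n) (g i) ∈ D := fun i =>
    hED _ (Finset.mem_union_right _ (Finset.mem_image_of_mem _ (Finset.mem_univ i)))
  let yD₂ : Fin r → D := fun j => ⟨Ideal.Quotient.mk (maximalIdeal L ^ n) (g (f j)), hgD (f j)⟩
  have hy₂𝔪 : ∀ j, y₂ j ∈ maximalIdeal L := fun j => hg ▸ Ideal.subset_span ⟨f j, rfl⟩
  let y : Fin m ⊕ Fin r → L := Sum.elim y₁ y₂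
  let yD : Fin m ⊕ Fin r → D := Sum.elim yD₁ yD₂
  refine ⟨D, hloc, m, r, y, yD, ?_, ?_, ?_, hart, hflat, hess, hmax, ?_, ?_⟩
  · rintro (j | j)
    · exact hy₁Λ j
    · exact hgΛ₁ (f j)
  · rintro (j | j)
    · exact hyD₁ j
    · rfl
  · intro x hx
    exact hED x (Finset.mem_union_left _ hx)
  · rw [eq_top_iff, ← hspan]
    apply Submodule.span_mono
    rintro _ ⟨j, rfl⟩
    exact ⟨Sum.inl j, rfl⟩
  -- the second stage
  set φ : MvPolynomial (Fin m ⊕ Fin r) k →+* L := evalHom k y with hφ
  set 𝔭 : Ideal (MvPolynomial (Fin m ⊕ Fin r) k) := (maximalIdeal L).comap φ with h𝔭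
  let ι : MvPolynomial (Fin m) k →ₐ[k] MvPolynomial (Fin m ⊕ Fin r) k := rename Sum.inl
  have hφι : φ.comp ι.toRingHom = φ' := by
    apply MvPolynomial.ringHom_ext
    · intro c
      change φ (ι (C c)) = φ' (C c)
      rw [hφ, hφ', evalHom_C]
      have : ι (C c) = C c := by simp [ι]
      rw [this, evalHom_C]
    · intro i
      change φ (ι (X i)) = φ' (X i)
      have : ι (X i) = X (Sum.inl i) := by simp [ι]
      rw [this, hφ, hφ', evalHom_X, evalHom_X]
      rfl
  have h𝔭'comap : 𝔭' = 𝔭.comap ι.toRingHom := by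
    rw [h𝔭', h𝔭, Ideal.comap_comap, hφι]
  have hXmem : ∀ j : Fin r, (X (Sum.inr j) : MvPolynomial (Fin m ⊕ Fin r) k) ∈ 𝔭 := by
    intro j
    rw [h𝔭, Ideal.mem_comap, hφ, evalHom_X]
    exact hy₂𝔪 j
  have h𝔭dec : 𝔭 = (𝔭.comap ι.toRingHom).map ι.toRingHom ⊔ Ideal.span (Set.range fun j : Fin r =>
      (X (Sum.inr j) : MvPolynomial (Fin m ⊕ Fin r) k)) := eq_map_comap_rename_sup_span 𝔭 hXmem
  have hmapφ : Ideal.map φ 𝔭 = maximalIdeal L := by
    apply le_antisymm
    · rw [Ideal.map_le_iff_le_comap]
    · intro x hx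
      have h1 : Ideal.Quotient.mk I' x ∈ maximalIdeal (L ⧸ I') := by
        rw [← map_maximalIdeal_mk I']
        exact Ideal.mem_map_of_mem _ hx
      rw [← hf] at h1
      have h2 : Ideal.span (Set.range fun j => Ideal.Quotient.mk I' (g (f j))) =
          (Ideal.span (Set.range y₂)).map (Ideal.Quotient.mk I') := by
        rw [Ideal.map_span, ← Set.range_comp]
        rfl
      rw [h2] at h1
      obtain ⟨z, hz, hzx⟩ := (Ideal.mem_map_iff_of_surjective _ Ideal.Quotient.mk_surjective).1 h1
      have h3 : x - z ∈ I' := by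
        rw [← Ideal.Quotient.eq]
        exact hzx.symm
      have h4 : x = (x - z) + z := by ring
      rw [h4]
      refine Ideal.add_mem _ ?_ ?_
      · rw [hI'eq] at h3
        have hle : Ideal.map φ' 𝔭' ≤ Ideal.map φ 𝔭 := by
          rw [← hφι, ← Ideal.map_map]
          apply Ideal.map_mono
          rw [h𝔭'comap]
          exact Ideal.map_comap_le
        exact hle h3
      · have hle : Ideal.span (Set.range y₂) ≤ Ideal.map φ 𝔭 := by
          rw [Ideal.span_le]
          rintro _ ⟨j, rfl⟩
          have : y₂ j = φ (X (Sum.inr j)) := by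
            rw [hφ, evalHom_X]
            rfl
          rw [this]
          exact Ideal.mem_map_of_mem _ (hXmem j)
        exact hle hz
  -- regularity of `L`
  have hfs : CAlgX.IsAdicFormallySmooth k L (maximalIdeal L) :=
    (Groth.Agent.S2036.result (k := k) (A := L) p).1 hgr
  haveI hregL : IsRegularLocalRing L := (Groth.Agent.S2471.result.mp hfs).1
  -- the numerical criterion for the first stage
  letI algP'L : Algebra (MvPolynomial (Fin m) k) L := φ'.toAlgebra
  haveI : IsScalarTower (MvPolynomial (Fin m) k) (Localization.AtPrime 𝔭') L :=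
    IsScalarTower.of_algebraMap_eq fun x => (locMap_algebraMap φ' x).symm
  have hflatA₀' : Module.Flat (Localization.AtPrime 𝔭') L :=
    (Module.flat_iff_of_isLocalization (Localization.AtPrime 𝔭') 𝔭'.primeCompl L).2 hflatP'
  have tfae1 := Groth.Agent.S2470.result (A := Localization.AtPrime 𝔭') (B := L)
  have ha1' := (tfae1.out 1 0).1
  have ha1 := ha1' ⟨hregL, hregI', hflatA₀'⟩
  have hd : (maximalIdeal L).spanFinrank =
      (maximalIdeal (Localization.AtPrime 𝔭')).spanFinrank + r := by
    rw [spanFinrank_maximalIdeal_eq_finrank_cotangentSpace,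
      spanFinrank_maximalIdeal_eq_finrank_cotangentSpace, ← hr,
      spanFinrank_maximalIdeal_eq_finrank_cotangentSpace]
    exact ha1.2
  -- generators of the maximal ideal of the second localization
  let lam : Localization.AtPrime 𝔭' →+* Localization.AtPrime 𝔭 :=
    Localization.localRingHom 𝔭' 𝔭 ι.toRingHom h𝔭'comap
  have hlam : ∀ x, lam (algebraMap _ (Localization.AtPrime 𝔭') x) =
      algebraMap _ (Localization.AtPrime 𝔭) (ι x) := fun x =>
    Localization.localRingHom_to_map 𝔭' 𝔭 ι.toRingHom h𝔭'comap x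
  have hm₀ : maximalIdeal (Localization.AtPrime 𝔭) =
      (maximalIdeal (Localization.AtPrime 𝔭')).map lam ⊔ Ideal.span (Set.range fun j : Fin r =>
        algebraMap (MvPolynomial (Fin m ⊕ Fin r) k) (Localization.AtPrime 𝔭) (X (Sum.inr j))) := by
    rw [← Localization.AtPrime.map_eq_maximalIdeal (I := 𝔭),
      ← Localization.AtPrime.map_eq_maximalIdeal (I := 𝔭'), Ideal.map_map]
    have h0 := congrArg (Ideal.map (algebraMap (MvPolynomial (Fin m ⊕ Fin r) k)
      (Localization.AtPrime 𝔭))) h𝔭dec
    rw [h0, Ideal.map_sup, Ideal.map_map, Ideal.map_span, ← Set.range_comp]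
    congr 1
    rw [← h𝔭'comap]
    congr 1
    exact RingHom.ext fun x => (hlam x).symm
  obtain ⟨d', hd'⟩ : ∃ d', (maximalIdeal (Localization.AtPrime 𝔭')).spanFinrank = d' := ⟨_, rfl⟩
  obtain ⟨x', hx'⟩ := Groth.Agent.Lib.Helper85.exists_fin_span_range_eq
    (maximalIdeal (Localization.AtPrime 𝔭'))
    (maximalIdeal (Localization.AtPrime 𝔭')).fg_of_isNoetherianRing hd'
  have hgen : maximalIdeal (Localization.AtPrime 𝔭) = Ideal.span (Set.range
      (Sum.elim (fun i => lam (x' i)) (fun j : Fin r =>
        algebraMap (MvPolynomial (Fin m ⊕ Fin r) k) (Localization.AtPrime 𝔭) (X (Sum.inr j))))) := by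
    rw [hm₀, ← hx', Ideal.map_span, ← Set.range_comp, Set.Sum.elim_range, Ideal.span_union]
    rfl
  have hle : (maximalIdeal (Localization.AtPrime 𝔭)).spanFinrank ≤ d' + r := by
    rw [hgen]
    refine (Submodule.spanFinrank_span_le_ncard_of_finite (Set.finite_range _)).trans ?_
    have h1 : Set.range (Sum.elim (fun i => lam (x' i)) (fun j : Fin r =>
        algebraMap (MvPolynomial (Fin m ⊕ Fin r) k) (Localization.AtPrime 𝔭) (X (Sum.inr j)))) =
        ↑(Finset.univ.image (Sum.elim (fun i => lam (x' i)) (fun j : Fin r =>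
        algebraMap (MvPolynomial (Fin m ⊕ Fin r) k) (Localization.AtPrime 𝔭) (X (Sum.inr j))))) := by
      rw [Finset.coe_image, Finset.coe_univ, Set.image_univ]
    rw [h1, Set.ncard_coe_finset]
    refine Finset.card_image_le.trans ?_
    rw [Finset.card_univ, Fintype.card_sum, Fintype.card_fin, Fintype.card_fin]
  -- the second localization
  letI algA₀L : Algebra (Localization.AtPrime 𝔭) L := (locMap φ).toAlgebra
  haveI : IsLocalHom (algebraMap (Localization.AtPrime 𝔭) L) := isLocalHom_locMap φ
  have hmax₀ : (maximalIdeal (Localization.AtPrime 𝔭)).map (locMap φ) = maximalIdeal L := by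
    rw [map_maximalIdeal_locMap]
    exact hmapφ
  have hge : (maximalIdeal L).spanFinrank ≤
      (maximalIdeal (Localization.AtPrime 𝔭)).spanFinrank := by
    obtain ⟨e, he⟩ : ∃ e, (maximalIdeal (Localization.AtPrime 𝔭)).spanFinrank = e := ⟨_, rfl⟩
    obtain ⟨x, hx⟩ := Groth.Agent.Lib.Helper85.exists_fin_span_range_eq
      (maximalIdeal (Localization.AtPrime 𝔭))
      (maximalIdeal (Localization.AtPrime 𝔭)).fg_of_isNoetherianRing he
    have h1 : maximalIdeal L = Ideal.span (Set.range fun i => locMap φ (x i)) := by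
      have h0 : (maximalIdeal (Localization.AtPrime 𝔭)).map (locMap φ) =
          Ideal.span (Set.range fun i => locMap φ (x i)) := by
        rw [← hx, Ideal.map_span, ← Set.range_comp]
        rfl
      exact hmax₀.symm.trans h0
    have h3 : (maximalIdeal L).spanFinrank =
        (Ideal.span (Set.range fun i => locMap φ (x i))).spanFinrank :=
      congrArg Submodule.spanFinrank h1
    rw [h3, he]
    refine (Submodule.spanFinrank_span_le_ncard_of_finite (Set.finite_range _)).trans ?_
    have h2 : Set.range (fun i => locMap φ (x i)) =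
        ↑(Finset.univ.image (fun i => locMap φ (x i))) := by
      rw [Finset.coe_image, Finset.coe_univ, Set.image_univ]
    rw [h2, Set.ncard_coe_finset]
    refine Finset.card_image_le.trans ?_
    rw [Finset.card_univ, Fintype.card_fin]
  have heq : (maximalIdeal (Localization.AtPrime 𝔭)).spanFinrank =
      (maximalIdeal L).spanFinrank :=
    le_antisymm (by rw [hd, hd']; exact hle) hge
  -- the closed fibre
  set I : Ideal L := (maximalIdeal (Localization.AtPrime 𝔭)).map
    (algebraMap (Localization.AtPrime 𝔭) L) with hI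
  have hIeq : I = maximalIdeal L := hmax₀
  haveI : Nontrivial (L ⧸ I) := Ideal.Quotient.nontrivial_iff.2 (by
    rw [hIeq]
    exact (maximalIdeal.isMaximal L).ne_top)
  haveI : IsLocalRing (L ⧸ I) :=
    IsLocalRing.of_surjective' (Ideal.Quotient.mk I) Ideal.Quotient.mk_surjective
  have hbot : maximalIdeal (L ⧸ I) = ⊥ := by
    rw [← map_maximalIdeal_mk I, ← hIeq, Ideal.map_quotient_self]
  have tfae2 := Groth.Agent.S2470.result (A := Localization.AtPrime 𝔭) (B := L)
  have hcount : Module.finrank (ResidueField L) (CotangentSpace L) =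
      Module.finrank (ResidueField (Localization.AtPrime 𝔭))
        (CotangentSpace (Localization.AtPrime 𝔭)) +
      Module.finrank (ResidueField (L ⧸ I)) (CotangentSpace (L ⧸ I)) := by
    rw [← spanFinrank_maximalIdeal_eq_finrank_cotangentSpace,
      ← spanFinrank_maximalIdeal_eq_finrank_cotangentSpace,
      ← spanFinrank_maximalIdeal_eq_finrank_cotangentSpace, hbot, Submodule.spanFinrank_bot,
      add_zero]
    exact heq.symm
  have hc' := (tfae2.out 0 1).1
  have hc := hc' ⟨hregL, hcount⟩
  have hd2' := (tfae2.out 0 2).1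
  have hd2 := hd2' ⟨hregL, hcount⟩
  exact ⟨hc.2.2, hmax₀, hd2.1, heq⟩

end Main2

end Groth.Agent.Lib.Helper81.Pop
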