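import Mathlib
import Groth.Prelude.Def_Smoothing
import Groth.Agent.Lib.Helper81.PopCharP3

/-!
# Popescu, characteristic `p`: the Artinian base `S₀ = k[y]_𝔭 / 𝔭ⁿ` and the algebra `D` (helper81)
-/

set_option autoImplicit false
set_option linter.style.haveILetI false
set_option linter.unusedSectionVars false
universe u

namespace Groth.Agent.Lib.Helper81.Pop

open IsLocalRing MvPolynomial Smoothing

/-- descent of ind-smoothness to an intermediate local ring (to be supplied) -/
def DescentStatement : Prop :=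
  ∀ {R₀ D Λb : Type u} [CommRing R₀] [IsLocalRing R₀] [IsNoetherianRing R₀]
    (_ : IsNilpotent (maximalIdeal R₀)) [CommRing D] [IsLocalRing D] [Algebra R₀ D]
    [IsLocalHom (algebraMap R₀ D)] [CommRing Λb] [Algebra D Λb] [Algebra R₀ Λb]
    [IsScalarTower R₀ D Λb] [Module.Flat R₀ Λb] [Module.FaithfullyFlat D Λb]
    (_ : (maximalIdeal R₀).map (algebraMap R₀ Λb) = (maximalIdeal D).map (algebraMap D Λb))
    [Algebra.EssFiniteType (ResidueField R₀) (ResidueField D)]
    [Algebra.FormallyUnramified (ResidueField R₀) (ResidueField D)], Smoothing.IndSmooth R₀ D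

section
variable {k L : Type u} [Field k] [CommRing L] [IsLocalRing L] [IsNoetherianRing L] [Algebra k L]
  (n : ℕ) [IsLocalRing (L ⧸ maximalIdeal L ^ n)]
  (D : Subalgebra k (L ⧸ maximalIdeal L ^ n)) {σ : Type} (y : σ → L) (yD : σ → D)
  (hyD : ∀ j, (yD j : L ⧸ maximalIdeal L ^ n) = Ideal.Quotient.mk _ (y j))

include hyD in
theorem coe_aeval_yD (q : MvPolynomial σ k) :
    ((MvPolynomial.aeval yD q : D) : L ⧸ maximalIdeal L ^ n) =
      Ideal.Quotient.mk _ (evalHom k y q) := by
  have h : (D.val.comp (MvPolynomial.aeval yD : MvPolynomial σ k →ₐ[k] D)) =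
      (Ideal.Quotient.mkₐ k (maximalIdeal L ^ n)).comp
        (MvPolynomial.aeval y : MvPolynomial σ k →ₐ[k] L) := by
    apply MvPolynomial.algHom_ext
    intro j
    simp only [AlgHom.comp_apply, MvPolynomial.aeval_X, Subalgebra.coe_val, hyD,
      Ideal.Quotient.mkₐ_eq_mk]
  exact congrArg (fun F : MvPolynomial σ k →ₐ[k] (L ⧸ maximalIdeal L ^ n) => F q) h

end

section
variable {k L : Type u} [Field k] [CommRing L] [IsLocalRing L] [IsNoetherianRing L] [Algebra k L]
  (n : ℕ) (hn : 1 ≤ n) [IsLocalRing (L ⧸ maximalIdeal L ^ n)]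
  (D : Subalgebra k (L ⧸ maximalIdeal L ^ n)) [IsLocalRing D]
  (hmaxD : (maximalIdeal D).map (algebraMap D (L ⧸ maximalIdeal L ^ n)) =
      maximalIdeal (L ⧸ maximalIdeal L ^ n))

include hmaxD in
theorem isLocalHom_algebraMap_D : IsLocalHom (algebraMap D (L ⧸ maximalIdeal L ^ n)) := by
  constructor
  intro a ha
  by_contra hna
  have h1 : a ∈ maximalIdeal D := (mem_maximalIdeal _).2 hna
  have h2 : algebraMap D (L ⧸ maximalIdeal L ^ n) a ∈ maximalIdeal (L ⧸ maximalIdeal L ^ n) := by
    rw [← hmaxD]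
    exact Ideal.mem_map_of_mem _ h1
  exact (mem_maximalIdeal _).1 h2 ha

end

section
variable {k P L : Type u} [Field k] [CommRing P] [Algebra k P] [IsNoetherianRing P]
  [CommRing L] [IsLocalRing L] [IsNoetherianRing L] [Algebra k L]
  (f : P →ₐ[k] L) (n : ℕ) (hn : 1 ≤ n) [IsLocalRing (L ⧸ maximalIdeal L ^ n)]
  (D : Subalgebra k (L ⧸ maximalIdeal L ^ n)) [IsLocalRing D]
  (g : P →ₐ[k] D)
  (hg : ∀ q, ((g q : D) : L ⧸ maximalIdeal L ^ n) = Ideal.Quotient.mk _ (f q))
  (hmaxD : (maximalIdeal D).map (algebraMap D (L ⧸ maximalIdeal L ^ n)) =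
      maximalIdeal (L ⧸ maximalIdeal L ^ n))

local notation "𝔭₀" => Ideal.comap f.toRingHom (maximalIdeal L)
local notation "A₀" => Localization.AtPrime (Ideal.comap f.toRingHom (maximalIdeal L))
local notation "Λb" => L ⧸ maximalIdeal L ^ n
local notation "S₀" => Localization.AtPrime (Ideal.comap f.toRingHom (maximalIdeal L)) ⧸
  maximalIdeal (Localization.AtPrime (Ideal.comap f.toRingHom (maximalIdeal L))) ^ n

include hg hmaxD in
theorem isUnit_g (s : (𝔭₀).primeCompl) : IsUnit (g.toRingHom s) := by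
  haveI := isLocalHom_algebraMap_D n D hmaxD
  have h1 : IsUnit (f.toRingHom s) := isUnit_of_mem_primeCompl_comap f.toRingHom s
  have h2 : IsUnit (algebraMap D Λb (g s)) := by
    change IsUnit ((g s : D) : Λb)
    rw [hg]
    exact h1.map _
  exact isUnit_of_map_unit (algebraMap D Λb) _ h2

/-- the map `P_𝔭 → D` -/
noncomputable def thetaZero : A₀ →+* D :=
  IsLocalization.lift (M := (𝔭₀).primeCompl) (g := g.toRingHom) (isUnit_g f n D g hg hmaxD)

theorem thetaZero_algebraMap (q : P) :
    thetaZero f n D g hg hmaxD (algebraMap P A₀ q) = g q :=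
  IsLocalization.lift_eq _ q

theorem coe_thetaZero (a : A₀) :
    ((thetaZero f n D g hg hmaxD a : D) : Λb) =
      Ideal.Quotient.mk _ (locMap f.toRingHom a) := by
  have h : (D.val.toRingHom).comp (thetaZero f n D g hg hmaxD) =
      (Ideal.Quotient.mk (maximalIdeal L ^ n)).comp (locMap f.toRingHom) := by
    apply IsLocalization.ringHom_ext (𝔭₀).primeCompl
    refine RingHom.ext fun q => ?_
    simp only [RingHom.comp_apply]
    rw [thetaZero_algebraMap, locMap_algebraMap]
    exact hg q
  exact congrArg (fun F : A₀ →+* Λb => F a) h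

theorem thetaZero_eq_zero
    (hmaxL : (maximalIdeal A₀).map (locMap f.toRingHom) = maximalIdeal L) (a : A₀)
    (ha : a ∈ maximalIdeal A₀ ^ n) :
    thetaZero f n D g hg hmaxD a = 0 := by
  apply Subtype.ext
  rw [coe_thetaZero, ZeroMemClass.coe_zero, Ideal.Quotient.eq_zero_iff_mem]
  have h : locMap f.toRingHom a ∈ (maximalIdeal A₀ ^ n).map (locMap f.toRingHom) :=
    Ideal.mem_map_of_mem _ ha
  rwa [Ideal.map_pow, hmaxL] at h

/-- the map `P_𝔭 / 𝔭ⁿ → D` -/
noncomputable def theta
    (hmaxL : (maximalIdeal A₀).map (locMap f.toRingHom) = maximalIdeal L) : S₀ →+* D :=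
  Ideal.Quotient.lift _ (thetaZero f n D g hg hmaxD)
    (fun a ha => thetaZero_eq_zero f n D g hg hmaxD hmaxL a ha)

theorem theta_mk
    (hmaxL : (maximalIdeal A₀).map (locMap f.toRingHom) = maximalIdeal L) (a : A₀) :
    theta f n D g hg hmaxD hmaxL (Ideal.Quotient.mk _ a) = thetaZero f n D g hg hmaxD a :=
  Ideal.Quotient.lift_mk _ _ _

theorem coe_theta_mk
    (hmaxL : (maximalIdeal A₀).map (locMap f.toRingHom) = maximalIdeal L) (a : A₀) :
    ((theta f n D g hg hmaxD hmaxL (Ideal.Quotient.mk _ a) : D) : Λb) =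
      Ideal.Quotient.mk _ (locMap f.toRingHom a) := by
  rw [theta_mk, coe_thetaZero]

include hn in
theorem indSmooth_theta (H1 : DescentStatement.{u})
    (hflatD : Module.Flat D Λb) (hess : Algebra.EssFiniteType k D)
    (hspan : Submodule.span (ResidueField D) (Set.range fun q : P =>
        KaehlerDifferential.D k (ResidueField D) (residue D (g q))) = ⊤)
    (hflat : letI := (locMap f.toRingHom).toAlgebra; Module.Flat A₀ L)
    (hmaxL : (maximalIdeal A₀).map (locMap f.toRingHom) = maximalIdeal L) :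
    letI : Algebra S₀ D := RingHom.toAlgebra (theta f n D g hg hmaxD hmaxL)
    IndSmooth S₀ D := by
  classical
  letI algS₀D : Algebra S₀ D := RingHom.toAlgebra (theta f n D g hg hmaxD hmaxL)
  have halg : ∀ s, algebraMap S₀ D s = theta f n D g hg hmaxD hmaxL s :=
    fun s => RingHom.congr_fun (RingHom.algebraMap_toAlgebra _) s
  -- `S₀` is an Artinian local ring
  have hne : maximalIdeal A₀ ^ n ≠ ⊤ := by
    intro h
    have h1 : maximalIdeal A₀ ^ n ≤ maximalIdeal A₀ := Ideal.pow_le_self (by omega)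
    rw [h] at h1
    exact (maximalIdeal.isMaximal A₀).ne_top (top_le_iff.1 h1)
  haveI : Nontrivial S₀ := Ideal.Quotient.nontrivial_iff.2 hne
  haveI : IsLocalRing S₀ :=
    IsLocalRing.of_surjective' (Ideal.Quotient.mk _) Ideal.Quotient.mk_surjective
  have hmS₀ : maximalIdeal S₀ = (maximalIdeal A₀).map (Ideal.Quotient.mk _) :=
    (map_maximalIdeal_mk _).symm
  have hnil : IsNilpotent (maximalIdeal S₀) := by
    refine ⟨n, ?_⟩
    have h1 := Ideal.map_pow (Ideal.Quotient.mk (maximalIdeal A₀ ^ n)) (maximalIdeal A₀) n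
    rw [Ideal.map_quotient_self] at h1
    rw [hmS₀, ← h1]
    rfl
  -- local homomorphisms
  haveI hlocD : IsLocalHom (algebraMap D Λb) := isLocalHom_algebraMap_D n D hmaxD
  haveI hlocmk : IsLocalHom (Ideal.Quotient.mk (maximalIdeal L ^ n)) :=
    IsLocalHom.of_surjective _ Ideal.Quotient.mk_surjective
  haveI hlocθ : IsLocalHom (algebraMap S₀ D) := by
    constructor
    intro s hs
    obtain ⟨a, rfl⟩ := Ideal.Quotient.mk_surjective s
    have h1 := hs.map (algebraMap (↥D) Λb)
    rw [halg] at h1
    change IsUnit ((theta f n D g hg hmaxD hmaxL (Ideal.Quotient.mk _ a) : D) : Λb) at h1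
    rw [coe_theta_mk] at h1
    have h2 : IsUnit (locMap f.toRingHom a) := isUnit_of_map_unit _ _ h1
    have h3 : IsUnit a := isUnit_of_map_unit (locMap f.toRingHom) _ h2
    exact h3.map _
  -- the algebra structure of `Λb` over `S₀`
  letI algS₀Λb : Algebra S₀ Λb :=
    RingHom.toAlgebra ((algebraMap D Λb).comp (algebraMap S₀ D))
  have halgΛb : ∀ a : A₀, algebraMap S₀ Λb (Ideal.Quotient.mk _ a) =
      Ideal.Quotient.mk _ (locMap f.toRingHom a) := by
    intro a
    have h1 : algebraMap S₀ Λb (Ideal.Quotient.mk _ a) =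
        algebraMap D Λb (algebraMap S₀ D (Ideal.Quotient.mk _ a)) :=
      RingHom.congr_fun (RingHom.algebraMap_toAlgebra _) _
    rw [h1, halg]
    exact coe_theta_mk f n D g hg hmaxD hmaxL a
  haveI : IsScalarTower S₀ D Λb :=
    IsScalarTower.of_algebraMap_eq (fun x => RingHom.congr_fun (RingHom.algebraMap_toAlgebra _) x)
  -- flatness of `Λb` over `S₀`
  letI algA₀L : Algebra A₀ L := (locMap f.toRingHom).toAlgebra
  haveI : Module.Flat A₀ L := hflat
  have hI : (maximalIdeal A₀ ^ n).map (algebraMap A₀ L) = maximalIdeal L ^ n := by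
    rw [Ideal.map_pow]
    exact congrArg (· ^ n) hmaxL
  haveI hflatS₀ : Module.Flat S₀ Λb := by
    have h0 : Module.Flat S₀ (L ⧸ (maximalIdeal A₀ ^ n).map (algebraMap A₀ L)) :=
      Module.Flat.of_linearEquiv
        (Algebra.TensorProduct.quotIdealMapEquivQuotTensor L (maximalIdeal A₀ ^ n)).toLinearEquiv
    let e : (L ⧸ (maximalIdeal A₀ ^ n).map (algebraMap A₀ L)) ≃ₗ[S₀] Λb :=
      { (Ideal.quotEquivOfEq hI).toAddEquiv with
        map_smul' := by
          intro r x
          obtain ⟨a, rfl⟩ := Ideal.Quotient.mk_surjective r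
          obtain ⟨l, rfl⟩ := Ideal.Quotient.mk_surjective x
          change Ideal.quotEquivOfEq hI (_ • _) = _ • Ideal.quotEquivOfEq hI _
          rw [Ideal.Quotient.mk_smul_mk_quotient_map_quotient, Ideal.quotEquivOfEq_mk,
            Ideal.quotEquivOfEq_mk, RingHom.id_apply, Algebra.smul_def, halgΛb, map_mul]
          exact congrArg (fun t => Ideal.Quotient.mk (maximalIdeal L ^ n) t *
            Ideal.Quotient.mk (maximalIdeal L ^ n) l)
            (RingHom.congr_fun (RingHom.algebraMap_toAlgebra (locMap f.toRingHom)) a) }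
    exact Module.Flat.of_linearEquiv e.symm
  haveI : Module.Flat D Λb := hflatD
  haveI : Module.FaithfullyFlat D Λb := Module.FaithfullyFlat.of_flat_of_isLocalHom
  -- the maximal ideals
  have hmax : (maximalIdeal S₀).map (algebraMap S₀ Λb) =
      (maximalIdeal D).map (algebraMap D Λb) := by
    rw [hmaxD, hmS₀, Ideal.map_map]
    have h1 : (algebraMap S₀ Λb).comp (Ideal.Quotient.mk (maximalIdeal A₀ ^ n)) =
        (Ideal.Quotient.mk (maximalIdeal L ^ n)).comp (locMap f.toRingHom) :=
      RingHom.ext fun a => halgΛb a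
    rw [h1, ← Ideal.map_map, hmaxL, map_maximalIdeal_mk]
  -- compatibility with `k`
  haveI : IsScalarTower k S₀ D := by
    refine IsScalarTower.of_algebraMap_eq (R := k) (S := S₀) (A := ↥D) (fun c => ?_)
    rw [halg, IsScalarTower.algebraMap_apply k A₀ S₀, Ideal.Quotient.algebraMap_eq, theta_mk,
      IsScalarTower.algebraMap_apply k P A₀, thetaZero_algebraMap, AlgHom.commutes]
  -- the residue field extension
  haveI : Algebra.EssFiniteType k D := hess
  haveI : Algebra.EssFiniteType k (ResidueField D) := by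
    haveI : Algebra.FiniteType D (ResidueField D) :=
      Algebra.FiniteType.of_surjective (Algebra.ofId D (ResidueField D))
        IsLocalRing.residue_surjective
    exact Algebra.EssFiniteType.comp k D (ResidueField D)
  haveI : Algebra.EssFiniteType (ResidueField S₀) (ResidueField D) :=
    Algebra.EssFiniteType.of_comp k (ResidueField S₀) (ResidueField D)
  haveI : Algebra.FormallyUnramified (ResidueField S₀) (ResidueField D) := by
    constructor
    have hsurj := KaehlerDifferential.map_surjective k (ResidueField S₀) (ResidueField D)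
    have hzero : ∀ q : P, KaehlerDifferential.D (ResidueField S₀) (ResidueField D)
        (residue D (g q)) = 0 := by
      intro q
      have h1 : residue D (g q) = algebraMap (ResidueField S₀) (ResidueField D)
          (residue S₀ (Ideal.Quotient.mk _ (algebraMap P A₀ q))) := by
        rw [IsLocalRing.ResidueField.algebraMap_residue, halg, theta_mk, thetaZero_algebraMap]
      rw [h1, Derivation.map_algebraMap]
    have htop : (⊤ : Submodule (ResidueField D) Ω[ResidueField D⁄ResidueField S₀]) = ⊥ := by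
      rw [← LinearMap.range_eq_top.2 hsurj, LinearMap.range_eq_map, ← hspan, Submodule.map_span,
        Submodule.span_eq_bot]
      rintro _ ⟨_, ⟨q, rfl⟩, rfl⟩
      rw [KaehlerDifferential.map_D]
      exact hzero q
    exact (Submodule.subsingleton_iff (ResidueField D)).1 (subsingleton_of_bot_eq_top htop.symm)
  exact H1 hnil hmax

end

end Groth.Agent.Lib.Helper81.Pop
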