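import Mathlib
import Groth.Prelude.Def_Smoothing
import Groth.Agent.Lib.Helper81.PopCharP4
import Groth.Agent.Lib.Helper81.PopCharP5
import Groth.Agent.Lib.Helper81.PopLocQuot
import Groth.Agent.Lib.Helper86.PhiNat
import Groth.Agent.Lib.Helper86.PopCH2

set_option autoImplicit false
set_option linter.style.haveILetI false
set_option linter.unusedSectionVars false
universe u

/-!
# Popescu, characteristic `p`: resolving the reduced problem via the Artinian descent data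
(helper81)
-/

namespace Groth.Agent.Lib.Helper81.Pop

open MvPolynomial Smoothing IsLocalRing TensorProduct Groth.Agent.Lib.Helper86.PhiNat

section LocLift
variable {R₀ Λ₀ : Type*} [CommRing R₀] [CommRing Λ₀] [Algebra R₀ Λ₀] (𝔮₀ : Ideal Λ₀) [𝔮₀.IsPrime]
  (Λq : Type*) [CommRing Λq] [Algebra Λ₀ Λq] [IsLocalization.AtPrime Λq 𝔮₀] [Algebra R₀ Λq]
  [IsScalarTower R₀ Λ₀ Λq]

theorem isUnit_algebraMap_of_mem_primeCompl (s : (𝔮₀.comap (algebraMap R₀ Λ₀)).primeCompl) :
    IsUnit (algebraMap R₀ Λq s) := by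
  rw [IsScalarTower.algebraMap_apply R₀ Λ₀ Λq]
  exact IsLocalization.map_units Λq (⟨algebraMap R₀ Λ₀ s, s.2⟩ : 𝔮₀.primeCompl)

/-- the canonical map from the localization of the base at the contraction of a prime -/
noncomputable def locLift : Localization.AtPrime (𝔮₀.comap (algebraMap R₀ Λ₀)) →+* Λq :=
  IsLocalization.lift (M := (𝔮₀.comap (algebraMap R₀ Λ₀)).primeCompl) (g := algebraMap R₀ Λq)
    (isUnit_algebraMap_of_mem_primeCompl 𝔮₀ Λq)

theorem locLift_algebraMap (t : R₀) :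
    locLift 𝔮₀ Λq (algebraMap R₀ (Localization.AtPrime (𝔮₀.comap (algebraMap R₀ Λ₀))) t) =
      algebraMap R₀ Λq t :=
  IsLocalization.lift_eq _ t

end LocLift

section Iota
variable {P L Rp : Type*} [CommRing P] [CommRing L] [IsLocalRing L] [CommRing Rp] (f : P →+* L)
  (ζ : P →+* Rp) (hunit : ∀ s : (Ideal.comap f (maximalIdeal L)).primeCompl, IsUnit (ζ s))
  {d : ℕ} (π : Fin d → P) (e n : ℕ)
  (hπgen : Ideal.span (Set.range fun i =>
    algebraMap P (Localization.AtPrime (Ideal.comap f (maximalIdeal L))) (π i)) =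
      maximalIdeal (Localization.AtPrime (Ideal.comap f (maximalIdeal L))))
  (hπe : ∀ i, ζ (π i) ^ e = 0) (hn : d * e + 1 ≤ n)

/-- the map `P_𝔭 → Rp` -/
noncomputable def zetaZero : Localization.AtPrime (Ideal.comap f (maximalIdeal L)) →+* Rp :=
  IsLocalization.lift (M := (Ideal.comap f (maximalIdeal L)).primeCompl) (g := ζ) hunit

theorem zetaZero_algebraMap (q : P) :
    zetaZero f ζ hunit (algebraMap P (Localization.AtPrime (Ideal.comap f (maximalIdeal L))) q) =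
      ζ q :=
  IsLocalization.lift_eq _ q

include hπgen hπe hn in
theorem zetaZero_eq_zero (a : Localization.AtPrime (Ideal.comap f (maximalIdeal L)))
    (ha : a ∈ maximalIdeal (Localization.AtPrime (Ideal.comap f (maximalIdeal L))) ^ n) :
    zetaZero f ζ hunit a = 0 := by
  have h1 : maximalIdeal (Localization.AtPrime (Ideal.comap f (maximalIdeal L))) ^ n ≤
      Ideal.span (Set.range fun i =>
        algebraMap P (Localization.AtPrime (Ideal.comap f (maximalIdeal L))) (π i) ^ e) := by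
    rw [← hπgen]
    exact (Ideal.pow_le_pow_right hn).trans (span_range_pow_le _ e)
  have h2 : Ideal.span (Set.range fun i =>
      algebraMap P (Localization.AtPrime (Ideal.comap f (maximalIdeal L))) (π i) ^ e) ≤
      RingHom.ker (zetaZero f ζ hunit) := by
    rw [Ideal.span_le]
    rintro _ ⟨i, rfl⟩
    rw [SetLike.mem_coe, RingHom.mem_ker, map_pow, zetaZero_algebraMap, hπe]
  exact h2 (h1 ha)

/-- the map `P_𝔭 / 𝔭ⁿ → Rp` -/
noncomputable def iotaZero : (Localization.AtPrime (Ideal.comap f (maximalIdeal L)) ⧸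
    maximalIdeal (Localization.AtPrime (Ideal.comap f (maximalIdeal L))) ^ n) →+* Rp :=
  Ideal.Quotient.lift _ (zetaZero f ζ hunit)
    (fun a ha => zetaZero_eq_zero f ζ hunit π e n hπgen hπe hn a ha)

theorem iotaZero_mk (a : Localization.AtPrime (Ideal.comap f (maximalIdeal L))) :
    iotaZero f ζ hunit π e n hπgen hπe hn (Ideal.Quotient.mk _ a) = zetaZero f ζ hunit a :=
  Ideal.Quotient.lift_mk _ _ _

end Iota

section Main
variable {k : Type u} [Field k] {R₁ : Type u} [CommRing R₁] [Algebra k R₁] {d : ℕ} (x : Fin d → R₁)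
  {A : Type u} [CommRing A] [Algebra k A] {r : ℕ} (a : Fin r → A) (N : ℕ)
  {C : Type u} [CommRing C] [Algebra R₁ C] [Algebra (BAlg (k := k) x a N) C]
  [IsScalarTower R₁ (BAlg (k := k) x a N) C]
  (ρ : C →ₐ[BAlg (k := k) x a N] BAlg (k := k) x a N)
  (R : Type u) [CommRing R] [IsNoetherianRing R] [Algebra k R] [Algebra R₁ R] [IsScalarTower k R₁ R]
  {Λ : Type u} [CommRing Λ] [IsNoetherianRing Λ] [Algebra k Λ] [Algebra R₁ Λ]
  [IsScalarTower k R₁ Λ] [Algebra R Λ] [IsScalarTower R₁ R Λ]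
  (φ : A →ₐ[k] Λ) (lam : Fin d → Fin r → Λ)
  (hlam : ∀ i, algebraMap R₁ Λ (x i) ^ N = ∑ j, φ (a j) * lam i j)
  (K : Ideal R)
  [Algebra.FinitePresentation (R ⧸ K) ((R ⊗[R₁] C) ⧸ K.map (algebraMap R (R ⊗[R₁] C)))]
  (φK : ((R ⊗[R₁] C) ⧸ K.map (algebraMap R (R ⊗[R₁] C))) →ₐ[R ⧸ K]
    (Λ ⧸ K.map (algebraMap R Λ)))
  (𝔮 : Ideal Λ) [𝔮.IsPrime]
  {P : Type u} [CommRing P] [IsNoetherianRing P] [Algebra k P] [Algebra P R] [IsScalarTower k P R]
  (ψ₀ : P →ₐ[k] Λ)
  (f : P →ₐ[k] Localization.AtPrime 𝔮)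
  (n : ℕ)
  [IsLocalRing (Localization.AtPrime 𝔮 ⧸ maximalIdeal (Localization.AtPrime 𝔮) ^ n)]
  (D : Subalgebra k (Localization.AtPrime 𝔮 ⧸ maximalIdeal (Localization.AtPrime 𝔮) ^ n))
  [IsLocalRing D] (g : P →ₐ[k] D)
  (hg : ∀ q, ((g q : D) : Localization.AtPrime 𝔮 ⧸ maximalIdeal (Localization.AtPrime 𝔮) ^ n) =
    Ideal.Quotient.mk _ (f q))
  (hmaxD : (maximalIdeal D).map (algebraMap D
    (Localization.AtPrime 𝔮 ⧸ maximalIdeal (Localization.AtPrime 𝔮) ^ n)) =
      maximalIdeal (Localization.AtPrime 𝔮 ⧸ maximalIdeal (Localization.AtPrime 𝔮) ^ n))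

local notation "L" => Localization.AtPrime 𝔮
local notation "Λb" => Localization.AtPrime 𝔮 ⧸ maximalIdeal (Localization.AtPrime 𝔮) ^ n
local notation "A₀" => Localization.AtPrime (Ideal.comap f.toRingHom (maximalIdeal L))
local notation "S₀" => Localization.AtPrime (Ideal.comap f.toRingHom (maximalIdeal L)) ⧸
  maximalIdeal (Localization.AtPrime (Ideal.comap f.toRingHom (maximalIdeal L))) ^ n

theorem resolvable_reduced_charP
    (hφK : ∀ t, φK (Ideal.Quotient.mk _ t) = Ideal.Quotient.mk _ (PhiC x a N ρ R φ lam hlam t))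
    (hKq : K.map (algebraMap R Λ) ≤ 𝔮)
    (hψ₀ : ∀ q, algebraMap R Λ (algebraMap P R q) = ψ₀ q)
    (hf : ∀ q, f q = algebraMap Λ (Localization.AtPrime 𝔮) (ψ₀ q))
    (hmaxL : (maximalIdeal A₀).map (locMap f.toRingHom) = maximalIdeal L)
    (hind : letI : Algebra S₀ D := RingHom.toAlgebra (theta f n D g hg hmaxD hmaxL)
      IndSmooth S₀ D)
    (φD : A →ₐ[k] D)
    (hφD : ∀ y, ((φD y : D) : Λb) = Ideal.Quotient.mk _ (algebraMap Λ L (φ y)))
    (π : Fin d → P)
    (hπgen : Ideal.span (Set.range fun i => algebraMap P A₀ (π i)) = maximalIdeal A₀)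
    (u : Fin d → R) (hu : ∀ i, algebraMap R Λ (u i) ∉ 𝔮)
    (hγ : ∀ i, algebraMap R₁ R (x i) = algebraMap P R (π i) * u i)
    (e : ℕ) (hγK : ∀ i, (algebraMap P R (π i) * u i) ^ e ∈ K) (hn : d * e + 1 ≤ n)
    (μ : Fin d → Fin r → D) (hμ : ∀ i, g (π i) ^ N = ∑ j, φD (a j) * μ i j)
    (hlamμ : ∀ i j, ∃ μ' : L, Ideal.Quotient.mk (maximalIdeal L ^ n) μ' = (μ i j : Λb) ∧
      algebraMap Λ L (lam i j) - algebraMap Λ L (algebraMap R Λ (u i)) ^ N * μ' ∈
        maximalIdeal L ^ (d * e + 1)) :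
    Resolvable (R ⧸ K) φK (𝔮.map (Ideal.Quotient.mk (K.map (algebraMap R Λ)))) := by
  classical
  set J : Ideal Λ := K.map (algebraMap R Λ) with hJ
  set J' : Ideal L := J.map (algebraMap Λ L) with hJ'
  haveI hprime : (𝔮.map (Ideal.Quotient.mk J)).IsPrime := isPrime_map_mk 𝔮 J hKq
  haveI hloc : IsLocalization.AtPrime (L ⧸ J') (𝔮.map (Ideal.Quotient.mk J)) :=
    isLocalization_atPrime_quotient 𝔮 J hKq
  letI algΛq : Algebra (R ⧸ K) (L ⧸ J') :=
    ((algebraMap (Λ ⧸ J) (L ⧸ J')).comp (algebraMap (R ⧸ K) (Λ ⧸ J))).toAlgebra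
  haveI : IsScalarTower (R ⧸ K) (Λ ⧸ J) (L ⧸ J') := IsScalarTower.of_algebraMap_eq fun x => rfl
  letI algRpΛq : Algebra (Localization.AtPrime ((𝔮.map (Ideal.Quotient.mk J)).comap
      (algebraMap (R ⧸ K) (Λ ⧸ J)))) (L ⧸ J') :=
    (locLift (𝔮.map (Ideal.Quotient.mk J)) (L ⧸ J')).toAlgebra
  haveI : IsScalarTower (R ⧸ K) (Localization.AtPrime ((𝔮.map (Ideal.Quotient.mk J)).comap
      (algebraMap (R ⧸ K) (Λ ⧸ J)))) (L ⧸ J') :=
    IsScalarTower.of_algebraMap_eq fun t => (locLift_algebraMap _ _ t).symm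
  -- elements of `R` outside `𝔮` become units in `Rp`
  have hunitR : ∀ t : R, algebraMap R Λ t ∉ 𝔮 → IsUnit (algebraMap (R ⧸ K)
      (Localization.AtPrime ((𝔮.map (Ideal.Quotient.mk J)).comap
        (algebraMap (R ⧸ K) (Λ ⧸ J)))) (Ideal.Quotient.mk K t)) := by
    intro t ht
    have h1 : Ideal.Quotient.mk K t ∈ ((𝔮.map (Ideal.Quotient.mk J)).comap
        (algebraMap (R ⧸ K) (Λ ⧸ J))).primeCompl := by
      intro hmem
      have h2 : algebraMap (R ⧸ K) (Λ ⧸ J) (Ideal.Quotient.mk K t) =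
          Ideal.Quotient.mk J (algebraMap R Λ t) := rfl
      have h3 := Ideal.mem_comap.1 hmem
      rw [h2, mem_map_mk_iff 𝔮 J hKq] at h3
      exact ht h3
    exact IsLocalization.map_units _ (⟨_, h1⟩ : ((𝔮.map (Ideal.Quotient.mk J)).comap
        (algebraMap (R ⧸ K) (Λ ⧸ J))).primeCompl)
  -- the map `P → Rp`
  let ζ : P →+* Localization.AtPrime ((𝔮.map (Ideal.Quotient.mk J)).comap
      (algebraMap (R ⧸ K) (Λ ⧸ J))) :=
    (algebraMap (R ⧸ K) _).comp ((Ideal.Quotient.mk K).comp (algebraMap P R))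
  have hζ : ∀ q, ζ q = algebraMap (R ⧸ K) (Localization.AtPrime
      ((𝔮.map (Ideal.Quotient.mk J)).comap (algebraMap (R ⧸ K) (Λ ⧸ J))))
        (Ideal.Quotient.mk K (algebraMap P R q)) := fun _ => rfl
  have hunit : ∀ s : (Ideal.comap f.toRingHom (maximalIdeal L)).primeCompl, IsUnit (ζ s) := by
    intro s
    rw [hζ]
    apply hunitR
    rw [hψ₀]
    intro hmem
    apply s.2
    refine Ideal.mem_comap.2 ?_
    change f (s : P) ∈ maximalIdeal L
    rw [hf]
    exact (IsLocalization.AtPrime.to_map_mem_maximal_iff L 𝔮 _).2 hmem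
  have hπe : ∀ i, ζ (π i) ^ e = 0 := by
    intro i
    have h1 : ζ (π i) ^ e * (algebraMap (R ⧸ K) (Localization.AtPrime
        ((𝔮.map (Ideal.Quotient.mk J)).comap (algebraMap (R ⧸ K) (Λ ⧸ J))))
          (Ideal.Quotient.mk K (u i))) ^ e = 0 := by
      rw [hζ, ← mul_pow, ← map_mul, ← map_mul, ← map_pow, ← map_pow,
        Ideal.Quotient.eq_zero_iff_mem.2 (hγK i), map_zero]
    exact ((hunitR (u i) (hu i)).pow e).mul_left_eq_zero.1 h1
  letI algS₀Rp : Algebra S₀ (Localization.AtPrime ((𝔮.map (Ideal.Quotient.mk J)).comap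
      (algebraMap (R ⧸ K) (Λ ⧸ J)))) :=
    RingHom.toAlgebra (iotaZero f.toRingHom ζ hunit π e n hπgen hπe hn)
  have halgS₀Rp : ∀ a : A₀, algebraMap S₀ (Localization.AtPrime
      ((𝔮.map (Ideal.Quotient.mk J)).comap (algebraMap (R ⧸ K) (Λ ⧸ J))))
        (Ideal.Quotient.mk _ a) = zetaZero f.toRingHom ζ hunit a := by
    intro a
    have h1 : algebraMap S₀ (Localization.AtPrime
      ((𝔮.map (Ideal.Quotient.mk J)).comap (algebraMap (R ⧸ K) (Λ ⧸ J))))
        (Ideal.Quotient.mk _ a) = iotaZero f.toRingHom ζ hunit π e n hπgen hπe hn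
          (Ideal.Quotient.mk _ a) := RingHom.congr_fun (RingHom.algebraMap_toAlgebra _) _
    rw [h1, iotaZero_mk]
  letI algS₀D : Algebra S₀ D := RingHom.toAlgebra (theta f n D g hg hmaxD hmaxL)
  have halgS₀D : ∀ s, algebraMap S₀ D s = theta f n D g hg hmaxD hmaxL s :=
    fun s => RingHom.congr_fun (RingHom.algebraMap_toAlgebra _) s
  haveI : IsScalarTower k S₀ D := by
    refine IsScalarTower.of_algebraMap_eq (R := k) (S := S₀) (A := ↥D) (fun c => ?_)
    rw [halgS₀D, IsScalarTower.algebraMap_apply k A₀ S₀, Ideal.Quotient.algebraMap_eq, theta_mk,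
      IsScalarTower.algebraMap_apply k P A₀, thetaZero_algebraMap, AlgHom.commutes]
  -- the maximal ideal of `L`
  have hmL : maximalIdeal L = Ideal.span (Set.range fun i => f (π i)) := by
    rw [← hmaxL, ← hπgen, Ideal.map_span, ← Set.range_comp]
    congr 2
    funext i
    exact locMap_algebraMap f.toRingHom (π i)
  have hδ : ∀ i, IsUnit (algebraMap Λ L (algebraMap R Λ (u i))) := fun i =>
    IsLocalization.map_units L (⟨_, hu i⟩ : 𝔮.primeCompl)
  have hfπe : ∀ i, f (π i) ^ e ∈ J' := by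
    intro i
    have h1 : f (π i) ^ e * algebraMap Λ L (algebraMap R Λ (u i)) ^ e ∈ J' := by
      rw [hf, ← hψ₀, ← mul_pow, ← map_mul, ← map_mul, ← map_pow, ← map_pow]
      exact Ideal.mem_map_of_mem _ (Ideal.mem_map_of_mem _ (hγK i))
    have h2 := J'.mul_mem_right (↑((hδ i).pow e).unit⁻¹ : L) h1
    rwa [mul_assoc, IsUnit.mul_val_inv, mul_one] at h2
  have hmde : maximalIdeal L ^ (d * e + 1) ≤ J' := by
    rw [hmL]
    refine (span_range_pow_le _ e).trans ?_
    rw [Ideal.span_le]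
    rintro _ ⟨i, rfl⟩
    exact hfπe i
  have hmn : maximalIdeal L ^ n ≤ J' := (Ideal.pow_le_pow_right hn).trans hmde
  have hJ'le : J' ≤ maximalIdeal L := by
    rw [hJ', ← IsLocalization.AtPrime.map_eq_maximalIdeal 𝔮 L]
    exact Ideal.map_mono hKq
  have hne : J' ≠ ⊤ := fun h => (maximalIdeal.isMaximal L).ne_top (top_le_iff.1 (h ▸ hJ'le))
  have hrad : maximalIdeal L ≤ J'.radical := by
    rw [hmL, Ideal.span_le]
    rintro _ ⟨i, rfl⟩
    exact ⟨e, hfπe i⟩
  have hdim : ringKrullDim (L ⧸ J') = 0 := ringKrullDim_quotient_eq_zero J' hne hrad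
  -- the map `D → Λq`
  let τD : D →+* L ⧸ J' := (Ideal.Quotient.factor hmn).comp D.val.toRingHom
  have hτD' : ∀ w : D, ∀ l : L, Ideal.Quotient.mk (maximalIdeal L ^ n) l = (w : Λb) →
      τD w = Ideal.Quotient.mk J' l := by
    intro w l hl
    change Ideal.Quotient.factor hmn (w : Λb) = _
    rw [← hl, Ideal.Quotient.factor_mk]
  have halgΛq : ∀ z : Λ, algebraMap (Λ ⧸ J) (L ⧸ J') (Ideal.Quotient.mk J z) =
      Ideal.Quotient.mk J' (algebraMap Λ L z) := fun _ => rfl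
  have halgRΛq : ∀ t : R, algebraMap (Localization.AtPrime
      ((𝔮.map (Ideal.Quotient.mk J)).comap (algebraMap (R ⧸ K) (Λ ⧸ J)))) (L ⧸ J')
        (algebraMap (R ⧸ K) _ (Ideal.Quotient.mk K t)) =
      Ideal.Quotient.mk J' (algebraMap Λ L (algebraMap R Λ t)) := by
    intro t
    rw [← IsScalarTower.algebraMap_apply (R ⧸ K) _ (L ⧸ J')]
    rfl
  have hcompat : ∀ a : A₀, Ideal.Quotient.mk J' (locMap f.toRingHom a) =
      algebraMap (Localization.AtPrime ((𝔮.map (Ideal.Quotient.mk J)).comap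
        (algebraMap (R ⧸ K) (Λ ⧸ J)))) (L ⧸ J') (zetaZero f.toRingHom ζ hunit a) := by
    have h : (Ideal.Quotient.mk J').comp (locMap f.toRingHom) =
        (algebraMap (Localization.AtPrime ((𝔮.map (Ideal.Quotient.mk J)).comap
          (algebraMap (R ⧸ K) (Λ ⧸ J)))) (L ⧸ J')).comp (zetaZero f.toRingHom ζ hunit) := by
      apply IsLocalization.ringHom_ext (Ideal.comap f.toRingHom (maximalIdeal L)).primeCompl
      refine RingHom.ext fun q => ?_
      simp only [RingHom.comp_apply]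
      rw [locMap_algebraMap, zetaZero_algebraMap, hζ, halgRΛq, hψ₀]
      exact congrArg _ (hf q)
    intro a
    exact RingHom.congr_fun h a
  refine Groth.Agent.Lib.Helper86.PopCH2.resolvable_of_artinian_descent x a N ρ R φ lam hlam K φK
    hφK (𝔮.map (Ideal.Quotient.mk J)) (Localization.AtPrime ((𝔮.map (Ideal.Quotient.mk J)).comap
      (algebraMap (R ⧸ K) (Λ ⧸ J)))) (L ⧸ J') hdim hind ?_ τD ?_ φD ?_
    (fun i => Ideal.Quotient.mk _ (algebraMap P A₀ (π i))) u ?_ μ ?_ ?_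
  · intro c
    rw [IsScalarTower.algebraMap_apply k A₀ S₀, Ideal.Quotient.algebraMap_eq, halgS₀Rp,
      IsScalarTower.algebraMap_apply k P A₀, zetaZero_algebraMap, hζ,
      ← IsScalarTower.algebraMap_apply k P R]
  · intro s
    obtain ⟨a, rfl⟩ := Ideal.Quotient.mk_surjective s
    rw [halgS₀D, halgS₀Rp, ← hcompat]
    exact hτD' _ _ (coe_theta_mk f n D g hg hmaxD hmaxL a).symm
  · intro y
    rw [halgΛq]
    exact hτD' _ _ (hφD y).symm
  · intro i
    rw [hγ i, map_mul, map_mul, halgS₀Rp, zetaZero_algebraMap, hζ]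
  · intro i
    rw [halgS₀D, theta_mk, thetaZero_algebraMap]
    exact hμ i
  · intro i j
    obtain ⟨μ', h1, h2⟩ := hlamμ i j
    rw [halgRΛq, hτD' (μ i j) μ' h1, halgΛq, ← map_pow, ← map_mul]
    symm
    rw [Ideal.Quotient.eq]
    exact hmde h2

end Main

end Groth.Agent.Lib.Helper81.Pop
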