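import Mathlib
import Groth.Prelude.Def_Smoothing
import Groth.Agent.Lib.Helper81.PopCharP6
import Groth.Agent.Lib.Helper81.PopCharP7

/-!
# Popescu, characteristic `p`: combining the two reduction steps (helper81)
-/

set_option autoImplicit false
set_option linter.style.haveILetI false
set_option linter.unusedSectionVars false
universe u

namespace Groth.Agent.Lib.Helper81.Pop

open MvPolynomial Smoothing IsLocalRing TensorProduct Groth.Agent.Lib.Helper86.PhiNat

section
variable {k A Λ : Type u} [Field k] [CommRing A] [Algebra k A] [Algebra.FinitePresentation k A]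
  [CommRing Λ] [IsNoetherianRing Λ] [Algebra k Λ] (φ : A →ₐ[k] Λ) (𝔮 : Ideal Λ) [𝔮.IsPrime]
  {r : ℕ} (a : Fin r → A) {d : ℕ} (hd : 0 < d) (N : ℕ)

local notation "kx" => MvPolynomial (Fin d) k
local notation "xR" => (fun i : Fin d => (X i : MvPolynomial (Fin d) k))
local notation "B" => BAlg (k := k) (fun i : Fin d => (X i : MvPolynomial (Fin d) k)) a N
local notation "L" => Localization.AtPrime 𝔮

include hd in
theorem resolvable_of_data
    {C : Type u} [CommRing C] [Algebra kx C] [Algebra B C] [IsScalarTower kx B C]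
    [Algebra.FinitePresentation kx C] (ρ : C →ₐ[B] B) (c : ℕ) (hc : 1 ≤ c)
    (hstd : ∀ i : Fin d, IsStrictlyStandard kx C (algebraMap kx C (X i ^ c)))
    (hsingC : ∀ y ∈ singularIdeal k A,
      algebraMap B C (ιB (k := k) xR a N y) ∈ singularIdeal kx C)
    (R : Type u) [CommRing R] [IsNoetherianRing R] [Algebra k R] [Algebra.FinitePresentation k R]
    [Algebra.FormallySmooth k R] [Algebra kx R] [IsScalarTower k kx R]
    [Algebra kx Λ] [IsScalarTower k kx Λ] [Algebra R Λ] [IsScalarTower kx R Λ]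
    [IsScalarTower k R Λ]
    (lam : Fin d → Fin r → Λ) (hlam : ∀ i, algebraMap kx Λ (X i) ^ N = ∑ j, φ (a j) * lam i j)
    {P : Type u} [CommRing P] [IsNoetherianRing P] [Algebra k P] [Algebra P R]
    [IsScalarTower k P R]
    (ψ₀ : P →ₐ[k] Λ) (hψ₀ : ∀ q, algebraMap R Λ (algebraMap P R q) = ψ₀ q)
    (f : P →ₐ[k] L) (hf : ∀ q, f q = algebraMap Λ L (ψ₀ q))
    (n : ℕ) [IsLocalRing (L ⧸ maximalIdeal L ^ n)]
    (D : Subalgebra k (L ⧸ maximalIdeal L ^ n)) [IsLocalRing D] (g : P →ₐ[k] D)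
    (hg : ∀ q, ((g q : D) : L ⧸ maximalIdeal L ^ n) = Ideal.Quotient.mk _ (f q))
    (hmaxD : (maximalIdeal D).map (algebraMap D (L ⧸ maximalIdeal L ^ n)) =
      maximalIdeal (L ⧸ maximalIdeal L ^ n))
    (hmaxL : (maximalIdeal (Localization.AtPrime (Ideal.comap f.toRingHom (maximalIdeal L)))).map
      (locMap f.toRingHom) = maximalIdeal L)
    (hind : letI : Algebra (Localization.AtPrime (Ideal.comap f.toRingHom (maximalIdeal L)) ⧸
        maximalIdeal (Localization.AtPrime (Ideal.comap f.toRingHom (maximalIdeal L))) ^ n) D :=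
        RingHom.toAlgebra (theta f n D g hg hmaxD hmaxL)
      IndSmooth (Localization.AtPrime (Ideal.comap f.toRingHom (maximalIdeal L)) ⧸
        maximalIdeal (Localization.AtPrime (Ideal.comap f.toRingHom (maximalIdeal L))) ^ n) D)
    (φD : A →ₐ[k] D)
    (hφD : ∀ y, ((φD y : D) : L ⧸ maximalIdeal L ^ n) =
      Ideal.Quotient.mk _ (algebraMap Λ L (φ y)))
    (π : Fin d → P)
    (hπgen : Ideal.span (Set.range fun i =>
      algebraMap P (Localization.AtPrime (Ideal.comap f.toRingHom (maximalIdeal L))) (π i)) =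
        maximalIdeal (Localization.AtPrime (Ideal.comap f.toRingHom (maximalIdeal L))))
    (u : Fin d → R) (hu : ∀ i, algebraMap R Λ (u i) ∉ 𝔮)
    (hγ : ∀ i, algebraMap kx R (X i) = algebraMap P R (π i) * u i)
    (hq : ∀ i, algebraMap R Λ (algebraMap P R (π i) * u i) ∈ 𝔮)
    (hR : ∀ (i : Fin d) (y : R),
      (algebraMap P R (π i) * u i) ^ 2 * y ∈
        Ideal.span (Set.range fun j : {j : Fin d // (j : ℕ) < (i : ℕ)} =>
          (algebraMap P R (π j) * u j) ^ (c * 8)) →
      (algebraMap P R (π i) * u i) * y ∈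
        Ideal.span (Set.range fun j : {j : Fin d // (j : ℕ) < (i : ℕ)} =>
          (algebraMap P R (π j) * u j) ^ (c * 8)))
    (hΛ : ∀ (i : Fin d) (y : Λ),
      algebraMap R Λ (algebraMap P R (π i) * u i) ^ 2 * y ∈
        Ideal.span (Set.range fun j : {j : Fin d // (j : ℕ) < (i : ℕ)} =>
          algebraMap R Λ (algebraMap P R (π j) * u j) ^ (c * 8)) →
      algebraMap R Λ (algebraMap P R (π i) * u i) * y ∈
        Ideal.span (Set.range fun j : {j : Fin d // (j : ℕ) < (i : ℕ)} =>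
          algebraMap R Λ (algebraMap P R (π j) * u j) ^ (c * 8)))
    (hn : d * (c * 8) + 1 ≤ n)
    (μ : Fin d → Fin r → D) (hμ : ∀ i, g (π i) ^ N = ∑ j, φD (a j) * μ i j)
    (hlamμ : ∀ i j, ∃ μ' : L, Ideal.Quotient.mk (maximalIdeal L ^ n) μ' =
        (μ i j : L ⧸ maximalIdeal L ^ n) ∧
      algebraMap Λ L (lam i j) - algebraMap Λ L (algebraMap R Λ (u i)) ^ N * μ' ∈
        maximalIdeal L ^ (d * (c * 8) + 1)) :
    Resolvable k φ 𝔮 := by
  classical
  set γ : Fin d → R := fun i => algebraMap P R (π i) * u i with hγdef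
  set K : Ideal R := Ideal.span (Set.range fun i => γ i ^ (c * 8)) with hK
  obtain ⟨φK, hφK⟩ := exists_quotientMapAlgHom (PhiC xR a N ρ R φ lam hlam) K
  haveI : Algebra.FinitePresentation R (R ⊗[kx] C) := inferInstance
  haveI := finitePresentation_quotient_map (R := R) (C := R ⊗[kx] C) K
  refine resolvable_of_reduced φ 𝔮 a hd N ρ c hc hstd hsingC R lam hlam γ hγ hq hR hΛ K hK φK
    hφK ?_
  have hKq : K.map (algebraMap R Λ) ≤ 𝔮 := by
    rw [hK, Ideal.map_span, Ideal.span_le]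
    rintro _ ⟨_, ⟨i, rfl⟩, rfl⟩
    rw [map_pow]
    exact Ideal.pow_mem_of_mem _ (hq i) _ (by omega)
  exact resolvable_reduced_charP xR a N ρ R φ lam hlam K φK 𝔮 ψ₀ f n D g hg hmaxD hφK hKq hψ₀ hf
    hmaxL hind φD hφD π hπgen u hu hγ (c * 8) (fun i => Ideal.subset_span ⟨i, rfl⟩) hn μ hμ hlamμ

end

end Groth.Agent.Lib.Helper81.Pop
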