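import Mathlib
import Groth.Prelude.Def_Smoothing
import Groth.Agent.Lib.Helper81.PopCharP8
import Groth.Agent.H34.PopParam
import Groth.Agent.Lib.Helper86.AnnPolyB

set_option autoImplicit false
set_option linter.style.haveILetI false
set_option linter.unusedSectionVars false
universe u

/-!
# Popescu, characteristic `p`: from the local structure to the resolution (helper81)
-/

namespace Groth.Agent.Lib.Helper81.Pop

open MvPolynomial Smoothing IsLocalRing TensorProduct Groth.Agent.Lib.Helper86.PhiNat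

section
variable {k A Λ : Type u} [Field k] [CommRing A] [Algebra k A] [Algebra.FinitePresentation k A]
  [CommRing Λ] [IsNoetherianRing Λ] [Algebra k Λ] (φ : A →ₐ[k] Λ) (𝔮 : Ideal Λ) [𝔮.IsPrime]
  {r : ℕ} (a : Fin r → A) {d : ℕ} (hd : 0 < d) (N : ℕ)

local notation "kx" => MvPolynomial (Fin d) k
local notation "xR" => (fun i : Fin d => (X i : MvPolynomial (Fin d) k))
local notation "B" => BAlg (k := k) (fun i : Fin d => (X i : MvPolynomial (Fin d) k)) a N
local notation "L" => Localization.AtPrime 𝔮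

include hd in
theorem resolvable_of_local_structure
    [IsRegularLocalRing L] (hdL : (maximalIdeal L).spanFinrank = d) (hN : 1 ≤ N)
    (hpow : maximalIdeal L ^ N ≤ Ideal.span (Set.range fun j => algebraMap Λ L (φ (a j))))
    {C : Type u} [CommRing C] [Algebra kx C] [Algebra B C] [IsScalarTower kx B C]
    [Algebra.FinitePresentation kx C] (ρ : C →ₐ[B] B) (c : ℕ) (hc : 1 ≤ c)
    (hstd : ∀ i : Fin d, IsStrictlyStandard kx C (algebraMap kx C (X i ^ c)))
    (hsingC : ∀ y ∈ singularIdeal k A,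
      algebraMap B C (ιB (k := k) xR a N y) ∈ singularIdeal kx C)
    {P : Type u} [CommRing P] [IsNoetherianRing P] [Algebra k P] [Algebra.FinitePresentation k P]
    [Algebra.FormallySmooth k P]
    (ψ₀ : P →ₐ[k] Λ) (f : P →ₐ[k] L) (hf : ∀ q, f q = algebraMap Λ L (ψ₀ q))
    [IsRegularLocalRing (Localization.AtPrime (Ideal.comap f.toRingHom (maximalIdeal L)))]
    (hdA₀ : (maximalIdeal (Localization.AtPrime
      (Ideal.comap f.toRingHom (maximalIdeal L)))).spanFinrank = d)
    (n : ℕ) (hn : n = d * (c * 8) + 1 + N) [IsLocalRing (L ⧸ maximalIdeal L ^ n)]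
    (D : Subalgebra k (L ⧸ maximalIdeal L ^ n)) [IsLocalRing D] (g : P →ₐ[k] D)
    (hg : ∀ q, ((g q : D) : L ⧸ maximalIdeal L ^ n) = Ideal.Quotient.mk _ (f q))
    (hmaxD : (maximalIdeal D).map (algebraMap D (L ⧸ maximalIdeal L ^ n)) =
      maximalIdeal (L ⧸ maximalIdeal L ^ n))
    (hflatD : Module.Flat D (L ⧸ maximalIdeal L ^ n))
    (hmaxL : (maximalIdeal (Localization.AtPrime (Ideal.comap f.toRingHom (maximalIdeal L)))).map
      (locMap f.toRingHom) = maximalIdeal L)
    (hind : letI : Algebra (Localization.AtPrime (Ideal.comap f.toRingHom (maximalIdeal L)) ⧸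
        maximalIdeal (Localization.AtPrime (Ideal.comap f.toRingHom (maximalIdeal L))) ^ n) D :=
        RingHom.toAlgebra (theta f n D g hg hmaxD hmaxL)
      IndSmooth (Localization.AtPrime (Ideal.comap f.toRingHom (maximalIdeal L)) ⧸
        maximalIdeal (Localization.AtPrime (Ideal.comap f.toRingHom (maximalIdeal L))) ^ n) D)
    (φD : A →ₐ[k] D)
    (hφD : ∀ y, ((φD y : D) : L ⧸ maximalIdeal L ^ n) =
      Ideal.Quotient.mk _ (algebraMap Λ L (φ y))) :
    Resolvable k φ 𝔮 := by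
  classical
  have he : 0 < c * 8 := by omega
  -- the parameters in `P`
  obtain ⟨π, hπp, hπgen, hPolyQ⟩ := Groth.Agent.Lib.Helper86.AnnPoly.exists_params_polyQ
    (Ideal.comap f.toRingHom (maximalIdeal L)) d (c * 8) he hdA₀
  have hfπ : ∀ i, f (π i) ∈ maximalIdeal L := fun i => Ideal.mem_comap.1 (hπp i)
  have hxgen : Ideal.span (Set.range fun i => algebraMap Λ L (ψ₀ (π i))) = maximalIdeal L := by
    rw [← hmaxL, ← hπgen, Ideal.map_span, ← Set.range_comp]
    congr 2
    funext i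
    rw [Function.comp_apply, locMap_algebraMap, ← hf]
    rfl
  haveI hlocD : IsLocalHom (algebraMap D (L ⧸ maximalIdeal L ^ n)) :=
    isLocalHom_algebraMap_D n D hmaxD
  haveI hflatD' : @Module.Flat D (L ⧸ maximalIdeal L ^ n) _ _ Algebra.toModule := hflatD
  haveI hff := @Module.FaithfullyFlat.of_flat_of_isLocalHom D (L ⧸ maximalIdeal L ^ n) _ _ _ _ _
    hflatD' hlocD
  obtain ⟨μ, δ, lam, h1, h2, h3, h4, h5⟩ := Groth.Agent.H34.PopParam.exists_params 𝔮 hdL N
    (d * (c * 8) + 1) n (c * 8) hN he hn (D := D) (fun j => φ (a j)) (fun j => φD (a j))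
    (fun j => hφD (a j)) hpow (fun i => ψ₀ (π i)) (fun i => g (π i))
    (fun i => by rw [← hf]; exact hg (π i)) hxgen
  -- the base ring `R = P[X₁, …, X_d]`
  let ψR : MvPolynomial (Fin d) P →+* Λ := MvPolynomial.eval₂Hom ψ₀.toRingHom δ
  have hψRC : ∀ q : P, ψR (MvPolynomial.C q) = ψ₀ q := fun q => MvPolynomial.eval₂Hom_C _ _ q
  have hψRX : ∀ i : Fin d, ψR (X i) = δ i := fun i => MvPolynomial.eval₂Hom_X' _ _ i
  letI algRΛ : Algebra (MvPolynomial (Fin d) P) Λ := ψR.toAlgebra
  have halgRΛ : ∀ t, algebraMap (MvPolynomial (Fin d) P) Λ t = ψR t :=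
    fun t => RingHom.congr_fun (RingHom.algebraMap_toAlgebra ψR) t
  haveI : IsScalarTower k (MvPolynomial (Fin d) P) Λ := by
    refine IsScalarTower.of_algebraMap_eq (fun y => ?_)
    rw [halgRΛ, IsScalarTower.algebraMap_apply k P (MvPolynomial (Fin d) P),
      MvPolynomial.algebraMap_eq, hψRC, AlgHom.commutes]
  let γ : Fin d → MvPolynomial (Fin d) P := fun i => MvPolynomial.C (π i) * MvPolynomial.X i
  letI algkxR : Algebra kx (MvPolynomial (Fin d) P) :=
    (MvPolynomial.aeval γ : kx →ₐ[k] MvPolynomial (Fin d) P).toRingHom.toAlgebra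
  have halgkxR : ∀ t, algebraMap kx (MvPolynomial (Fin d) P) t =
      (MvPolynomial.aeval γ : kx →ₐ[k] MvPolynomial (Fin d) P) t := fun t =>
    RingHom.congr_fun (RingHom.algebraMap_toAlgebra
      (MvPolynomial.aeval γ : kx →ₐ[k] MvPolynomial (Fin d) P).toRingHom) t
  haveI : IsScalarTower k kx (MvPolynomial (Fin d) P) := by
    refine IsScalarTower.of_algebraMap_eq (fun y => ?_)
    rw [halgkxR, AlgHom.commutes]
  letI algkxΛ : Algebra kx Λ :=
    ((algebraMap (MvPolynomial (Fin d) P) Λ).comp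
      (algebraMap kx (MvPolynomial (Fin d) P))).toAlgebra
  have halgkxΛ : ∀ t, algebraMap kx Λ t =
      algebraMap (MvPolynomial (Fin d) P) Λ (algebraMap kx (MvPolynomial (Fin d) P) t) :=
    fun t => RingHom.congr_fun (RingHom.algebraMap_toAlgebra _) t
  haveI : IsScalarTower kx (MvPolynomial (Fin d) P) Λ :=
    IsScalarTower.of_algebraMap_eq (fun t => halgkxΛ t)
  haveI : IsScalarTower k kx Λ := by
    refine IsScalarTower.of_algebraMap_eq (fun y => ?_)
    rw [halgkxΛ, ← IsScalarTower.algebraMap_apply k kx (MvPolynomial (Fin d) P),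
      ← IsScalarTower.algebraMap_apply k (MvPolynomial (Fin d) P) Λ]
  haveI : Algebra.FinitePresentation k (MvPolynomial (Fin d) P) :=
    Algebra.FinitePresentation.trans k P (MvPolynomial (Fin d) P)
  haveI : Algebra.FormallySmooth k (MvPolynomial (Fin d) P) :=
    Algebra.FormallySmooth.comp k P (MvPolynomial (Fin d) P)
  have hγΛ : ∀ i, algebraMap (MvPolynomial (Fin d) P) Λ
      (algebraMap P (MvPolynomial (Fin d) P) (π i) * MvPolynomial.X i) = δ i * ψ₀ (π i) := by
    intro i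
    rw [halgRΛ, map_mul, MvPolynomial.algebraMap_eq, hψRC, hψRX, mul_comm]
  have hXΛ : ∀ i : Fin d, algebraMap (MvPolynomial (Fin d) P) Λ (MvPolynomial.X i) = δ i :=
    fun i => by rw [halgRΛ, hψRX]
  have hγR : ∀ i : Fin d, algebraMap kx (MvPolynomial (Fin d) P) (X i) =
      algebraMap P (MvPolynomial (Fin d) P) (π i) * MvPolynomial.X i := by
    intro i
    rw [halgkxR, MvPolynomial.aeval_X, MvPolynomial.algebraMap_eq]
  have hψ₀𝔮 : ∀ i, ψ₀ (π i) ∈ 𝔮 := by
    intro i
    have h := hfπ i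
    rw [hf] at h
    exact (IsLocalization.AtPrime.to_map_mem_maximal_iff L 𝔮 _).1 h
  refine resolvable_of_data φ 𝔮 a hd N ρ c hc hstd hsingC (MvPolynomial (Fin d) P) lam ?_ ψ₀ ?_ f hf
    n D g hg hmaxD hmaxL hind φD hφD π hπgen (fun i => MvPolynomial.X i) ?_ hγR ?_ ?_ ?_ ?_ μ h1 ?_
  · intro i
    rw [halgkxΛ, hγR, hγΛ]
    exact h3 i
  · intro q
    rw [halgRΛ, MvPolynomial.algebraMap_eq, hψRC]
  · intro i
    rw [hXΛ]
    exact h2 i
  · intro i
    rw [hγΛ]
    exact Ideal.mul_mem_left _ _ (hψ₀𝔮 i)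
  · intro i y hy
    exact hPolyQ i y hy
  · intro i y hy
    simp only [hγΛ] at hy ⊢
    exact h5 i y hy
  · omega
  · intro i j
    obtain ⟨μ', hμ'1, hμ'2⟩ := h4 i j
    refine ⟨μ', hμ'1, ?_⟩
    rw [hXΛ]
    exact hμ'2

end
end Groth.Agent.Lib.Helper81.Pop
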