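import Mathlib
import Groth.Prelude.Def_Smoothing
import Groth.Agent.Lib.Helper81.PopCharP9
import Groth.Agent.H34.PopDescent
import Groth.Agent.Lib.Helper62.ChevalleySymbolic

set_option autoImplicit false
set_option linter.style.haveILetI false
set_option linter.unusedSectionVars false
universe u

/-!
# Popescu's local problem in characteristic `p` (helper81)

The assembly of the characteristic `p` case of the local smoothing problem for a geometrically
regular algebra over a field: structure of the Artinian quotients of `Λ_𝔮` (PopCharP1-P3),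
descent to an Artinian base (helper34's `PopDescent`), smoothing over the polynomial base
(PopCharP6-P8, helper86's `PopCH2`) and choice of the parameters (helper34's `PopParam`).
-/

namespace Groth.Agent.Lib.Helper81.Pop

open MvPolynomial Smoothing IsLocalRing TensorProduct

theorem descentStatement : DescentStatement.{u} := by
  intro R₀ D Λb _ _ _ hnil _ _ _ _ _ _ _ _ _ _ hmax _ _
  exact Groth.Agent.H34.PopDescent.indSmooth_of_descent hnil hmax

theorem resolvable_charP {k A Λ : Type u} [Field k] (p : ℕ) [hp : Fact p.Prime] [CharP k p]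
    [CommRing A] [Algebra k A] [Algebra.FinitePresentation k A] [CommRing Λ] [Algebra k Λ]
    [IsNoetherianRing Λ] (hreg : CAlg.IsGeometricallyRegular k Λ) (φ : A →ₐ[k] Λ) (𝔮 : Ideal Λ)
    [𝔮.IsPrime] (hmin : 𝔮 ∈ (singRad k φ).minimalPrimes) : Resolvable k φ 𝔮 := by
  classical
  haveI : IsRegularRing Λ := by
    haveI : IsRegularRing (k ⊗[k] Λ) := hreg k inferInstance
    exact IsRegularRing.of_ringEquiv (Algebra.TensorProduct.lid k Λ).toRingEquiv
  obtain ⟨d, hd⟩ : ∃ d, (maximalIdeal (Localization.AtPrime 𝔮)).spanFinrank = d := ⟨_, rfl⟩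
  rcases Nat.eq_zero_or_pos d with hd0 | hdpos
  · subst hd0
    exact resolvable_of_spanFinrank_eq_zero' hreg φ 𝔮 hd
  haveI : IsNoetherianRing A := Algebra.FiniteType.isNoetherianRing k A
  obtain ⟨r, a, hass, hrad⟩ := exists_strictlyStandard_family (k := k) (A := A)
  set I : Ideal Λ := Ideal.span (Set.range fun j => φ (a j)) with hI
  have hImap : I = (Ideal.span (Set.range a)).map φ := by
    rw [hI, Ideal.map_span, ← Set.range_comp]
    rfl
  have hIrad : I.radical = singRad k φ := by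
    rw [singRad, hrad]
    apply le_antisymm
    · apply Ideal.radical_mono
      rw [hImap]
      exact Ideal.map_mono Ideal.le_radical
    · rw [Ideal.radical_le_radical_iff, hImap]
      exact Ideal.map_radical_le φ
  have hmin' : 𝔮 ∈ I.radical.minimalPrimes := hIrad ▸ hmin
  obtain ⟨N, hN, hpow⟩ := exists_pow_map_le I 𝔮 hmin'
  have hpow' : maximalIdeal (Localization.AtPrime 𝔮) ^ N ≤
      Ideal.span (Set.range fun j => algebraMap Λ (Localization.AtPrime 𝔮) (φ (a j))) := by
    rw [← IsLocalization.AtPrime.map_eq_maximalIdeal 𝔮 (Localization.AtPrime 𝔮), ← Ideal.map_pow]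
    refine hpow.trans (le_of_eq ?_)
    rw [hI, Ideal.map_span, ← Set.range_comp]
    rfl
  obtain ⟨C, _, _, _, _, _, ρ, c, hc, hstd, hsingC⟩ := exists_CData a hass hrad d N
  -- the exponent
  obtain ⟨n, hn⟩ : ∃ n, n = d * (c * 8) + 1 + N := ⟨_, rfl⟩
  have hn1 : 1 ≤ n := by omega
  have hgrL : CAlg.IsGeometricallyRegular k (Localization.AtPrime 𝔮) :=
    isGeometricallyRegular_localization hreg 𝔮
  -- the Artinian local ring `L ⧸ 𝔪 ^ n`
  have hne : maximalIdeal (Localization.AtPrime 𝔮) ^ n ≠ ⊤ := by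
    intro h
    have h1 : maximalIdeal (Localization.AtPrime 𝔮) ^ n ≤ maximalIdeal (Localization.AtPrime 𝔮) :=
      Ideal.pow_le_self (by omega)
    rw [h] at h1
    exact (maximalIdeal.isMaximal _).ne_top (top_le_iff.1 h1)
  haveI : Nontrivial (Localization.AtPrime 𝔮 ⧸ maximalIdeal (Localization.AtPrime 𝔮) ^ n) :=
    Ideal.Quotient.nontrivial_iff.2 hne
  haveI : IsLocalRing (Localization.AtPrime 𝔮 ⧸ maximalIdeal (Localization.AtPrime 𝔮) ^ n) :=
    IsLocalRing.of_surjective' (Ideal.Quotient.mk _) Ideal.Quotient.mk_surjective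
  haveI : IsArtinianRing (Localization.AtPrime 𝔮 ⧸ maximalIdeal (Localization.AtPrime 𝔮) ^ n) :=
    Groth.Agent.Lib.Helper62.ChevalleySymbolic.isArtinianRing_quot_pow n hn1
  -- the image of `Λ` in `L`
  have hΛ₁ : ∀ x : Localization.AtPrime 𝔮,
      ∃ a ∈ (IsScalarTower.toAlgHom k Λ (Localization.AtPrime 𝔮)).range,
      ∃ u ∈ (IsScalarTower.toAlgHom k Λ (Localization.AtPrime 𝔮)).range, IsUnit u ∧ x * u = a := by
    intro x
    obtain ⟨⟨a', s⟩, hxs⟩ := IsLocalization.surj 𝔮.primeCompl x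
    exact ⟨algebraMap Λ _ a', ⟨a', rfl⟩, algebraMap Λ _ s, ⟨s, rfl⟩,
      IsLocalization.map_units _ s, hxs⟩
  -- generators of `A` and of `𝔮`
  obtain ⟨sA, hsA⟩ := (Algebra.FiniteType.out : (⊤ : Subalgebra k A).FG)
  obtain ⟨s, g𝔮, hg𝔮⟩ := Submodule.fg_iff_exists_fin_generating_family.1
    (IsNoetherian.noetherian 𝔮)
  have hgL : Ideal.span (Set.range fun i => algebraMap Λ (Localization.AtPrime 𝔮) (g𝔮 i)) =
      maximalIdeal (Localization.AtPrime 𝔮) := by
    have h1 : Ideal.map (algebraMap Λ (Localization.AtPrime 𝔮)) (Ideal.span (Set.range g𝔮)) =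
        maximalIdeal (Localization.AtPrime 𝔮) := by
      rw [show Ideal.span (Set.range g𝔮) = 𝔮 from hg𝔮]
      exact IsLocalization.AtPrime.map_eq_maximalIdeal 𝔮 (Localization.AtPrime 𝔮)
    rw [← h1, Ideal.map_span, ← Set.range_comp]
    rfl
  -- the local structure
  obtain ⟨D, hlocD, m, r', y, yD, hyΛ₁, hyD, hED, hartD, hflatD, hessD, hmaxD, hspan, hflat, hmaxL,
    hregA₀, hdA₀⟩ := exists_local_structure p hgrL
      (IsScalarTower.toAlgHom k Λ (Localization.AtPrime 𝔮)).range hΛ₁ n hn1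
      (sA.image fun x => algebraMap Λ (Localization.AtPrime 𝔮) (φ x))
      (fun i => algebraMap Λ (Localization.AtPrime 𝔮) (g𝔮 i)) (fun i => ⟨g𝔮 i, rfl⟩) hgL
  haveI := hlocD
  have hyΛ' : ∀ j, ∃ x : Λ, algebraMap Λ (Localization.AtPrime 𝔮) x = y j := fun j => hyΛ₁ j
  choose yΛ hyΛ using hyΛ'
  have hf : ∀ q : MvPolynomial (Fin m ⊕ Fin r') k,
      (MvPolynomial.aeval y : MvPolynomial (Fin m ⊕ Fin r') k →ₐ[k] Localization.AtPrime 𝔮) q =
        algebraMap Λ (Localization.AtPrime 𝔮)
          ((MvPolynomial.aeval yΛ : MvPolynomial (Fin m ⊕ Fin r') k →ₐ[k] Λ) q) := by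
    intro q
    have h : (MvPolynomial.aeval y : MvPolynomial (Fin m ⊕ Fin r') k →ₐ[k] Localization.AtPrime 𝔮) =
        (IsScalarTower.toAlgHom k Λ (Localization.AtPrime 𝔮)).comp
          (MvPolynomial.aeval yΛ : MvPolynomial (Fin m ⊕ Fin r') k →ₐ[k] Λ) := by
      apply MvPolynomial.algHom_ext
      intro j
      simp only [AlgHom.comp_apply, MvPolynomial.aeval_X, IsScalarTower.coe_toAlgHom', hyΛ]
    rw [h]
    rfl
  have hg : ∀ q : MvPolynomial (Fin m ⊕ Fin r') k,
      (((MvPolynomial.aeval yD : MvPolynomial (Fin m ⊕ Fin r') k →ₐ[k] D) q : D) :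
        Localization.AtPrime 𝔮 ⧸ maximalIdeal (Localization.AtPrime 𝔮) ^ n) =
      Ideal.Quotient.mk _ ((MvPolynomial.aeval y :
        MvPolynomial (Fin m ⊕ Fin r') k →ₐ[k] Localization.AtPrime 𝔮) q) :=
    coe_aeval_yD n D y yD hyD
  have hspan' : Submodule.span (ResidueField D) (Set.range fun q : MvPolynomial (Fin m ⊕ Fin r') k =>
      KaehlerDifferential.D k (ResidueField D)
        (residue D ((MvPolynomial.aeval yD : MvPolynomial (Fin m ⊕ Fin r') k →ₐ[k] D) q))) = ⊤ := by
    rw [eq_top_iff, ← hspan]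
    apply Submodule.span_mono
    rintro _ ⟨j, rfl⟩
    refine ⟨X j, ?_⟩
    change KaehlerDifferential.D k (ResidueField D) (residue D ((MvPolynomial.aeval yD :
      MvPolynomial (Fin m ⊕ Fin r') k →ₐ[k] D) (X j))) = _
    rw [MvPolynomial.aeval_X]
  -- the map `A → D`
  have hΦD : ∀ x : A, (Ideal.Quotient.mkₐ k (maximalIdeal (Localization.AtPrime 𝔮) ^ n)).comp
      ((IsScalarTower.toAlgHom k Λ (Localization.AtPrime 𝔮)).comp φ) x ∈ D := by
    intro x
    have hx : x ∈ Algebra.adjoin k (sA : Set A) := by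
      rw [hsA]
      trivial
    induction hx using Algebra.adjoin_induction with
    | mem x hx => exact hED _ (Finset.mem_image_of_mem _ hx)
    | algebraMap c =>
      rw [AlgHom.commutes]
      exact D.algebraMap_mem c
    | add x y _ _ hx hy =>
      rw [map_add]
      exact D.add_mem hx hy
    | mul x y _ _ hx hy =>
      rw [map_mul]
      exact D.mul_mem hx hy
  have hind := indSmooth_theta (MvPolynomial.aeval y :
      MvPolynomial (Fin m ⊕ Fin r') k →ₐ[k] Localization.AtPrime 𝔮) n hn1 D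
    (MvPolynomial.aeval yD : MvPolynomial (Fin m ⊕ Fin r') k →ₐ[k] D) hg hmaxD descentStatement
    hflatD hessD hspan' hflat hmaxL
  haveI : IsRegularLocalRing (Localization.AtPrime (Ideal.comap (MvPolynomial.aeval y :
      MvPolynomial (Fin m ⊕ Fin r') k →ₐ[k] Localization.AtPrime 𝔮).toRingHom
      (maximalIdeal (Localization.AtPrime 𝔮)))) := hregA₀
  have hdA₀' : (maximalIdeal (Localization.AtPrime (Ideal.comap (MvPolynomial.aeval y :
      MvPolynomial (Fin m ⊕ Fin r') k →ₐ[k] Localization.AtPrime 𝔮).toRingHom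
      (maximalIdeal (Localization.AtPrime 𝔮))))).spanFinrank = d := hdA₀.trans hd
  exact resolvable_of_local_structure φ 𝔮 a hdpos N hd hN hpow' ρ c hc hstd hsingC
    (MvPolynomial.aeval yΛ : MvPolynomial (Fin m ⊕ Fin r') k →ₐ[k] Λ)
    (MvPolynomial.aeval y : MvPolynomial (Fin m ⊕ Fin r') k →ₐ[k] Localization.AtPrime 𝔮) hf hdA₀'
    n hn D (MvPolynomial.aeval yD : MvPolynomial (Fin m ⊕ Fin r') k →ₐ[k] D) hg hmaxD hflatD hmaxL
    hind (((Ideal.Quotient.mkₐ k (maximalIdeal (Localization.AtPrime 𝔮) ^ n)).comp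
      ((IsScalarTower.toAlgHom k Λ (Localization.AtPrime 𝔮)).comp φ)).codRestrict D hΦD)
    (fun y => rfl)

end Groth.Agent.Lib.Helper81.Pop
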