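import Mathlib
import Groth.Agent.Lib.Helper81.PopSepPrep

/-!
# The separable residue field case of the local smoothing problem over a field (helper81)
-/

set_option autoImplicit false
set_option linter.style.haveILetI false
universe u

namespace Groth.Agent.Lib.Helper81.Pop

open MvPolynomial Smoothing IsLocalRing

theorem resolvable_separable (h07FA : ReductionStatement.{u}) {k A Λ : Type u} [Field k]
    [CommRing A] [Algebra k A] [Algebra.FinitePresentation k A] [CommRing Λ] [Algebra k Λ]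
    [IsNoetherianRing Λ] (φ : A →ₐ[k] Λ) (𝔮 : Ideal Λ) [𝔮.IsPrime]
    (hmin : 𝔮 ∈ (singRad k φ).minimalPrimes) [IsRegularLocalRing (Localization.AtPrime 𝔮)]
    [Algebra.IsGeometricallyReduced k 𝔮.ResidueField] : Resolvable k φ 𝔮 := by
  classical
  obtain ⟨d, hd⟩ : ∃ d, (maximalIdeal (Localization.AtPrime 𝔮)).spanFinrank = d := ⟨_, rfl⟩
  rcases Nat.eq_zero_or_pos d with hd0 | hdpos
  · subst hd0
    exact resolvable_of_spanFinrank_eq_zero φ 𝔮 hd
  haveI : IsNoetherianRing A := Algebra.FiniteType.isNoetherianRing k A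
  obtain ⟨r, a, hass, hrad⟩ := exists_strictlyStandard_family (k := k) (A := A)
  set I : Ideal Λ := Ideal.span (Set.range fun j => φ (a j)) with hI
  have hImap : I = (Ideal.span (Set.range a)).map φ := by
    rw [hI, Ideal.map_span, ← Set.range_comp]
    rfl
  have hIrad : I.radical = singRad k φ := by
    rw [singRad, hrad]
    apply le_antisymm
    · apply Ideal.radical_mono
      rw [hImap]
      exact Ideal.map_mono Ideal.le_radical
    · rw [Ideal.radical_le_radical_iff, hImap]
      exact Ideal.map_radical_le φ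
  have hmin' : 𝔮 ∈ I.radical.minimalPrimes := hIrad ▸ hmin
  obtain ⟨n, hn, hpow⟩ := exists_pow_map_le I 𝔮 hmin'
  -- the algebras `B` and `C`
  let xR : Fin d → MvPolynomial (Fin d) k := fun i => X i
  have hsmB : ∀ (i : Fin d) (Q : Ideal (BAlg (k := k) xR a n)) [Q.IsPrime],
      algebraMap (MvPolynomial (Fin d) k) (BAlg (k := k) xR a n) (xR i) ∉ Q →
        Algebra.IsSmoothAt (MvPolynomial (Fin d) k) Q := by
    intro i Q _ hQ
    by_contra hns
    apply hQ
    have hall : ∀ j, ιB (k := k) xR a n (a j) ∈ Q := by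
      intro j
      by_contra hj
      exact hns (isSmoothAt_BAlg xR a n j (hass j) Q hj)
    have hmem := pow_mem_span_BAlg (k := k) xR a n i
    have hle : Ideal.span (Set.range fun j => ιB (k := k) xR a n (a j)) ≤ Q :=
      Ideal.span_le.2 (by rintro _ ⟨j, rfl⟩; exact hall j)
    exact Ideal.IsPrime.mem_of_pow_mem inferInstance n (hle hmem)
  obtain ⟨C, _, _, _, _, hfpC, ⟨ρ⟩, hC⟩ := exists_retract_strictlyStandard
    (R := MvPolynomial (Fin d) k) (B := BAlg (k := k) xR a n)
  choose hsmC e₀ he₀ using fun i : Fin d =>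
    hC (algebraMap (MvPolynomial (Fin d) k) (BAlg (k := k) xR a n) (xR i)) (hsmB i)
  set c : ℕ := max 1 (Finset.univ.sup e₀) with hc
  have hc1 : 1 ≤ c := le_max_left _ _
  have hce : ∀ i, e₀ i ≤ c := fun i =>
    (Finset.le_sup (Finset.mem_univ i)).trans (le_max_right _ _)
  -- the parameters `π`
  obtain ⟨π, hP, hQ⟩ := Groth.Agent.Lib.Helper87.Smoothing.exists_P_Q 𝔮 I n (c * 8) d hn
    (by omega) hpow hd d le_rfl
  have hπq : ∀ i, π i ∈ 𝔮 := by
    intro i
    rw [← IsLocalization.AtPrime.to_map_mem_maximal_iff (Localization.AtPrime 𝔮) 𝔮,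
      ← IsLocalization.AtPrime.map_eq_maximalIdeal 𝔮 (Localization.AtPrime 𝔮), ← hP.1]
    exact Ideal.subset_span ⟨i, rfl⟩
  choose lam hlam using fun i => (Ideal.mem_span_range_iff_exists_fun).1 (hP.2 i)
  letI algRΛ : Algebra (MvPolynomial (Fin d) k) Λ :=
    (MvPolynomial.aeval π : MvPolynomial (Fin d) k →ₐ[k] Λ).toRingHom.toAlgebra
  haveI : IsScalarTower k (MvPolynomial (Fin d) k) Λ := IsScalarTower.of_algebraMap_eq fun y =>
    ((MvPolynomial.aeval π : MvPolynomial (Fin d) k →ₐ[k] Λ).commutes y).symm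
  have halgX : ∀ i, algebraMap (MvPolynomial (Fin d) k) Λ (X i) = π i := fun i =>
    MvPolynomial.aeval_X π i
  have hlam' : ∀ i, algebraMap (MvPolynomial (Fin d) k) Λ (xR i) ^ n =
      ∑ j, φ (a j) * lam i j := by
    intro i
    rw [halgX, ← hlam i]
    exact Finset.sum_congr rfl fun j _ => mul_comm _ _
  let β := βB (k := k) xR a n φ lam hlam'
  let φC : C →ₐ[MvPolynomial (Fin d) k] Λ := β.comp (ρ.restrictScalars (MvPolynomial (Fin d) k))
  let ιC : A →+* C :=
    (algebraMap (BAlg (k := k) xR a n) C).comp (ιB (k := k) xR a n).toRingHom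
  have hι : ∀ y, φC (ιC y) = φ y := by
    intro y
    change β (ρ (algebraMap _ C (ιB (k := k) xR a n y))) = φ y
    rw [AlgHom.commutes]
    exact βB_ιB xR a n φ lam hlam' y
  have hιk : ∀ y : k, ιC (algebraMap k A y) =
      algebraMap (MvPolynomial (Fin d) k) C (algebraMap k (MvPolynomial (Fin d) k) y) := by
    intro y
    change algebraMap _ C (ιB (k := k) xR a n (algebraMap k A y)) = _
    rw [AlgHom.commutes, IsScalarTower.algebraMap_apply k (MvPolynomial (Fin d) k)
      (BAlg (k := k) xR a n), ← IsScalarTower.algebraMap_apply (MvPolynomial (Fin d) k)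
      (BAlg (k := k) xR a n) C]
  have hsing : ∀ y ∈ singularIdeal k A, ιC y ∈ singularIdeal (MvPolynomial (Fin d) k) C := by
    intro y hy
    rw [mem_singularIdeal_iff]
    intro Q' _ hQ'
    have hall : ∀ j, ιC (a j) ∈ Q' := by
      intro j
      by_contra hj
      exact hQ' ((hC (ιB (k := k) xR a n (a j))
        (fun Q _ hQ => isSmoothAt_BAlg xR a n j (hass j) Q hQ)).1 Q' hj)
    rw [hrad] at hy
    obtain ⟨N, hN⟩ := hy
    have h1 : ιC (y ^ N) ∈ (Ideal.span (Set.range a)).map ιC := Ideal.mem_map_of_mem _ hN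
    rw [Ideal.map_span, ← Set.range_comp] at h1
    have hle : Ideal.span (Set.range (ιC ∘ a)) ≤ Q' :=
      Ideal.span_le.2 (by rintro _ ⟨j, rfl⟩; exact hall j)
    have h2 := hle h1
    rw [map_pow] at h2
    exact Ideal.IsPrime.mem_of_pow_mem inferInstance N h2
  refine resolvable_of_resolvable_tower (k := k) (R := MvPolynomial (Fin d) k) φ ιC φC hι hιk 𝔮
    hsing ?_
  -- apply the reduction modulo eighth powers
  have hK : powIdeal k d (c * 8) = Ideal.span (Set.range fun i : Fin d =>
      ((X i : MvPolynomial (Fin d) k) ^ c) ^ 8) := by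
    rw [powIdeal]
    congr 2
    funext i
    rw [pow_mul]
  obtain ⟨φK, hφK⟩ := exists_quotientMapAlgHom φC (powIdeal k d (c * 8))
  haveI := finitePresentation_quotient_map (R := MvPolynomial (Fin d) k) (C := C)
    (powIdeal k d (c * 8))
  have hπspan : Ideal.span (Set.range fun i : Fin d =>
      algebraMap Λ (Localization.AtPrime 𝔮) (algebraMap (MvPolynomial (Fin d) k) Λ (X i))) =
      maximalIdeal (Localization.AtPrime 𝔮) := by
    simp only [halgX]
    rw [hP.1, IsLocalization.AtPrime.map_eq_maximalIdeal 𝔮 (Localization.AtPrime 𝔮)]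
  refine h07FA φC 𝔮 hdpos (fun i => (X i : MvPolynomial (Fin d) k) ^ c) ?_ ?_ ?_ ?_
    (powIdeal k d (c * 8)) hK φK hφK ?_
  · intro i
    rw [map_pow, halgX]
    exact Ideal.pow_mem_of_mem _ (hπq i) c (by omega)
  · intro i x hx
    obtain ⟨y, rfl⟩ := Ideal.Quotient.mk_surjective x
    rw [← map_pow, ← map_mul, Ideal.Quotient.eq_zero_iff_mem] at hx
    rw [← map_mul, Ideal.Quotient.eq_zero_iff_mem]
    have hgen : (fun j : {j : Fin d // (j : ℕ) < (i : ℕ)} =>
        ((X (j : Fin d) : MvPolynomial (Fin d) k) ^ c) ^ 8) =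
        fun j : {j : Fin d // (j : ℕ) < (i : ℕ)} =>
          (X (j : Fin d) : MvPolynomial (Fin d) k) ^ (c * 8) := by
      funext j
      rw [pow_mul]
    rw [hgen] at hx ⊢
    rw [← pow_mul] at hx
    exact Ideal.mul_mem_left _ _ (mem_span_X_pow_of_X_pow_mul_mem i (c * 2) (c * 8) y hx)
  · intro i x hx
    obtain ⟨y, rfl⟩ := Ideal.Quotient.mk_surjective x
    rw [← map_pow, ← map_mul, Ideal.Quotient.eq_zero_iff_mem] at hx
    rw [← map_mul, Ideal.Quotient.eq_zero_iff_mem]
    have hgen : (fun j : {j : Fin d // (j : ℕ) < (i : ℕ)} =>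
        algebraMap (MvPolynomial (Fin d) k) Λ ((X (j : Fin d)) ^ c) ^ 8) =
        fun j : {j : Fin d // (j : ℕ) < (i : ℕ)} => π (j : Fin d) ^ (c * 8) := by
      funext j
      rw [map_pow, halgX, pow_mul]
    rw [hgen] at hx ⊢
    rw [map_pow, halgX] at hx ⊢
    exact pow_mul_mem_of_pow_sq_mul_mem _ (π i) (hQ i i.2) c hc1 y hx
  · intro i
    have h1 := he₀ i c (hce i)
    rwa [← map_pow, ← map_pow, ← IsScalarTower.algebraMap_apply] at h1
  · exact resolvable_reduced (c * 8) (by omega) 𝔮 hd hπspan φK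

end Groth.Agent.Lib.Helper81.Pop
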