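import Mathlib
import Groth.Prelude.Def_EGA41
import Groth.Prelude.Def_CAlgX
import Groth.Agent.S19864
import Groth.Agent.Lib.Helper47.FlatFibreSmooth

/-!
# Local rings of a regular homomorphism are formally smooth (any compatible algebra instance)
(helper81)
-/

set_option autoImplicit false
universe u
open IsLocalRing

namespace Groth.Agent.Lib.Helper81.RegHomSmooth

/-- the algebra structure on `S_q` over `B_{q ∩ B}` is determined by the scalar tower -/
theorem algebra_eq {B S : Type u} [CommRing B] [CommRing S] [Algebra B S] (q : Ideal S) [q.IsPrime]
    [Algebra (Localization.AtPrime (q.comap (algebraMap B S))) (Localization.AtPrime q)]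
    [htow : IsScalarTower B (Localization.AtPrime (q.comap (algebraMap B S)))
      (Localization.AtPrime q)] :
    (Localization.localRingHom (Ideal.comap (algebraMap B S) q) q (algebraMap B S) rfl).toAlgebra
      = (inferInstance : Algebra (Localization.AtPrime (q.comap (algebraMap B S)))
          (Localization.AtPrime q)) := by
  apply Algebra.algebra_ext
  have : (Localization.localRingHom (Ideal.comap (algebraMap B S) q) q (algebraMap B S) rfl) =
      algebraMap (Localization.AtPrime (q.comap (algebraMap B S))) (Localization.AtPrime q) := by
    apply IsLocalization.ringHom_ext (q.comap (algebraMap B S)).primeCompl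
    ext b
    rw [RingHom.comp_apply, RingHom.comp_apply, Localization.localRingHom_to_map]
    have e1 := htow.smul_assoc b 1 1
    rw [one_smul] at e1
    rw [Algebra.smul_def, mul_one, Algebra.smul_def, mul_one] at e1
    rw [e1]
    rw [Algebra.smul_def, mul_one]
    rw [IsScalarTower.algebraMap_apply B S (Localization.AtPrime q)]
  intro x
  exact congrFun (congrArg DFunLike.coe this) x

/-- discrete-base version -/
theorem isAdicFormallySmooth_of_isRegularHom {B S : Type u} [CommRing B] [CommRing S] [Algebra B S]
    [IsNoetherianRing B] [IsNoetherianRing S] (h : CAlg.IsRegularHom B S) (q : Ideal S) [q.IsPrime]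
    [Algebra (Localization.AtPrime (q.comap (algebraMap B S))) (Localization.AtPrime q)]
    [htow : IsScalarTower B (Localization.AtPrime (q.comap (algebraMap B S)))
      (Localization.AtPrime q)] :
    CAlgX.IsAdicFormallySmooth (Localization.AtPrime (q.comap (algebraMap B S)))
      (Localization.AtPrime q) (maximalIdeal _) := by
  have h1 := (Groth.Agent.S19864.result B S).mp h q
  rw [algebra_eq q] at h1
  exact h1

/-- adic-base version -/
theorem isFormallySmoothAdic_of_isRegularHom {B S : Type u} [CommRing B] [CommRing S] [Algebra B S]
    [IsNoetherianRing B] [IsNoetherianRing S] (h : CAlg.IsRegularHom B S) (q : Ideal S) [q.IsPrime]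
    [Algebra (Localization.AtPrime (q.comap (algebraMap B S))) (Localization.AtPrime q)]
    [htow : IsScalarTower B (Localization.AtPrime (q.comap (algebraMap B S)))
      (Localization.AtPrime q)] :
    EGA41.IsFormallySmoothAdic (Localization.AtPrime (q.comap (algebraMap B S))) (maximalIdeal _)
      (Localization.AtPrime q) (maximalIdeal _) :=
  Groth.Agent.Lib.Helper47.isFormallySmoothAdic_of_isAdicFormallySmooth _ _
    (isAdicFormallySmooth_of_isRegularHom h q)

end Groth.Agent.Lib.Helper81.RegHomSmooth
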