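import Mathlib
import Groth.Agent.Lib.Helper81.ResidueExt
import Groth.Agent.Lib.Helper81.CompletionFlat
import Groth.Agent.S0580

/-!
# Flat local Noetherian complete extensions with prescribed residue field (helper81)

EGA 0_III 10.3.1 in the Noetherian case: for a Noetherian local ring `A` and a field `K` over its
residue field there is a complete Noetherian local ring `B`, flat over `A`, with `𝔪_A B = 𝔪_B` and
residue field `K`.

* `isNoetherianRing_of_complete_of_fg`: a complete local ring with finitely generated maximal ideal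
  is Noetherian (from the Cohen structure theorem S0580).
* `exists_flat_local_noetherian_complete`.
-/

set_option autoImplicit false
universe u

namespace Groth.Agent.Lib.Helper81.ResidueExt

open IsLocalRing

theorem isNoetherianRing_of_complete_of_fg (R : Type u) [CommRing R] [IsLocalRing R]
    [IsAdicComplete (maximalIdeal R) R] (hfg : (maximalIdeal R).FG) : IsNoetherianRing R := by
  obtain ⟨Λ, _, n, f, hΛ, hf⟩ := Groth.Agent.S0580.result R hfg
  haveI : IsNoetherianRing Λ := by
    rcases hΛ with h | h
    · letI := h.toField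
      infer_instance
    · obtain ⟨hdom, hdvr, -⟩ := h
      haveI := hdom
      haveI := hdvr
      infer_instance
  exact isNoetherianRing_of_surjective _ _ f hf

theorem exists_flat_local_noetherian_complete (A : Type u) [CommRing A] [IsNoetherianRing A]
    [IsLocalRing A] (K : Type u) [Field K] [Algebra A K] [Algebra (ResidueField A) K]
    [IsScalarTower A (ResidueField A) K] :
    ∃ (B : Type u) (_ : CommRing B) (_ : Algebra A B) (_ : IsLocalRing B) (ψ : B →ₐ[A] K),
      IsNoetherianRing B ∧ IsAdicComplete (maximalIdeal B) B ∧ Module.Flat A B ∧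
      Function.Surjective ψ ∧
      RingHom.ker (ψ : B →+* K) = (maximalIdeal A).map (algebraMap A B) := by
  classical
  obtain ⟨B₀, _, _, ψ₀, hflat₀, hloc₀, hsurj₀, hψ₀⟩ := exists_flat_local A K
  haveI := hloc₀
  haveI := hflat₀
  set I : Ideal B₀ := (maximalIdeal A).map (algebraMap A B₀) with hI
  have hmax₀ : maximalIdeal B₀ = I := by rw [maximalIdeal_eq_ker ψ₀ hsurj₀, hψ₀]
  haveI hImax : I.IsMaximal := hmax₀ ▸ maximalIdeal.isMaximal B₀
  have fg : I.FG := Ideal.FG.map (IsNoetherian.noetherian (maximalIdeal A)) _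
  let B := AdicCompletion I B₀
  have htower : ∀ a : A, algebraMap A B a = algebraMap B₀ B (algebraMap A B₀ a) := fun a => rfl
  haveI : IsScalarTower A B₀ B := IsScalarTower.of_algebraMap_eq htower
  haveI hmaxB : (I.map (algebraMap B₀ B)).IsMaximal :=
    AdicCompletion.isMaximal_map_of_le I I le_rfl fg
  haveI hcompl : IsAdicComplete (I.map (algebraMap B₀ B)) B := AdicCompletion.isAdicComplete_self I fg
  haveI hlocB : IsLocalRing B := isLocalRing_of_isAdicComplete_maximal (I.map (algebraMap B₀ B))
  have hmB : maximalIdeal B = I.map (algebraMap B₀ B) := (IsLocalRing.eq_maximalIdeal hmaxB).symm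
  have hmB' : I.map (algebraMap B₀ B) = (maximalIdeal A).map (algebraMap A B) := by
    have h1 : I.map (algebraMap B₀ B) =
        ((maximalIdeal A).map (algebraMap A B₀)).map (algebraMap B₀ B) := rfl
    rw [h1, Ideal.map_map, ← IsScalarTower.algebraMap_eq]
  haveI hcompl' : IsAdicComplete (maximalIdeal B) B := hmB ▸ hcompl
  have hfgB : (maximalIdeal B).FG := by
    rw [hmB]
    exact Ideal.FG.map fg _
  haveI hnoeth : IsNoetherianRing B := isNoetherianRing_of_complete_of_fg B hfgB
  haveI hflat : Module.Flat A B :=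
    Groth.Agent.Lib.Helper81.CompletionFlat.flat_adicCompletion (A := A) (B₀ := B₀) (maximalIdeal A)
  -- the map to `K`
  have hψ₀I : ∀ a ∈ I, ψ₀ a = 0 := by
    intro a ha
    rw [← hψ₀] at ha
    exact ha
  let ψb : (B₀ ⧸ I) →ₐ[A] K := Ideal.Quotient.liftₐ I ψ₀ hψ₀I
  have hψb_inj : Function.Injective ψb := by
    rw [injective_iff_map_eq_zero]
    intro x hx
    obtain ⟨x, rfl⟩ := Ideal.Quotient.mk_surjective x
    rw [Ideal.Quotient.eq_zero_iff_mem, ← hψ₀]
    exact hx
  have hψb_surj : Function.Surjective ψb := by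
    intro y
    obtain ⟨x, rfl⟩ := hsurj₀ y
    exact ⟨Ideal.Quotient.mk I x, rfl⟩
  let ψ : B →ₐ[A] K := ψb.comp ((AdicCompletion.evalOneₐ I).restrictScalars A)
  refine ⟨B, inferInstance, inferInstance, hlocB, ψ, hnoeth, hcompl', hflat,
    hψb_surj.comp (AdicCompletion.evalOneₐ_surjective I), ?_⟩
  rw [← hmB', ← AdicCompletion.ker_evalOneₐ_eq_map I fg]
  ext x
  simp only [RingHom.mem_ker]
  change ψb (AdicCompletion.evalOneₐ I x) = 0 ↔ AdicCompletion.evalOneₐ I x = 0
  exact map_eq_zero_iff _ hψb_inj

end Groth.Agent.Lib.Helper81.ResidueExt
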