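import Mathlib
import Groth.Prelude.Def_CAlgX
import Groth.Agent.Lib.Helper81.DerivPoly

/-!
# `A/J^N` as a truncated polynomial ring over `A/J` (helper81)

`J = (x_1, …, x_d)` generated by a quasi-regular sequence, `B = A/J`, and a ring section
`B → A/J^N` of the projection (given as an algebra structure).  Then
`B[T]/(T)^N → A/J^N`, `T_i ↦ x_i` is bijective.
-/

set_option autoImplicit false

namespace Groth.Agent.Lib.Helper81.TruncPoly

open MvPolynomial

variable {A : Type*} [CommRing A] {d : ℕ} (x : Fin d → A) (N : ℕ)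

/-- the image of `J` in `A/J^N` -/
noncomputable def jj : Ideal (A ⧸ Ideal.span (Set.range x) ^ N) :=
  (Ideal.span (Set.range x)).map (Ideal.Quotient.mk (Ideal.span (Set.range x) ^ N))

theorem mk_mem_jj (i : Fin d) :
    Ideal.Quotient.mk (Ideal.span (Set.range x) ^ N) (x i) ∈ jj x N :=
  Ideal.mem_map_of_mem _ (Ideal.subset_span ⟨i, rfl⟩)

theorem jj_pow (m : ℕ) : jj x N ^ m =
    (Ideal.span (Set.range x) ^ m).map (Ideal.Quotient.mk (Ideal.span (Set.range x) ^ N)) := by
  rw [jj, Ideal.map_pow]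

theorem jj_pow_self : jj x N ^ N = ⊥ := by
  rw [jj_pow, Ideal.map_quotient_self]

theorem mem_jj_pow_iff (m : ℕ) (hm : m ≤ N) (a : A) :
    Ideal.Quotient.mk (Ideal.span (Set.range x) ^ N) a ∈ jj x N ^ m ↔
      a ∈ Ideal.span (Set.range x) ^ m := by
  rw [jj_pow]
  constructor
  · intro h
    obtain ⟨a', ha', h'⟩ := (Ideal.mem_map_iff_of_surjective _ Ideal.Quotient.mk_surjective).1 h
    have h1 : a' - a ∈ Ideal.span (Set.range x) ^ N := Ideal.Quotient.eq.1 h'
    have h2 : a' - a ∈ Ideal.span (Set.range x) ^ m := Ideal.pow_le_pow_right hm h1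
    have : a = a' - (a' - a) := by ring
    rw [this]
    exact Ideal.sub_mem _ ha' h2
  · intro h
    exact Ideal.mem_map_of_mem _ h

theorem jj_eq_span : jj x N = Ideal.span (Set.range fun i =>
    Ideal.Quotient.mk (Ideal.span (Set.range x) ^ N) (x i)) := by
  rw [jj, Ideal.map_span, ← Set.range_comp]
  rfl

theorem mem_jj_of_factor_eq_zero
    (hN : Ideal.span (Set.range x) ^ N ≤ Ideal.span (Set.range x))
    (z : A ⧸ Ideal.span (Set.range x) ^ N)
    (hz : Ideal.Quotient.factor hN z = 0) : z ∈ jj x N := by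
  obtain ⟨a, rfl⟩ := Ideal.Quotient.mk_surjective z
  rw [Ideal.Quotient.factor_mk, Ideal.Quotient.eq_zero_iff_mem] at hz
  exact Ideal.mem_map_of_mem _ hz

section Section

variable (hN : Ideal.span (Set.range x) ^ N ≤ Ideal.span (Set.range x))
  [Algebra (A ⧸ Ideal.span (Set.range x)) (A ⧸ Ideal.span (Set.range x) ^ N)]
  (hs : ∀ b : A ⧸ Ideal.span (Set.range x),
    Ideal.Quotient.factor hN (algebraMap (A ⧸ Ideal.span (Set.range x))
      (A ⧸ Ideal.span (Set.range x) ^ N) b) = b)

include hs in
theorem algebraMap_sub_mk_mem (a : A) :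
    algebraMap (A ⧸ Ideal.span (Set.range x)) (A ⧸ Ideal.span (Set.range x) ^ N)
      (Ideal.Quotient.mk _ a) - Ideal.Quotient.mk _ a ∈ jj x N := by
  apply mem_jj_of_factor_eq_zero x N hN
  rw [map_sub, hs, Ideal.Quotient.factor_mk, sub_self]

/-- the map `B[T] → A/J^N` -/
noncomputable def Phi : MvPolynomial (Fin d) (A ⧸ Ideal.span (Set.range x)) →ₐ[A ⧸ Ideal.span (Set.range x)]
    (A ⧸ Ideal.span (Set.range x) ^ N) :=
  aeval (fun i => Ideal.Quotient.mk (Ideal.span (Set.range x) ^ N) (x i))

theorem Phi_mem_pow (m : ℕ) {f : MvPolynomial (Fin d) (A ⧸ Ideal.span (Set.range x))}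
    (hf : f ∈ idealOfVars (Fin d) (A ⧸ Ideal.span (Set.range x)) ^ m) :
    Phi x N f ∈ jj x N ^ m :=
  DerivPoly.aeval_mem_pow (jj x N) _ (mk_mem_jj x N) m hf

include hN hs in
/-- approximation step for surjectivity -/
theorem exists_Phi_sub_mem (m : ℕ) (z : A ⧸ Ideal.span (Set.range x) ^ N)
    (hz : z ∈ jj x N ^ m) :
    ∃ f : MvPolynomial (Fin d) (A ⧸ Ideal.span (Set.range x)), z - Phi x N f ∈ jj x N ^ (m + 1) := by
  induction m generalizing z with
  | zero =>
    obtain ⟨a, rfl⟩ := Ideal.Quotient.mk_surjective z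
    refine ⟨C (Ideal.Quotient.mk _ a), ?_⟩
    rw [Phi, aeval_C, zero_add, pow_one]
    have := algebraMap_sub_mk_mem x N hN hs a
    rw [← neg_sub]
    exact neg_mem this
  | succ m ih =>
    rw [pow_succ'] at hz
    refine Submodule.mul_induction_on hz (fun u hu w hw => ?_) (fun a b ha hb => ?_)
    · rw [jj_eq_span] at hu
      obtain ⟨c, rfl⟩ := (Ideal.mem_span_range_iff_exists_fun).1 hu
      have hcw : ∀ i, c i * w ∈ jj x N ^ m := fun i => Ideal.mul_mem_left _ _ hw
      choose g hg using fun i => ih (c i * w) (hcw i)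
      refine ⟨∑ i, X i * g i, ?_⟩
      have : (∑ i, c i * Ideal.Quotient.mk (Ideal.span (Set.range x) ^ N) (x i)) * w -
          Phi x N (∑ i, X i * g i) =
          ∑ i, Ideal.Quotient.mk (Ideal.span (Set.range x) ^ N) (x i) *
            (c i * w - Phi x N (g i)) := by
        rw [map_sum, Finset.sum_mul, ← Finset.sum_sub_distrib]
        refine Finset.sum_congr rfl (fun i _ => ?_)
        rw [map_mul, Phi, aeval_X]
        ring
      rw [this]
      refine Ideal.sum_mem _ (fun i _ => ?_)
      rw [pow_succ' (jj x N) (m + 1)]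
      exact Ideal.mul_mem_mul (mk_mem_jj x N i) (hg i)
    · obtain ⟨f₁, h₁⟩ := ha
      obtain ⟨f₂, h₂⟩ := hb
      refine ⟨f₁ + f₂, ?_⟩
      have : a + b - Phi x N (f₁ + f₂) = (a - Phi x N f₁) + (b - Phi x N f₂) := by
        rw [map_add]; ring
      rw [this]
      exact Ideal.add_mem _ h₁ h₂

include hN hs in
theorem Phi_surjective : Function.Surjective (Phi x N) := by
  have key : ∀ k m, m + k = N → ∀ z ∈ jj x N ^ m, ∃ f, Phi x N f = z := by
    intro k
    induction k with
    | zero =>
      intro m hm z hz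
      rw [add_zero] at hm
      rw [hm, jj_pow_self, Ideal.mem_bot] at hz
      exact ⟨0, by rw [map_zero, hz]⟩
    | succ k ih =>
      intro m hm z hz
      obtain ⟨f, hf⟩ := exists_Phi_sub_mem x N hN hs m z hz
      obtain ⟨g, hg⟩ := ih (m + 1) (by omega) _ hf
      exact ⟨f + g, by rw [map_add, hg]; ring⟩
  intro z
  exact key N 0 (by omega) z (by rw [pow_zero, Ideal.one_eq_top]; trivial)

/-- `A[T] → A → A/J^N` -/
noncomputable def psi₁ : MvPolynomial (Fin d) A →+* (A ⧸ Ideal.span (Set.range x) ^ N) :=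
  (Ideal.Quotient.mk (Ideal.span (Set.range x) ^ N)).comp (eval x)

/-- `A[T] → B[T] → A/J^N` -/
noncomputable def psi₂ : MvPolynomial (Fin d) A →+* (A ⧸ Ideal.span (Set.range x) ^ N) :=
  (Phi x N).toRingHom.comp (map (Ideal.Quotient.mk (Ideal.span (Set.range x))))

theorem psi₁_apply (P : MvPolynomial (Fin d) A) :
    psi₁ x N P = Ideal.Quotient.mk (Ideal.span (Set.range x) ^ N) (eval x P) := rfl

theorem psi₂_apply (P : MvPolynomial (Fin d) A) :
    psi₂ x N P = Phi x N (map (Ideal.Quotient.mk (Ideal.span (Set.range x))) P) := rfl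

theorem map_mem_pow (m : ℕ) {P : MvPolynomial (Fin d) A} (hP : P ∈ idealOfVars (Fin d) A ^ m) :
    map (Ideal.Quotient.mk (Ideal.span (Set.range x))) P ∈
      idealOfVars (Fin d) (A ⧸ Ideal.span (Set.range x)) ^ m := by
  rw [mem_pow_idealOfVars_iff'] at hP ⊢
  intro s hs
  rw [coeff_map, hP s hs, map_zero]

theorem psi₂_mem_pow (m : ℕ) {P : MvPolynomial (Fin d) A} (hP : P ∈ idealOfVars (Fin d) A ^ m) :
    psi₂ x N P ∈ jj x N ^ m :=
  Phi_mem_pow x N m (map_mem_pow x m hP)

include hN hs in
theorem cong0 (P : MvPolynomial (Fin d) A) : psi₁ x N P - psi₂ x N P ∈ jj x N := by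
  apply mem_jj_of_factor_eq_zero x N hN
  have h : (Ideal.Quotient.factor hN).comp (psi₁ x N) =
      (Ideal.Quotient.factor hN).comp (psi₂ x N) := by
    apply MvPolynomial.ringHom_ext
    · intro a
      simp only [RingHom.comp_apply, psi₁_apply, psi₂_apply, eval_C, map_C,
        Ideal.Quotient.factor_mk]
      rw [Phi, aeval_C, hs]
    · intro i
      simp only [RingHom.comp_apply, psi₁_apply, psi₂_apply, eval_X, map_X]
      rw [Phi, aeval_X]
  have := RingHom.congr_fun h P
  rw [RingHom.comp_apply, RingHom.comp_apply] at this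
  rw [map_sub, this, sub_self]

include hN hs in
theorem cong1 {P : MvPolynomial (Fin d) A} (hP : P ∈ idealOfVars (Fin d) A) :
    psi₁ x N P - psi₂ x N P ∈ jj x N ^ 2 := by
  refine Submodule.span_induction ?_ ?_ ?_ ?_ hP
  · rintro _ ⟨i, rfl⟩
    rw [psi₁_apply, psi₂_apply, eval_X, map_X, Phi, aeval_X, sub_self]
    exact zero_mem _
  · rw [map_zero, map_zero, sub_zero]; exact zero_mem _
  · intro a b _ _ ha hb
    have : psi₁ x N (a + b) - psi₂ x N (a + b) =
        (psi₁ x N a - psi₂ x N a) + (psi₁ x N b - psi₂ x N b) := by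
      rw [map_add, map_add]; ring
    rw [this]
    exact Ideal.add_mem _ ha hb
  · intro c a ha ih
    have ha' : psi₂ x N a ∈ jj x N := by
      have := psi₂_mem_pow x N 1 (P := a) (by rw [pow_one]; exact ha)
      rwa [pow_one] at this
    have : psi₁ x N (c • a) - psi₂ x N (c • a) =
        psi₁ x N c * (psi₁ x N a - psi₂ x N a) +
          (psi₁ x N c - psi₂ x N c) * psi₂ x N a := by
      rw [smul_eq_mul, map_mul, map_mul]; ring
    rw [this]
    apply Ideal.add_mem
    · exact Ideal.mul_mem_left _ _ ih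
    · rw [pow_two]
      exact Ideal.mul_mem_mul (cong0 x N hN hs c) ha'

include hN hs in
theorem congm (m : ℕ) {P : MvPolynomial (Fin d) A} (hP : P ∈ idealOfVars (Fin d) A ^ m) :
    psi₁ x N P - psi₂ x N P ∈ jj x N ^ (m + 1) := by
  induction m generalizing P with
  | zero => rw [zero_add, pow_one]; exact cong0 x N hN hs P
  | succ m ih =>
    rw [pow_succ'] at hP
    refine Submodule.mul_induction_on hP (fun a ha b hb => ?_) (fun a b ha hb => ?_)
    · have ha2 : psi₂ x N a ∈ jj x N := by
        have := psi₂_mem_pow x N 1 (P := a) (by rw [pow_one]; exact ha)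
        rwa [pow_one] at this
      have ha1 : psi₁ x N a ∈ jj x N := by
        have h1 := cong1 x N hN hs ha
        have h2 : psi₁ x N a - psi₂ x N a ∈ jj x N :=
          Ideal.pow_le_self (two_ne_zero) h1
        have : psi₁ x N a = (psi₁ x N a - psi₂ x N a) + psi₂ x N a := by ring
        rw [this]
        exact Ideal.add_mem _ h2 ha2
      have : psi₁ x N (a * b) - psi₂ x N (a * b) =
          psi₁ x N a * (psi₁ x N b - psi₂ x N b) +
            (psi₁ x N a - psi₂ x N a) * psi₂ x N b := by
        rw [map_mul, map_mul]; ring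
      rw [this]
      apply Ideal.add_mem
      · rw [pow_succ' (jj x N) (m + 1)]
        exact Ideal.mul_mem_mul ha1 (ih hb)
      · have : jj x N ^ (m + 1 + 1) = jj x N ^ 2 * jj x N ^ m := by
          rw [← pow_add]; congr 1; ring
        rw [this]
        exact Ideal.mul_mem_mul (cong1 x N hN hs ha) (psi₂_mem_pow x N m hb)
    · have : psi₁ x N (a + b) - psi₂ x N (a + b) =
          (psi₁ x N a - psi₂ x N a) + (psi₁ x N b - psi₂ x N b) := by
        rw [map_add, map_add]; ring
      rw [this]
      exact Ideal.add_mem _ ha hb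

include hN hs in
/-- the quasi-regularity step -/
theorem eq_zero_of_isHomogeneous (hqr : CAlgX.IsQuasiRegular x) (m : ℕ) (hm : m + 1 ≤ N)
    {f : MvPolynomial (Fin d) (A ⧸ Ideal.span (Set.range x))} (hf : f.IsHomogeneous m)
    (hΦ : Phi x N f ∈ jj x N ^ (m + 1)) : f = 0 := by
  classical
  obtain ⟨P₀, hP₀⟩ := map_surjective (Ideal.Quotient.mk (Ideal.span (Set.range x)))
    Ideal.Quotient.mk_surjective f
  have hP : (homogeneousComponent m P₀).IsHomogeneous m := homogeneousComponent_isHomogeneous m P₀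
  have hmap : map (Ideal.Quotient.mk (Ideal.span (Set.range x))) (homogeneousComponent m P₀) =
      f := by
    ext s
    rw [coeff_map, coeff_homogeneousComponent]
    split_ifs with h
    · rw [← hP₀, coeff_map]
    · rw [map_zero]
      by_contra hne
      exact h ((Finsupp.degree_eq_weight_one (R := ℕ) ▸ rfl : s.degree = Finsupp.weight 1 s).trans
        (hf (Ne.symm hne)))
  have h1 := congm x N hN hs m (DerivPoly.isHomogeneous_mem_pow hP)
  rw [psi₂_apply, hmap] at h1
  have h2 : psi₁ x N (homogeneousComponent m P₀) ∈ jj x N ^ (m + 1) := by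
    have : psi₁ x N (homogeneousComponent m P₀) =
        (psi₁ x N (homogeneousComponent m P₀) - Phi x N f) + Phi x N f := by ring
    rw [this]
    exact Ideal.add_mem _ h1 hΦ
  rw [psi₁_apply, mem_jj_pow_iff x N (m + 1) hm] at h2
  have h3 := hqr m (homogeneousComponent m P₀) hP h2
  ext s
  rw [← hmap, coeff_map, coeff_zero, Ideal.Quotient.eq_zero_iff_mem]
  exact h3 s

include hN hs in
theorem mem_pow_of_Phi_mem (hqr : CAlgX.IsQuasiRegular x) (m : ℕ) (hm : m ≤ N)
    {f : MvPolynomial (Fin d) (A ⧸ Ideal.span (Set.range x))} (hΦ : Phi x N f ∈ jj x N ^ m) :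
    f ∈ idealOfVars (Fin d) (A ⧸ Ideal.span (Set.range x)) ^ m := by
  classical
  induction m generalizing f with
  | zero => rw [pow_zero, Ideal.one_eq_top]; trivial
  | succ m ih =>
    have hf := ih (by omega) (Ideal.pow_le_pow_right (Nat.le_succ m) hΦ)
    have hg : f - homogeneousComponent m f ∈
        idealOfVars (Fin d) (A ⧸ Ideal.span (Set.range x)) ^ (m + 1) := by
      rw [mem_pow_idealOfVars_iff'] at hf ⊢
      intro s hs'
      rw [coeff_sub, coeff_homogeneousComponent]
      split_ifs with h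
      · rw [sub_self]
      · rw [sub_zero]
        apply hf
        omega
    have hΦm : Phi x N (homogeneousComponent m f) ∈ jj x N ^ (m + 1) := by
      have : Phi x N (homogeneousComponent m f) =
          Phi x N f - Phi x N (f - homogeneousComponent m f) := by
        rw [map_sub]; ring
      rw [this]
      exact Ideal.sub_mem _ hΦ (Phi_mem_pow x N (m + 1) hg)
    have h0 := eq_zero_of_isHomogeneous x N hN hs hqr m hm
      (homogeneousComponent_isHomogeneous m f) hΦm
    rw [h0, sub_zero] at hg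
    exact hg

include hN hs in
theorem ker_Phi (hqr : CAlgX.IsQuasiRegular x) :
    RingHom.ker (Phi x N).toRingHom =
      idealOfVars (Fin d) (A ⧸ Ideal.span (Set.range x)) ^ N := by
  apply le_antisymm
  · intro f hf
    have hf0 : Phi x N f = 0 := hf
    apply mem_pow_of_Phi_mem x N hN hs hqr N le_rfl
    rw [hf0]
    exact zero_mem _
  · intro f hf
    have := Phi_mem_pow x N N hf
    rw [jj_pow_self, Ideal.mem_bot] at this
    exact this

end Section

end Groth.Agent.Lib.Helper81.TruncPoly
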