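import Mathlib
import Groth.Prelude.Def_W4bk4bump814p2PDiff

/-!
# The filtration of Kähler differentials by `p^i`-th power differentials (helper81)

Key identity (valid in any commutative ring): with `S_j ∈ ℤ[x, y]` the coefficients of the Witt
vector sum of the Teichmüller lifts of `x`, `y`,
`∑_{j ≤ n} δ_{n-j}(S_j(a, b)) = δ_n(a) + δ_n(b)`, where `δ_m(z) = z^(p^m - 1) dz`.
-/

set_option autoImplicit false
universe u v

namespace Groth.Agent.Lib.Helper81.WittDiff

open MvPolynomial WittVector W4bk4bump814p2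

section Universal

variable (p : ℕ) [hp : Fact p.Prime]

/-- the universal Witt sum coefficients -/
noncomputable def S (j : ℕ) : MvPolynomial (Fin 2) ℤ :=
  (teichmuller p (X 0 : MvPolynomial (Fin 2) ℤ) + teichmuller p (X 1)).coeff j

theorem S_zero : S p 0 = X 0 + X 1 := by
  simp [S, WittVector.add_coeff_zero]

theorem ghost_eq (n : ℕ) :
    ∑ j ∈ Finset.range (n + 1), (p : MvPolynomial (Fin 2) ℤ) ^ j * (S p j) ^ (p ^ (n - j)) =
      X 0 ^ p ^ n + X 1 ^ p ^ n := by
  have h := ghostComponent_apply (p := p) n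
    (teichmuller p (X 0 : MvPolynomial (Fin 2) ℤ) + teichmuller p (X 1))
  rw [map_add, ghostComponent_teichmuller, ghostComponent_teichmuller, aeval_wittPolynomial] at h
  exact h.symm

theorem pderiv_identity (n : ℕ) (v : Fin 2) :
    ∑ j ∈ Finset.range (n + 1), (S p j) ^ (p ^ (n - j) - 1) * pderiv v (S p j) =
      X v ^ (p ^ n - 1) := by
  have h := congrArg (pderiv v) (ghost_eq p n)
  have hpn : ((p : MvPolynomial (Fin 2) ℤ)) ^ n ≠ 0 :=
    pow_ne_zero _ (Nat.cast_ne_zero.2 hp.1.ne_zero)
  apply mul_left_cancel₀ hpn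
  have hL : pderiv v (∑ j ∈ Finset.range (n + 1),
      (p : MvPolynomial (Fin 2) ℤ) ^ j * (S p j) ^ (p ^ (n - j))) =
      (p : MvPolynomial (Fin 2) ℤ) ^ n *
        ∑ j ∈ Finset.range (n + 1), (S p j) ^ (p ^ (n - j) - 1) * pderiv v (S p j) := by
    rw [map_sum, Finset.mul_sum]
    refine Finset.sum_congr rfl fun j hj => ?_
    have hj' : j ≤ n := Nat.lt_succ_iff.1 (Finset.mem_range.1 hj)
    rw [Derivation.leibniz, Derivation.leibniz_pow, Derivation.leibniz_pow,
      Derivation.map_natCast]
    simp only [smul_zero, add_zero, smul_eq_mul, nsmul_eq_mul]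
    have : (p : MvPolynomial (Fin 2) ℤ) ^ n = (p : MvPolynomial (Fin 2) ℤ) ^ j *
        (p : MvPolynomial (Fin 2) ℤ) ^ (n - j) := by
      rw [← pow_add, Nat.add_sub_cancel' hj']
    rw [this]
    push_cast
    ring
  have hR : pderiv v ((X 0 : MvPolynomial (Fin 2) ℤ) ^ p ^ n + X 1 ^ p ^ n) =
      (p : MvPolynomial (Fin 2) ℤ) ^ n * X v ^ (p ^ n - 1) := by
    rw [map_add, Derivation.leibniz_pow, Derivation.leibniz_pow]
    fin_cases v
    · simp [pderiv_X]
    · simp [pderiv_X]
  rw [← hL, ← hR, h]

end Universal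

section Chain

variable {R A M : Type*} [CommRing R] [CommRing A] [Algebra R A] [AddCommGroup M] [Module A M]
  [Module R M] [IsScalarTower R A M]

/-- chain rule for integer polynomials in two variables -/
theorem deriv_aeval (D : Derivation R A M) (g : Fin 2 → A) (f : MvPolynomial (Fin 2) ℤ) :
    D (aeval g f) = ∑ v, aeval g (pderiv v f) • D (g v) := by
  induction f using MvPolynomial.induction_on with
  | C a =>
    have h1 : aeval g (C a : MvPolynomial (Fin 2) ℤ) = (a : A) := by
      rw [aeval_C]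
      simp
    rw [h1, Derivation.map_intCast]
    simp
  | add f₁ f₂ h₁ h₂ =>
    simp only [map_add, h₁, h₂, add_smul, Finset.sum_add_distrib]
  | mul_X f i h =>
    rw [map_mul, Derivation.leibniz, h, aeval_X]
    simp only [Fin.sum_univ_two, Derivation.leibniz, pderiv_X, map_add, map_mul, aeval_X,
      smul_eq_mul, add_smul, mul_smul, smul_add]
    fin_cases i
    · simp
      abel
    · simp
      abel

end Chain

section Main

variable (K : Type u) (A : Type v) [CommRing K] [CommRing A] [Algebra K A] (p : ℕ)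
  [hp : Fact p.Prime]

/-- **The Witt identity for power differentials.** -/
theorem sum_delta_eq (n : ℕ) (a b : A) :
    ∑ j ∈ Finset.range (n + 1), delta K A p (n - j) (aeval ![a, b] (S p j)) =
      delta K A p n a + delta K A p n b := by
  have h1 : ∀ j, delta K A p (n - j) (aeval ![a, b] (S p j)) =
      ∑ v, aeval ![a, b] ((S p j) ^ (p ^ (n - j) - 1) * pderiv v (S p j)) •
        KaehlerDifferential.D K A (![a, b] v) := by
    intro j
    rw [delta, deriv_aeval, Finset.smul_sum]
    refine Finset.sum_congr rfl fun v _ => ?_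
    rw [map_mul, map_pow, mul_smul]
  simp only [h1]
  rw [Finset.sum_comm]
  simp only [← Finset.sum_smul, ← map_sum, pderiv_identity]
  simp [Fin.sum_univ_two, delta]

end Main

section Sigma

open KaehlerDifferential

variable (K : Type u) (A : Type v) [Field K] [CommRing A] [Algebra K A] (p : ℕ)
  [hp : Fact p.Prime] [CharP K p]

/-- the additive group generated by the `δ_j`, `j < i` -/
noncomputable def G (i : ℕ) : AddSubgroup Ω[A⁄K] :=
  AddSubgroup.closure (⋃ j ∈ Finset.range i, Set.range (delta K A p j))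

theorem delta_mem_G {i j : ℕ} (h : j < i) (x : A) : delta K A p j x ∈ G K A p i :=
  AddSubgroup.subset_closure (Set.mem_biUnion (Finset.mem_range.2 h) ⟨x, rfl⟩)

theorem G_mono {i j : ℕ} (h : i ≤ j) : G K A p i ≤ G K A p j := by
  apply AddSubgroup.closure_mono
  intro ω hω
  simp only [Set.mem_iUnion, Finset.mem_range, Set.mem_range] at hω ⊢
  obtain ⟨k, hk, x, rfl⟩ := hω
  exact ⟨k, lt_of_lt_of_le hk h, x, rfl⟩

theorem defect_mem (n : ℕ) (a b : A) :
    delta K A p n (a + b) - delta K A p n a - delta K A p n b ∈ G K A p n := by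
  have h := sum_delta_eq K A p n a b
  rw [Finset.sum_range_succ'] at h
  have h0 : aeval ![a, b] (S p 0) = a + b := by
    rw [S_zero]
    simp
  rw [h0, Nat.sub_zero] at h
  have h2 : delta K A p n (a + b) - delta K A p n a - delta K A p n b =
      -∑ j ∈ Finset.range n, delta K A p (n - (j + 1)) (aeval ![a, b] (S p (j + 1))) := by
    rw [sub_sub, ← h]
    abel
  rw [h2]
  refine neg_mem (sum_mem fun j hj => delta_mem_G K A p ?_ _)
  have := Finset.mem_range.1 hj
  omega

theorem natCast_smul_eq_zero (ω : Ω[A⁄K]) : p • ω = 0 := by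
  have h : (p : A) = 0 := by
    rw [← map_natCast (algebraMap K A), CharP.cast_eq_zero, map_zero]
  rw [← Nat.cast_smul_eq_nsmul A, h, zero_smul]

theorem delta_zero (i : ℕ) : delta K A p i 0 = 0 := by
  simp [delta]

theorem sigma_eq (i : ℕ) : sigma K A p i = (G K A p i : Set Ω[A⁄K]) := by
  induction i with
  | zero =>
    simp [G]
  | succ i ih =>
    apply Set.Subset.antisymm
    · rintro ω ⟨x, hx⟩
      rw [ih] at hx
      have h1 : ω = delta K A p i x + (ω - delta K A p i x) := by abel
      rw [h1]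
      exact add_mem (delta_mem_G K A p (Nat.lt_succ_self i) x) (G_mono K A p (Nat.le_succ i) hx)
    · have hadd : ∀ ω₁ ω₂, ω₁ ∈ sigma K A p (i + 1) → ω₂ ∈ sigma K A p (i + 1) →
          ω₁ + ω₂ ∈ sigma K A p (i + 1) := by
        rintro ω₁ ω₂ ⟨x, hx⟩ ⟨y, hy⟩
        refine ⟨x + y, ?_⟩
        rw [ih] at hx hy ⊢
        have h1 : ω₁ + ω₂ - delta K A p i (x + y) = (ω₁ - delta K A p i x) +
            (ω₂ - delta K A p i y) -
            (delta K A p i (x + y) - delta K A p i x - delta K A p i y) := by abel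
        rw [h1]
        exact sub_mem (add_mem hx hy) (defect_mem K A p i x y)
      have hzero : (0 : Ω[A⁄K]) ∈ sigma K A p (i + 1) := by
        refine ⟨0, ?_⟩
        rw [delta_zero, sub_zero, ih]
        exact zero_mem _
      have hnsmul : ∀ n : ℕ, ∀ ω ∈ sigma K A p (i + 1), n • ω ∈ sigma K A p (i + 1) := by
        intro n ω hω
        induction n with
        | zero => rw [zero_smul]; exact hzero
        | succ n ihn => rw [succ_nsmul]; exact hadd _ _ ihn hω
      have hneg : ∀ ω ∈ sigma K A p (i + 1), -ω ∈ sigma K A p (i + 1) := by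
        intro ω hω
        have h1 : -ω = (p - 1) • ω := by
          have h2 := natCast_smul_eq_zero K A p ω
          have h3 : p = (p - 1) + 1 := (Nat.sub_add_cancel hp.1.one_le).symm
          rw [h3, succ_nsmul] at h2
          exact (eq_neg_of_add_eq_zero_left h2).symm
        rw [h1]
        exact hnsmul _ _ hω
      let T : AddSubgroup Ω[A⁄K] :=
        { carrier := sigma K A p (i + 1)
          add_mem' := fun {a b} ha hb => hadd a b ha hb
          zero_mem' := hzero
          neg_mem' := fun {a} ha => hneg a ha }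
      have hT : G K A p (i + 1) ≤ T := by
        apply (AddSubgroup.closure_le T).2
        intro ω hω
        simp only [Set.mem_iUnion, Finset.mem_range, Set.mem_range] at hω
        obtain ⟨j, hj, x, rfl⟩ := hω
        rcases Nat.lt_succ_iff_lt_or_eq.1 hj with h | rfl
        · refine ⟨0, ?_⟩
          rw [delta_zero, sub_zero, ih]
          exact delta_mem_G K A p h x
        · refine ⟨x, ?_⟩
          rw [sub_self, ih]
          exact zero_mem _
      exact hT

theorem D_pow_p_pow (x : A) {m : ℕ} (hm : 0 < m) : D K A (x ^ p ^ m) = 0 := by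
  obtain ⟨m, rfl⟩ := Nat.exists_eq_succ_of_ne_zero hm.ne'
  rw [pow_succ, pow_mul, Derivation.leibniz_pow]
  exact natCast_smul_eq_zero K A p _

theorem pow_smul_delta (x y : A) {i j : ℕ} (h : j < i) :
    x ^ p ^ i • delta K A p j y = delta K A p j (x ^ p ^ (i - j) * y) := by
  have hpj : p ^ j - 1 + 1 = p ^ j := Nat.sub_add_cancel (Nat.one_le_pow _ _ hp.1.pos)
  rw [delta, delta, Derivation.leibniz, D_pow_p_pow K A p x (Nat.sub_pos_of_lt h), smul_zero,
    add_zero, smul_smul, smul_smul]
  congr 1
  have h1 : x ^ p ^ i = (x ^ p ^ (i - j)) ^ (p ^ j - 1) * x ^ p ^ (i - j) := by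
    rw [← pow_succ, hpj, ← pow_mul, ← pow_add, Nat.sub_add_cancel h.le]
  rw [h1, mul_pow]
  ring

variable [PerfectField K]

theorem smul_delta (c : K) (x : A) (j : ℕ) :
    ∃ z : A, c • delta K A p j x = delta K A p j z := by
  haveI : ExpChar K p := ExpChar.prime hp.1
  obtain ⟨e, he⟩ : ∃ e : K, e ^ p ^ j = c :=
    ⟨(iterateFrobeniusEquiv K p j).symm c, by
      rw [← iterateFrobeniusEquiv_def, RingEquiv.apply_symm_apply]⟩
  have hpj : p ^ j - 1 + 1 = p ^ j := Nat.sub_add_cancel (Nat.one_le_pow _ _ hp.1.pos)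
  refine ⟨e • x, ?_⟩
  rw [delta, delta, smul_pow, Derivation.map_smul, smul_assoc, smul_comm (e ^ _) (x ^ _),
    smul_smul, ← pow_succ, hpj, he, smul_comm]

omit [PerfectField K] in
theorem pow_smul_mem (i : ℕ) (x : A) (ω : Ω[A⁄K]) (hω : ω ∈ G K A p i) :
    (x ^ (p ^ i)) • ω ∈ G K A p i := by
  induction hω using AddSubgroup.closure_induction with
  | mem ω hω =>
    simp only [Set.mem_iUnion, Finset.mem_range, Set.mem_range] at hω
    obtain ⟨j, hj, y, rfl⟩ := hω
    rw [pow_smul_delta K A p x y hj]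
    exact delta_mem_G K A p hj _
  | zero => rw [smul_zero]; exact zero_mem _
  | add a b _ _ ha hb => rw [smul_add]; exact add_mem ha hb
  | neg a _ ha => rw [smul_neg]; exact neg_mem ha

theorem smul_mem (i : ℕ) (c : K) (ω : Ω[A⁄K]) (hω : ω ∈ G K A p i) : c • ω ∈ G K A p i := by
  induction hω using AddSubgroup.closure_induction with
  | mem ω hω =>
    simp only [Set.mem_iUnion, Finset.mem_range, Set.mem_range] at hω
    obtain ⟨j, hj, y, rfl⟩ := hω
    obtain ⟨z, hz⟩ := smul_delta K A p c y j
    rw [hz]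
    exact delta_mem_G K A p hj _
  | zero => rw [smul_zero]; exact zero_mem _
  | add a b _ _ ha hb => rw [smul_add]; exact add_mem ha hb
  | neg a _ ha => rw [smul_neg]; exact neg_mem ha

/-- `Σ^i` as a `K`-submodule -/
noncomputable def sigmaSubmodule (i : ℕ) : Submodule K Ω[A⁄K] :=
  { carrier := G K A p i
    add_mem' := fun ha hb => add_mem ha hb
    zero_mem' := zero_mem _
    smul_mem' := fun c _ hω => smul_mem K A p i c _ hω }

end Sigma

end Groth.Agent.Lib.Helper81.WittDiff
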